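import Cfsg.Agent.UGT.Iface
import Cfsg.Agent.Intrinsic.Lifting

/-!
# A triple on `L / O(L)`

* `exists_image`: for a triple `(x, a, L)` the automorphism `τ` of `K = L / O(L)` induced by `x` is an involution and
  `O(C(x)) ∩ C(a)` induces a nontrivial group of odd order `D ≤ Aut(K)` centralizing `τ` and normalized by
  `C_K(τ)`.
* `InnBal K`: this is impossible for inner `τ`.
* `not_isInner`: a triple with `K = L / O(L)` centreless and `InnBal K` is not inner.
-/

set_option autoImplicit false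

open Cfsg Subgroup
open Cfsg.Agent.SignalizersComponents Cfsg.Agent.Lib
open Cfsg.Agent.SignalizersComponents.IntrinsicBasic
open Cfsg.Agent.SignalizersComponents.IntrinsicIntr
open Cfsg.Agent.SignalizersComponents.PLayerAut
open Cfsg.Agent.Intrinsic.Basic Cfsg.Agent.Intrinsic.Cen Cfsg.Agent.Intrinsic.Diag
open Cfsg.Agent.McLLyComp.Act
open Cfsg.Agent.UGT.Triple Cfsg.Agent.UGT.Iface
open scoped commutatorElement

namespace Cfsg.Agent.UGT.InnB

variable {G : Type*} [Group G] [Finite G]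

/-- `O(C(x)) ∩ C(a)` -/
def DC (x a : G) : Subgroup G := core (centralizer ({x} : Set G)) ⊓ centralizer ({a} : Set G)

theorem odd_DC (x a : G) : Odd (Nat.card (DC x a)) :=
  Odd.of_dvd_nat (odd_card_core (centralizer ({x} : Set G))) (card_dvd_of_le inf_le_left)

theorem DC_norm {x a n : G} (hx : n * x = x * n) (ha : n * a = a * n) {d : G} (hd : d ∈ DC x a) :
    n * d * n⁻¹ ∈ DC x a := by
  rw [DC, mem_inf] at hd ⊢
  have h1 : n ∈ centralizer ({x} : Set G) := mem_c hx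
  have h2 : n ∈ centralizer ({a} : Set G) := mem_c ha
  exact ⟨conj_core h1 hd.1, mul_mem (mul_mem h2 hd.2) (inv_mem h2)⟩

/-- a triple on `L / O(L)` -/
theorem exists_image {x a : G} {L : Subgroup G} (T : IsTriple x a L) :
    ∃ (τ : MulAut (Bar L)) (D : Subgroup (MulAut (Bar L))),
      τ = act L ⟨x, T.x_mem⟩ ∧ τ * τ = 1 ∧ τ ≠ 1 ∧ Odd (Nat.card D) ∧ D ≠ ⊥ ∧
      (∀ δ ∈ D, δ * τ = τ * δ) ∧
      (∀ k : Bar L, τ k = k → ∀ δ ∈ D, MulAut.conj k * δ * (MulAut.conj k)⁻¹ ∈ D) ∧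
      (∀ δ ∈ D, ∃ (d : G) (hd : d ∈ normalizer (L : Set G)), d ∈ DC x a ∧ δ = act L ⟨d, hd⟩) := by
  have hx2 := sq_of_order T.invx
  have hxN := T.x_mem
  have hDN : ∀ d ∈ DC x a, d ∈ normalizer (L : Set G) := fun d hd =>
    T.mem_normalizer_of_core (mem_inf.mp hd).1 (mem_inf.mp hd).2
  obtain ⟨τ, hτ⟩ : ∃ τ, τ = act L ⟨x, T.x_mem⟩ := ⟨_, rfl⟩
  obtain ⟨D, hD⟩ : ∃ D : Subgroup (MulAut (Bar L)), D = ((DC x a).subgroupOf
    (normalizer (L : Set G))).map (act L) := ⟨_, rfl⟩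
  have hmem : ∀ δ, δ ∈ D ↔ ∃ (d : G) (hd : d ∈ DC x a), δ = act L ⟨d, hDN d hd⟩ := by
    intro δ
    rw [hD]
    constructor
    · rintro ⟨y, hy, rfl⟩
      exact ⟨y, hy, rfl⟩
    · rintro ⟨d, hd, rfl⟩
      exact ⟨⟨d, hDN d hd⟩, hd, rfl⟩
  refine ⟨τ, D, hτ, ?_, ?_, ?_, ?_, ?_, ?_, fun δ hδ => by
    obtain ⟨d, hd, rfl⟩ := (hmem δ).mp hδ
    exact ⟨d, hDN d hd, hd, rfl⟩⟩
  · rw [hτ, ← map_mul, ← map_one (act L)]
    congr 1
    exact Subtype.ext hx2
  · rw [hτ]
    exact fun h => T.not_fixes ((act_eq_one_iff _).mp h)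
  · rw [hD]
    refine Odd.of_dvd_nat (odd_DC x a) ((Subgroup.card_map_dvd _ _).trans ?_)
    rw [Nat.card_congr (subgroupOfEquivOfLe (H := DC x a) (K := normalizer (L : Set G)) hDN).toEquiv]
  · intro hbot
    obtain ⟨d, hd, hda, hf⟩ := T.bad
    apply hf
    have h1 : act L ⟨d, hDN d (mem_inf.mpr ⟨hd, hda⟩)⟩ ∈ D := (hmem _).mpr ⟨d, mem_inf.mpr ⟨hd, hda⟩, rfl⟩
    rw [hbot, mem_bot] at h1
    exact (act_eq_one_iff _).mp h1
  · intro δ hδ
    obtain ⟨d, hd, rfl⟩ := (hmem δ).mp hδ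
    rw [hτ, ← map_mul, ← map_mul]
    congr 1
    exact Subtype.ext (comm_c (core_le _ (mem_inf.mp hd).1))
  · intro k hk δ hδ
    obtain ⟨d, hd, rfl⟩ := (hmem δ).mp hδ
    obtain ⟨⟨n0, hn0⟩, rfl⟩ := QuotientGroup.mk_surjective k
    rw [hτ, act_mk hxN hn0] at hk
    have h1 := (mk_eq_iff hn0 (Cfsg.Agent.McLLyComp.Act.conj_mem hxN hn0)).mp hk.symm
    obtain ⟨o, ho, hxo⟩ := Intrinsic.Lifting.exists_commute (n := 1) (odd_card_core L)
      (by rw [pow_one, pow_two, hx2]) (normalizer_le_normalizer_core L hxN) h1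
    have hoL := core_le L ho
    have hnL : n0 * o ∈ L := mul_mem hn0 hoL
    have hmk : (QuotientGroup.mk (⟨n0, hn0⟩ : ↥L) : Bar L) = QuotientGroup.mk ⟨n0 * o, hnL⟩ := by
      rw [mk_eq_iff hn0 hnL]
      convert ho using 1
      group
    have hna : (n0 * o) * a = a * (n0 * o) := comm_c (T.comp.le hnL)
    have hd' := DC_norm hxo.symm hna hd
    refine (hmem _).mpr ⟨_, hd', ?_⟩
    rw [hmk, ← act_of_mem hnL, ← map_inv, ← map_mul, ← map_mul]
    congr 1

/-- Inner involutions do not unbalance `K`: an odd group of automorphisms centralizing the involution `t ∈ K` and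
normalized by `C_K(t)` is trivial. -/
def InnBal (K : Type*) [Group K] : Prop :=
  ∀ t : K, t * t = 1 → t ≠ 1 → ∀ D : Subgroup (MulAut K), Odd (Nat.card D) → (∀ δ ∈ D, δ t = t) →
    (∀ k : K, k * t = t * k → ∀ δ ∈ D, MulAut.conj k * δ * (MulAut.conj k)⁻¹ ∈ D) → D = ⊥

theorem InnBal.congr {K K' : Type*} [Group K] [Group K'] (h : InnBal K') (e : K ≃* K') : InnBal K := by
  intro t htt ht1 D hD hfix hn
  have h1 : D.map (MulAut.congr e).toMonoidHom = ⊥ := by
    refine h (e t) (by rw [← map_mul, htt, map_one])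
      (fun h1 => ht1 ((MulEquiv.map_eq_one_iff e).mp h1)) _ ?_ ?_ ?_
    · rw [Subgroup.card_map_of_injective (MulAut.congr e).injective]
      exact hD
    · rintro _ ⟨δ, hδ, rfl⟩
      change e (δ (e.symm (e t))) = e t
      rw [e.symm_apply_apply, hfix δ hδ]
    · rintro k hk _ ⟨δ, hδ, rfl⟩
      obtain ⟨k, rfl⟩ := e.surjective k
      have hk' : k * t = t * k := e.injective (by rw [map_mul, map_mul, hk])
      refine ⟨MulAut.conj k * δ * (MulAut.conj k)⁻¹, hn k hk' δ hδ, ?_⟩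
      have h2 : (MulAut.congr e) (MulAut.conj k) = MulAut.conj (e k) := by
        apply MulEquiv.ext
        intro y
        obtain ⟨y, rfl⟩ := e.surjective y
        change e (MulAut.conj k (e.symm (e y))) = e k * e y * (e k)⁻¹
        rw [e.symm_apply_apply, MulAut.conj_apply, map_mul, map_mul, map_inv]
      change (MulAut.congr e) (MulAut.conj k * δ * (MulAut.conj k)⁻¹) =
        MulAut.conj (e k) * (MulAut.congr e) δ * (MulAut.conj (e k))⁻¹
      rw [map_mul, map_mul, map_inv, h2]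
  rw [Subgroup.map_eq_bot_iff_of_injective _ (MulAut.congr e).injective] at h1
  exact h1

/-- a triple of centreless type `K` with `InnBal K` is not inner -/
theorem not_isInner {x a : G} {L : Subgroup G} (T : IsTriple x a L) (hZ : center (Bar L) = ⊥)
    (hB : InnBal (Bar L)) : ¬ IsInner x L := by
  rintro ⟨r, hr, hf⟩
  obtain ⟨τ, D, hτ, h1, h2, h3, h4, h5, h6, -⟩ := exists_image T
  apply h4
  have hrN := le_normalizer (H := L) hr
  obtain ⟨t, ht⟩ : ∃ t : Bar L, t = QuotientGroup.mk ⟨r, hr⟩ := ⟨_, rfl⟩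
  have hτt : τ = MulAut.conj t := by
    rw [ht, ← act_of_mem hr, hτ]
    have h7 : (⟨x, T.x_mem⟩ : ↥(normalizer (L : Set G))) = ⟨x * r⁻¹, hf.1⟩ * ⟨r, hrN⟩ :=
      Subtype.ext (by simp)
    rw [h7, map_mul, (act_eq_one_iff _).mpr hf, one_mul]
  have hcen : ∀ k : Bar L, MulAut.conj k = 1 → k = 1 := by
    intro k hk
    have h8 : k ∈ center (Bar L) := by
      rw [mem_center_iff]
      intro g
      have h9 := DFunLike.congr_fun hk g
      rw [MulAut.conj_apply, MulAut.one_apply, mul_inv_eq_iff_eq_mul] at h9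
      exact h9.symm
    rwa [hZ, mem_bot] at h8
  refine hB t ?_ ?_ D h3 ?_ ?_
  · apply hcen
    rw [map_mul, ← hτt, h1]
  · intro h
    apply h2
    rw [hτt, h, map_one]
  · intro δ hδ
    have h7 := h5 δ hδ
    rw [hτt] at h7
    have h8 : MulAut.conj (δ t) = MulAut.conj t := by
      have h9 : δ * MulAut.conj t * δ⁻¹ = MulAut.conj (δ t) := by
        apply MulEquiv.ext
        intro y
        change δ (t * δ⁻¹ y * t⁻¹) = δ t * y * (δ t)⁻¹
        rw [map_mul, map_mul, map_inv]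
        congr 2
        exact MulAut.apply_inv_self _ δ y
      rw [← h9, h7, mul_inv_cancel_right]
    have h9 : δ t * t⁻¹ = 1 := by
      apply hcen
      rw [map_mul, map_inv, h8, mul_inv_cancel]
    exact mul_inv_eq_one.mp h9
  · intro k hk δ hδ
    refine h6 k ?_ δ hδ
    rw [hτt, MulAut.conj_apply, ← hk, mul_inv_cancel_right]

end Cfsg.Agent.UGT.InnB
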