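import Cfsg.Agent.UGT.LemG

/-!
# The general pump-up of a triple, (P')

`a`, `c`, `x` pairwise commuting involutions, `M` a 2-component of `C(a) ∩ C(c)` (for instance a 2-component
of `C_L(c)`, `L` a 2-component of `C(a)`), `d ∈ O(C(x)) ∩ C(a) ∩ C(c)` not centralizing `M / O(M)`.
Then there is a triple `(x, c, N)`, `N` the pump-up of `M` in `C(c)`.
-/

set_option autoImplicit false

open Cfsg Subgroup
open Cfsg.Agent.SignalizersComponents Cfsg.Agent.Lib
open Cfsg.Agent.SignalizersComponents.IntrinsicBasic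
open Cfsg.Agent.SignalizersComponents.IntrinsicIntr
open Cfsg.Agent.SignalizersComponents.PLayerAut
open Cfsg.Agent.Intrinsic.Basic Cfsg.Agent.Intrinsic.Cen Cfsg.Agent.Intrinsic.Diag
open Cfsg.Agent.McLLyComp.Act
open Cfsg.Agent.UGT.Triple Cfsg.Agent.UGT.LemG
open scoped commutatorElement

namespace Cfsg.Agent.UGT.PumpGen

variable {G : Type*} [Group G] [Finite G]

/-- A 2-component of `C_L(c)` is a 2-component of `C_H(c)`, `L` a 2-component of `H` (no action hypothesis). -/
theorem isComp_of_inf {H L M : Subgroup G} {c : G} (hL : IsComp H L)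
    (hM : IsComp (L ⊓ centralizer ({c} : Set G)) M) :
    IsComp (H ⊓ centralizer ({c} : Set G)) M := by
  refine hM.extend (inf_le_inf_right _ hL.le) ?_
  have h1 : ((L.subgroupOf H).comap (inclusion (inf_le_left : H ⊓ centralizer ({c} : Set G) ≤ H))).IsSubnormal :=
    hL.2.1.comap _
  convert h1 using 1
  ext ⟨y, hy⟩
  simp only [mem_subgroupOf, mem_inf, mem_comap]
  exact ⟨fun h => h.1, fun h => ⟨h, hy.2⟩⟩

/-- `O(C(x)) ∩ H` lies in the core of `H ∩ C(x)` -/
theorem inf_le_core' {H : Subgroup G} {x d : G} (hd : d ∈ core (centralizer ({x} : Set G)))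
    (hdH : d ∈ H) : d ∈ core (H ⊓ centralizer ({x} : Set G)) := by
  obtain ⟨N, hN⟩ : ∃ N, N = core (centralizer ({x} : Set G)) ⊓ H := ⟨_, rfl⟩
  have hNle : N ≤ H ⊓ centralizer ({x} : Set G) := by
    rw [hN]
    exact le_inf inf_le_right (inf_le_left.trans (core_le _))
  have h1 : N ≤ core (H ⊓ centralizer ({x} : Set G)) := by
    refine le_core hNle ?_ ?_
    · intro g hg
      have h1 : g ∈ normalizer (core (centralizer ({x} : Set G)) : Set G) := le_normalizer_core _ hg.2
      have h2 : g ∈ normalizer (H : Set G) := le_normalizer hg.1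
      rw [mem_normalizer_iff_cj] at h1 h2 ⊢
      rw [hN, cj_inf, h1, h2]
    · refine Odd.of_dvd_nat (odd_card_core (centralizer ({x} : Set G))) ?_
      rw [hN]
      exact card_dvd_of_le inf_le_left
  exact h1 (hN ▸ ⟨hd, hdH⟩)

/-- `d ∈ C(c) ∩ C(a)` fixing a 2-component `N` of `C(c)` fixes the 2-component `M` of `C(c) ∩ C(a)`
pumping up to `N`. -/
theorem fixes_of_pump {a c d : G} {M N : Subgroup G} (ha2 : a * a = 1) (hca : c * a = a * c)
    (hM : IsComp (centralizer ({c} : Set G) ⊓ centralizer ({a} : Set G)) M)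
    (hN : IsComp (centralizer ({c} : Set G)) N) (hdc : d ∈ centralizer ({c} : Set G))
    (hda : d ∈ centralizer ({a} : Set G)) (hf : Fixes d N)
    (hor : M ≤ N ∨ (cj a N ≠ N ∧ M = diag (centralizer ({c} : Set G)) N a)) : Fixes d M := by
  refine fixes_of_comm_core hM ⟨hdc, hda⟩ fun m hm => ?_
  have hmem : ⁅d, m⁆ ∈ centralizer ({a} : Set G) := by
    rw [commutatorElement_def]
    have hm' := (hM.le hm).2
    exact mul_mem (mul_mem (mul_mem hda hm') (inv_mem hda)) (inv_mem hm')
  have hinf : ∀ y, y ∈ core (centralizer ({c} : Set G)) → y ∈ centralizer ({a} : Set G) →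
      y ∈ core (centralizer ({c} : Set G) ⊓ centralizer ({a} : Set G)) := by
    intro y hy hya
    rw [inf_comm]
    exact inf_le_core hy hya
  apply hinf _ _ hmem
  rcases hor with hMN | ⟨hne, hMN⟩
  · exact hN.core_le_core (hf.2 m (hMN hm))
  · obtain ⟨h5, h6, -⟩ := exists_diag hN (mem_c hca.symm) ha2 hne
    rw [hMN] at hm
    obtain ⟨k, hk, hmk⟩ := h6 m hm
    have hmX : m ∈ centralizer ({c} : Set G) := (h5.le hm).1
    have hN' : IsComp (centralizer ({c} : Set G)) (IntrinsicBasic.cj a N) :=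
      isComp_cj_of_mem hN (mem_c hca.symm)
    have hk' : a * k * a⁻¹ ∈ IntrinsicBasic.cj a N := conj_mem_cj hk
    have hfN' : Fixes d (IntrinsicBasic.cj a N) := by
      have h7 := hf.cj a
      have h8 : a * d * a⁻¹ = d := by rw [← comm_c hda]; group
      rwa [h8] at h7
    have e1 : ⁅d, k⁆ ∈ core (centralizer ({c} : Set G)) := hN.core_le_core (hf.2 k hk)
    have e2 : ⁅d, a * k * a⁻¹⁆ ∈ core (centralizer ({c} : Set G)) :=
      hN'.core_le_core (hfN'.2 _ hk')
    rw [commutator_mem_core_iff hdc (hN.le hk)] at e1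
    rw [commutator_mem_core_iff hdc (hN'.le hk')] at e2
    rw [commutator_mem_core_iff hdc hmX, mk_of_diag hN (mem_c hca.symm) hmX hk hmk, ← mul_assoc,
      e1, mul_assoc, e2]
    exact (mul_assoc _ _ _).symm

/-- **(P')** -/
theorem pump {x a c d : G} {M : Subgroup G} (hx : orderOf x = 2) (hc : orderOf c = 2)
    (ha2 : a * a = 1) (hca : c * a = a * c) (hcx : c * x = x * c)
    (hM : IsComp (centralizer ({c} : Set G) ⊓ centralizer ({a} : Set G)) M)
    (hd : d ∈ core (centralizer ({x} : Set G))) (hda : d ∈ centralizer ({a} : Set G))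
    (hdc : d ∈ centralizer ({c} : Set G)) (hf : ¬ Fixes d M) :
    ∃ N, IsTriple x c N ∧ ¬ Fixes d N ∧ ((a ∈ normalizer (N : Set G) ∧ M ≤ N) ∨
      (cj a N ≠ N ∧ M = diag (centralizer ({c} : Set G)) N a)) := by
  obtain ⟨N, hN, -, hor⟩ := McLLyComp.PumpT.exists_pump (mem_c hca.symm) ha2 hM
  have hfN : ¬ Fixes d N := by
    intro h
    apply hf
    apply fixes_of_pump ha2 hca hM hN hdc hda h
    rcases hor with ⟨-, h⟩ | h
    · exact Or.inl h
    · exact Or.inr h
  exact ⟨N, ⟨hx, hc, hcx, hN, d, hd, hdc, hfN⟩, hfN, hor⟩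

end Cfsg.Agent.UGT.PumpGen
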