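import Cfsg.Agent.FixBN.BRelative
import Cfsg.Agent.UGT.PumpGen

/-!
# The Unbalanced Group Theorem: top level interface

* `MinCex G`: `G` is a counterexample to S1311, `|F*(G)|` minimal and then `|G|` minimal.
* `ugt_of_no_minCex`: if there is none (in the universe `u`), S1311 holds.
-/

set_option autoImplicit false

open Cfsg Subgroup
open Cfsg.Agent.FixBN.BTheorem Cfsg.Agent.FixBN.BRelative
open Cfsg.Agent.UGT.Triple
open Cfsg.Agent.Intrinsic.Basic (Fixes IsComp core)

namespace Cfsg.Agent.UGT.Iface

universe u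

/-- The generalized Fitting subgroup. -/
local notation "Fs" => generalizedFittingSubgroup

/-- A minimal counterexample to the Unbalanced Group Theorem. -/
structure MinCex (G : Type u) [Group G] [Finite G] : Prop where
  simple : IsSimpleGroup ↥(Fs G)
  nonab : ¬ IsMulCommutative ↥(Fs G)
  small : UgtBelow.{u} (Nat.card ↥(Fs G))
  minG : ∀ (H : Type u) [Group H] [Finite H], Nat.card ↥(Fs H) = Nat.card ↥(Fs G) →
    Nat.card H < Nat.card G → UGT H
  notU : ¬ InU ↥(Fs G)
  unbal : ∃ t : G, orderOf t = 2 ∧ centralizerPPrimeCore 2 t ≠ ⊥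

/-- If there is no minimal counterexample the Unbalanced Group Theorem holds. -/
theorem ugt_of_no_minCex (h : ∀ (G : Type u) [Group G] [Finite G], ¬ MinCex G) :
    ∀ (G : Type u) [Group G] [Finite G], UGT G := by
  -- outer induction on `|F*(G)|`
  have outer : ∀ n : ℕ, ∀ (G : Type u) [Group G] [Finite G], Nat.card ↥(Fs G) = n → UGT G := by
    intro n
    induction n using Nat.strong_induction_on with
    | _ n ih =>
      have hsmall : UgtBelow.{u} n := fun G _ _ hG => ih _ hG G rfl
      -- inner induction on `|G|`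
      have inner : ∀ m : ℕ, ∀ (G : Type u) [Group G] [Finite G], Nat.card G = m →
          Nat.card ↥(Fs G) = n → UGT G := by
        intro m
        induction m using Nat.strong_induction_on with
        | _ m ihm =>
          intro G _ _ hGm hGn hs hna t ht hcore
          by_contra hno
          refine h G ⟨hs, hna, hGn ▸ hsmall, ?_, hno, t, ht, hcore⟩
          intro H _ _ hH hlt
          exact ihm _ (hGm ▸ hlt) H rfl (hH.trans hGn)
      intro G _ _ hG
      exact inner _ G rfl hG
  intro G _ _
  exact outer _ G rfl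

/-! ### types of triples -/

section types

variable {G : Type u} [Group G]

/-- `L / O(L)` -/
abbrev Bar (L : Subgroup G) : Type u := ↥L ⧸ oddCore ↥L

/-- `x` induces an inner automorphism on `L / O(L)`. -/
def IsInner (x : G) (L : Subgroup G) : Prop := ∃ r ∈ L, Fixes (x * r⁻¹) L

end types

/-- alternating of degree `n` -/
def IsAlt (n : ℕ) (K : Type*) [Group K] : Prop := Nonempty (K ≃* ↥(alternatingGroup (Fin n)))

/-- alternating of odd degree at least 7 -/
def IsAltOdd (K : Type*) [Group K] : Prop := ∃ n : ℕ, Odd n ∧ 7 ≤ n ∧ IsAlt n K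

/-- `PSL₃(4)` -/
def IsL34 (K : Type*) [Group K] : Prop := ∃ (F : Type) (_ : Field F) (_ : Fintype F),
  Fintype.card F = 4 ∧ Nonempty (K ≃* Matrix.ProjectiveSpecialLinearGroup (Fin 3) F)

/-- `PSL₂(q)`, `q ≥ 5` odd -/
def IsL2 (K : Type*) [Group K] : Prop := ∃ (F : Type) (_ : Field F) (_ : Fintype F),
  Odd (Fintype.card F) ∧ 5 ≤ Fintype.card F ∧
    Nonempty (K ≃* Matrix.ProjectiveSpecialLinearGroup (Fin 2) F)

/-- The types that survive the Lie type branch (U2), `K = L / O(L)`. -/
def OKType (K : Type*) [Group K] : Prop :=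
  IsL2 K ∨ IsAltOdd K ∨ IsL34 (K ⧸ center K) ∨ Spor.IsoHe K

/-- A minimal counterexample in which all triples have a type in `OKType`. -/
structure World (G : Type u) [Group G] [Finite G] : Prop extends MinCex G where
  ok : ∀ (x a : G) (L : Subgroup G), IsTriple x a L → OKType (Bar L)

/-- A minimal counterexample all of whose triples have type `PSL₂(q)`, `q` odd, or `PSL₃(4)`. -/
structure WorldL (G : Type u) [Group G] [Finite G] : Prop extends MinCex G where
  ok : ∀ (x a : G) (L : Subgroup G), IsTriple x a L → IsL2 (Bar L) ∨ IsL34 (Bar L ⧸ center (Bar L))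

/-! ### the branches -/

/-- **(E)** Existence of a triple. -/
def NodeE : Prop := ∀ (G : Type u) [Group G] [Finite G], MinCex G →
  ∃ (x a : G) (L : Subgroup G), IsTriple x a L

/-- **(U2)** No triple is of Lie type in odd characteristic except `PSL₂(q)`; `L / O(L)` is simple except
possibly for covers of `PSL₃(4)`. -/
def NodeU2 : Prop := ∀ (G : Type u) [Group G] [Finite G], MinCex G →
  ∀ (x a : G) (L : Subgroup G), IsTriple x a L → OKType (Bar L)

/-- **(Red)** Reduction R (#7879): a triple of type `He` or `Aₙ` gives an inner triple of type `A_m`, `m ≡ 3 mod 4`. -/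
def NodeRed : Prop := ∀ (G : Type u) [Group G] [Finite G], World G →
  ∀ (x a : G) (L : Subgroup G), IsTriple x a L → IsAltOdd (Bar L) ∨ Spor.IsoHe (Bar L) →
    ∃ (c : G) (K : Subgroup G) (m : ℕ), IsTriple x c K ∧ m % 4 = 3 ∧ 7 ≤ m ∧ IsAlt m (Bar K) ∧
      IsInner x K

/-- **(An)** There is no inner triple of type `A_m`, `m ≡ 3 mod 4`, `m ≥ 11`. -/
def NodeAn : Prop := ∀ (G : Type u) [Group G] [Finite G], World G →
  ∀ (x a : G) (L : Subgroup G) (m : ℕ), IsTriple x a L → m % 4 = 3 → 11 ≤ m → IsAlt m (Bar L) →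
    ¬ IsInner x L

/-- **(A7)** If all inner alternating triples are of type `A₇`, there is none. -/
def NodeA7 : Prop := ∀ (G : Type u) [Group G] [Finite G], World G →
  (∀ (x a : G) (L : Subgroup G) (m : ℕ), IsTriple x a L → m % 4 = 3 → 11 ≤ m → IsAlt m (Bar L) →
    ¬ IsInner x L) →
  ∀ (x a : G) (L : Subgroup G), IsTriple x a L → IsAlt 7 (Bar L) → ¬ IsInner x L

/-- **(L34)** If all triples are of type `PSL₂(q)` or (a cover of) `PSL₃(4)`, none is of type `PSL₃(4)`. -/
def NodeL34 : Prop := ∀ (G : Type u) [Group G] [Finite G], WorldL G →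
  ∀ (x a : G) (L : Subgroup G), IsTriple x a L → IsL2 (Bar L)

/-- **(L2)** Not all triples are of type `PSL₂(q)` (if there is a triple). -/
def NodeL2 : Prop := ∀ (G : Type u) [Group G] [Finite G], MinCex G →
  (∀ (x a : G) (L : Subgroup G), IsTriple x a L → IsL2 (Bar L)) →
  (∃ (x a : G) (L : Subgroup G), IsTriple x a L) → False

/-- **Assembly**: the branches imply S1311. -/
theorem ugt_of_nodes (hE : NodeE.{u}) (hU2 : NodeU2.{u}) (hR : NodeRed.{u}) (hAn : NodeAn.{u})
    (hA7 : NodeA7.{u}) (hL34 : NodeL34.{u}) (hL2 : NodeL2.{u}) :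
    ∀ (G : Type u) [Group G] [Finite G], UGT G := by
  apply ugt_of_no_minCex
  intro G _ _ hG
  have hW : World G := { toMinCex := hG, ok := fun x a L T => hU2 G hG x a L T }
  have h11 := fun (x a : G) (L : Subgroup G) (m : ℕ) (T : IsTriple x a L) => hAn G hW x a L m T
  have h7 := hA7 G hW h11
  have hok : ∀ (x a : G) (L : Subgroup G), IsTriple x a L →
      IsL2 (Bar L) ∨ IsL34 (Bar L ⧸ center (Bar L)) := by
    intro x a L T
    have key : ¬ (IsAltOdd (Bar L) ∨ Spor.IsoHe (Bar L)) := by
      intro h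
      obtain ⟨c, K, m, T', hm, hm7, hK, hin⟩ := hR G hW x a L T h
      rcases hm7.lt_or_eq with h8 | rfl
      · exact h11 x c K m T' hm (by omega) hK hin
      · exact h7 x c K T' hK hin
    rcases hW.ok x a L T with h | h | h | h
    · exact Or.inl h
    · exact absurd (Or.inl h) key
    · exact Or.inr h
    · exact absurd (Or.inr h) key
  have hWL : WorldL G := { toMinCex := hG, ok := hok }
  exact hL2 G hG (hL34 G hWL) (hE G hG)

end Cfsg.Agent.UGT.Iface
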