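import Cfsg.Agent.UGT.Iface

/-!
# The branches of S1311 as a chain of nodes

A node `NodeNoX T`: in a minimal counterexample in which the types of all triples are on the list `T`, there is
no triple of type `X`. `NodeLast T`: all types on `T` is impossible. `NodeLast.of_noX` goes from the list
`T` without `X` to `T`; `ugt_of_nodeLast`: `NodeLast` of the full list gives S1311.

The order of FRAME v4 (lists `T1 ≥ T2 ≥ ... ≥ T7`): covers of `L₃(4)` and `He` (`NodeCov`, `NodeHe`), `L₃(4)` (`NodeL34'`),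
`Aₙ`, `n ≥ 11` (`NodeAn'`), `A₉` (`NodeA9`), `PSL₂(q)` with `x` inner (`NodeL2i`), `A₇` (`NodeA7'`), and the last
world `NodeR`. `ugt_of_v4` is the assembly. The nodes are stated in an explicit form; `NodeNoX` with a
larger list `T` gives them by `.mono` (theorems `..._of`).
-/

set_option autoImplicit false

open Cfsg Subgroup
open Cfsg.Agent.FixBN.BTheorem Cfsg.Agent.FixBN.BRelative
open Cfsg.Agent.UGT.Triple Cfsg.Agent.UGT.Iface
open Cfsg.Agent.Intrinsic.Basic (Fixes IsComp core)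

namespace Cfsg.Agent.UGT.Nodes

universe u

/-- All triples `(x, a, L)` of `G` satisfy `P x L`. -/
def Types (G : Type u) [Group G] (P : G → Subgroup G → Prop) : Prop :=
  ∀ (x a : G) (L : Subgroup G), IsTriple x a L → P x L

/-- A list of types. `alt n`: type `Aₙ` (`n ≥ 7` odd) allowed; `he`, `l34` (`L₃(4)`), `cov` (covers of `L₃(4)` with
nontrivial centre): allowed or not; `inn`: type `PSL₂(q)` with `x` inner allowed (`PSL₂(q)` with `x`
not inner is always allowed). -/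
structure TList where
  alt : ℕ → Prop
  he : Prop
  l34 : Prop
  cov : Prop
  inn : Prop

/-- covers of `L₃(4)` with nontrivial centre -/
def IsCov (K : Type*) [Group K] : Prop := IsL34 (K ⧸ center K) ∧ center K ≠ ⊥

/-- The type of the triple `(x, a, L)` is on the list. -/
def TList.mem (T : TList) {G : Type u} [Group G] (x : G) (L : Subgroup G) : Prop :=
  (IsL2 (Bar L) ∧ (IsInner x L → T.inn)) ∨
  (∃ n : ℕ, Odd n ∧ 7 ≤ n ∧ IsAlt n (Bar L) ∧ T.alt n) ∨
  (IsL34 (Bar L) ∧ T.l34) ∨ (IsCov (Bar L) ∧ T.cov) ∨ (Spor.IsoHe (Bar L) ∧ T.he)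

/-- The last node: no minimal counterexample has a triple and all its types on `T`. -/
def NodeLast (T : TList) : Prop := ∀ (G : Type u) [Group G] [Finite G], MinCex G →
  Types G (fun x L => T.mem x L) → (∃ (x a : G) (L : Subgroup G), IsTriple x a L) → False

/-- the full list -/
def TList.top : TList := ⟨fun _ => True, True, True, True, True⟩

/-- remove the alternating types of degree `≥ m` -/
def TList.noAlt (T : TList) (m : ℕ) : TList := { T with alt := fun n => T.alt n ∧ n < m }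

/-- remove `He` -/
def TList.noHe (T : TList) : TList := { T with he := False }

/-- remove `L₃(4)` -/
def TList.noL34 (T : TList) : TList := { T with l34 := False }

/-- remove the covers of `L₃(4)` -/
def TList.noCov (T : TList) : TList := { T with cov := False }

/-- remove `PSL₂(q)` with inner `x` -/
def TList.noInn (T : TList) : TList := { T with inn := False }

/-- the order of the lists -/
def TList.le (T T' : TList) : Prop :=
  (∀ n, T.alt n → T'.alt n) ∧ (T.he → T'.he) ∧ (T.l34 → T'.l34) ∧ (T.cov → T'.cov) ∧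
    (T.inn → T'.inn)

theorem TList.le_top (T : TList) : T.le TList.top :=
  ⟨fun _ _ => trivial, fun _ => trivial, fun _ => trivial, fun _ => trivial, fun _ => trivial⟩

theorem TList.mem_mono {T T' : TList} (h : T.le T') {G : Type u} [Group G] {x : G} {L : Subgroup G}
    (hm : T.mem x L) : T'.mem x L := by
  rcases hm with ⟨h1, h2⟩ | ⟨n, h1, h2, h3, h4⟩ | ⟨h1, h2⟩ | ⟨h1, h2⟩ | ⟨h1, h2⟩
  · exact Or.inl ⟨h1, fun h5 => h.2.2.2.2 (h2 h5)⟩
  · exact Or.inr (Or.inl ⟨n, h1, h2, h3, h.1 _ h4⟩)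
  · exact Or.inr (Or.inr (Or.inl ⟨h1, h.2.2.1 h2⟩))
  · exact Or.inr (Or.inr (Or.inr (Or.inl ⟨h1, h.2.2.2.1 h2⟩)))
  · exact Or.inr (Or.inr (Or.inr (Or.inr ⟨h1, h.2.1 h2⟩)))

section nodes

variable {T T₁ : TList}

/-- **Node No-Alt**: types on `T` and no triple of type `Aₙ`, `n ≥ m`. -/
def NodeNoAlt (T : TList) (m : ℕ) : Prop := ∀ (G : Type u) [Group G] [Finite G], MinCex G →
  Types G (fun x L => T.mem x L) → ∀ (x a : G) (L : Subgroup G), IsTriple x a L →
    ∀ n : ℕ, Odd n → 7 ≤ n → m ≤ n → T.alt n → ¬ IsAlt n (Bar L)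

/-- **Node No-He** -/
def NodeNoHe (T : TList) : Prop := ∀ (G : Type u) [Group G] [Finite G], MinCex G →
  Types G (fun x L => T.mem x L) → ∀ (x a : G) (L : Subgroup G), IsTriple x a L →
    ¬ Spor.IsoHe (Bar L)

/-- **Node No-Cov** -/
def NodeNoCov (T : TList) : Prop := ∀ (G : Type u) [Group G] [Finite G], MinCex G →
  Types G (fun x L => T.mem x L) → ∀ (x a : G) (L : Subgroup G), IsTriple x a L →
    ¬ IsCov (Bar L)

/-- **Node No-L34** -/
def NodeNoL34 (T : TList) : Prop := ∀ (G : Type u) [Group G] [Finite G], MinCex G →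
  Types G (fun x L => T.mem x L) → ∀ (x a : G) (L : Subgroup G), IsTriple x a L →
    ¬ IsL34 (Bar L)

/-- **Node No-Inn**: no triple of type `PSL₂(q)` with `x` inner. -/
def NodeNoInn (T : TList) : Prop := ∀ (G : Type u) [Group G] [Finite G], MinCex G →
  Types G (fun x L => T.mem x L) → ∀ (x a : G) (L : Subgroup G), IsTriple x a L →
    IsL2 (Bar L) → ¬ IsInner x L

theorem NodeNoAlt.mono {m : ℕ} (h : NodeNoAlt.{u} T m) (hle : T₁.le T) : NodeNoAlt.{u} T₁ m :=
  fun G _ _ hG hT x a L ht n h1 h2 h3 h4 =>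
    h G hG (fun x a L ht => TList.mem_mono hle (hT x a L ht)) x a L ht n h1 h2 h3 (hle.1 n h4)

theorem NodeNoHe.mono (h : NodeNoHe.{u} T) (hle : T₁.le T) : NodeNoHe.{u} T₁ :=
  fun G _ _ hG hT => h G hG (fun x a L ht => TList.mem_mono hle (hT x a L ht))

theorem NodeNoCov.mono (h : NodeNoCov.{u} T) (hle : T₁.le T) : NodeNoCov.{u} T₁ :=
  fun G _ _ hG hT => h G hG (fun x a L ht => TList.mem_mono hle (hT x a L ht))

theorem NodeNoL34.mono (h : NodeNoL34.{u} T) (hle : T₁.le T) : NodeNoL34.{u} T₁ :=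
  fun G _ _ hG hT => h G hG (fun x a L ht => TList.mem_mono hle (hT x a L ht))

theorem NodeNoInn.mono (h : NodeNoInn.{u} T) (hle : T₁.le T) : NodeNoInn.{u} T₁ :=
  fun G _ _ hG hT => h G hG (fun x a L ht => TList.mem_mono hle (hT x a L ht))

theorem NodeLast.mono (h : NodeLast.{u} T) (hle : T₁.le T) : NodeLast.{u} T₁ :=
  fun G _ _ hG hT => h G hG (fun x a L ht => TList.mem_mono hle (hT x a L ht))

theorem NodeLast.of_noAlt {m : ℕ} (h : NodeNoAlt.{u} T m) (h' : NodeLast.{u} (T.noAlt m)) :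
    NodeLast.{u} T := fun G _ _ hG hT hex => h' G hG (fun x a L ht => by
  rcases hT x a L ht with h1 | ⟨n, h1, h2, h3, h4⟩ | h1 | h1 | h1
  · exact Or.inl h1
  · refine Or.inr (Or.inl ⟨n, h1, h2, h3, h4, ?_⟩)
    by_contra hn
    exact h G hG hT x a L ht n h1 h2 (not_lt.mp hn) h4 h3
  · exact Or.inr (Or.inr (Or.inl h1))
  · exact Or.inr (Or.inr (Or.inr (Or.inl h1)))
  · exact Or.inr (Or.inr (Or.inr (Or.inr h1)))) hex

theorem NodeLast.of_noHe (h : NodeNoHe.{u} T) (h' : NodeLast.{u} T.noHe) :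
    NodeLast.{u} T := fun G _ _ hG hT hex => h' G hG (fun x a L ht => by
  rcases hT x a L ht with h1 | h1 | h1 | h1 | h1
  · exact Or.inl h1
  · exact Or.inr (Or.inl h1)
  · exact Or.inr (Or.inr (Or.inl h1))
  · exact Or.inr (Or.inr (Or.inr (Or.inl h1)))
  · exact absurd h1.1 (h G hG hT x a L ht)) hex

theorem NodeLast.of_noCov (h : NodeNoCov.{u} T) (h' : NodeLast.{u} T.noCov) :
    NodeLast.{u} T := fun G _ _ hG hT hex => h' G hG (fun x a L ht => by
  rcases hT x a L ht with h1 | h1 | h1 | h1 | h1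
  · exact Or.inl h1
  · exact Or.inr (Or.inl h1)
  · exact Or.inr (Or.inr (Or.inl h1))
  · exact absurd h1.1 (h G hG hT x a L ht)
  · exact Or.inr (Or.inr (Or.inr (Or.inr h1)))) hex

theorem NodeLast.of_noL34 (h : NodeNoL34.{u} T) (h' : NodeLast.{u} T.noL34) :
    NodeLast.{u} T := fun G _ _ hG hT hex => h' G hG (fun x a L ht => by
  rcases hT x a L ht with h1 | h1 | h1 | h1 | h1
  · exact Or.inl h1
  · exact Or.inr (Or.inl h1)
  · exact absurd h1.1 (h G hG hT x a L ht)
  · exact Or.inr (Or.inr (Or.inr (Or.inl h1)))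
  · exact Or.inr (Or.inr (Or.inr (Or.inr h1)))) hex

theorem NodeLast.of_noInn (h : NodeNoInn.{u} T) (h' : NodeLast.{u} T.noInn) :
    NodeLast.{u} T := fun G _ _ hG hT hex => h' G hG (fun x a L ht => by
  rcases hT x a L ht with ⟨h1, h2⟩ | h1 | h1 | h1 | h1
  · exact Or.inl ⟨h1, fun h5 => (h G hG hT x a L ht h1 h5).elim⟩
  · exact Or.inr (Or.inl h1)
  · exact Or.inr (Or.inr (Or.inl h1))
  · exact Or.inr (Or.inr (Or.inr (Or.inl h1)))
  · exact Or.inr (Or.inr (Or.inr (Or.inr h1)))) hex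

end nodes

theorem okType_mem {G : Type u} [Group G] {x : G} {L : Subgroup G} (h : OKType (Bar L)) :
    TList.top.mem x L := by
  rcases h with h | ⟨n, h1, h2, h3⟩ | h | h
  · exact Or.inl ⟨h, fun _ => trivial⟩
  · exact Or.inr (Or.inl ⟨n, h1, h2, h3, trivial⟩)
  · by_cases hc : center (Bar L) = ⊥
    · refine Or.inr (Or.inr (Or.inl ⟨?_, trivial⟩))
      obtain ⟨F, i, j, hF, ⟨e⟩⟩ := h
      exact ⟨F, i, j, hF,
        ⟨((QuotientGroup.quotientMulEquivOfEq hc).trans QuotientGroup.quotientBot).symm.trans e⟩⟩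
    · exact Or.inr (Or.inr (Or.inr (Or.inl ⟨⟨h, hc⟩, trivial⟩)))
  · exact Or.inr (Or.inr (Or.inr (Or.inr ⟨h, trivial⟩)))

/-- **Assembly**: existence of a triple, the Lie type branch and a chain of nodes give S1311. -/
theorem ugt_of_nodeLast (hE : NodeE.{u}) (hU2 : NodeU2.{u}) (h : NodeLast.{u} TList.top) :
    ∀ (G : Type u) [Group G] [Finite G], UGT G := by
  apply ugt_of_no_minCex
  intro G _ _ hG
  exact h G hG (fun x a L T => okType_mem (hU2 G hG x a L T)) (hE G hG)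

/-! ### The order of FRAME v4 -/

/-- no cover of `L₃(4)` -/
def T2 : TList := TList.top.noCov
/-- nor `He` -/
def T3 : TList := T2.noHe
/-- nor `L₃(4)` -/
def T4 : TList := T3.noL34
/-- nor `Aₙ`, `n ≥ 11` -/
def T5 : TList := T4.noAlt 11
/-- nor `A₉` -/
def T6 : TList := T5.noAlt 9
/-- nor inner `PSL₂(q)` -/
def T7 : TList := T6.noInn
/-- nor `A₇` -/
def T8 : TList := T7.noAlt 7

section explicit

variable {G : Type u} [Group G] {x : G} {L : Subgroup G}

theorem T2_mem : T2.mem x L → IsL2 (Bar L) ∨ IsAltOdd (Bar L) ∨ IsL34 (Bar L) ∨ Spor.IsoHe (Bar L) := by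
  rintro (h | ⟨n, h1, h2, h3, -⟩ | h | h | h)
  · exact Or.inl h.1
  · exact Or.inr (Or.inl ⟨n, h1, h2, h3⟩)
  · exact Or.inr (Or.inr (Or.inl h.1))
  · exact h.2.elim
  · exact Or.inr (Or.inr (Or.inr h.1))

theorem T3_mem : T3.mem x L → IsL2 (Bar L) ∨ IsAltOdd (Bar L) ∨ IsL34 (Bar L) := by
  rintro (h | ⟨n, h1, h2, h3, -⟩ | h | h | h)
  · exact Or.inl h.1
  · exact Or.inr (Or.inl ⟨n, h1, h2, h3⟩)
  · exact Or.inr (Or.inr h.1)
  · exact h.2.elim
  · exact h.2.elim

theorem T4_mem : T4.mem x L → IsL2 (Bar L) ∨ IsAltOdd (Bar L) := by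
  rintro (h | ⟨n, h1, h2, h3, -⟩ | h | h | h)
  · exact Or.inl h.1
  · exact Or.inr ⟨n, h1, h2, h3⟩
  · exact h.2.elim
  · exact h.2.elim
  · exact h.2.elim

theorem T5_mem : T5.mem x L → IsL2 (Bar L) ∨ IsAlt 7 (Bar L) ∨ IsAlt 9 (Bar L) := by
  rintro (h | ⟨n, h1, h2, h3, h4⟩ | h | h | h)
  · exact Or.inl h.1
  · have h5 : n < 11 := h4.2
    have h6 : n = 7 ∨ n = 9 := by
      obtain ⟨k, rfl⟩ := h1
      omega
    rcases h6 with rfl | rfl
    · exact Or.inr (Or.inl h3)
    · exact Or.inr (Or.inr h3)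
  · exact h.2.elim
  · exact h.2.elim
  · exact h.2.elim

theorem T6_mem : T6.mem x L → IsL2 (Bar L) ∨ IsAlt 7 (Bar L) := by
  rintro (h | ⟨n, h1, h2, h3, h4⟩ | h | h | h)
  · exact Or.inl h.1
  · have h5 : n < 9 := h4.2
    have h6 : n = 7 := by
      obtain ⟨k, rfl⟩ := h1
      omega
    subst h6
    exact Or.inr h3
  · exact h.2.elim
  · exact h.2.elim
  · exact h.2.elim

theorem T7_mem : T7.mem x L → (IsL2 (Bar L) ∧ ¬ IsInner x L) ∨ IsAlt 7 (Bar L) := by
  rintro (h | ⟨n, h1, h2, h3, h4⟩ | h | h | h)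
  · exact Or.inl ⟨h.1, fun h5 => h.2 h5⟩
  · have h5 : n < 9 := h4.2
    have h6 : n = 7 := by
      obtain ⟨k, rfl⟩ := h1
      omega
    subst h6
    exact Or.inr h3
  · exact h.2.elim
  · exact h.2.elim
  · exact h.2.elim

theorem T8_mem : T8.mem x L → IsL2 (Bar L) ∧ ¬ IsInner x L := by
  rintro (h | ⟨n, h1, h2, h3, h4⟩ | h | h | h)
  · exact ⟨h.1, fun h5 => h.2 h5⟩
  · exact absurd h4.2 (not_lt.mpr h2)
  · exact h.2.elim
  · exact h.2.elim
  · exact h.2.elim

end explicit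

/-- **N1a** no triple whose type is a cover of `L₃(4)` with nontrivial centre. -/
def NodeCov : Prop := ∀ (G : Type u) [Group G] [Finite G], MinCex G →
  Types G (fun _ L => OKType (Bar L)) →
  ∀ (x a : G) (L : Subgroup G), IsTriple x a L → ¬ IsCov (Bar L)

/-- **N1b** no triple of type `He`. -/
def NodeHe : Prop := ∀ (G : Type u) [Group G] [Finite G], MinCex G →
  Types G (fun _ L => IsL2 (Bar L) ∨ IsAltOdd (Bar L) ∨ IsL34 (Bar L) ∨ Spor.IsoHe (Bar L)) →
  ∀ (x a : G) (L : Subgroup G), IsTriple x a L → ¬ Spor.IsoHe (Bar L)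

/-- **N2** no triple of type `L₃(4)`. -/
def NodeL34' : Prop := ∀ (G : Type u) [Group G] [Finite G], MinCex G →
  Types G (fun _ L => IsL2 (Bar L) ∨ IsAltOdd (Bar L) ∨ IsL34 (Bar L)) →
  ∀ (x a : G) (L : Subgroup G), IsTriple x a L → ¬ IsL34 (Bar L)

/-- **N3** no triple of type `Aₙ`, `n ≥ 11`. -/
def NodeAn' : Prop := ∀ (G : Type u) [Group G] [Finite G], MinCex G →
  Types G (fun _ L => IsL2 (Bar L) ∨ IsAltOdd (Bar L)) →
  ∀ (x a : G) (L : Subgroup G), IsTriple x a L → ∀ n : ℕ, Odd n → 11 ≤ n → ¬ IsAlt n (Bar L)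

/-- **N4** no triple of type `A₉`. -/
def NodeA9 : Prop := ∀ (G : Type u) [Group G] [Finite G], MinCex G →
  Types G (fun _ L => IsL2 (Bar L) ∨ IsAlt 7 (Bar L) ∨ IsAlt 9 (Bar L)) →
  ∀ (x a : G) (L : Subgroup G), IsTriple x a L → ¬ IsAlt 9 (Bar L)

/-- **N5** no triple of type `PSL₂(q)` with `x` inner. -/
def NodeL2i : Prop := ∀ (G : Type u) [Group G] [Finite G], MinCex G →
  Types G (fun _ L => IsL2 (Bar L) ∨ IsAlt 7 (Bar L)) →
  ∀ (x a : G) (L : Subgroup G), IsTriple x a L → IsL2 (Bar L) → ¬ IsInner x L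

/-- **N6** no triple of type `A₇`. -/
def NodeA7' : Prop := ∀ (G : Type u) [Group G] [Finite G], MinCex G →
  Types G (fun x L => (IsL2 (Bar L) ∧ ¬ IsInner x L) ∨ IsAlt 7 (Bar L)) →
  ∀ (x a : G) (L : Subgroup G), IsTriple x a L → ¬ IsAlt 7 (Bar L)

/-- **N7** the last world: all triples are of type `PSL₂(q)`, `x` not inner. -/
def NodeR : Prop := ∀ (G : Type u) [Group G] [Finite G], MinCex G →
  Types G (fun x L => IsL2 (Bar L) ∧ ¬ IsInner x L) →
  (∃ (x a : G) (L : Subgroup G), IsTriple x a L) → False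

/-- **Assembly of FRAME v4.** -/
theorem ugt_of_v4 (hE : NodeE.{u}) (hU2 : NodeU2.{u}) (hCov : NodeCov.{u}) (hHe : NodeHe.{u})
    (hL34 : NodeL34'.{u}) (hAn : NodeAn'.{u}) (hA9 : NodeA9.{u}) (hInn : NodeL2i.{u})
    (hA7 : NodeA7'.{u}) (hR : NodeR.{u}) : ∀ (G : Type u) [Group G] [Finite G], UGT G := by
  have h8 : NodeLast.{u} T8 := fun G _ _ hG hT => hR G hG fun x a L t => T8_mem (hT x a L t)
  have h7 : NodeLast.{u} T7 := NodeLast.of_noAlt (m := 7)
    (fun G _ _ hG hT x a L t n h1 h2 _ h4 h5 => by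
      have h6 : n < 9 := h4.2
      have h7 : n = 7 := by
        obtain ⟨k, rfl⟩ := h1
        omega
      subst h7
      exact hA7 G hG (fun x a L t => T7_mem (hT x a L t)) x a L t h5) h8
  have h6 : NodeLast.{u} T6 := NodeLast.of_noInn
    (fun G _ _ hG hT x a L t => hInn G hG (fun x a L t => T6_mem (hT x a L t)) x a L t) h7
  have h5 : NodeLast.{u} T5 := NodeLast.of_noAlt (m := 9)
    (fun G _ _ hG hT x a L t n h1 _ h3 h4 h5 => by
      have h6 : n < 11 := h4.2
      have h7 : n = 9 := by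
        obtain ⟨k, rfl⟩ := h1
        omega
      subst h7
      exact hA9 G hG (fun x a L t => T5_mem (hT x a L t)) x a L t h5) h6
  have h4 : NodeLast.{u} T4 := NodeLast.of_noAlt (m := 11)
    (fun G _ _ hG hT x a L t n h1 _ h3 _ h5 =>
      hAn G hG (fun x a L t => T4_mem (hT x a L t)) x a L t n h1 h3 h5) h5
  have h3 : NodeLast.{u} T3 := NodeLast.of_noL34
    (fun G _ _ hG hT x a L t => hL34 G hG (fun x a L t => T3_mem (hT x a L t)) x a L t) h4
  have h2 : NodeLast.{u} T2 := NodeLast.of_noHe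
    (fun G _ _ hG hT x a L t => hHe G hG (fun x a L t => T2_mem (hT x a L t)) x a L t) h3
  apply ugt_of_no_minCex
  intro G _ _ hG
  have hok : Types G (fun _ L => OKType (Bar L)) := fun x a L T => hU2 G hG x a L T
  refine h2 G hG (fun x a L t => ?_) (hE G hG)
  rcases okType_mem (x := x) (hok x a L t) with h | h | h | h | h
  · exact Or.inl h
  · exact Or.inr (Or.inl h)
  · exact Or.inr (Or.inr (Or.inl h))
  · exact absurd h.1 (hCov G hG hok x a L t)
  · exact Or.inr (Or.inr (Or.inr (Or.inr h)))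

/-! ### stronger nodes give the nodes of FRAME v4 -/

/-- `NodeNoAlt` of the full list (`n ≥ 13`) and the case `n = 11`. -/
theorem nodeAn_of (h13 : NodeNoAlt.{u} TList.top 13) (h11 : NodeNoAlt.{u} (TList.top.noAlt 13) 11) :
    NodeAn'.{u} := by
  intro G _ _ hG hT
  have hok : Types G (fun x L => TList.top.mem x L) := fun x a L t => by
    rcases hT x a L t with h | h
    · exact okType_mem (Or.inl h)
    · exact okType_mem (Or.inr (Or.inl h))
  have hno := h13 G hG hok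
  have hok' : Types G (fun x L => (TList.top.noAlt 13).mem x L) := fun x a L t => by
    rcases hT x a L t with h | ⟨n, h1, h2, h3⟩
    · exact Or.inl ⟨h, fun _ => trivial⟩
    · refine Or.inr (Or.inl ⟨n, h1, h2, h3, trivial, ?_⟩)
      by_contra hn
      exact hno x a L t n h1 h2 (not_lt.mp hn) trivial h3
  intro x a L t n h1 h2 h3
  rcases lt_or_ge n 13 with h4 | h4
  · exact h11 G hG hok' x a L t n h1 (by omega) h2 ⟨trivial, h4⟩ h3
  · exact hno x a L t n h1 (by omega) h4 trivial h3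

end Cfsg.Agent.UGT.Nodes
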