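import Cfsg.Agent.UGT.TriBase

/-!
# THEOREM TRI

`Y : G → Subgroup G` the ambient group (`Y x = ⊤` or `Y x = C(x)`), `𝒯 x a L` a family of unbalancing triples,
closed under conjugation and under the pump-ups `(x, c, N)`, `c` an involution commuting with `a`, `x` and fixing
`L`, which are trivial or diagonal. `T` a 2-subgroup of `acting Y x a L = N_{Y(x) ∩ C(a)}(L)` containing `x`, of
maximal order (over all members of the family). `Q = fix T L`, `P = T ⊓ L`.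

* `Config.pump`: for an involution `e ∈ Z(T) ∩ Q` the pump-up `N` in `C(e)` is trivial, `(x, e, N)` is again maximal
  with the same `T`, `P`, `Q`.
* `Config.conj_fix_ne`: `Q ^ t ≠ Q` for `t ∈ N_{Y(x)}(T) ∖ T`, `⟨T, t⟩` a 2-group.
* `Config.two_comps`: if an involution `e ∈ Z(T)` lies in `Q ∩ Q ^ t`, there are two different 2-components of
  `C(e)`, pump-ups of `L` and `L ^ t`, `P ≤ Q ^ t`, `P ^ t ≤ Q`.
* `Config.tri`: the trichotomy.
-/

set_option autoImplicit false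

open Cfsg Subgroup
open Cfsg.Agent.SignalizersComponents Cfsg.Agent.Lib
open Cfsg.Agent.SignalizersComponents.IntrinsicBasic
open Cfsg.Agent.Intrinsic.Basic Cfsg.Agent.Intrinsic.Cen Cfsg.Agent.Intrinsic.Diag
open Cfsg.Agent.McLLyComp.Act
open Cfsg.Agent.UGT.Triple Cfsg.Agent.UGT.TriBase
open scoped commutatorElement

namespace Cfsg.Agent.UGT.Tri

variable {G : Type*} [Group G]

/-- `N_{Y(x) ∩ C(a)}(L)` -/
def acting (Y : G → Subgroup G) (x a : G) (L : Subgroup G) : Subgroup G :=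
  Y x ⊓ centralizer ({a} : Set G) ⊓ normalizer (L : Set G)

theorem mem_acting {Y : G → Subgroup G} {x a : G} {L : Subgroup G} {s : G} :
    s ∈ acting Y x a L ↔ (s ∈ Y x ∧ s ∈ centralizer ({a} : Set G)) ∧ s ∈ normalizer (L : Set G) :=
  Iff.rfl

/-- A family of triples, closed under conjugation and under trivial or diagonal pump-ups. -/
structure Fam (Y : G → Subgroup G) (𝒯 : G → G → Subgroup G → Prop) : Prop where
  Ycj : ∀ g x, Y (g * x * g⁻¹) = cj g (Y x)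
  xY : ∀ {x a : G} {L : Subgroup G}, 𝒯 x a L → x ∈ Y x
  aY : ∀ {x a : G} {L : Subgroup G}, 𝒯 x a L → a ∈ Y x
  triple : ∀ {x a : G} {L : Subgroup G}, 𝒯 x a L → IsTriple x a L
  conj : ∀ {x a : G} {L : Subgroup G} (g : G), 𝒯 x a L → 𝒯 (g * x * g⁻¹) (g * a * g⁻¹) (cj g L)
  pump : ∀ {x a c : G} {L N : Subgroup G}, 𝒯 x a L → orderOf c = 2 → c * a = a * c → c * x = x * c →
    Fixes c L → IsTriple x c N → ((a ∈ normalizer (N : Set G) ∧ cen L c ≤ N) ∨
      (cj a N ≠ N ∧ cen L c = diag (centralizer ({c} : Set G)) N a)) →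
    𝒯 x c N ∧ (a ∈ normalizer (N : Set G) → cen L c ⊔ core N = N)
  big : ∀ {x a : G} {L R D : Subgroup G}, 𝒯 x a L → IsSyl (acting Y x a L) R → D ≤ R ⊓ L →
    (∀ d ∈ D, Fixes d L) → 2 * Nat.card ↥D < Nat.card ↥(R ⊓ L)

/-- A maximal configuration. -/
structure Config (Y : G → Subgroup G) (𝒯 : G → G → Subgroup G → Prop) (x a : G) (L T : Subgroup G) :
    Prop where
  mem : 𝒯 x a L
  two : IsPGroup 2 ↥T
  le : T ≤ acting Y x a L
  xT : x ∈ T
  max : ∀ (x' a' : G) (L' T' : Subgroup G), 𝒯 x' a' L' → IsPGroup 2 ↥T' → T' ≤ acting Y x' a' L' →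
    Nat.card ↥T' ≤ Nat.card ↥T

theorem cj_acting {Y : G → Subgroup G} (hY : ∀ g x, Y (g * x * g⁻¹) = cj g (Y x)) (g x a : G)
    (L : Subgroup G) : cj g (acting Y x a L) = acting Y (g * x * g⁻¹) (g * a * g⁻¹) (cj g L) := by
  ext y
  rw [mem_cj, mem_acting, mem_acting, hY, ← cj_centralizer, mem_cj, mem_cj]
  refine and_congr Iff.rfl ?_
  rw [mem_normalizer_iff_cj, mem_normalizer_iff_cj]
  constructor
  · intro h
    have h1 := congrArg (cj g) h
    rw [← cj_mul] at h1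
    rw [← cj_mul]
    convert h1 using 2
    group
  · intro h
    have h1 := congrArg (cj g⁻¹) h
    rw [cj_inv_cj, ← cj_mul, ← cj_mul] at h1
    rw [← h1]
    congr 1

section

variable {Y : G → Subgroup G} {𝒯 : G → G → Subgroup G → Prop} {x a : G} {L T : Subgroup G}

theorem Config.conj (C : Config Y 𝒯 x a L T) (F : Fam Y 𝒯) (g : G) :
    Config Y 𝒯 (g * x * g⁻¹) (g * a * g⁻¹) (cj g L) (cj g T) := by
  refine ⟨F.conj g C.mem, isPGroup_cj C.two, ?_, conj_mem_cj C.xT, fun x' a' L' T' h1 h2 h3 => ?_⟩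
  · rw [← cj_acting F.Ycj]
    exact cj_mono C.le
  · rw [card_cj]
    exact C.max x' a' L' T' h1 h2 h3

theorem Config.mem_Y (C : Config Y 𝒯 x a L T) {s : G} (hs : s ∈ T) : s ∈ Y x := (C.le hs).1.1

theorem Config.mem_ca (C : Config Y 𝒯 x a L T) {s : G} (hs : s ∈ T) :
    s ∈ centralizer ({a} : Set G) := (C.le hs).1.2

theorem Config.mem_nL (C : Config Y 𝒯 x a L T) {s : G} (hs : s ∈ T) :
    s ∈ normalizer (L : Set G) := (C.le hs).2

variable [Finite G]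

theorem Config.eq_of_le (C : Config Y 𝒯 x a L T) {x' a' : G} {L' T' : Subgroup G} (h1 : 𝒯 x' a' L')
    (h2 : IsPGroup 2 ↥T') (h3 : T' ≤ acting Y x' a' L') (h4 : T ≤ T') : T' = T :=
  (Subgroup.eq_of_le_of_card_ge h4 (C.max _ _ _ _ h1 h2 h3)).symm

theorem Config.isSyl (C : Config Y 𝒯 x a L T) : IsSyl (acting Y x a L) T :=
  ⟨C.two, C.le, fun _ h1 h2 h3 => C.eq_of_le C.mem h1 h2 h3⟩

omit [Finite G] in
/-- `T ⟨b⟩` is a 2-group, `b` a 2-element normalizing `T` -/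
theorem isPGroup_sup_zpowers {T : Subgroup G} {b : G} (hT : IsPGroup 2 ↥T)
    (hb : b ∈ normalizer (T : Set G)) {n : ℕ} (hn : b ^ 2 ^ n = 1) :
    IsPGroup 2 ↥(T ⊔ zpowers b) := by
  refine hT.to_sup_of_normal_left' ?_ ?_
  · rintro ⟨y, hy⟩
    obtain ⟨k, rfl⟩ := mem_zpowers_iff.mp hy
    refine ⟨n, Subtype.ext ?_⟩
    change (b ^ k) ^ 2 ^ n = 1
    rw [← zpow_natCast, ← zpow_mul, mul_comm, zpow_mul, zpow_natCast, hn, one_zpow]
  · rw [zpowers_le]
    exact hb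

theorem Config.a_mem (C : Config Y 𝒯 x a L T) (F : Fam Y 𝒯) : a ∈ T := by
  have hC := F.triple C.mem
  have ha2 := sq_of_order hC.inva
  have hcomm : ∀ s ∈ T, a * s = s * a := fun s hs => (comm_c (C.mem_ca hs)).symm
  have haT : a ∈ normalizer (T : Set G) := by
    rw [mem_normalizer_iff_cj]
    ext s
    rw [mem_cj]
    constructor
    · intro h
      have h1 := hcomm _ h
      have h2 : s = a⁻¹ * s * a := by
        calc s = a * (a⁻¹ * s * a) * a⁻¹ := by group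
          _ = (a⁻¹ * s * a) * a * a⁻¹ := by rw [h1]
          _ = _ := by group
      rw [h2]; exact h
    · intro h
      rw [mul_assoc, ← hcomm s h, inv_mul_cancel_left]
      exact h
  have h1 : IsPGroup 2 ↥(T ⊔ zpowers a) :=
    isPGroup_sup_zpowers C.two haT (n := 1) (by rw [pow_one, pow_two, ha2])
  have h2 : T ⊔ zpowers a ≤ acting Y x a L := by
    refine sup_le C.le ?_
    rw [zpowers_le]
    exact ⟨⟨F.aY C.mem, mem_c rfl⟩, (fixes_self' hC.comp.le).1⟩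
  rw [← C.eq_of_le C.mem h1 h2 le_sup_left]
  exact mem_sup_right (mem_zpowers a)

/-- `P` is not contained in `Q` -/
theorem Config.not_le (C : Config Y 𝒯 x a L T) (F : Fam Y 𝒯) : ¬ T ⊓ L ≤ fix T L := by
  intro h
  have h1 := F.big C.mem C.isSyl le_rfl fun d hd => (h hd).2
  have h2 : 0 < Nat.card ↥(T ⊓ L) := Nat.card_pos
  omega

omit [Finite G] in
theorem card_mul_relIndex' {H K : Subgroup G} (h : H ≤ K) :
    Nat.card ↥H * H.relIndex K = Nat.card ↥K := by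
  have := relIndex_mul_relIndex ⊥ H K bot_le h
  rwa [relIndex_bot_left, relIndex_bot_left] at this

/-- `|R ∩ N| ≤ 2 |T₀ ∩ N|` if `|R| ≤ 2 |T₀|` -/
theorem card_inf_le {R T₀ N : Subgroup G} (hle : T₀ ≤ R) (h : Nat.card ↥R ≤ 2 * Nat.card ↥T₀) :
    Nat.card ↥(R ⊓ N) ≤ 2 * Nat.card ↥(T₀ ⊓ N) := by
  have h1 : Nat.card ↥T₀ * T₀.relIndex R = Nat.card ↥R := card_mul_relIndex' hle
  have h2 : T₀.relIndex R ≤ 2 := by
    have h3 : 0 < Nat.card ↥T₀ := Nat.card_pos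
    by_contra h4
    push Not at h4
    have : Nat.card ↥T₀ * 3 ≤ Nat.card ↥T₀ * T₀.relIndex R := Nat.mul_le_mul_left _ h4
    omega
  have h3 : (T₀ ⊓ N).relIndex (R ⊓ N) = T₀.relIndex (R ⊓ N) := by
    have h4 : T₀ ⊓ N = T₀ ⊓ (R ⊓ N) := by
      rw [← inf_assoc, inf_of_le_left hle]
    rw [h4, inf_relIndex_right]
  have h5 : T₀.relIndex (R ⊓ N) ≤ T₀.relIndex R :=
    relIndex_le_of_le_right inf_le_left
      (Nat.pos_of_dvd_of_pos (relIndex_dvd_card T₀ R) Nat.card_pos).ne'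
  have h6 : Nat.card ↥(T₀ ⊓ N) * (T₀ ⊓ N).relIndex (R ⊓ N) = Nat.card ↥(R ⊓ N) :=
    card_mul_relIndex' (inf_le_inf_right _ hle)
  rw [← h6, h3, mul_comm]
  exact Nat.mul_le_mul_right _ (h5.trans h2)

/-- **(a)** the pump-up is not diagonal -/
theorem Config.not_diag (C : Config Y 𝒯 x a L T) (F : Fam Y 𝒯) {e : G} {N : Subgroup G}
    (hcen : ∀ s ∈ T, s * e = e * s) (hN : 𝒯 x e N) (hne : cj a N ≠ N)
    (hM : cen L e = diag (centralizer ({e} : Set G)) N a) : False := by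
  have hC := F.triple C.mem
  have hCN := F.triple hN
  have ha2 := sq_of_order hC.inva
  have haT := C.a_mem F
  have hae : a ∈ centralizer ({e} : Set G) := mem_c (hcen a haT)
  -- conjugates of `N` under `T`
  have key : ∀ s ∈ T, cj s N = N ∨ cj s N = cj a N := by
    intro s hs
    by_contra hcon
    push Not at hcon
    have hse : s ∈ centralizer ({e} : Set G) := mem_c (hcen s hs)
    have hsN := isComp_cj_of_mem hCN.comp hse
    have hsa : s * a = a * s := comm_c (C.mem_ca hs)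
    have hLv : cj a (cj s N) ≠ cj s N := by
      rw [← cj_mul, ← hsa, cj_mul]
      exact fun h => hne (cj_injective s h)
    refine diag_ne hCN.comp hae ha2 hne hsN hLv hcon.1 hcon.2 ?_
    have h1 : cj s (diag (centralizer ({e} : Set G)) N a) = diag (centralizer ({e} : Set G)) (cj s N) a := by
      rw [cj_diag, cj_eq_self_of_mem hse, hsa, mul_inv_cancel_right]
    rw [← h1, ← hM]
    exact mem_normalizer_iff_cj.mp (mem_normalizer_cen (C.mem_nL hs) (hcen s hs))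
  obtain ⟨T₀, hT₀⟩ : ∃ T₀, T₀ = T ⊓ normalizer (N : Set G) := ⟨_, rfl⟩
  have hcard : Nat.card ↥T ≤ 2 * Nat.card ↥T₀ := by
    have hcov : (T : Set G) ⊆ (T₀ : Set G) ∪ (fun y => a * y) '' (T₀ : Set G) := by
      intro s hs
      rcases key s hs with h | h
      · left
        rw [hT₀]
        exact ⟨hs, mem_normalizer_iff_cj.mpr h⟩
      · right
        refine ⟨a⁻¹ * s, ?_, mul_inv_cancel_left a s⟩
        rw [hT₀]
        refine ⟨T.mul_mem (T.inv_mem haT) hs, mem_normalizer_iff_cj.mpr ?_⟩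
        rw [cj_mul, h, cj_inv_cj]
    have h1 := Set.ncard_le_ncard hcov (Set.toFinite _)
    have h2 := Set.ncard_union_le (T₀ : Set G) ((fun y => a * y) '' (T₀ : Set G))
    have h3 := Set.ncard_image_le (f := fun y => a * y) (Set.toFinite (T₀ : Set G))
    have h4 : (T : Set G).ncard = Nat.card ↥T := rfl
    have h5 : (T₀ : Set G).ncard = Nat.card ↥T₀ := rfl
    omega
  have hT₀2 : IsPGroup 2 ↥T₀ := C.two.to_le (hT₀ ▸ inf_le_left)
  have hT₀T : T₀ ≤ T := hT₀ ▸ inf_le_left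
  have hT₀le : T₀ ≤ acting Y x e N := by
    intro s hs
    refine ⟨⟨C.mem_Y (hT₀T hs), mem_c (hcen s (hT₀T hs))⟩, ?_⟩
    rw [hT₀] at hs
    exact hs.2
  obtain ⟨R, hR, hT₀R⟩ := exists_isSyl hT₀2 hT₀le
  have h1 : Nat.card ↥R ≤ 2 * Nat.card ↥T₀ := (C.max _ _ _ _ hN hR.two hR.le).trans hcard
  have h2 := card_inf_le (N := N) hT₀R h1
  have h3 := F.big (D := T₀ ⊓ N) hN hR (inf_le_inf_right _ hT₀R) (by
    intro d hd
    have hda : d * a = a * d := comm_c (C.mem_ca (hT₀T hd.1))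
    have h4 : d ∈ cj a N := by
      rw [mem_cj, mul_assoc, hda, inv_mul_cancel_left]
      exact hd.2
    exact hCN.comp.fixes_of_mem (isComp_cj_of_mem hCN.comp hae) hne.symm h4)
  omega

/-- **(a)** the pump-up of a maximal configuration -/
theorem Config.pump (C : Config Y 𝒯 x a L T) (F : Fam Y 𝒯) {e : G} (heT : e ∈ fix T L)
    (he : orderOf e = 2) (hcen : ∀ s ∈ T, s * e = e * s) :
    ∃ N, Config Y 𝒯 x e N T ∧ cen L e ≤ N ∧ cen L e ⊔ core N = N ∧ T ⊓ N = T ⊓ L ∧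
      fix T N = fix T L := by
  have hC := F.triple C.mem
  have ha2 := sq_of_order hC.inva
  have he2 := sq_of_order he
  have haT := C.a_mem F
  have hea : e * a = a * e := (hcen a haT).symm
  have hex : e * x = x * e := (hcen x C.xT).symm
  obtain ⟨N, hN, hor⟩ := hC.pump he hea hex heT.2
  obtain ⟨hNT, htriv⟩ := F.pump C.mem he hea hex heT.2 hN hor
  rcases hor with ⟨haN, hMN⟩ | ⟨hne, hM⟩
  swap
  · exact (C.not_diag F hcen hNT hne hM).elim
  have hsup := htriv haN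
  obtain ⟨hM, hMsup⟩ := isComp_cen hC.comp (mem_c hea) he2 heT.2
  have hTM : ∀ s ∈ T, s ∈ normalizer (cen L e : Set G) := fun s hs =>
    mem_normalizer_cen (C.mem_nL hs) (hcen s hs)
  have hTN : ∀ s ∈ T, s ∈ normalizer (N : Set G) := by
    intro s hs
    have hsN := isComp_cj_of_mem hN.comp (mem_c (hcen s hs))
    rw [mem_normalizer_iff_cj]
    refine hM.unique hsN hN.comp ?_ hMN
    rw [← mem_normalizer_iff_cj.mp (hTM s hs)]
    exact cj_mono hMN
  refine ⟨N, ⟨hNT, C.two, fun s hs => ⟨⟨C.mem_Y hs, mem_c (hcen s hs)⟩, hTN s hs⟩, C.xT, C.max⟩, hMN,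
    hsup, ?_, ?_⟩
  · apply le_antisymm
    · rintro s ⟨hsT, hsN⟩
      refine ⟨hsT, ?_⟩
      obtain ⟨m, hm, hc⟩ := exists_mul_of_sup hsup hsN
      have hma := (hM.le hm).1
      have hsa := C.mem_ca hsT
      have h1 : m⁻¹ * s ∈ core (centralizer ({a} : Set G) ⊓ centralizer ({e} : Set G)) :=
        inf_le_core (hN.comp.core_le_core hc) (mul_mem (inv_mem hma) hsa)
      obtain ⟨n, hn⟩ := C.two ⟨s, hsT⟩
      exact cen_le L e (hM.mem_of_two hm h1 (congrArg Subtype.val hn))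
    · rintro s ⟨hsT, hsL⟩
      obtain ⟨n, hn⟩ := C.two ⟨s, hsT⟩
      exact ⟨hsT, hMN (mem_cen hsL (hcen s hsT) (congrArg Subtype.val hn))⟩
  · ext s
    rw [mem_fix, mem_fix]
    refine and_congr_right fun hs => ?_
    rw [← fixes_iff_of_sup hsup (hTM s hs) (hTN s hs), fixes_iff_of_sup hMsup (hTM s hs) (C.mem_nL hs)]

/-- **(b1)** -/
theorem Config.conj_fix_ne (C : Config Y 𝒯 x a L T) (F : Fam Y 𝒯) {t : G} (htY : t ∈ Y x)
    (htT : t ∈ normalizer (T : Set G)) (ht : t ∉ T) (h2 : IsPGroup 2 ↥(T ⊔ zpowers t)) :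
    cj t (fix T L) ≠ fix T L := by
  intro heq
  have hC := F.triple C.mem
  have haT := C.a_mem F
  have haQ : a ∈ fix T L := ⟨haT, fixes_self' hC.comp.le⟩
  have hQ : fix T L ≠ ⊥ := by
    intro h
    rw [h, mem_bot] at haQ
    exact ne_one_of_order hC.inva haQ
  obtain ⟨e, heQ, he, hcen⟩ := exists_central h2 ((fix_le T L).trans le_sup_left) (by
    refine sup_le ?_ ?_
    · intro s hs
      rw [mem_normalizer_iff]
      intro q
      refine ⟨conj_mem_fix (le_normalizer hs) (C.mem_nL hs), fun h => ?_⟩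
      have h1 := conj_mem_fix (le_normalizer (inv_mem hs)) (C.mem_nL (inv_mem hs)) h
      convert h1 using 1
      group
    · rw [zpowers_le]
      exact mem_normalizer_iff_cj.mpr heq) hQ
  have hcenT : ∀ s ∈ T, s * e = e * s := fun s hs => hcen s (mem_sup_left hs)
  have hte : t * e = e * t := hcen t (mem_sup_right (mem_zpowers t))
  obtain ⟨N, CN, -, -, hP, hfix⟩ := C.pump F heQ he hcenT
  have hCN := F.triple CN.mem
  by_cases htN : t ∈ normalizer (N : Set G)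
  · apply ht
    have h3 : T ⊔ zpowers t ≤ acting Y x e N := by
      refine sup_le CN.le ?_
      rw [zpowers_le]
      exact ⟨⟨htY, mem_c hte⟩, htN⟩
    rw [← CN.eq_of_le CN.mem h2 h3 le_sup_left]
    exact mem_sup_right (mem_zpowers t)
  · have hne : cj t N ≠ N := fun h => htN (mem_normalizer_iff_cj.mpr h)
    have htN' := isComp_cj_of_mem hCN.comp (mem_c hte)
    apply C.not_le F
    have h3 : cj t (T ⊓ L) ≤ cj t (fix T L) := by
      rw [heq, ← hP, ← hfix, cj_inf]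
      rintro s ⟨hs1, hs2⟩
      have hsT : s ∈ T := by
        rwa [mem_normalizer_iff_cj.mp htT] at hs1
      exact ⟨hsT, hCN.comp.fixes_of_mem htN' hne.symm hs2⟩
    have h4 := cj_mono (g := t⁻¹) h3
    rwa [cj_inv_cj, cj_inv_cj] at h4

/-- **(b2)** -/
theorem Config.two_comps (C : Config Y 𝒯 x a L T) (F : Fam Y 𝒯) {t : G} (htY : t ∈ Y x)
    (htT : t ∈ normalizer (T : Set G)) (ht : t ∉ T) (h2 : IsPGroup 2 ↥(T ⊔ zpowers t)) {e : G}
    (heQ : e ∈ fix T L) (heQt : e ∈ cj t (fix T L)) (he : orderOf e = 2)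
    (hcen : ∀ s ∈ T, s * e = e * s) :
    ∃ N N', N ≠ N' ∧ Config Y 𝒯 x e N T ∧ Config Y 𝒯 (t * x * t⁻¹) e N' T ∧
      cen L e ≤ N ∧ cen L e ⊔ core N = N ∧ cen (cj t L) e ≤ N' ∧ cen (cj t L) e ⊔ core N' = N' ∧
      T ⊓ N = T ⊓ L ∧ T ⊓ N' = cj t (T ⊓ L) ∧ fix T N = fix T L ∧ fix T N' = cj t (fix T L) ∧
      T ⊓ L ≤ cj t (fix T L) ∧ cj t (T ⊓ L) ≤ fix T L := by
  have hTt : cj t T = T := mem_normalizer_iff_cj.mp htT
  have C' := C.conj F t
  rw [hTt] at C'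
  have hfixt : cj t (fix T L) = fix T (cj t L) := by rw [cj_fix, hTt]
  have hPt : cj t (T ⊓ L) = T ⊓ cj t L := by rw [cj_inf, hTt]
  have heQt' := heQt
  rw [hfixt] at heQt'
  obtain ⟨N, CN, h1, h1', hP, hfix⟩ := C.pump F heQ he hcen
  obtain ⟨N', CN', h3, h3', hP', hfix'⟩ := C'.pump F heQt' he hcen
  have hCN := F.triple CN.mem
  have hCN' := F.triple CN'.mem
  have hne : N ≠ N' := by
    intro h
    apply C.conj_fix_ne F htY htT ht h2
    rw [hfixt, ← hfix', ← hfix, h]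
  refine ⟨N, N', hne, CN, CN', h1, h1', h3, h3', hP, hP'.trans hPt.symm, hfix, hfix'.trans hfixt.symm,
    ?_, ?_⟩
  · rw [hfixt, ← hfix', ← hP]
    rintro s ⟨hs1, hs2⟩
    exact ⟨hs1, hCN'.comp.fixes_of_mem hCN.comp hne.symm hs2⟩
  · rw [hPt, ← hP', ← hfix]
    rintro s ⟨hs1, hs2⟩
    exact ⟨hs1, hCN.comp.fixes_of_mem hCN'.comp hne hs2⟩

/-- The conclusion (T3): two different 2-components of `C(e)`, the pump-ups of `L` and `L ^ t`. -/
def TwoComps (Y : G → Subgroup G) (𝒯 : G → G → Subgroup G → Prop) (x : G) (L T : Subgroup G)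
    (t e : G) : Prop :=
  ∃ N N', N ≠ N' ∧ Config Y 𝒯 x e N T ∧ Config Y 𝒯 (t * x * t⁻¹) e N' T ∧
      cen L e ≤ N ∧ cen L e ⊔ core N = N ∧ cen (cj t L) e ≤ N' ∧ cen (cj t L) e ⊔ core N' = N' ∧
      T ⊓ N = T ⊓ L ∧ T ⊓ N' = cj t (T ⊓ L) ∧ fix T N = fix T L ∧ fix T N' = cj t (fix T L) ∧
      T ⊓ L ≤ cj t (fix T L) ∧ cj t (T ⊓ L) ≤ fix T L

/-- (T2) or (T3) for every `t ∈ N_{Y(x)}(T) ∖ T`, `⟨T, t⟩` a 2-group -/
theorem Config.two_or_three (C : Config Y 𝒯 x a L T) (F : Fam Y 𝒯) {t : G} (htY : t ∈ Y x)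
    (htT : t ∈ normalizer (T : Set G)) (ht : t ∉ T) (h2 : IsPGroup 2 ↥(T ⊔ zpowers t)) :
    fix T L ⊓ cj t (fix T L) = ⊥ ∨
      ((∃ e ∈ fix T L ⊓ cj t (fix T L), orderOf e = 2 ∧ ∀ s ∈ T, s * e = e * s) ∧
        ∀ e ∈ fix T L ⊓ cj t (fix T L), orderOf e = 2 → (∀ s ∈ T, s * e = e * s) →
          TwoComps Y 𝒯 x L T t e) := by
  by_cases h : fix T L ⊓ cj t (fix T L) = ⊥
  · exact Or.inl h
  refine Or.inr ⟨?_, fun e he he2 hcen => C.two_comps F htY htT ht h2 he.1 he.2 he2 hcen⟩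
  have hTt : cj t T = T := mem_normalizer_iff_cj.mp htT
  have hfix : ∀ M : Subgroup G, T ≤ normalizer (M : Set G) →
      T ≤ normalizer (fix T M : Set G) := by
    intro M hM s hs
    rw [mem_normalizer_iff_cj, cj_fix, cj_eq_self_of_mem hs, mem_normalizer_iff_cj.mp (hM hs)]
  have hn : T ≤ normalizer ((fix T L ⊓ cj t (fix T L) : Subgroup G) : Set G) := by
    intro s hs
    have h1 := hfix L (fun s hs => C.mem_nL hs) hs
    have h2 : s ∈ normalizer (cj t (fix T L) : Set G) := by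
      rw [cj_fix, hTt]
      refine hfix (cj t L) (fun s hs => ?_) hs
      have hs' : t⁻¹ * s * t ∈ T := by
        rw [← hTt, mem_cj] at hs
        exact hs
      have h3 := mem_normalizer_iff_cj.mp (C.mem_nL hs')
      rw [mem_normalizer_iff_cj]
      have h4 := congrArg (cj t) h3
      rw [← cj_mul] at h4 ⊢
      convert h4 using 2
      group
    rw [mem_normalizer_iff_cj] at h1 h2 ⊢
    rw [cj_inf, h1, h2]
  obtain ⟨e, he, he2, hcen⟩ := exists_central C.two (inf_le_left.trans (fix_le T L)) hn h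
  exact ⟨e, he, he2, hcen⟩

omit [Finite G] in
/-- `T < S` 2-groups: `N_S(T) > T` -/
theorem exists_normalizing [Finite G] {S T : Subgroup G} (hS : IsPGroup 2 ↥S) (hTS : T ≤ S)
    (hne : T ≠ S) : ∃ t ∈ S, t ∈ normalizer (T : Set G) ∧ t ∉ T ∧ IsPGroup 2 ↥(T ⊔ zpowers t) := by
  have hp : Fact (Nat.Prime 2) := ⟨Nat.prime_two⟩
  have hnil : Group.IsNilpotent ↥S := hS.isNilpotent
  have h1 : T.subgroupOf S < ⊤ := by
    rw [lt_top_iff_ne_top]
    intro h
    rw [subgroupOf_eq_top] at h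
    exact hne (le_antisymm hTS h)
  have h2 := Group.normalizerCondition_of_isNilpotent _ h1
  obtain ⟨t, ht1, ht2⟩ := SetLike.exists_of_lt h2
  refine ⟨t, t.2, ?_, ht2, hS.to_le (sup_le hTS (zpowers_le.mpr t.2))⟩
  rw [mem_normalizer_iff] at ht1 ⊢
  intro y
  constructor
  · intro hy
    exact (ht1 ⟨y, hTS hy⟩).mp hy
  · intro hy
    have hyS : y ∈ S := by
      have := S.mul_mem (S.mul_mem (S.inv_mem t.2) (hTS hy)) t.2
      convert this using 1
      group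
    exact (ht1 ⟨y, hyS⟩).mpr hy

/-- **THEOREM TRI** -/
theorem Config.tri (C : Config Y 𝒯 x a L T) (F : Fam Y 𝒯) {S : Subgroup G} (hS : IsPGroup 2 ↥S)
    (hSY : S ≤ Y x) (hTS : T ≤ S) :
    T = S ∨ ∃ t ∈ S, t ∈ normalizer (T : Set G) ∧ t ∉ T ∧ cj t (fix T L) ≠ fix T L ∧
      (fix T L ⊓ cj t (fix T L) = ⊥ ∨
      ((∃ e ∈ fix T L ⊓ cj t (fix T L), orderOf e = 2 ∧ ∀ s ∈ T, s * e = e * s) ∧
        ∀ e ∈ fix T L ⊓ cj t (fix T L), orderOf e = 2 → (∀ s ∈ T, s * e = e * s) →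
          TwoComps Y 𝒯 x L T t e)) := by
  by_cases h : T = S
  · exact Or.inl h
  obtain ⟨t, htS, htT, ht, h2⟩ := exists_normalizing hS hTS h
  exact Or.inr ⟨t, htS, htT, ht, C.conj_fix_ne F (hSY htS) htT ht h2,
    C.two_or_three F (hSY htS) htT ht h2⟩

/-! ### (T2) -/

/-- `|Q| ≤ |T : Q|` if `Q ∩ Q ^ t = 1`, `t ∈ N(T)` -/
theorem card_fix_le {Q T : Subgroup G} (hQT : Q ≤ T) {t : G} (htT : t ∈ normalizer (T : Set G))
    (h : Q ⊓ cj t Q = ⊥) : Nat.card ↥Q ≤ Q.relIndex T := by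
  have hQt : cj t Q ≤ T := by
    rw [← mem_normalizer_iff_cj.mp htT]
    exact cj_mono hQT
  have h1 : Q.relIndex (cj t Q) = Nat.card ↥Q := by
    have h2 : (Q ⊓ cj t Q).relIndex (cj t Q) = Q.relIndex (cj t Q) := inf_relIndex_right _ _
    rw [← h2, h, relIndex_bot_left, card_cj]
  rw [← h1]
  exact relIndex_le_of_le_right hQt
    (Nat.pos_of_dvd_of_pos (relIndex_dvd_card Q T) Nat.card_pos).ne'

/-- (T2) `|T| ≤ |T : Q|²` -/
theorem card_le_sq {T L : Subgroup G} {t : G} (htT : t ∈ normalizer (T : Set G))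
    (h : fix T L ⊓ cj t (fix T L) = ⊥) :
    Nat.card ↥(fix T L) ≤ (fix T L).relIndex T ∧ Nat.card ↥T ≤ (fix T L).relIndex T ^ 2 := by
  have h1 : Nat.card ↥(fix T L) ≤ (fix T L).relIndex T := card_fix_le (fix_le T L) htT h
  refine ⟨h1, ?_⟩
  rw [← card_mul_relIndex' (fix_le T L), pow_two]
  exact Nat.mul_le_mul_right _ h1

/-! ### existence -/

theorem exists_config (F : Fam Y 𝒯) {x₀ a₀ : G} {L₀ : Subgroup G} (h0 : 𝒯 x₀ a₀ L₀) :
    ∃ x a L T, Config Y 𝒯 x a L T := by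
  obtain ⟨P, hP⟩ : ∃ P : ℕ → Prop, ∀ n, P n ↔ ∃ (x a : G) (L T : Subgroup G), 𝒯 x a L ∧ IsPGroup 2 ↥T ∧
      T ≤ acting Y x a L ∧ Nat.card ↥T = n := ⟨_, fun n => Iff.rfl⟩
  classical
  have hbd : ∀ n, P n → n ≤ Nat.card G := by
    intro n hn
    obtain ⟨x, a, L, T, -, -, -, rfl⟩ := (hP n).mp hn
    exact Nat.le_of_dvd Nat.card_pos (card_subgroup_dvd_card T)
  have h1 : P 1 := (hP 1).mpr ⟨x₀, a₀, L₀, ⊥, h0, IsPGroup.of_bot, bot_le, card_bot⟩
  have h2 : P (Nat.findGreatest P (Nat.card G)) := Nat.findGreatest_spec (hbd 1 h1) h1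
  obtain ⟨x, a, L, T, hT, h3, h4, h5⟩ := (hP _).mp h2
  have hmax : ∀ (x' a' : G) (L' T' : Subgroup G), 𝒯 x' a' L' → IsPGroup 2 ↥T' →
      T' ≤ acting Y x' a' L' → Nat.card ↥T' ≤ Nat.card ↥T := by
    intro x' a' L' T' h6 h7 h8
    rw [h5]
    have h9 : P (Nat.card ↥T') := (hP _).mpr ⟨x', a', L', T', h6, h7, h8, rfl⟩
    exact Nat.le_findGreatest (hbd _ h9) h9
  have hC := F.triple hT
  have hsyl : IsSyl (acting Y x a L) T :=
    ⟨h3, h4, fun R' h6 h7 h8 => (Subgroup.eq_of_le_of_card_ge h8 (hmax _ _ _ _ hT h6 h7)).symm⟩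
  have hx : zpowers x ≤ acting Y x a L := by
    rw [zpowers_le]
    exact ⟨⟨F.xY hT, mem_c hC.comm.symm⟩, hC.x_mem⟩
  have hx2 : IsPGroup 2 ↥(zpowers x) := by
    have hp : Fact (Nat.Prime 2) := ⟨Nat.prime_two⟩
    rw [IsPGroup.iff_card]
    exact ⟨1, by rw [Nat.card_zpowers, hC.invx, pow_one]⟩
  obtain ⟨g, hg, hle⟩ := hsyl.conj hx2 hx
  refine ⟨x, a, L, cj g T, hT, isPGroup_cj h3, ?_, hle (mem_zpowers x), ?_⟩
  · have h6 := cj_mono (g := g) h4
    rwa [cj_eq_self_of_mem hg] at h6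
  · intro x' a' L' T' h6 h7 h8
    rw [card_cj]
    exact hmax _ _ _ _ h6 h7 h8

end

end Cfsg.Agent.UGT.Tri
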