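import Cfsg.Agent.UGT.Nodes

/-!
# `L₃(4)` in the small world

* `NodeAnL`: no triple of type `Aₙ`, `n ≥ 11`, in the world `PSL₂(q)`, `Aₙ`, `L₃(4)`.
* `NodeL34w`: no triple of type `L₃(4)` in the world `PSL₂(q)`, `A₇`, `A₉`, `L₃(4)`.
* `nodeL34_of`: the two together give `NodeL34'`.
-/

set_option autoImplicit false

open Cfsg Subgroup
open Cfsg.Agent.FixBN.BTheorem Cfsg.Agent.FixBN.BRelative
open Cfsg.Agent.UGT.Triple Cfsg.Agent.UGT.Iface
open Cfsg.Agent.Intrinsic.Basic (Fixes IsComp core)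

namespace Cfsg.Agent.UGT.Nodes

universe u

/-- no triple of type `Aₙ`, `n ≥ 11`, with `L₃(4)` present -/
def NodeAnL : Prop := ∀ (G : Type u) [Group G] [Finite G], MinCex G →
  Types G (fun _ L => IsL2 (Bar L) ∨ IsAltOdd (Bar L) ∨ IsL34 (Bar L)) →
  ∀ (x a : G) (L : Subgroup G), IsTriple x a L → ∀ n : ℕ, Odd n → 11 ≤ n → ¬ IsAlt n (Bar L)

/-- the small world of `L₃(4)` -/
def WorldL34 (G : Type u) [Group G] : Prop :=
  Types G (fun _ L => IsL2 (Bar L) ∨ IsAlt 7 (Bar L) ∨ IsAlt 9 (Bar L) ∨ IsL34 (Bar L))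

/-- **N2 in the small world**: no triple of type `L₃(4)`. -/
def NodeL34w : Prop := ∀ (G : Type u) [Group G] [Finite G], MinCex G → WorldL34 G →
  ∀ (x a : G) (L : Subgroup G), IsTriple x a L → ¬ IsL34 (Bar L)

theorem world_of (hAn : NodeAnL.{u}) {G : Type u} [Group G] [Finite G] (hG : MinCex G)
    (hT : Types G (fun _ L => IsL2 (Bar L) ∨ IsAltOdd (Bar L) ∨ IsL34 (Bar L))) : WorldL34 G := by
  intro x a L t
  rcases hT x a L t with h | ⟨n, h1, h2, h3⟩ | h
  · exact Or.inl h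
  · have h4 : n < 11 := by
      by_contra hn
      exact hAn G hG hT x a L t n h1 (not_lt.mp hn) h3
    have h5 : n = 7 ∨ n = 9 := by
      obtain ⟨k, rfl⟩ := h1
      omega
    rcases h5 with rfl | rfl
    · exact Or.inr (Or.inl h3)
    · exact Or.inr (Or.inr (Or.inl h3))
  · exact Or.inr (Or.inr (Or.inr h))

theorem nodeL34_of (hAn : NodeAnL.{u}) (h : NodeL34w.{u}) : NodeL34'.{u} :=
  fun G _ _ hG hT => h G hG (world_of hAn hG hT)

/-- the world of `NodeL34w` is inside the world of `NodeL34'` -/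
theorem WorldL34.types {G : Type u} [Group G] (h : WorldL34 G) :
    Types G (fun _ L => IsL2 (Bar L) ∨ IsAltOdd (Bar L) ∨ IsL34 (Bar L)) := by
  intro x a L t
  rcases h x a L t with h1 | h1 | h1 | h1
  · exact Or.inl h1
  · exact Or.inr (Or.inl ⟨7, by decide, by decide, h1⟩)
  · exact Or.inr (Or.inl ⟨9, by decide, by decide, h1⟩)
  · exact Or.inr (Or.inr h1)

end Cfsg.Agent.UGT.Nodes
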