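import Cfsg.Agent.UGT.Triple
import Cfsg.Agent.Lib.NormalAbelian

/-!
# Tools for the trichotomy `Tri`

* `IsSyl E R`: `R` is a maximal 2-subgroup of `E`; existence, conjugacy, `R ⊓ N` for `N` normal in `E`.
* `fix T L`: the elements of `T` centralizing `L / O(L)`.
* `two_mul_card_lt`: `2 |D| < |P|`, `P ∈ Syl₂(L)`, `D ≤ P` fixing the 2-component `L`.
* `exists_central`: an involution in `Z(T) ∩ N`, `1 ≠ N ⊴ T`, `T` a 2-group.
-/

set_option autoImplicit false

open Cfsg Subgroup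
open Cfsg.Agent.SignalizersComponents Cfsg.Agent.Lib
open Cfsg.Agent.SignalizersComponents.IntrinsicBasic
open Cfsg.Agent.Intrinsic.Basic Cfsg.Agent.Intrinsic.Cen Cfsg.Agent.Intrinsic.Diag
open Cfsg.Agent.McLLyComp.Act
open Cfsg.Agent.UGT.Triple
open scoped commutatorElement

namespace Cfsg.Agent.UGT.TriBase

variable {G : Type*} [Group G]

/-! ### maximal 2-subgroups -/

/-- `R` is a maximal 2-subgroup of `E` -/
structure IsSyl (E R : Subgroup G) : Prop where
  two : IsPGroup 2 ↥R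
  le : R ≤ E
  max : ∀ R' : Subgroup G, IsPGroup 2 ↥R' → R' ≤ E → R ≤ R' → R' = R

theorem isPGroup_map_subtype {E : Subgroup G} {P : Subgroup ↥E} (hP : IsPGroup 2 ↥P) :
    IsPGroup 2 ↥(P.map E.subtype) := hP.map _

theorem isPGroup_cj {g : G} {T : Subgroup G} (hT : IsPGroup 2 ↥T) : IsPGroup 2 ↥(cj g T) :=
  hT.map _

theorem card_cj (g : G) (T : Subgroup G) : Nat.card ↥(cj g T) = Nat.card ↥T :=
  card_map_of_injective (MulAut.conj g).injective

theorem IsSyl.exists_sylow {E R : Subgroup G} (h : IsSyl E R) :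
    ∃ P : Sylow 2 ↥E, (P : Subgroup ↥E).map E.subtype = R := by
  have h1 : IsPGroup 2 ↥(R.subgroupOf E) :=
    h.two.of_injective (R.subgroupOf E |>.subtype |> fun f => (subgroupOfEquivOfLe h.le).toMonoidHom)
      (subgroupOfEquivOfLe h.le).injective
  obtain ⟨P, hP⟩ := h1.exists_le_sylow
  refine ⟨P, h.max _ (isPGroup_map_subtype P.isPGroup') (map_subtype_le _) ?_⟩
  intro r hr
  exact ⟨⟨r, h.le hr⟩, hP (show (⟨r, h.le hr⟩ : ↥E) ∈ R.subgroupOf E from hr), rfl⟩

theorem isSyl_of_sylow {E : Subgroup G} (P : Sylow 2 ↥E) :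
    IsSyl E ((P : Subgroup ↥E).map E.subtype) := by
  refine ⟨isPGroup_map_subtype P.isPGroup', map_subtype_le _, fun R' h1 h2 h3 => ?_⟩
  have h4 : IsPGroup 2 ↥(R'.subgroupOf E) :=
    h1.of_injective (subgroupOfEquivOfLe h2).toMonoidHom (subgroupOfEquivOfLe h2).injective
  have h5 : (P : Subgroup ↥E) ≤ R'.subgroupOf E := by
    intro y hy
    exact h3 ⟨y, hy, rfl⟩
  have h6 := P.is_maximal' h4 h5
  rw [← h6, subgroupOf_map_subtype, inf_of_le_left h2]

variable [Finite G]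

omit [Finite G] in
theorem exists_isSyl {E R₀ : Subgroup G} (h0 : IsPGroup 2 ↥R₀) (hle : R₀ ≤ E) :
    ∃ R, IsSyl E R ∧ R₀ ≤ R := by
  have h1 : IsPGroup 2 ↥(R₀.subgroupOf E) :=
    h0.of_injective (subgroupOfEquivOfLe hle).toMonoidHom (subgroupOfEquivOfLe hle).injective
  obtain ⟨P, hP⟩ := h1.exists_le_sylow
  refine ⟨_, isSyl_of_sylow P, fun r hr => ⟨⟨r, hle hr⟩, hP ?_, rfl⟩⟩
  exact hr

theorem IsSyl.conj {E R : Subgroup G} (h : IsSyl E R) {R' : Subgroup G} (h2 : IsPGroup 2 ↥R')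
    (hle : R' ≤ E) : ∃ g ∈ E, R' ≤ cj g R := by
  obtain ⟨R₁, h3, h4⟩ := exists_isSyl h2 hle
  obtain ⟨P, rfl⟩ := h.exists_sylow
  obtain ⟨P₁, rfl⟩ := h3.exists_sylow
  have hp : Fact (Nat.Prime 2) := ⟨Nat.prime_two⟩
  obtain ⟨g, hg⟩ := MulAction.exists_smul_eq (↥E) P P₁
  refine ⟨g, g.2, h4.trans ?_⟩
  rintro _ ⟨y, hy, rfl⟩
  rw [← hg] at hy
  rw [mem_cj]
  have h5 : g⁻¹ * y * g ∈ (P : Subgroup ↥E) := by
    have h6 : y ∈ ((g • P : Sylow 2 ↥E) : Subgroup ↥E) := hy
    rw [Sylow.coe_subgroup_smul, mem_pointwise_smul_iff_inv_smul_mem] at h6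
    change (MulAut.conj g)⁻¹ y ∈ _ at h6
    rwa [← map_inv, MulAut.conj_apply, inv_inv] at h6
  exact ⟨_, h5, rfl⟩

theorem IsSyl.inf {E R L : Subgroup G} (h : IsSyl E R) (hL : L ≤ E)
    (hn : E ≤ normalizer (L : Set G)) : IsSyl L (R ⊓ L) := by
  have h2 : IsPGroup 2 ↥(R ⊓ L) := h.two.to_le inf_le_left
  refine ⟨h2, inf_le_right, fun R' h3 h4 h5 => ?_⟩
  obtain ⟨g, hg, h6⟩ := h.conj h3 (h4.trans hL)
  have h7 : R' ≤ cj g (R ⊓ L) := by
    rw [cj_inf, mem_normalizer_iff_cj.mp (hn hg)]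
    exact le_inf h6 h4
  have h8 : Nat.card ↥R' ≤ Nat.card ↥(R ⊓ L) := by
    rw [← card_cj g (R ⊓ L)]
    exact Nat.le_of_dvd Nat.card_pos (card_dvd_of_le h7)
  exact (Subgroup.eq_of_le_of_card_ge h5 h8).symm

/-- the order of a Sylow 2-subgroup -/
theorem IsSyl.dvd_card {E R : Subgroup G} (h : IsSyl E R) {k : ℕ} (hk : 2 ^ k ∣ Nat.card ↥E) :
    2 ^ k ∣ Nat.card ↥R := by
  have hp : Fact (Nat.Prime 2) := ⟨Nat.prime_two⟩
  obtain ⟨P, rfl⟩ := h.exists_sylow
  rw [card_map_of_injective E.subtype_injective, P.card_eq_multiplicity]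
  exact pow_dvd_pow _ ((Nat.Prime.pow_dvd_iff_le_factorization Nat.prime_two Nat.card_pos.ne').mp hk)

/-! ### perfect groups of even order -/

theorem four_dvd_of_perfect {B : Type*} [Group B] [Finite B] (hB : Group.IsPerfect B)
    (h2 : 2 ∣ Nat.card B) : 4 ∣ Nat.card B := by
  have hp : Fact (Nat.Prime 2) := ⟨Nat.prime_two⟩
  by_contra h4
  obtain ⟨P⟩ : Nonempty (Sylow 2 B) := inferInstance
  obtain ⟨k, hk⟩ := P.isPGroup'.exists_card_eq
  have hk1 : k < 2 := by
    by_contra hlt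
    push Not at hlt
    apply h4
    have h5 : 2 ^ 2 ∣ Nat.card (P : Subgroup B) := hk ▸ pow_dvd_pow 2 hlt
    exact (h5.trans (card_subgroup_dvd_card _))
  have hPb : (P : Subgroup B) ≠ ⊥ := P.ne_bot_of_dvd_card h2
  have hcyc : IsCyclic P := by
    interval_cases k
    · exact absurd ((card_eq_one).mp (by simpa using hk)) hPb
    · exact isCyclic_of_prime_card (p := 2) (by simpa using hk)
  have hmin : (Nat.card B).minFac = 2 := (Nat.minFac_eq_two_iff _).2 h2
  have h5 := IsCyclic.isComplement' hmin hcyc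
  have h6 : (MonoidHom.transferSylow P (hcyc.normalizer_le_centralizer hmin)).ker = ⊤ := by
    rw [eq_top_iff]
    intro b _
    rw [MonoidHom.mem_ker]
    have h7 : b ∈ commutator B := by
      rw [hB.commutator_eq_top]; exact mem_top b
    have h8 : commutator B ≤ (MonoidHom.transferSylow P (hcyc.normalizer_le_centralizer hmin)).ker := by
      rw [commutator_def, commutator_le]
      intro x _ y _
      rw [MonoidHom.mem_ker, map_commutatorElement]
      have hc : IsMulCommutative P := by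
        have := hcyc.isMulCommutative
        exact this
      exact commutatorElement_eq_one_iff_mul_comm.mpr (hc.is_comm.comm _ _)
    exact h8 h7
  rw [h6] at h5
  exact hPb (isComplement'_top_left.mp h5)

/-! ### `fix T L` -/

omit [Finite G] in
theorem fixes_self' {t : G} {K : Subgroup G} (hK : K ≤ centralizer ({t} : Set G)) : Fixes t K := by
  have h1 : ∀ y ∈ K, t * y * t⁻¹ = y := by
    intro y hy
    rw [← comm_c (hK hy), mul_inv_cancel_right]
  refine ⟨?_, fun y hy => ?_⟩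
  · rw [mem_normalizer_iff]
    intro y
    constructor
    · intro hy; rw [h1 y hy]; exact hy
    · intro hy
      have h2 := h1 _ hy
      have h3 : t * y * t⁻¹ = y := by
        calc t * y * t⁻¹ = t⁻¹ * (t * (t * y * t⁻¹) * t⁻¹) * t := by group
          _ = t⁻¹ * (t * y * t⁻¹) * t := by rw [h2]
          _ = y := by group
      rw [← h3]; exact hy
  · have : ⁅t, y⁆ = 1 := by
      rw [commutatorElement_def, h1 y hy, mul_inv_cancel]
    rw [this]
    exact one_mem _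

omit [Finite G] in
/-- the elements of `T` acting trivially on `L / O(L)` -/
def fix (T L : Subgroup G) : Subgroup G where
  carrier := {q | q ∈ T ∧ Fixes q L}
  mul_mem' := fun h1 h2 => ⟨mul_mem h1.1 h2.1, fixes_mul h1.2 h2.2⟩
  one_mem' := ⟨one_mem _, fixes_one L⟩
  inv_mem' := fun h => ⟨inv_mem h.1, fixes_inv h.2⟩

omit [Finite G] in
theorem mem_fix {T L : Subgroup G} {q : G} : q ∈ fix T L ↔ q ∈ T ∧ Fixes q L := Iff.rfl

omit [Finite G] in
theorem fix_le (T L : Subgroup G) : fix T L ≤ T := fun _ h => h.1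

omit [Finite G] in
theorem cj_fix (g : G) (T L : Subgroup G) : cj g (fix T L) = fix (cj g T) (cj g L) := by
  ext q
  rw [mem_cj, mem_fix, mem_fix, mem_cj]
  refine and_congr_right fun _ => ⟨fun h => ?_, fun h => ?_⟩
  · have := h.cj g
    convert this using 1
    group
  · have := h.cj g⁻¹
    rw [cj_inv_cj] at this
    convert this using 1
    group

omit [Finite G] in
theorem conj_mem_fix {T L : Subgroup G} {s q : G} (hsT : s ∈ normalizer (T : Set G))
    (hsL : s ∈ normalizer (L : Set G)) (hq : q ∈ fix T L) : s * q * s⁻¹ ∈ fix T L :=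
  ⟨conj_mem hsT hq.1, fixes_conj hq.2 hsL⟩

/-- `2 |D| < |P|` for `P ∈ Syl₂(L)` and `D ≤ P` acting trivially on `L / O(L)`. -/
theorem two_mul_card_lt {H L P D : Subgroup G} (hL : IsComp H L) (hP : IsSyl L P) (hDP : D ≤ P)
    (hD : ∀ d ∈ D, Fixes d L) : 2 * Nat.card ↥D < Nat.card ↥P := by
  have hp : Fact (Nat.Prime 2) := ⟨Nat.prime_two⟩
  obtain ⟨K, hK⟩ : ∃ K, K = (fix L L).subgroupOf L := ⟨_, rfl⟩
  have hKn : K.Normal := by
    constructor
    intro k hk g
    rw [hK, mem_subgroupOf] at hk ⊢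
    exact conj_mem_fix (le_normalizer g.2) (le_normalizer g.2) hk
  have hLp : Group.IsPerfect ↥L := by
    rw [isPerfect_iff]
    exact hL.perfect
  have hBp : Group.IsPerfect (↥L ⧸ K) := inferInstance
  -- the quotient `L / K` has even order
  have hmk : ∀ y ∈ fix L L, ∀ z ∈ L, ⁅y, z⁆ ∈ core L := fun y hy z hz => hy.2.2 z hz
  have hquot : 2 ∣ Nat.card (↥L ⧸ K) := by
    have hle : oddCore ↥L ≤ K := by
      intro y hy
      rw [hK, mem_subgroupOf, mem_fix]
      exact ⟨y.2, hL.fixes_of_core (hL.core_le_core ((mem_core_iff y.2).mpr hy))⟩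
    obtain ⟨φ, hφ⟩ : ∃ φ : (↥L ⧸ oddCore ↥L) →* (↥L ⧸ K),
        ∀ y : ↥L, φ (QuotientGroup.mk y) = QuotientGroup.mk y :=
      ⟨QuotientGroup.map _ _ (MonoidHom.id _) hle, fun y => rfl⟩
    refine even_of_quot (φ := φ) (inferInstance : Group.IsPerfect (↥L ⧸ oddCore ↥L)) ?_ ?_ ?_
    · -- `L / O(L)` has even order
      have h1 : Nat.card ↥L = Nat.card (↥L ⧸ oddCore ↥L) * Nat.card (oddCore ↥L) :=
        card_eq_card_quotient_mul_card_subgroup _
      have h2 : (Nat.card (oddCore ↥L)).Coprime 2 := Cores.pPrimeCore_coprime 2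
      have h3 := hL.even
      rw [h1] at h3
      exact (Nat.Coprime.dvd_mul_right h2.symm).mp h3
    · intro b
      obtain ⟨y, rfl⟩ := QuotientGroup.mk_surjective b
      exact ⟨QuotientGroup.mk y, hφ y⟩
    · intro q hq
      obtain ⟨y, rfl⟩ := QuotientGroup.mk_surjective q
      rw [MonoidHom.mem_ker, hφ, QuotientGroup.eq_one_iff, hK, mem_subgroupOf] at hq
      rw [mem_center_iff]
      intro r
      obtain ⟨z, rfl⟩ := QuotientGroup.mk_surjective r
      have h4 : ⁅y, z⁆ ∈ oddCore ↥L := (mem_core_iff (⁅y, z⁆ : ↥L).2).mp (hmk y hq z z.2)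
      have h5 : QuotientGroup.mk' (oddCore ↥L) ⁅y, z⁆ = 1 := (QuotientGroup.eq_one_iff _).mpr h4
      rw [map_commutatorElement] at h5
      exact (commutatorElement_eq_one_iff_mul_comm.mp h5).symm
  have h4 := four_dvd_of_perfect hBp hquot
  have hD2 : IsPGroup 2 ↥D := hP.two.to_le hDP
  obtain ⟨k, hk⟩ := hD2.exists_card_eq
  have hDK : Nat.card ↥D ∣ Nat.card ↥K := by
    have h5 : D ≤ K.map L.subtype := by
      intro d hd
      have hdL : d ∈ L := hP.le (hDP hd)
      refine ⟨⟨d, hdL⟩, ?_, rfl⟩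
      change (⟨d, hdL⟩ : ↥L) ∈ K
      rw [hK, mem_subgroupOf, mem_fix]
      exact ⟨hdL, hD d hd⟩
    have h6 := card_dvd_of_le h5
    rwa [card_map_of_injective L.subtype_injective] at h6
  have h7 : 2 ^ (k + 2) ∣ Nat.card ↥L := by
    rw [card_eq_card_quotient_mul_card_subgroup K, pow_add, mul_comm (2 ^ k)]
    exact mul_dvd_mul h4 (hk ▸ hDK)
  have h8 := Nat.le_of_dvd Nat.card_pos (hP.dvd_card h7)
  have h9 : 0 < 2 ^ k := by positivity
  rw [hk]
  rw [pow_add] at h8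
  omega

/-! ### 2-groups -/

/-- An involution in `Z(T) ∩ N`, `N` a nontrivial normal subgroup of the 2-group `T`. -/
theorem exists_central {T N : Subgroup G} (hT : IsPGroup 2 ↥T) (hNT : N ≤ T)
    (hn : T ≤ normalizer (N : Set G)) (hN : N ≠ ⊥) :
    ∃ e ∈ N, orderOf e = 2 ∧ ∀ s ∈ T, s * e = e * s := by
  have hp : Fact (Nat.Prime 2) := ⟨Nat.prime_two⟩
  have h1 : (N.subgroupOf T).Normal := normal_subgroupOf_of_le_normalizer hn
  have h2 : (N.subgroupOf T) ≠ ⊥ := by
    intro h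
    apply hN
    rw [subgroupOf_eq_bot, disjoint_iff, inf_of_le_left hNT] at h
    exact h
  have hnil : Group.IsNilpotent ↥T := hT.isNilpotent
  have h4 := Lib.NormalAbelian.normal_inf_center_ne_bot (N.subgroupOf T) h2
  have h5 : IsPGroup 2 ↥((N.subgroupOf T) ⊓ center ↥T) := hT.to_subgroup _
  have h6 : 2 ∣ Nat.card ↥((N.subgroupOf T) ⊓ center ↥T) := by
    rcases h5.card_eq_or_dvd with h | h
    · exact absurd (card_eq_one.mp h) h4
    · exact h
  obtain ⟨e, he3⟩ := exists_prime_orderOf_dvd_card' 2 h6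
  have he := e.2
  rw [mem_inf, mem_subgroupOf] at he
  refine ⟨((e : ↥T) : G), he.1, ?_, fun s hs => ?_⟩
  · rw [Subgroup.orderOf_coe, Subgroup.orderOf_coe]
    exact he3
  · exact congrArg Subtype.val (mem_center_iff.mp he.2 ⟨s, hs⟩)

end Cfsg.Agent.UGT.TriBase
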