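import Cfsg.Agent.UGT.Iface
import Cfsg.Agent.SignalizersComponents.ExtendedBalance

/-!
# Consequences of minimality

`G` a minimal counterexample, `X = F*(G)`, `O_x = O(C(x))`.

* proper subgroups containing `X` are core-free;
* `G = X⟨x⟩O_x` if `O_x ≠ 1`;
* `trichotomy`: `G = X`, or `G = X⟨x⟩`, `x ∉ X` and `X` is core-free, or
  `X⟨x⟩ < G`, `O_x ∩ X = 1`, `[O_x, C_{X⟨x⟩}(x)] = 1`.
-/

set_option autoImplicit false

open Cfsg Subgroup
open Cfsg.Agent.SignalizersComponents Cfsg.Agent.Lib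
open Cfsg.Agent.SignalizersComponents.IntrinsicBasic
open Cfsg.Agent.SignalizersComponents.PLayerAut
open Cfsg.Agent.Intrinsic.Basic
open Cfsg.Agent.FixBN.BTheorem Cfsg.Agent.FixBN.BRelative
open Cfsg.Agent.UGT.Triple Cfsg.Agent.UGT.Iface
open scoped commutatorElement

namespace Cfsg.Agent.UGT.Trich

universe u

local notation "Fs" => generalizedFittingSubgroup

variable {G : Type u} [Group G] [Finite G]

omit [Finite G] in
theorem normal_fs : (Fs G).Normal := GenFitting.genFitting_normal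

theorem centralizer_fs (h : MinCex G) : centralizer (Fs G : Set G) = ⊥ := by
  have hs := h.simple
  rw [eq_bot_iff]
  intro x hx
  have h2 : x ∈ Fs G := GenFitting.centralizer_genFitting_le hx
  have h3 : (⟨x, h2⟩ : ↥(Fs G)) ∈ center ↥(Fs G) := by
    rw [mem_center_iff]
    intro y
    exact Subtype.ext (mem_centralizer_iff.mp hx y y.2)
  rw [center_eq_bot h.nonab, mem_bot] at h3
  exact congrArg Subtype.val h3

/-- `F*(H) = F*(G)` for `F*(G) ≤ H` -/
theorem fs_of_le (h : MinCex G) {H : Subgroup G} (hH : Fs G ≤ H) :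
    Fs ↥H = (Fs G).subgroupOf H := by
  have hs := h.simple
  have e : ↥((Fs G).subgroupOf H) ≃* ↥(Fs G) := subgroupOfEquivOfLe hH
  have hs' : IsSimpleGroup ↥((Fs G).subgroupOf H) := simple_congr e.symm hs
  refine genFitting_eq (normal_fs.comap _) hs' (not_comm_congr e.symm h.nonab) ?_
  rw [eq_bot_iff]
  intro x hx
  have h1 : (x : G) ∈ centralizer (Fs G : Set G) := by
    rw [mem_centralizer_iff]
    intro y hy
    exact congrArg Subtype.val (mem_centralizer_iff.mp hx ⟨y, hH hy⟩ hy)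
  rw [centralizer_fs h, mem_bot] at h1
  exact Subtype.ext h1

/-- `C_H(t)` as a subgroup of `G` -/
theorem map_centralizer {H : Subgroup G} {t : G} (ht : t ∈ H) :
    (centralizer ({⟨t, ht⟩} : Set ↥H)).map H.subtype = H ⊓ centralizer ({t} : Set G) := by
  ext y
  constructor
  · rintro ⟨z, hz, rfl⟩
    refine ⟨z.2, ?_⟩
    change (z : G) ∈ centralizer ({t} : Set G)
    rw [mem_centralizer_singleton_iff]
    exact congrArg Subtype.val (mem_centralizer_singleton_iff.mp hz)
  · rintro ⟨h1, h2⟩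
    refine ⟨⟨y, h1⟩, ?_, rfl⟩
    change (⟨y, h1⟩ : ↥H) ∈ centralizer ({⟨t, ht⟩} : Set ↥H)
    rw [mem_centralizer_singleton_iff]
    exact Subtype.ext (mem_centralizer_singleton_iff.mp h2)

theorem map_centralizerPPrimeCore {H : Subgroup G} {t : G} (ht : t ∈ H) :
    (centralizerPPrimeCore 2 (⟨t, ht⟩ : ↥H)).map H.subtype =
      core (H ⊓ centralizer ({t} : Set G)) := by
  have h1 := ExtendedBalance.relCore_map_of_injective 2 H.subtype H.subtype_injective
    (centralizer ({⟨t, ht⟩} : Set ↥H))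
  rw [map_centralizer ht] at h1
  exact h1.symm

/-- Proper subgroups containing `F*(G)` are core-free. -/
theorem core_eq_bot_of_ne_top (h : MinCex G) {H : Subgroup G} (hH : Fs G ≤ H) (hne : H ≠ ⊤)
    {t : G} (ht : t ∈ H) (ht2 : orderOf t = 2) : core (H ⊓ centralizer ({t} : Set G)) = ⊥ := by
  have e : ↥(Fs ↥H) ≃* ↥(Fs G) :=
    (MulEquiv.subgroupCongr (fs_of_le h hH)).trans (subgroupOfEquivOfLe hH)
  have hU : UGT ↥H := by
    refine h.minG ↥H (Nat.card_congr e.toEquiv) ?_
    exact lt_of_le_of_ne (Subgroup.card_le_card_group H) fun hc => hne (Subgroup.eq_top_of_card_eq H hc)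
  by_contra hcore
  apply h.notU
  refine InU.congr e (hU (simple_congr e.symm h.simple) (not_comm_congr e.symm h.nonab)
    ⟨t, ht⟩ (by rwa [Subgroup.orderOf_mk]) fun hb => hcore ?_)
  rw [← map_centralizerPPrimeCore ht, hb, Subgroup.map_bot]

/-- `G = X⟨x⟩O_x` -/
theorem sup_eq_top (h : MinCex G) {x : G} (hx : orderOf x = 2)
    (hO : core (centralizer ({x} : Set G)) ≠ ⊥) :
    Fs G ⊔ zpowers x ⊔ core (centralizer ({x} : Set G)) = ⊤ := by
  by_contra hne
  obtain ⟨H, hH⟩ : ∃ H, H = Fs G ⊔ zpowers x ⊔ core (centralizer ({x} : Set G)) := ⟨_, rfl⟩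
  rw [← hH] at hne
  have hFH : Fs G ≤ H := hH ▸ le_sup_left.trans le_sup_left
  have hxH : x ∈ H := by
    rw [hH]; exact mem_sup_left (mem_sup_right (mem_zpowers x))
  have hOH : core (centralizer ({x} : Set G)) ≤ H := hH ▸ le_sup_right
  have h1 := core_eq_bot_of_ne_top h hFH hne hxH hx
  apply hO
  rw [eq_bot_iff, ← h1]
  refine le_core (le_inf hOH (core_le _)) ?_ (odd_card_core _)
  exact inf_le_right.trans (le_normalizer_core _)

/-- The trichotomy. -/
theorem trichotomy (h : MinCex G) {x : G} (hx : orderOf x = 2)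
    (hO : core (centralizer ({x} : Set G)) ≠ ⊥) :
    Fs G = ⊤ ∨
    (x ∉ Fs G ∧ Fs G ⊔ zpowers x = ⊤ ∧ ∀ t ∈ Fs G, orderOf t = 2 →
      core (Fs G ⊓ centralizer ({t} : Set G)) = ⊥) ∨
    (Fs G ⊔ zpowers x ≠ ⊤ ∧
      core (centralizer ({x} : Set G)) ⊓ (Fs G ⊔ zpowers x) = ⊥ ∧
      ∀ d ∈ core (centralizer ({x} : Set G)), ∀ y ∈ (Fs G ⊔ zpowers x) ⊓ centralizer ({x} : Set G),
        ⁅d, y⁆ = 1) := by
  obtain ⟨H, hH⟩ : ∃ H, H = Fs G ⊔ zpowers x := ⟨_, rfl⟩
  rw [← hH]
  have hFH : Fs G ≤ H := hH ▸ le_sup_left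
  have hxH : x ∈ H := by rw [hH]; exact mem_sup_right (mem_zpowers x)
  by_cases htop : H = ⊤
  · by_cases hxF : x ∈ Fs G
    · left
      rw [← htop, hH]
      exact (sup_eq_left.mpr (by rwa [zpowers_le])).symm
    · right; left
      refine ⟨hxF, htop, fun t ht ht2 => ?_⟩
      refine core_eq_bot_of_ne_top h le_rfl ?_ ht ht2
      intro hF
      rw [hF] at hxF
      exact hxF (mem_top x)
  · right; right
    have h1 := core_eq_bot_of_ne_top h hFH htop hxH hx
    have h2 : core (centralizer ({x} : Set G)) ⊓ H = ⊥ := by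
      rw [eq_bot_iff, ← h1]
      intro d hd
      have h3 := PumpGen.inf_le_core' (H := H) hd.1 hd.2
      exact h3
    refine ⟨htop, h2, fun d hd y hy => ?_⟩
    have hdx : d * x = x * d := comm_c (core_le _ hd)
    -- `d` normalizes `H`
    have hdH : d ∈ normalizer (H : Set G) := by
      rw [mem_normalizer_iff_cj, hH]
      have e1 : cj d (Fs G ⊔ zpowers x) = cj d (Fs G) ⊔ cj d (zpowers x) := by
        rw [cj_def, cj_def, cj_def, Subgroup.map_sup]
      have e2 : cj d (Fs G) = Fs G := by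
        have : d ∈ normalizer (Fs G : Set G) := by
          rw [Subgroup.normalizer_eq_top_iff.mpr normal_fs]; exact mem_top d
        exact mem_normalizer_iff_cj.mp this
      have e3 : cj d (zpowers x) = zpowers x := by
        rw [cj_def, MonoidHom.map_zpowers]
        congr 1
        change d * x * d⁻¹ = x
        rw [hdx]; group
      rw [e1, e2, e3]
    have h5 : ⁅d, y⁆ ∈ core (centralizer ({x} : Set G)) ⊓ H := by
      constructor
      · have e : ⁅d, y⁆ = d * (y * d⁻¹ * y⁻¹) := by rw [commutatorElement_def]; group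
        rw [e]
        have hd' : d⁻¹ ∈ core (centralizer ({x} : Set G)) := Subgroup.inv_mem _ hd
        have h6 : y * d⁻¹ * y⁻¹ ∈ core (centralizer ({x} : Set G)) :=
          conj_core (H := centralizer ({x} : Set G)) hy.2 hd'
        exact Subgroup.mul_mem _ hd h6
      · rw [commutatorElement_def]
        exact Subgroup.mul_mem _ ((mem_normalizer_iff.mp hdH y).mp hy.1) (Subgroup.inv_mem _ hy.1)
    rw [h2, mem_bot] at h5
    exact h5

end Cfsg.Agent.UGT.Trich
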