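import Cfsg.Agent.UGT.NoWing
import Cfsg.Agent.UGT.InnB
import Cfsg.Agent.S1695

/-!
# Reduction R, alternating types

`exists_inner_seven`: a triple of type `Aₙ`, `n ≥ 8` (so `n ≥ 9`), gives an inner triple of type `A₇`, if all
triples have a type in `OKType` and no triple of type `He` is inner.
-/

set_option autoImplicit false

open Cfsg Subgroup Equiv Equiv.Perm
open Cfsg.Agent.SignalizersComponents Cfsg.Agent.Lib
open Cfsg.Agent.SignalizersComponents.IntrinsicBasic
open Cfsg.Agent.SignalizersComponents.IntrinsicIntr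
open Cfsg.Agent.SignalizersComponents.PLayerAut
open Cfsg.Agent.Intrinsic.Basic Cfsg.Agent.Intrinsic.Cen Cfsg.Agent.Intrinsic.Diag
open Cfsg.Agent.McLLyComp.Act
open Cfsg.Agent.UGT.Triple Cfsg.Agent.UGT.LemG Cfsg.Agent.UGT.PumpGen
open Cfsg.Agent.UAlt Cfsg.Agent.UGT.Iface
open Cfsg.Agent.UGT.RedAlt Cfsg.Agent.UGT.NoWing
open scoped commutatorElement

namespace Cfsg.Agent.UGT.RedR

variable {G : Type*} [Group G] [Finite G]

variable {α : Type*} [Fintype α] [DecidableEq α]

/-- an element of `K` central modulo the core lies in the core -/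
theorem mem_core_of_central {K : Subgroup G} {S : Finset α} (Mo : Mod K S) {m : G} (hm : m ∈ K)
    (h : ∀ k ∈ K, (k * m)⁻¹ * (m * k) ∈ core K) : Mo.φ m = 1 := by
  have hmN := le_normalizer (H := K) hm
  have key : ∀ σ ∈ alt S, Mo.φ m * σ = σ * Mo.φ m := by
    intro σ hσ
    obtain ⟨k, hk, rfl⟩ := Mo.lift σ hσ
    have hkN := le_normalizer (H := K) hk
    have h5 := h k hk
    rw [← Mo.eq_iff (mul_mem hk hm) (mul_mem hm hk), Mo.mul _ _ hkN hmN, Mo.mul _ _ hmN hkN] at h5
    exact h5.symm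
  ext i
  by_cases hi : i ∈ S
  · exact apply_of_comm_alt (S := S) (by have := Mo.five; omega) key hi
  · exact Mo.mem_sym _ hmN i hi

/-- `center (K / O(K)) = 1` -/
theorem center_bar {K : Subgroup G} {S : Finset α} (Mo : Mod K S) : center (Bar K) = ⊥ := by
  rw [eq_bot_iff]
  intro y hy
  obtain ⟨⟨m, hm⟩, rfl⟩ := QuotientGroup.mk_surjective y
  rw [mem_center_iff] at hy
  have h1 : Mo.φ m = 1 := by
    refine mem_core_of_central Mo hm fun k hk => ?_
    have h2 := hy (QuotientGroup.mk ⟨k, hk⟩)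
    exact (Cfsg.Agent.McLLyComp.Act.mk_eq_iff (mul_mem hk hm) (mul_mem hm hk)).mp h2
  rw [mem_bot]
  exact (Cfsg.Agent.McLLyComp.Act.mk_eq_one_iff hm).mpr ((Mo.core_iff m hm).mp h1)

theorem center_of_L2 {K : Type*} [Group K] (h : IsL2 K) : center K = ⊥ := by
  obtain ⟨F, i1, i2, hodd, h5, ⟨e⟩⟩ := h
  exact (GH.L2Aut.Rep.ofEquiv (GH.L2Aut.two_ne_zero_of_odd hodd) e).center_eq_bot

theorem center_of_simple {K : Type*} [Group K] (hs : IsSimpleGroup K) (hna : ∃ a b : K, a * b ≠ b * a) :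
    center K = ⊥ := by
  have h1 : (center K).Normal := inferInstance
  rcases h1.eq_bot_or_eq_top with h | h
  · exact h
  · exfalso
    obtain ⟨a, b, hab⟩ := hna
    have h2 : b ∈ center K := h ▸ mem_top b
    exact hab ((mem_center_iff.mp h2) a)

theorem center_of_He {K : Type*} [Group K] (h : Spor.IsoHe K) : center K = ⊥ := by
  obtain ⟨e⟩ := h
  have hHe := Cfsg.Agent.S1695.result
  have hfin : Finite Cfsg.Spor.He := Nat.finite_of_card_ne_zero (by rw [hHe.2]; norm_num)
  have hfinK : Finite K := Finite.of_equiv _ e.symm.toEquiv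
  have hcard : Nat.card K = Nat.card Cfsg.Spor.He := Nat.card_congr e.toEquiv
  have hs : IsSimpleGroup K := by
    have h1 : IsSimpleGroup Cfsg.Spor.He := hHe.1
    exact e.isSimpleGroup
  refine center_of_simple hs ?_
  by_contra hcon
  push Not at hcon
  let _ : CommGroup K := { (inferInstance : Group K) with mul_comm := hcon }
  have h2 : (Nat.card K).Prime := IsSimpleGroup.prime_card
  rw [hcard, hHe.2] at h2
  exact absurd h2 (by norm_num)

/-- **Reduction R for a part**: `P : Part x a Mo r c d` with `|Fix c| ≥ 7` gives an inner triple of type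
`Alt(Fix c)`. -/
theorem exists_inner_of_part {x a : G} {L : Subgroup G} (T : IsTriple x a L) {S : Finset α} {Mo : Mod L S}
    {r c d : G} (P : Part x a Mo r c d) (h7 : 7 ≤ (fixIn S (Mo.φ c)).card)
    (hOK : ∀ (N : Subgroup G), IsTriple x c N → OKType (Bar N))
    (hHe : ∀ (N : Subgroup G), IsTriple x c N → Spor.IsoHe (Bar N) → ¬ IsInner x N) :
    ∃ N : Subgroup G, IsTriple x c N ∧ IsInner x N ∧ IsAlt (fixIn S (Mo.φ c)).card (Bar N) := by
  obtain ⟨N, TN, hdN, hor, y, hy, hf⟩ := P.pump T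
  have hin : IsInner x N := isInner_of_fixes hy hf
  refine ⟨N, TN, hin, ?_⟩
  have hcc := sq_of_order P.invc
  have ha2 := sq_of_order T.inva
  obtain ⟨e1⟩ := quot_cmp Mo P.cN hcc P.five
  obtain ⟨MoM⟩ := Mod.nonempty_of_equiv (K := Mo.cmp c) (S := fixIn S (Mo.φ c)) h7
    (Ω := ↥(fixIn S (Mo.φ c))) (by rw [Fintype.card_coe]) (e1.trans (altEquiv _).symm)
  rcases hor with ⟨haN, hMN⟩ | ⟨hne, hMN⟩
  · rcases hOK N TN with h | ⟨m, hm, h7m, ⟨e'⟩⟩ | h | h
    · exact absurd (noWing_L2 h) (not_bar hMN MoM h7)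
    · obtain ⟨Mo'⟩ := Mod.nonempty_of_equiv (K := N) (S := (Finset.univ : Finset (Fin m)))
        (by rw [Finset.card_univ, Fintype.card_fin]; omega) (Ω := Fin m)
        (by rw [Finset.card_univ]) e'
      exact (P.isAlt T TN hdN haN hMN Mo').2
    · exact absurd (noWing_L34 h) (not_bar_center hMN MoM h7)
    · exact absurd hin (hHe N TN h)
  · obtain ⟨f, hfs, hfk⟩ : ∃ f : Bar N →* Bar (Mo.cmp c), Function.Surjective f ∧
        f.ker ≤ center (Bar N) := by
      obtain ⟨h5, h6, -, -, f, hfs, hfk, -⟩ := exists_diag TN.comp (mem_c P.ca.symm) ha2 hne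
      rw [hMN]
      exact ⟨f, hfs, hfk⟩
    have key : center (Bar N) = ⊥ → IsAlt (fixIn S (Mo.φ c)).card (Bar N) := by
      intro hZ
      rw [hZ, le_bot_iff] at hfk
      have hfi : Function.Injective f := (MonoidHom.ker_eq_bot_iff f).mp hfk
      exact isAlt_of_equiv ((MulEquiv.ofBijective f ⟨hfi, hfs⟩).trans e1)
    rcases hOK N TN with h | ⟨m, hm, h7m, ⟨e'⟩⟩ | h | h
    · exact key (center_of_L2 h)
    · obtain ⟨Mo'⟩ := Mod.nonempty_of_equiv (K := N) (S := (Finset.univ : Finset (Fin m)))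
        (by rw [Finset.card_univ, Fintype.card_fin]; omega) (Ω := Fin m)
        (by rw [Finset.card_univ]) e'
      exact key (center_bar Mo')
    · exfalso
      -- `M → M / O(M) ≅ (N / O(N)) / ker f → (N / O(N)) / Z`
      have hle : f.ker ≤ (center (Bar N)).comap (MonoidHom.id (Bar N)) := by
        rw [Subgroup.comap_id]; exact hfk
      let g : Bar (Mo.cmp c) →* Bar N ⧸ center (Bar N) :=
        (QuotientGroup.map f.ker (center (Bar N)) (MonoidHom.id _) hle).comp
          (QuotientGroup.quotientKerEquivOfSurjective f hfs).symm.toMonoidHom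
      have hg : ∀ y : Bar N, g (f y) = QuotientGroup.mk y := by
        intro y
        have h8 : (QuotientGroup.quotientKerEquivOfSurjective f hfs).symm (f y) = QuotientGroup.mk y := by
          rw [MulEquiv.symm_apply_eq]
          rfl
        change QuotientGroup.map f.ker (center (Bar N)) (MonoidHom.id _) hle
          ((QuotientGroup.quotientKerEquivOfSurjective f hfs).symm (f y)) = _
        rw [h8]
        rfl
      refine no_hom MoM h7 (noWing_L34 h) (g.comp (QuotientGroup.mk' (oddCore ↥(Mo.cmp c)))) ?_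
      rintro ⟨m, hm⟩ hgm
      rw [MonoidHom.comp_apply] at hgm
      obtain ⟨y, hy⟩ := hfs (QuotientGroup.mk' (oddCore ↥(Mo.cmp c)) ⟨m, hm⟩)
      rw [← hy, hg] at hgm
      have h8 : y ∈ center (Bar N) := (QuotientGroup.eq_one_iff _).mp hgm
      rw [mem_center_iff] at h8
      refine mem_core_of_central MoM hm fun k hk => ?_
      obtain ⟨z, hz⟩ := hfs (QuotientGroup.mk' (oddCore ↥(Mo.cmp c)) ⟨k, hk⟩)
      have h9 := congrArg f (h8 z)
      rw [map_mul, map_mul, hy, hz] at h9
      exact (Cfsg.Agent.McLLyComp.Act.mk_eq_iff (mul_mem hk hm) (mul_mem hm hk)).mp h9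
    · exact key (center_of_He h)

/-- **Reduction R for the alternating types.** A triple of type `Aₙ`, `n ≥ 8`, gives an inner triple of type
`A₇`. -/
theorem exists_inner_seven {x a : G} {L : Subgroup G} (T : IsTriple x a L) {n : ℕ} (hn : 8 ≤ n)
    (hL : IsAlt n (Bar L)) (hOK : ∀ (c : G) (N : Subgroup G), IsTriple x c N → OKType (Bar N))
    (hHe : ∀ (c : G) (N : Subgroup G), IsTriple x c N → Spor.IsoHe (Bar N) → ¬ IsInner x N) :
    ∃ (c : G) (N : Subgroup G), IsTriple x c N ∧ IsInner x N ∧ IsAlt 7 (Bar N) := by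
  obtain ⟨e0⟩ := hL
  obtain ⟨Mo⟩ := Mod.nonempty_of_equiv (K := L) (S := (Finset.univ : Finset (Fin n)))
    (by rw [Finset.card_univ, Fintype.card_fin]; omega) (Ω := Fin n)
    (by rw [Finset.card_univ]) e0
  obtain ⟨r, c, d, P, h7⟩ := exists_part_seven T Mo (by rw [Finset.card_univ, Fintype.card_fin]; omega)
  obtain ⟨N, TN, hin, hA⟩ := exists_inner_of_part T P h7.ge (hOK c) (hHe c)
  exact ⟨c, N, TN, hin, h7 ▸ hA⟩

end Cfsg.Agent.UGT.RedR
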