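import Cfsg.Agent.UGT.PumpGen
import Cfsg.Agent.UAlt.Mod

/-!
# Reduction R for triples of alternating type (helper142's text, typed by helper860)

`(x, a, L)` a triple, `L / O(L) ≅ Alt(S)`.

* `three_fix`: the involution `x` has exactly three fixed points in `S` and `O(C(x)) ∩ C(a)` acts on `S` as the
  3-cycles on the fixed points.
* `exists_pump_part`: for a part `ρ ≠ 1, σ` of `σ = φ(x)` there are `r ∈ L` over `ρ`, `c = x r` and the pump-up
  `N` of the 2-component `M` of `C_L(c)` in `C(c)` gives a triple `(x, c, N)` in which `x` is inner on `N`.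
* `inner_of_mod`: if `N / O(N)` is alternating, it has degree `|Fix(c)|`.
-/

set_option autoImplicit false

open Cfsg Subgroup Equiv Equiv.Perm
open Cfsg.Agent.SignalizersComponents Cfsg.Agent.Lib
open Cfsg.Agent.SignalizersComponents.IntrinsicBasic
open Cfsg.Agent.SignalizersComponents.IntrinsicIntr
open Cfsg.Agent.SignalizersComponents.PLayerAut
open Cfsg.Agent.Intrinsic.Basic Cfsg.Agent.Intrinsic.Cen Cfsg.Agent.Intrinsic.Diag
open Cfsg.Agent.McLLyComp.Act
open Cfsg.Agent.UGT.Triple Cfsg.Agent.UGT.LemG Cfsg.Agent.UGT.PumpGen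
open Cfsg.Agent.UAlt
open scoped commutatorElement

namespace Cfsg.Agent.UGT.RedAlt

variable {α : Type*} [Fintype α] [DecidableEq α]

/-! ### permutations -/

/-- an element of odd order is even -/
theorem mem_alternating_of_odd {g : Perm α} (h : Odd (orderOf g)) : g ∈ alternatingGroup α := by
  rw [Perm.mem_alternatingGroup]
  have h1 : (Perm.sign g) ^ orderOf g = 1 := by rw [← map_pow, pow_orderOf_eq_one, map_one]
  rcases Int.units_eq_one_or (Perm.sign g) with h2 | h2
  · exact h2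
  · rw [h2, h.neg_one_pow] at h1
    exact absurd h1 (by decide)

/-- an odd subgroup `E` of `C_{Sym S}(σ)` normalized by `C_{Alt S}(σ)` lies in the core of the latter -/
theorem le_core_alt {S : Finset α} {σ : Perm α} {E : Subgroup (Perm α)} (hE : Odd (Nat.card E))
    (hS : E ≤ sym S) (hc : E ≤ centralizer ({σ} : Set (Perm α)))
    (hn : alt S ⊓ centralizer ({σ} : Set (Perm α)) ≤ normalizer (E : Set (Perm α))) :
    E ≤ core (alt S ⊓ centralizer ({σ} : Set (Perm α))) := by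
  refine le_core (le_inf (le_inf ?_ hS) hc) hn hE
  intro e he
  exact mem_alternating_of_odd (Odd.of_dvd_nat hE (Subgroup.orderOf_dvd_natCard E he))

variable {G : Type*} [Group G]

/-- `r` centralizes the 3-point set: nothing but `[ρ, e] = 1` for `e ∈ Alt(Fix σ)`, `ρ` trivial on `Fix σ` -/
theorem comm_of_fix {S : Finset α} {σ ρ e : Perm α} (hρ : ∀ i, ρ i = i ∨ ρ i = σ i)
    (he : e ∈ alt (fixIn S σ)) : e * ρ = ρ * e := by
  have h1 : ∀ i ∈ fixIn S σ, ρ i = i := by
    intro i hi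
    rcases hρ i with h | h
    · exact h
    · rw [h]; exact (mem_fixIn.mp hi).2
  ext i
  rw [Perm.mul_apply, Perm.mul_apply]
  by_cases hi : i ∈ fixIn S σ
  · rw [h1 i hi, h1 _ (mem_of_mem_sym (alt_le_sym _ he) hi)]
  · rw [he.2 i hi]
    have h2 : ρ i ∉ fixIn S σ := by
      intro h3
      have h4 := h1 _ h3
      exact hi (ρ.injective h4 ▸ h3)
    rw [he.2 _ h2]

variable [Finite G]

section

variable {x a : G} {L : Subgroup G} {S : Finset α}

/-- `D = O(C(x)) ∩ C(a)` -/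
def DD (x a : G) : Subgroup G := core (centralizer ({x} : Set G)) ⊓ centralizer ({a} : Set G)

theorem odd_DD (x a : G) : Odd (Nat.card (DD x a)) :=
  Odd.of_dvd_nat (odd_card_core (centralizer ({x} : Set G))) (card_dvd_of_le inf_le_left)

theorem DD_norm (x a : G) : centralizer ({a} : Set G) ⊓ centralizer ({x} : Set G) ≤
    normalizer (DD x a : Set G) := by
  intro g hg
  have h1 : g ∈ normalizer (core (centralizer ({x} : Set G)) : Set G) := le_normalizer_core _ hg.2
  have h2 : g ∈ normalizer (centralizer ({a} : Set G) : Set G) := le_normalizer hg.1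
  rw [mem_normalizer_iff_cj] at h1 h2 ⊢
  rw [DD, cj_inf, h1, h2]

/-- the image of `D` lies in `Alt(Fix σ)`, and `σ` has three fixed points in `S` -/
theorem three_fix (T : IsTriple x a L) (Mo : Mod L S) : (fixIn S (Mo.φ x)).card = 3 ∧
    ∀ d ∈ DD x a, Mo.φ d ∈ alt (fixIn S (Mo.φ x)) := by
  have hx2 := sq_of_order T.invx
  have hxL := T.x_mem
  have hDL : ∀ d ∈ DD x a, d ∈ normalizer (L : Set G) := fun d hd => T.mem_normalizer_of_core hd.1 hd.2
  set σ := Mo.φ x with hσ
  -- the image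
  obtain ⟨E, hE⟩ : ∃ E : Subgroup (Perm α), ∀ e, e ∈ E ↔ ∃ d ∈ DD x a, Mo.φ d = e := by
    refine ⟨((DD x a).subgroupOf (normalizer (L : Set G))).map Mo.hom, fun e => ?_⟩
    constructor
    · rintro ⟨y, hy, rfl⟩
      exact ⟨y, hy, rfl⟩
    · rintro ⟨d, hd, rfl⟩
      exact ⟨⟨d, hDL d hd⟩, hd, rfl⟩
  have hEodd : Odd (Nat.card E) := by
    let f : DD x a → E := fun d => ⟨Mo.φ d, (hE _).2 ⟨d, d.2, rfl⟩⟩
    let g : ↥(DD x a) →* ↥E :=
      { toFun := f
        map_one' := Subtype.ext Mo.one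
        map_mul' := fun p q => Subtype.ext (Mo.mul p q (hDL p p.2) (hDL q q.2)) }
    have hg : Function.Surjective g := by
      rintro ⟨e, he⟩
      obtain ⟨d, hd, rfl⟩ := (hE e).1 he
      exact ⟨⟨d, hd⟩, rfl⟩
    exact Odd.of_dvd_nat (odd_DD x a) (Subgroup.card_dvd_of_surjective g hg)
  have hES : E ≤ sym S := by
    intro e he
    obtain ⟨d, hd, rfl⟩ := (hE e).1 he
    exact Mo.mem_sym d (hDL d hd)
  have hEc : E ≤ centralizer ({σ} : Set (Perm α)) := by
    intro e he
    obtain ⟨d, hd, rfl⟩ := (hE e).1 he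
    have h1 : d * x = x * d := comm_c (core_le _ hd.1)
    exact mem_centralizer_singleton_iff.mpr (Mo.comm (hDL d hd) hxL h1)
  have hEn : alt S ⊓ centralizer ({σ} : Set (Perm α)) ≤ normalizer (E : Set (Perm α)) := by
    have key : ∀ τ ∈ alt S ⊓ centralizer ({σ} : Set (Perm α)), ∀ e ∈ E, τ * e * τ⁻¹ ∈ E := by
      intro τ hτ e he
      obtain ⟨d, hd, rfl⟩ := (hE e).1 he
      obtain ⟨l, hl, hxl, rfl⟩ := Mo.exists_comm_lift hxL (n := 1) (by rw [pow_one, pow_two, hx2]) hτ.1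
        (mem_centralizer_singleton_iff.mp hτ.2).symm
      refine (hE _).2 ⟨l * d * l⁻¹, ?_, Mo.conj (le_normalizer hl) (hDL d hd)⟩
      exact (mem_normalizer_iff.mp (DD_norm x a ⟨T.comp.le hl, mem_c hxl.symm⟩) d).mp hd
    intro τ hτ
    rw [mem_normalizer_iff]
    intro e
    refine ⟨key τ hτ e, fun h => ?_⟩
    have h1 := key τ⁻¹ (inv_mem hτ) _ h
    convert h1 using 1
    group
  have hcore := le_core_alt hEodd hES hEc hEn
  have hσS := Mo.mem_sym x hxL
  have hσσ := Mo.sq hxL hx2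
  constructor
  · by_contra h3
    rw [core_cent hσS hσσ h3, le_bot_iff] at hcore
    obtain ⟨d, hd, hda, hf⟩ := T.bad
    apply hf
    have h4 : Mo.φ d ∈ E := (hE _).2 ⟨d, ⟨hd, hda⟩, rfl⟩
    rw [hcore, mem_bot] at h4
    exact (Mo.fixes_iff (hDL d ⟨hd, hda⟩)).mp h4
  · intro d hd
    exact (core_cent_le hσS hσσ) (hcore ((hE _).2 ⟨d, hd, rfl⟩))

/-- a part `ρ` of `σ` moves only fixed points of `σ ρ` -/
theorem fix_part {σ ρ : Perm α} (hσσ : σ * σ = 1) (hρ : ∀ i, ρ i = i ∨ ρ i = σ i) :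
    fixIn S σ ⊆ fixIn S (σ * ρ) ∧ ∀ i ∈ S, ρ i ≠ i → i ∈ fixIn S (σ * ρ) := by
  have hσ' : ∀ i, σ (σ i) = i := fun i => by
    have := congrArg (fun f : Perm α => f i) hσσ
    simpa using this
  constructor
  · intro i hi
    rw [mem_fixIn] at hi ⊢
    refine ⟨hi.1, ?_⟩
    rw [Perm.mul_apply]
    rcases hρ i with h | h
    · rw [h, hi.2]
    · rw [h, hi.2, hi.2]
  · intro i hi hne
    rw [mem_fixIn, Perm.mul_apply]
    refine ⟨hi, ?_⟩
    rcases hρ i with h | h
    · exact absurd h hne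
    · rw [h, hσ']

theorem five_le_part {σ ρ : Perm α} (hσσ : σ * σ = 1) (hρ : ∀ i, ρ i = i ∨ ρ i = σ i)
    (hρρ : ρ * ρ = 1) (hρS : ρ ∈ sym S) (h1 : ρ ≠ 1) (h3 : (fixIn S σ).card = 3) :
    5 ≤ (fixIn S (σ * ρ)).card := by
  obtain ⟨i, hi⟩ : ∃ i, ρ i ≠ i := by
    by_contra hcon
    push Not at hcon
    exact h1 (Equiv.ext hcon)
  have hρ' : ρ (ρ i) = i := by
    have := congrArg (fun f : Perm α => f i) hρρ
    simpa using this
  have hiS : i ∈ S := by
    by_contra h
    exact hi (hρS i h)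
  have hjS : ρ i ∈ S := mem_of_mem_sym hρS hiS
  have hσi : ρ i = σ i := (hρ i).resolve_left hi
  have hi' : i ∉ fixIn S σ := by
    intro h
    rw [mem_fixIn, ← hσi] at h
    exact hi h.2
  have hj' : ρ i ∉ fixIn S σ := by
    intro h
    rw [mem_fixIn] at h
    rcases hρ (ρ i) with h4 | h4
    · rw [hρ'] at h4; exact hi h4.symm
    · rw [h.2, hρ'] at h4
      exact hi h4.symm
  obtain ⟨hf1, hf2⟩ := fix_part (S := S) hσσ hρ
  have hsub : insert i (insert (ρ i) (fixIn S σ)) ⊆ fixIn S (σ * ρ) := by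
    intro p hp
    rcases Finset.mem_insert.mp hp with rfl | hp
    · exact hf2 _ hiS hi
    · rcases Finset.mem_insert.mp hp with rfl | hp
      · refine hf2 _ hjS ?_
        rw [hρ']; exact Ne.symm hi
      · exact hf1 hp
  have h5 := Finset.card_le_card hsub
  rw [Finset.card_insert_of_notMem, Finset.card_insert_of_notMem hj', h3] at h5
  · exact h5
  · rw [Finset.mem_insert, not_or]
    exact ⟨Ne.symm hi, hi'⟩

end

/-- the data of the reduction: `ρ` is a part of `σ`, `r ∈ L` lies over `ρ` and `c = x r` -/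
structure Part (x a : G) {L : Subgroup G} {S : Finset α} (Mo : Mod L S) (r c d : G) : Prop where
  rL : r ∈ L
  rr : r * r = 1
  xr : x * r = r * x
  ceq : c = x * r
  invc : orderOf c = 2
  ca : c * a = a * c
  cx : c * x = x * c
  cN : c ∈ normalizer (L : Set G)
  rne : Mo.φ r ≠ 1
  part : ∀ i, Mo.φ r i = i ∨ Mo.φ r i = Mo.φ x i
  five : 5 ≤ (fixIn S (Mo.φ c)).card
  comp : IsComp (centralizer ({a} : Set G) ⊓ centralizer ({c} : Set G)) (Mo.cmp c)
  mem : r ∈ Mo.cmp c
  dD : d ∈ core (centralizer ({x} : Set G))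
  da : d ∈ centralizer ({a} : Set G)
  dc : d ∈ centralizer ({c} : Set G)
  dr : d * r = r * d
  df : ¬ Fixes d (Mo.cmp c)

section

variable {x a : G} {L : Subgroup G} {S : Finset α}

theorem exists_part (T : IsTriple x a L) (Mo : Mod L S) {ρ : Perm α} (hρS : ρ ∈ alt S)
    (hρ : ∀ i, ρ i = i ∨ ρ i = Mo.φ x i) (hρρ : ρ * ρ = 1) (hc : Mo.φ x * ρ = ρ * Mo.φ x)
    (h1 : ρ ≠ 1) (h2 : ρ ≠ Mo.φ x) : ∃ r c d, Part x a Mo r c d ∧ Mo.φ r = ρ := by
  have hx2 := sq_of_order T.invx
  have ha2 := sq_of_order T.inva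
  have hxL := T.x_mem
  have hxn : x ^ 2 ^ 1 = 1 := by rw [pow_one, pow_two, hx2]
  obtain ⟨h3, hD⟩ := three_fix T Mo
  have hσσ := Mo.sq hxL hx2
  obtain ⟨r, hrL, hrr, hxr, hφr⟩ := Mo.exists_inv_lift hxL hxn hρS hρρ hc
  have hrN : r ∈ normalizer (L : Set G) := le_normalizer hrL
  have hra : r * a = a * r := comm_c (T.comp.le hrL)
  obtain ⟨c, hceq⟩ : ∃ c, c = x * r := ⟨_, rfl⟩
  have hcN : c ∈ normalizer (L : Set G) := hceq ▸ mul_mem hxL hrN
  have hφc : Mo.φ c = Mo.φ x * ρ := by rw [hceq, Mo.mul _ _ hxL hrN, hφr]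
  have hcc : c * c = 1 := by
    rw [hceq]
    calc x * r * (x * r) = x * (r * x) * r := by group
      _ = (x * x) * (r * r) := by rw [← hxr]; group
      _ = 1 := by rw [hx2, hrr, one_mul]
  have hc1 : c ≠ 1 := by
    intro h
    rw [h, Mo.one] at hφc
    apply h2
    calc ρ = (Mo.φ x * Mo.φ x) * ρ := by rw [hσσ, one_mul]
      _ = Mo.φ x * (Mo.φ x * ρ) := by group
      _ = Mo.φ x := by rw [← hφc, mul_one]
  have hoc : orderOf c = 2 := orderOf_eq_prime (by rw [pow_two, hcc]) hc1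
  have hca : c * a = a * c := by
    rw [hceq]
    calc x * r * a = x * (r * a) := by group
      _ = (x * a) * r := by rw [hra]; group
      _ = a * (x * r) := by rw [← T.comm]; group
  have hcx : c * x = x * c := by
    rw [hceq]
    calc x * r * x = x * (r * x) := by group
      _ = x * (x * r) := by rw [hxr]
  have hcr : c * r = r * c := by
    rw [hceq]
    calc x * r * r = (x * r) * r := rfl
      _ = (r * x) * r := by rw [hxr]
      _ = r * (x * r) := by group
  have h5 : 5 ≤ (fixIn S (Mo.φ c)).card := by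
    rw [hφc]
    exact five_le_part hσσ hρ hρρ (alt_le_sym _ hρS) h1 h3
  have hcomp := Mo.isComp_cmp_of T.comp hcN hcc h5
  -- `r ∈ M`
  have hrM : r ∈ Mo.cmp c := by
    refine Mo.mem_cmp hrL hcr ?_ (n := 1) (by rw [pow_one, pow_two, hrr])
    rw [hφr, hφc]
    refine ⟨hρS.1, fun i hi => ?_⟩
    by_contra hne
    have hiS : i ∈ S := by
      by_contra h
      exact hne (hρS.2 i h)
    exact hi ((fix_part (S := S) hσσ hρ).2 i hiS hne)
  -- `d`
  obtain ⟨d, hd, hda, hf⟩ := T.bad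
  have hdL : d ∈ normalizer (L : Set G) := T.mem_normalizer_of_core hd hda
  obtain ⟨F, hF⟩ : ∃ F : Subgroup G, ∀ e, e ∈ F ↔ e ∈ core (centralizer ({x} : Set G)) ∧
      e ∈ centralizer ({a} : Set G) ∧ Fixes e L := by
    refine ⟨{ carrier := {e | e ∈ core (centralizer ({x} : Set G)) ∧
        e ∈ centralizer ({a} : Set G) ∧ Fixes e L}
              mul_mem' := ?_
              one_mem' := ?_
              inv_mem' := ?_ }, fun e => Iff.rfl⟩
    · rintro e e' ⟨h1, h2, h3⟩ ⟨h1', h2', h3'⟩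
      exact ⟨mul_mem h1 h1', mul_mem h2 h2', fixes_mul h3 h3'⟩
    · exact ⟨one_mem _, one_mem _, fixes_one L⟩
    · rintro e ⟨h1, h2, h3⟩
      exact ⟨inv_mem h1, inv_mem h2, fixes_inv h3⟩
  have hFodd : Odd (Nat.card F) :=
    Odd.of_dvd_nat (odd_card_core (centralizer ({x} : Set G)))
      (card_dvd_of_le fun e he => ((hF e).mp he).1)
  have hri : r⁻¹ = r := inv_eq_of_mul_eq_one_left hrr
  have hrF : ∀ e ∈ F, r * e * r⁻¹ ∈ F := by
    intro e he
    obtain ⟨e1, e2, e3⟩ := (hF e).mp he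
    refine (hF _).mpr ⟨conj_core (mem_c hxr.symm) e1, ?_, fixes_conj e3 hrN⟩
    exact mul_mem (mul_mem (mem_c hra) e2) (inv_mem (mem_c hra))
  have hrn : r ∈ normalizer (F : Set G) := by
    rw [mem_normalizer_iff]
    intro e
    refine ⟨hrF e, fun h => ?_⟩
    have e1 := hrF _ h
    have e2 : r * (r * e * r⁻¹) * r⁻¹ = e := by
      rw [hri]
      calc r * (r * e * r) * r = (r * r) * e * (r * r) := by group
        _ = e := by rw [hrr]; group
    rwa [e2] at e1
  have hrdN : r * d * r⁻¹ ∈ normalizer (L : Set G) := mul_mem (mul_mem hrN hdL) (inv_mem hrN)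
  have hmem : d⁻¹ * (r * d * r⁻¹) ∈ F := by
    refine (hF _).mpr ⟨mul_mem (inv_mem hd) (conj_core (mem_c hxr.symm) hd), ?_, ?_⟩
    · exact mul_mem (inv_mem hda) (mul_mem (mul_mem (mem_c hra) hda) (inv_mem (mem_c hra)))
    · rw [← Mo.fixes_iff (mul_mem (inv_mem hdL) hrdN), Mo.mul _ _ (inv_mem hdL) hrdN, Mo.conj hrN hdL,
        Mo.inv hdL, hφr]
      have h6 := comm_of_fix hρ (hD d ⟨hd, hda⟩)
      rw [← h6]
      group
  obtain ⟨o, ho, hco⟩ := Intrinsic.Lifting.exists_commute (n := 1) hFodd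
    (by rw [pow_one, pow_two, hrr]) hrn hmem
  obtain ⟨ho1, ho2, ho3⟩ := (hF o).mp ho
  have hd'D : d * o ∈ core (centralizer ({x} : Set G)) := mul_mem hd ho1
  have hd'a : d * o ∈ centralizer ({a} : Set G) := mul_mem hda ho2
  have hd'f : ¬ Fixes (d * o) L := fun h => hf ((fixes_mul_iff_left ho3).mp h)
  have hd'x : d * o * x = x * (d * o) := comm_c (core_le _ hd'D)
  have hd'c : d * o ∈ centralizer ({c} : Set G) := by
    refine mem_c ?_
    rw [hceq]
    calc d * o * (x * r) = (d * o * x) * r := by group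
      _ = x * ((d * o) * r) := by rw [hd'x]; group
      _ = x * (r * (d * o)) := by rw [← hco]
      _ = x * r * (d * o) := by group
  refine ⟨r, c, d * o, ⟨hrL, hrr, hxr, hceq, hoc, hca, hcx, hcN, hφr ▸ h1, hφr ▸ hρ, h5, hcomp, hrM, hd'D,
    hd'a, hd'c, hco.symm, fun hfix => hd'f ?_⟩, hφr⟩
  -- `Fixes (d o) M → Fixes (d o) L`
  have hd'L : d * o ∈ normalizer (L : Set G) := T.mem_normalizer_of_core hd'D hd'a
  rw [← Mo.fixes_iff hd'L]
  have hcoreM : core (Mo.cmp c) ≤ core L := by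
    refine ((Mo.isComp_cmp hcN hcc h5).core_le_core).trans (Mo.core_cent_le hcN hcc (by omega))
  have hcomm : ∀ τ ∈ alt (fixIn S (Mo.φ c)), Mo.φ (d * o) * τ = τ * Mo.φ (d * o) := by
    intro τ hτ
    obtain ⟨k, hk, rfl⟩ := Mo.cmp_lift hcN hcc h5 hτ
    have hkL := Mo.cmp_le c hk
    have hkN := le_normalizer (H := L) hkL
    have h6 := hcoreM (hfix.2 k hk)
    rw [← Mo.core_iff _ (core_le L h6), commutatorElement_def,
      Mo.mul _ _ (mul_mem (mul_mem hd'L hkN) (inv_mem hd'L)) (inv_mem hkN), Mo.conj hd'L hkN, Mo.inv hkN,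
      mul_inv_eq_one, mul_inv_eq_iff_eq_mul] at h6
    exact h6
  have hφd : Mo.φ (d * o) ∈ alt (fixIn S (Mo.φ x)) := hD _ ⟨hd'D, hd'a⟩
  have hsub := (fix_part (S := S) hσσ hρ).1
  rw [← hφc] at hsub
  ext i
  by_cases hi : i ∈ fixIn S (Mo.φ c)
  · exact apply_of_comm_alt (S := fixIn S (Mo.φ c)) (by omega) hcomm hi
  · exact hφd.2 i fun h => hi (hsub h)

variable {Mo : Mod L S} {r c d : G}

/-- the pump-up of a part: `x` is inner on `N` -/
theorem Part.pump (P : Part x a Mo r c d) (T : IsTriple x a L) :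
    ∃ N, IsTriple x c N ∧ ¬ Fixes d N ∧
      ((a ∈ normalizer (N : Set G) ∧ Mo.cmp c ≤ N) ∨
        (cj a N ≠ N ∧ Mo.cmp c = diag (centralizer ({c} : Set G)) N a)) ∧
      ∃ y ∈ N, Fixes (y⁻¹ * x) N := by
  have ha2 := sq_of_order T.inva
  have hM := P.comp
  rw [inf_comm] at hM
  obtain ⟨N, hN, hdN, hor⟩ := PumpGen.pump T.invx P.invc ha2 P.ca P.cx hM P.dD P.da P.dc P.df
  refine ⟨N, hN, hdN, hor, ?_⟩
  have hxc : x = c * r := by
    rw [P.ceq, mul_assoc, P.rr, mul_one]
  have hcr : c * r = r * c := by rw [P.ceq, mul_assoc, P.rr, mul_one, ← mul_assoc, ← P.xr, mul_assoc, P.rr, mul_one]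
  have hcfix : ∀ {K : Subgroup G}, K ≤ centralizer ({c} : Set G) → Fixes c K := by
    intro K hK
    refine ⟨?_, fun y hy => ?_⟩
    · rw [mem_normalizer_iff]
      intro y
      constructor
      · intro hy
        have h1 := comm_c (hK hy)
        rwa [← h1, mul_inv_cancel_right]
      · intro hy
        have h1 := comm_c (hK hy)
        have h2 : y = c * y * c⁻¹ := by
          calc y = c⁻¹ * ((c * y * c⁻¹) * c) := by group
            _ = c⁻¹ * (c * (c * y * c⁻¹)) := by rw [h1]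
            _ = _ := by group
        rwa [h2]
    · have h1 := comm_c (hK hy)
      rw [commutatorElement_eq_one_iff_mul_comm.mpr h1.symm]
      exact one_mem _
  have hcN := hcfix hN.comp.le
  rcases hor with ⟨haN, hMN⟩ | ⟨hne, hMN⟩
  · refine ⟨r, hMN P.mem, ?_⟩
    have h1 : r⁻¹ * x = c := by rw [hxc, hcr]; group
    rw [h1]
    exact hcN
  · have hrm := P.mem
    rw [hMN] at hrm
    obtain ⟨h5, h6, -⟩ := exists_diag hN.comp (mem_c P.ca.symm) ha2 hne
    obtain ⟨k, hk, hmk⟩ := h6 r hrm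
    have hrX : r ∈ centralizer ({c} : Set G) := (h5.le hrm).1
    have h7 := fixes_inv_mul hN.comp (mem_c P.ca.symm) hne hk hrX hmk
    refine ⟨k, hk, ?_⟩
    have h8 : k⁻¹ * x = (k⁻¹ * r) * c := by rw [hxc, hcr]; group
    rw [h8]
    exact fixes_mul h7 hcN

/-- `M / O(M) ≅ Alt(Fix c)` -/
theorem Part.quotM (P : Part x a Mo r c d) :
    Nonempty ((↥(Mo.cmp c) ⧸ oddCore ↥(Mo.cmp c)) ≃* ↥(alt (fixIn S (Mo.φ c)))) := by
  have hcc := sq_of_order P.invc
  let f : ↥(Mo.cmp c) →* ↥(alt (fixIn S (Mo.φ c))) :=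
    { toFun := fun k => ⟨Mo.φ k, Mo.cmp_mem_alt k.2⟩
      map_one' := Subtype.ext Mo.one
      map_mul' := fun p q => Subtype.ext (Mo.mul p q (le_normalizer (Mo.cmp_le c p.2))
        (le_normalizer (Mo.cmp_le c q.2))) }
  have hf : Function.Surjective f := by
    rintro ⟨σ, hσ⟩
    obtain ⟨k, hk, rfl⟩ := Mo.cmp_lift P.cN hcc P.five hσ
    exact ⟨⟨k, hk⟩, rfl⟩
  have hker : oddCore ↥(Mo.cmp c) = f.ker := by
    apply le_antisymm
    · intro k hk
      have h1 : (k : G) ∈ core (Mo.cmp c) := (mem_core_iff k.2).mpr hk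
      have h2 := ((Mo.isComp_cmp P.cN hcc P.five).core_le_core.trans
        (Mo.core_cent_le P.cN hcc (by have := P.five; omega))) h1
      rw [MonoidHom.mem_ker]
      exact Subtype.ext ((Mo.core_iff _ (Mo.cmp_le c k.2)).mpr h2)
    · have h1 : Odd (Nat.card f.ker) := by
        have h2 : f.ker.map (Mo.cmp c).subtype ≤ core L := by
          rintro _ ⟨k, hk, rfl⟩
          exact (Mo.core_iff _ (Mo.cmp_le c k.2)).mp (congrArg Subtype.val hk)
        have h3 := Subgroup.card_dvd_of_le h2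
        rw [Subgroup.card_map_of_injective (Subgroup.subtype_injective _)] at h3
        exact Odd.of_dvd_nat (odd_card_core L) h3
      have h4 : f.ker.map (Mo.cmp c).subtype ≤ core (Mo.cmp c) := by
        refine le_core (map_subtype_le _) ?_ ?_
        · intro g hg
          have h5 : (f.ker).Normal := inferInstance
          rw [mem_normalizer_iff]
          have key : ∀ g ∈ Mo.cmp c, ∀ y ∈ f.ker.map (Mo.cmp c).subtype,
              g * y * g⁻¹ ∈ f.ker.map (Mo.cmp c).subtype := by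
            rintro g hg _ ⟨k, hk, rfl⟩
            exact ⟨⟨g, hg⟩ * k * ⟨g, hg⟩⁻¹, h5.conj_mem k hk _, rfl⟩
          intro y
          refine ⟨key g hg y, fun h => ?_⟩
          have := key g⁻¹ (inv_mem hg) _ h
          convert this using 1
          group
        · rw [Subgroup.card_map_of_injective (Subgroup.subtype_injective _)]
          exact h1
      intro k hk
      have h5 := h4 ⟨k, hk, rfl⟩
      exact (mem_core_iff k.2).mp h5
  exact ⟨(QuotientGroup.quotientMulEquivOfEq hker).trans (QuotientGroup.quotientKerEquivOfSurjective f hf)⟩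

end

end Cfsg.Agent.UGT.RedAlt
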