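import Cfsg.Agent.GH.Defs
import Cfsg.Agent.GH.AltOut
import Cfsg.Agent.GH.Rank
import Cfsg.Agent.UGT.Iface
import Cfsg.Agent.UGT.Trich

/-!
# The list `GH.Defs.K4` and the list of S1311

* `inU_or_end`: a group in `K4` is in `InU` or in the list `K4End`.
* `not_K4_of`: if the groups of `K4End` are excluded as `F*(G)` of a minimal counterexample `G`, then so are
  the groups of `K4`.
-/

set_option autoImplicit false

open Cfsg Subgroup
open Cfsg.Agent.FixBN.BTheorem Cfsg.Agent.FixBN.BRelative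
open Cfsg.Agent.UGT.Triple Cfsg.Agent.UGT.Iface
open Cfsg.Agent.GH.Defs (K2 K3 K4 IsL2odd IsL3odd IsU3odd IsU34 IsL28 IsL216 IsSz8 IsSp4odd IsL4odd IsU4odd IsL5odd
  IsU5odd IsG2odd IsD4odd HasAltCover)

namespace Cfsg.Agent.UGT.InUList

universe u

/-- the characteristic of a finite field with an odd number of elements -/
theorem exists_char {F : Type} [Field F] [Fintype F] (h : Odd (Fintype.card F)) :
    ∃ p : ℕ, p.Prime ∧ p ≠ 2 ∧ CharP F p := by
  obtain ⟨p, hp⟩ := CharP.exists F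
  have hpp : p.Prime := CharP.char_is_prime F p
  refine ⟨p, hpp, ?_, hp⟩
  rintro rfl
  have h1 : ringChar F = 2 := (ringChar.eq F 2).symm ▸ rfl
  have h2 := (FiniteField.even_card_iff_char_two (F := F)).mp h1
  rw [Nat.odd_iff] at h
  omega

theorem three_le {F : Type} [Field F] [Fintype F] (h : Odd (Fintype.card F)) : 3 ≤ Fintype.card F := by
  have h1 : 1 < Fintype.card F := Fintype.one_lt_card
  obtain ⟨k, hk⟩ := h
  omega

section lists

variable {X : Type u} [Group X]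

theorem inU_psl {F : Type} [Field F] [Fintype F] (h : Odd (Fintype.card F)) {n : ℕ} (hn : 2 ≤ n)
    (h4 : n = 2 → 4 ≤ Fintype.card F)
    (e : Nonempty (X ≃* Matrix.ProjectiveSpecialLinearGroup (Fin n) F)) : InU X := by
  obtain ⟨p, hp, hp2, hc⟩ := exists_char h
  exact Or.inl ⟨p, hp, hp2, Or.inl ⟨F, _, _, hc, n, hn, h4, e⟩⟩

theorem inU_psp {F : Type} [Field F] [Fintype F] (h : Odd (Fintype.card F)) {m : ℕ} (hm : 2 ≤ m)
    (e : Nonempty (X ≃* PSp m F)) : InU X := by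
  obtain ⟨p, hp, hp2, hc⟩ := exists_char h
  exact Or.inl ⟨p, hp, hp2, Or.inr (Or.inl ⟨F, _, _, hc, m, hm, fun _ => three_le h, e⟩)⟩

theorem inU_psu {F : Type} [Field F] [Fintype F] {n q : ℕ} (h1 : Fintype.card F = q ^ 2)
    (h2 : Odd q) (hn : 3 ≤ n) (e : Nonempty (X ≃* PSU n F q)) : InU X := by
  obtain ⟨p, hp, hp2, hc⟩ := exists_char (F := F) (by rw [h1]; exact h2.pow)
  refine Or.inl ⟨p, hp, hp2, Or.inr (Or.inr (Or.inl ⟨F, _, _, hc, n, q, h1, hn, ?_, e⟩))⟩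
  rintro ⟨-, rfl⟩
  exact absurd h2 (by decide)

theorem inU_g2 (h : IsG2odd X) : InU X := by
  obtain ⟨F, _, _, h1, e⟩ := h
  obtain ⟨p, hp, hp2, hc⟩ := exists_char h1
  refine Or.inl ⟨p, hp, hp2, ?_⟩
  unfold IsLieTypeChar IsExceptionalChevChar
  exact Or.inr (Or.inr (Or.inr (Or.inr (Or.inr (Or.inr (Or.inl
    ⟨F, _, _, hc, Or.inl ⟨three_le h1, e⟩⟩))))))

theorem inU_d4 (h : IsD4odd X) : InU X := by
  obtain ⟨K, _, _, q, h1, h2, e⟩ := h
  obtain ⟨p, hp, hp2, hc⟩ := exists_char (F := K) (by rw [h2]; exact h1.pow)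
  have h3 : IsPrimePow (q ^ 3) := by
    rw [← h2]
    exact FiniteField.isPrimePow_card K
  have h4 : IsPrimePow q := (isPrimePow_pow_iff (by norm_num)).1 h3
  refine Or.inl ⟨p, hp, hp2, ?_⟩
  unfold IsLieTypeChar IsTwistedE6D4Char
  exact Or.inr (Or.inr (Or.inr (Or.inr (Or.inr (Or.inr (Or.inr (Or.inl
    ⟨K, _, _, hc, q, h4, Or.inr ⟨h2, e⟩⟩)))))))

theorem inU_ree (h : Lie.IsoRee X) : InU X := by
  refine Or.inl ⟨3, Nat.prime_three, by norm_num, ?_⟩
  unfold IsLieTypeChar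
  exact Or.inr (Or.inr (Or.inr (Or.inr (Or.inr (Or.inr (Or.inr (Or.inr (Or.inr (Or.inr
    ⟨rfl, h⟩)))))))))

theorem inU_alt {n : ℕ} (h1 : Odd n) (h2 : 7 ≤ n) (e : Nonempty (X ≃* alternatingGroup (Fin n))) :
    InU X := Or.inr (Or.inl ⟨n, h1, h2, e⟩)

/-- The groups of the list `K4` which are not in `InU`. -/
def K4End (X : Type u) [Group X] : Prop :=
  IsU34 X ∨ Spor.IsoM11 X ∨ IsL28 X ∨ IsSz8 X ∨ Spor.IsoJ1 X ∨ IsL216 X ∨
    (∃ n : ℕ, Even n ∧ 8 ≤ n ∧ GH.Defs.IsAlt n X) ∨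
    Spor.IsoM12 X ∨ Spor.IsoM22 X ∨ Spor.IsoM23 X ∨ Spor.IsoJ2 X ∨ Spor.IsoJ3 X ∨ HasAltCover X

theorem inU_or_end (h : K4 X) : InU X ∨ K4End X := by
  rcases h with (⟨F, i, j, h1, h2, f⟩ | ⟨F, i, j, h1, f⟩ | ⟨F, i, j, q, h1, h2, f⟩ | h | h | h) |
    (h | h | h | h) | h | ⟨F, i, j, h1, f⟩ | ⟨n, h1, h2, h⟩ | ⟨F, i, j, h1, f⟩ |
    ⟨F, i, j, h1, h2, f⟩ | ⟨F, i, j, q, h1, h2, h3, f⟩ | ⟨F, i, j, h1, f⟩ | ⟨F, i, j, q, h1, h2, f⟩ |
    ⟨h, -⟩ | ⟨h, -⟩ | h | h | h | h | h | h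
  · exact Or.inl (inU_psl h1 le_rfl (fun _ => by omega) f)
  · exact Or.inl (inU_psl h1 (by norm_num) (fun h => by omega) f)
  · exact Or.inl (inU_psu h1 h2 le_rfl f)
  · exact Or.inr (by unfold K4End; tauto)
  · exact Or.inl (inU_alt (by decide) le_rfl h)
  · exact Or.inr (by unfold K4End; tauto)
  · exact Or.inr (by unfold K4End; tauto)
  · exact Or.inr (by unfold K4End; tauto)
  · exact Or.inl (inU_ree h)
  · exact Or.inr (by unfold K4End; tauto)
  · exact Or.inr (by unfold K4End; tauto)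
  · exact Or.inl (Or.inr (Or.inr (Or.inl ⟨F, i, j, h1, f⟩)))
  · rcases Nat.even_or_odd n with hn | hn
    · exact Or.inr (Or.inr (Or.inr (Or.inr (Or.inr (Or.inr (Or.inr (Or.inl ⟨n, hn, h1, h⟩)))))))
    · exact Or.inl (inU_alt hn (by omega) h)
  · exact Or.inl (inU_psp h1 le_rfl f)
  · exact Or.inl (inU_psl h1 (by norm_num) (fun h => by omega) f)
  · exact Or.inl (inU_psu h1 h2 (by norm_num) f)
  · exact Or.inl (inU_psl (by rw [Nat.odd_iff]; omega) (by norm_num) (fun h => by omega) f)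
  · exact Or.inl (inU_psu h1 (by rw [Nat.odd_iff]; omega) (by norm_num) f)
  · exact Or.inl (inU_g2 h)
  · exact Or.inl (inU_d4 h)
  all_goals exact Or.inr (by unfold K4End; tauto)

end lists

/-- No minimal counterexample `G` has `F*(G)` in the class `P`. -/
def Excl (P : ∀ (X : Type u) [Group X], Prop) : Prop :=
  ∀ (G : Type u) [Group G] [Finite G], MinCex G → ¬ P ↥(generalizedFittingSubgroup G)

theorem Excl.of_core {P : ∀ (X : Type u) [Group X], Prop}
    (h : ∀ (G : Type u) [Group G] [Finite G], P ↥(generalizedFittingSubgroup G) →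
      ∀ t : G, orderOf t = 2 → centralizerPPrimeCore 2 t = ⊥) : Excl P := by
  intro G _ _ hG hP
  obtain ⟨t, ht, hne⟩ := hG.unbal
  exact hne (h G hP t ht)

theorem not_K4_of (h : Excl.{u} K4End) : Excl.{u} K4 := by
  intro G _ _ hG hK
  rcases inU_or_end hK with h1 | h1
  · exact hG.notU h1
  · exact h G hG h1

/-- Simple groups of sectional 2-rank at most 4 (the isomorphism form of S0500). -/
def PK4 : Prop :=
  ∀ (G : Type u) [Group G] [Finite G] [IsSimpleGroup G], ¬ IsMulCommutative G →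
    SectionalPRankLE 2 4 G → K4 G

/-- `F*(G)` has sectional 2-rank at least 5 in a minimal counterexample `G`. -/
theorem rank_fs (k4 : PK4.{u}) (hE : Excl.{u} K4End) {G : Type u} [Group G] [Finite G]
    (hG : MinCex G) : ¬ SectionalPRankLE 2 4 ↥(generalizedFittingSubgroup G) := by
  intro h
  have hs := hG.simple
  exact not_K4_of hE G hG (k4 _ hG.nonab h)

/-- A minimal counterexample has sectional 2-rank at least 5. -/
theorem rank (k4 : PK4.{u}) (hE : Excl.{u} K4End) {G : Type u} [Group G] [Finite G]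
    (hG : MinCex G) : ¬ SectionalPRankLE 2 4 G :=
  fun h => rank_fs k4 hE hG (GH.Rank.of_subgroup h _)

end Cfsg.Agent.UGT.InUList
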