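import Cfsg.Agent.UGT.Res.KFacts
import Cfsg.Agent.UGT.Res.PGLFacts
import Cfsg.Agent.UGT.Trich
import Cfsg.Agent.UAlt.AutFive

/-!
# Case (ga) of `Trich.trichotomy` does not occur

`FGam K`: an automorphism of odd order of `K` that commutes with an involutory automorphism `τ` and is trivial on
`C_K(τ)` is trivial.

* `fgam_l2`, `fgam_alt`: `FGam` for `PSL₂(q)`, `q ≥ 5` odd, and `Aₙ`, `n ≥ 5`, `n ≠ 6`.
* `false_of_ga`: a triple `(x, a, L)` with `FGam (L / O(L))` in a minimal counterexample: `X⟨x⟩ = G`, `X = F*(G)`.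
* `noGamma`: `X⟨x⟩ = G` for all involutions `x` with `O(C(x)) ≠ 1`.
-/

set_option autoImplicit false

open Cfsg Subgroup
open Cfsg.Agent.SignalizersComponents Cfsg.Agent.Lib
open Cfsg.Agent.SignalizersComponents.IntrinsicBasic
open Cfsg.Agent.SignalizersComponents.PLayerAut
open Cfsg.Agent.Intrinsic.Basic
open Cfsg.Agent.McLLyComp.Act
open Cfsg.Agent.FixBN.BTheorem Cfsg.Agent.FixBN.BRelative
open Cfsg.Agent.UGT.Triple Cfsg.Agent.UGT.Iface Cfsg.Agent.UGT.Nodes
open scoped commutatorElement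

namespace Cfsg.Agent.UGT.NoGamma

universe u

local notation "Fs" => generalizedFittingSubgroup

/-- An automorphism of odd order commuting with an involutory automorphism `τ ≠ 1` and trivial on the fixed points
of `τ` is trivial. -/
def FGam (K : Type*) [Group K] : Prop := ∀ τ δ : MulAut K, τ * τ = 1 → τ ≠ 1 → Odd (orderOf δ) →
  δ * τ = τ * δ → (∀ k, τ k = k → δ k = k) → δ = 1

theorem FGam.congr {K K' : Type*} [Group K] [Group K'] (e : K ≃* K') (h : FGam K) : FGam K' := by
  intro τ δ h1 h2 h3 h4 h5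
  obtain ⟨c, hc⟩ : ∃ c : MulAut K' ≃* MulAut K, ∀ φ k, c φ k = e.symm (φ (e k)) :=
    ⟨MulAut.congr e.symm, fun φ k => rfl⟩
  have h6 : c δ = 1 := by
    refine h (c τ) (c δ) ?_ ?_ ?_ ?_ ?_
    · rw [← map_mul, h1, map_one]
    · rw [Ne, map_eq_one_iff c c.injective]
      exact h2
    · rwa [MulEquiv.orderOf_eq]
    · rw [← map_mul, h4, map_mul]
    · intro k hk
      rw [hc] at hk ⊢
      rw [h5 (e k) (by
        have := congrArg e hk
        rwa [e.apply_symm_apply] at this), e.symm_apply_apply]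
  exact (map_eq_one_iff c c.injective).mp h6

/-! ### `PSL₂(q)` -/

section l2

variable {F : Type*} [Field F] [Finite F] {L : Type*} [Group L]

theorem fgam_rep (R : Cfsg.Agent.GH.L2Aut.Rep F L) : FGam L := by
  intro τ δ h1 h2 h3 h4 h5
  by_cases hf : R.fld τ = 1
  · exact R.eq_one_of_fix (R.mem_PGL_iff_fld.2 hf) h2 h1 h3 h4 h5
  · have hD := Res.PGLFacts.field_core R h1 hf (D := zpowers δ) (by rwa [Nat.card_zpowers]) ?_ ?_
    · have : δ ∈ zpowers δ := mem_zpowers δ
      rwa [hD, mem_bot] at this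
    · intro ε hε
      obtain ⟨n, rfl⟩ := mem_zpowers_iff.mp hε
      exact (Commute.zpow_left (h4 : Commute δ τ) n)
    · intro k hk ε hε
      obtain ⟨n, rfl⟩ := mem_zpowers_iff.mp hε
      have h6 : MulAut.conj k * δ = δ * MulAut.conj k := by
        ext z
        simp only [MulAut.mul_apply, MulAut.conj_apply, map_mul, map_inv, h5 k hk]
      have h7 : Commute (MulAut.conj k) (δ ^ n) := Commute.zpow_right (h6 : Commute _ _) n
      rw [h7.eq, mul_inv_cancel_right]
      exact hε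

theorem fgam_l2 {K : Type u} [Group K] (h : IsL2 K) : FGam K := by
  obtain ⟨F, _, _, -, ⟨R⟩⟩ := Res.KFacts.exists_rep h
  exact fgam_rep R

end l2

/-! ### `Aₙ` -/

section alt

open Equiv

variable {Ω : Type*} [DecidableEq Ω]

/-- a permutation commuting with `t` -/
theorem swap_comm_of {t : Perm Ω} {a b : Ω} (h : (t a = b ∧ t b = a) ∨ (t a = a ∧ t b = b)) :
    t * swap a b = swap a b * t := by
  rw [Equiv.mul_swap_eq_swap_mul]
  rcases h with ⟨h1, h2⟩ | ⟨h1, h2⟩
  · rw [h1, h2, swap_comm]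
  · rw [h1, h2]

omit [DecidableEq Ω] in
theorem odd_sq {d : Perm Ω} (hd : Odd (orderOf d)) {i : Ω} (h : d (d i) = i) : d i = i := by
  obtain ⟨k, hk⟩ := hd
  have h1 : ∀ m : ℕ, (d ^ (2 * m)) i = i := by
    intro m
    induction m with
    | zero => rfl
    | succ m ih =>
      rw [mul_add, mul_one, pow_add, Perm.mul_apply, pow_two, Perm.mul_apply, h, ih]
  have h2 : (d ^ orderOf d) i = i := by rw [pow_orderOf_eq_one]; rfl
  rw [hk, pow_succ', Perm.mul_apply, h1] at h2
  exact h2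

/-- an odd permutation `d` commuting with the involution `t` and moving `i`: some even permutation commuting with `t`
fixes `i` and moves `d i` -/
theorem exists_even [Fintype Ω] {t d : Perm Ω} (ht : t * t = 1) (ht1 : t ≠ 1)
    (hd : Odd (orderOf d)) (hc : d * t = t * d) {i : Ω} (hi : d i ≠ i) :
    ∃ x ∈ alternatingGroup Ω, t * x = x * t ∧ x i = i ∧ x (d i) ≠ d i := by
  have htt : ∀ j, t (t j) = j := fun j => by rw [← Perm.mul_apply, ht]; rfl
  have hdt : ∀ j, d (t j) = t (d j) := fun j => by rw [← Perm.mul_apply, hc]; rfl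
  obtain ⟨k, hk⟩ : ∃ k, k = d i := ⟨_, rfl⟩
  obtain ⟨l, hl⟩ : ∃ l, l = d k := ⟨_, rfl⟩
  have hik : i ≠ k := fun h => hi (by rw [← hk, ← h])
  have hkl : k ≠ l := fun h => hi (by
    apply d.injective
    rw [← hk, ← hl, ← h])
  have hil : i ≠ l := fun h => hi (odd_sq hd (by rw [← hk, ← hl, ← h]))
  rw [← hk]
  by_cases hti : t i = i
  · have htk : t k = k := by rw [hk, ← hdt, hti]
    have htl : t l = l := by rw [hl, ← hdt, htk]
    obtain ⟨a, ha⟩ : ∃ a, t a ≠ a := by
      by_contra hcon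
      push Not at hcon
      exact ht1 (Equiv.ext hcon)
    have hia : i ≠ a := fun h => ha (h ▸ hti)
    have hka : k ≠ a := fun h => ha (h ▸ htk)
    have hla : l ≠ a := fun h => ha (h ▸ htl)
    have hita : i ≠ t a := fun h => ha (by rw [← h, ← hti, h, htt])
    have hkta : k ≠ t a := fun h => ha (by rw [← h, ← htk, h, htt])
    have hlta : l ≠ t a := fun h => ha (by rw [← h, ← htl, h, htt])
    refine ⟨swap k l * swap a (t a), ?_, ?_, ?_, ?_⟩
    · rw [Perm.mem_alternatingGroup, Perm.sign_mul, Perm.sign_swap hkl, Perm.sign_swap (Ne.symm ha)]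
      rfl
    · rw [← mul_assoc, swap_comm_of (Or.inr ⟨htk, htl⟩), mul_assoc,
        swap_comm_of (Or.inl ⟨rfl, htt a⟩), mul_assoc]
    · rw [Perm.mul_apply, swap_apply_of_ne_of_ne hia hita, swap_apply_of_ne_of_ne hik hil]
    · rw [Perm.mul_apply, swap_apply_of_ne_of_ne hka hkta, swap_apply_left]
      exact hkl.symm
  · have htk : t k ≠ k := fun h => hti (d.injective (by rw [hdt, ← hk, h]))
    have htl : t l ≠ l := fun h => htk (d.injective (by rw [hdt, ← hl, h]))
    -- the orbits of `i` and `t i` under `d` are disjoint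
    have key : ∀ j, t j ≠ j → t j ≠ d j := by
      intro j hj h
      apply hj
      have h1 : d (d j) = j := by rw [← h, hdt, ← h, htt]
      rw [h, odd_sq hd h1]
    have h2 : t i ≠ k := by rw [hk]; exact key i hti
    have h3 : t k ≠ l := by rw [hl]; exact key k htk
    have h4 : t i ≠ l := by
      intro h
      -- `t i = d² i`, so `d⁴ i = i`
      have h5 : d (d (d (d i))) = i := by
        have e1 : d (d i) = t i := by rw [← hk, ← hl, h]
        rw [e1, hdt, hdt, e1, htt]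
      have hdd : Odd (orderOf (d * d)) := by
        rw [← pow_two]
        exact Odd.of_dvd_nat hd (orderOf_pow_dvd 2)
      have h6 : (d * d) i = i := odd_sq hdd h5
      have h7 : d i = i := odd_sq hd h6
      exact hi h7
    have h5 : i ≠ t k := fun h => h2 (by rw [h, htt])
    have h6 : i ≠ t l := fun h => h4 (by rw [h, htt])
    have h7 : k ≠ t l := fun h => h3 (by rw [h, htt])
    refine ⟨swap k (t k) * swap l (t l), ?_, ?_, ?_, ?_⟩
    · rw [Perm.mem_alternatingGroup, Perm.sign_mul, Perm.sign_swap (Ne.symm htk),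
        Perm.sign_swap (Ne.symm htl)]
      rfl
    · rw [← mul_assoc, swap_comm_of (Or.inl ⟨rfl, htt k⟩), mul_assoc,
        swap_comm_of (Or.inl ⟨rfl, htt l⟩), mul_assoc]
    · rw [Perm.mul_apply, swap_apply_of_ne_of_ne hil h6, swap_apply_of_ne_of_ne hik h5]
    · rw [Perm.mul_apply, swap_apply_of_ne_of_ne hkl h7, swap_apply_left]
      exact htk

theorem fgam_altFin {n : ℕ} (h5 : 5 ≤ n) (h6 : n ≠ 6) : FGam ↥(alternatingGroup (Fin n)) := by
  intro τ δ h1 h2 h3 h4 h7
  obtain ⟨ψ, hψ⟩ := UAlt.AutFive.exists_autHom_fin n h5 h6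
  have hinj : ∀ e : MulAut (alternatingGroup (Fin n)), ψ e = 1 → e = 1 := by
    intro e he
    ext x : 1
    apply Subtype.ext
    rw [hψ, he, one_mul, inv_one, mul_one]
    rfl
  apply hinj
  by_contra hne
  obtain ⟨i, hi⟩ : ∃ i, ψ δ i ≠ i := by
    by_contra hcon
    push Not at hcon
    exact hne (Equiv.ext hcon)
  obtain ⟨x, hx, hx1, hx2, hx3⟩ := exists_even (t := ψ τ) (d := ψ δ) (i := i)
    (by rw [← map_mul, h1, map_one]) (fun h => h2 (hinj _ h))
    (Odd.of_dvd_nat h3 (orderOf_map_dvd ψ δ)) (by rw [← map_mul, h4, map_mul]) hi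
  have h8 : τ ⟨x, hx⟩ = ⟨x, hx⟩ := by
    apply Subtype.ext
    rw [hψ]
    change ψ τ * x * (ψ τ)⁻¹ = x
    rw [hx1, mul_inv_cancel_right]
  have h9 := congrArg Subtype.val (h7 _ h8)
  rw [hψ] at h9
  change ψ δ * x * (ψ δ)⁻¹ = x at h9
  apply hx3
  rw [mul_inv_eq_iff_eq_mul] at h9
  have h10 := DFunLike.congr_fun h9 i
  rw [Perm.mul_apply, Perm.mul_apply, hx2] at h10
  exact h10.symm

theorem fgam_alt {K : Type*} [Group K] {n : ℕ} (h7 : 7 ≤ n) (h : IsAlt n K) : FGam K := by
  obtain ⟨e⟩ := h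
  exact (fgam_altFin (by omega) (by omega)).congr e.symm

end alt

/-! ### the elimination -/

variable {G : Type u} [Group G] [Finite G]

/-- `L ≤ F*(G)` if `G = F*(G)⟨x⟩O(C(x))` -/
theorem le_fs {x a : G} {L : Subgroup G} (hx : orderOf x = 2)
    (htop : Fs G ⊔ zpowers x ⊔ core (centralizer ({x} : Set G)) = ⊤)
    (hL : IsComp (centralizer ({a} : Set G)) L) : L ≤ Fs G := by
  have hXn : (Fs G).Normal := Trich.normal_fs
  obtain ⟨O, hO⟩ : ∃ O, O = core (centralizer ({x} : Set G)) := ⟨_, rfl⟩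
  rw [← hO] at htop
  have hOodd : Odd (Nat.card O) := hO ▸ odd_card_core _
  have hOx : ∀ o ∈ O, o * x = x * o := fun o ho => comm_c (core_le _ (hO ▸ ho))
  obtain ⟨Y, hY⟩ : ∃ Y, Y = Fs G ⊔ O := ⟨_, rfl⟩
  have hXY : Fs G ≤ Y := hY ▸ le_sup_left
  have hOY : O ≤ Y := hY ▸ le_sup_right
  -- `Y` is normal
  have hYn : Y.Normal := by
    rw [← Subgroup.normalizer_eq_top_iff, eq_top_iff, ← htop]
    refine sup_le (sup_le (hXY.trans le_normalizer) ?_) (hOY.trans le_normalizer)
    rw [zpowers_le, mem_normalizer_iff_cj, hY]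
    have e1 : cj x (Fs G ⊔ O) = cj x (Fs G) ⊔ cj x O := by
      rw [cj_def, cj_def, cj_def, Subgroup.map_sup]
    have e2 : cj x (Fs G) = Fs G := by
      have : x ∈ normalizer (Fs G : Set G) := by
        rw [Subgroup.normalizer_eq_top_iff.mpr hXn]; exact mem_top x
      exact mem_normalizer_iff_cj.mp this
    have e3 : cj x O = O := by
      have : x ∈ normalizer (O : Set G) := by
        rw [hO]
        exact le_normalizer_core _ (mem_c rfl)
      exact mem_normalizer_iff_cj.mp this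
    rw [e1, e2, e3]
  -- `G / Y` is abelian
  have hcomm : ∀ g h : G, ⁅g, h⁆ ∈ Y := by
    have hgen : ∀ g : G, ∃ k : ℤ, QuotientGroup.mk' Y g = (QuotientGroup.mk' Y x) ^ k := by
      intro g
      have hg : g ∈ Y ⊔ zpowers x := by
        have : (Y ⊔ zpowers x) = ⊤ := by
          rw [eq_top_iff, ← htop]
          exact sup_le (sup_le (hXY.trans le_sup_left) le_sup_right) (hOY.trans le_sup_left)
        rw [this]; exact mem_top g
      obtain ⟨y, hy, z, hz, rfl⟩ := Subgroup.mem_sup_of_normal_left.mp hg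
      obtain ⟨k, rfl⟩ := mem_zpowers_iff.mp hz
      refine ⟨k, ?_⟩
      rw [map_mul, (QuotientGroup.eq_one_iff y).mpr hy |> fun h => (h : QuotientGroup.mk' Y y = 1),
        one_mul, map_zpow]
    intro g h
    obtain ⟨k, hk⟩ := hgen g
    obtain ⟨l, hl⟩ := hgen h
    have h1 : QuotientGroup.mk' Y ⁅g, h⁆ = 1 := by
      rw [map_commutatorElement, hk, hl, commutatorElement_eq_one_iff_mul_comm]
      exact (Commute.zpow_zpow_self _ k l)
    exact (QuotientGroup.eq_one_iff _).mp h1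
  have hLY : L ≤ Y := by
    rw [← hL.perfect, Subgroup.commutator_le]
    exact fun g _ h _ => hcomm g h
  -- 2-elements of `Y` lie in `X`
  rw [← hL.pElem_eq]
  refine (Subgroup.closure_le _).mpr ?_
  rintro y ⟨hyL, n, hn⟩
  have hyY : y ∈ Fs G ⊔ O := hY ▸ hLY hyL
  obtain ⟨f, hf, o, ho, rfl⟩ := Subgroup.mem_sup_of_normal_left.mp hyY
  have h1 : QuotientGroup.mk' (Fs G) (f * o) = QuotientGroup.mk' (Fs G) o := by
    rw [map_mul, show QuotientGroup.mk' (Fs G) f = 1 from (QuotientGroup.eq_one_iff f).mpr hf,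
      one_mul]
  have h2 : (QuotientGroup.mk' (Fs G) o) ^ 2 ^ n = 1 := by
    rw [← h1, ← map_pow, hn, map_one]
  have h3 : Odd (orderOf (QuotientGroup.mk' (Fs G) o)) := by
    refine Odd.of_dvd_nat hOodd ((orderOf_map_dvd _ o).trans ?_)
    have h4 := orderOf_dvd_natCard (⟨o, ho⟩ : O)
    rwa [Subgroup.orderOf_mk] at h4
  have h4 : QuotientGroup.mk' (Fs G) o = 1 := by
    have h5 : orderOf (QuotientGroup.mk' (Fs G) o) ∣ 2 ^ n := orderOf_dvd_of_pow_eq_one h2
    have h6 : Nat.Coprime (orderOf (QuotientGroup.mk' (Fs G) o)) (2 ^ n) :=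
      Nat.Coprime.pow_right n h3.coprime_two_right
    exact orderOf_eq_one_iff.mp (Nat.Coprime.eq_one_of_dvd h6 h5)
  exact mul_mem hf ((QuotientGroup.eq_one_iff o).mp h4)

/-- Case (ga) is impossible for the first entry of a triple of type `FGam`. -/
theorem sup_eq_top_of_triple (h : MinCex G) {x a : G} {L : Subgroup G} (T : IsTriple x a L)
    (hF : FGam (Bar L)) : Fs G ⊔ zpowers x = ⊤ := by
  obtain ⟨d, hd, hda, hf⟩ := T.bad
  have hO : core (centralizer ({x} : Set G)) ≠ ⊥ := by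
    intro h1
    rw [h1, mem_bot] at hd
    rw [hd] at hf
    exact hf (fixes_one L)
  rcases Trich.trichotomy h T.invx hO with h1 | h1 | ⟨-, -, h1⟩
  · rw [eq_top_iff, ← h1]
    exact le_sup_left
  · exact h1.2.1
  · exfalso
    have hLX : L ≤ Fs G := le_fs T.invx (Trich.sup_eq_top h T.invx hO) T.comp
    have hdL := T.mem_normalizer_of_core hd hda
    apply hf
    rw [← act_eq_one_iff hdL]
    refine hF (act L ⟨x, T.x_mem⟩) _ (Res.KFacts.act_sq T) ?_ ?_ ?_ ?_
    · intro h2
      exact T.not_fixes ((act_eq_one_iff T.x_mem).mp h2)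
    · have h3 : orderOf (act L ⟨d, hdL⟩) ∣ orderOf (⟨d, hdL⟩ : ↥(normalizer (L : Set G))) :=
        orderOf_map_dvd _ _
      rw [Subgroup.orderOf_mk] at h3
      refine Odd.of_dvd_nat ?_ h3
      have h4 := orderOf_dvd_natCard (⟨d, hd⟩ : ↥(core (centralizer ({x} : Set G))))
      rw [Subgroup.orderOf_mk] at h4
      exact Odd.of_dvd_nat (odd_card_core _) h4
    · exact Res.KFacts.act_comm hdL T.x_mem (comm_c (core_le _ hd))
    · intro k hk
      obtain ⟨c, hc, hcx, rfl⟩ := Res.KFacts.exists_lift T hk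
      have h2 := h1 d hd c ⟨mem_sup_left (hLX hc), mem_c hcx⟩
      rw [act_mk hdL hc]
      congr 1
      apply Subtype.ext
      change d * c * d⁻¹ = c
      rw [commutatorElement_eq_one_iff_mul_comm] at h2
      rw [h2, mul_inv_cancel_right]

/-- If `X⟨x⟩ = G` for one involution `x` then `X⟨t⟩ = G` for all involutions `t` with `O(C(t)) ≠ 1`. -/
theorem sup_eq_top_of_one (h : MinCex G) {x : G} (hx : orderOf x = 2) (htop : Fs G ⊔ zpowers x = ⊤)
    {t : G} (ht : orderOf t = 2) (hO : core (centralizer ({t} : Set G)) ≠ ⊥) :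
    Fs G ⊔ zpowers t = ⊤ := by
  have hXn : (Fs G).Normal := Trich.normal_fs
  have hx2 : x * x = 1 := sq_of_order hx
  -- squares lie in `X`
  have hsq : ∀ g : G, g * g ∈ Fs G := by
    intro g
    have hg : g ∈ Fs G ⊔ zpowers x := htop ▸ mem_top g
    obtain ⟨y, hy, z, hz, rfl⟩ := Subgroup.mem_sup_of_normal_left.mp hg
    obtain ⟨k, rfl⟩ := mem_zpowers_iff.mp hz
    rw [← QuotientGroup.eq_one_iff]
    change QuotientGroup.mk' (Fs G) _ = 1
    have h1 : QuotientGroup.mk' (Fs G) y = 1 := (QuotientGroup.eq_one_iff y).mpr hy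
    rw [map_mul, map_mul, h1, one_mul, ← map_mul, ← zpow_add]
    have h2 : x ^ (k + k) = 1 := by
      rw [← two_mul, zpow_mul]
      have : x ^ (2 : ℤ) = 1 := by rw [zpow_two, hx2]
      rw [this, one_zpow]
    rw [h2, map_one]
  have hOX : core (centralizer ({t} : Set G)) ≤ Fs G := by
    intro o ho
    have h4 := orderOf_dvd_natCard (⟨o, ho⟩ : ↥(core (centralizer ({t} : Set G))))
    rw [Subgroup.orderOf_mk] at h4
    exact Res.PGLFacts.mem_of_sq_mem (hsq o) (Odd.of_dvd_nat (odd_card_core _) h4)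
  rw [eq_top_iff, ← Trich.sup_eq_top h ht hO]
  exact sup_le le_rfl (hOX.trans le_sup_left)

/-- **Case (ga) does not occur.** -/
theorem noGamma (h : MinCex G) (hex : ∃ (x a : G) (L : Subgroup G), IsTriple x a L ∧ FGam (Bar L))
    {t : G} (ht : orderOf t = 2) (hO : core (centralizer ({t} : Set G)) ≠ ⊥) :
    Fs G ⊔ zpowers t = ⊤ := by
  obtain ⟨x, a, L, T, hF⟩ := hex
  exact sup_eq_top_of_one h T.invx (sup_eq_top_of_triple h T hF) ht hO

/-- types `PSL₂(q)` and `Aₙ` -/
theorem fgam_of_type {K : Type u} [Group K] (h : IsL2 K ∨ IsAltOdd K) : FGam K := by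
  rcases h with h | ⟨n, -, h7, h⟩
  · exact fgam_l2 h
  · exact fgam_alt h7 h

/-- The trichotomy becomes a dichotomy: `x ∈ X = G`, or `G = X⟨x⟩`, `x ∉ X` and `X` is core-free. -/
theorem dichotomy (h : MinCex G) (hex : ∃ (x a : G) (L : Subgroup G), IsTriple x a L ∧ FGam (Bar L))
    {x : G} (hx : orderOf x = 2) (hO : core (centralizer ({x} : Set G)) ≠ ⊥) :
    Fs G = ⊤ ∨
    (x ∉ Fs G ∧ Fs G ⊔ zpowers x = ⊤ ∧ ∀ t ∈ Fs G, orderOf t = 2 →
      core (Fs G ⊓ centralizer ({t} : Set G)) = ⊥) := by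
  rcases Trich.trichotomy h hx hO with h1 | h1 | ⟨h1, -, -⟩
  · exact Or.inl h1
  · exact Or.inr h1
  · exact absurd (noGamma h hex hx hO) h1

/-- `G = F*(G)` if some involution of `F*(G)` has a nontrivial core. -/
theorem fs_eq_top (h : MinCex G) (hex : ∃ (x a : G) (L : Subgroup G), IsTriple x a L ∧ FGam (Bar L))
    {x : G} (hx : orderOf x = 2) (hO : core (centralizer ({x} : Set G)) ≠ ⊥) (hxX : x ∈ Fs G) :
    Fs G = ⊤ := by
  rcases dichotomy h hex hx hO with h1 | h1
  · exact h1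
  · exact absurd hxX h1.1

/-- The index of `F*(G)` is at most 2. -/
theorem index_le (h : MinCex G) (hex : ∃ (x a : G) (L : Subgroup G), IsTriple x a L ∧ FGam (Bar L)) :
    (Fs G).index = 1 ∨ (Fs G).index = 2 := by
  obtain ⟨x, a, L, T, hF⟩ := hex
  have htop := sup_eq_top_of_triple h T hF
  have hXn : (Fs G).Normal := Trich.normal_fs
  by_cases hxX : x ∈ Fs G
  · left
    rw [index_eq_one, ← htop]
    exact (sup_eq_left.mpr (by rwa [zpowers_le])).symm
  · right
    have hx2 : x * x = 1 := sq_of_order T.invx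
    rw [Subgroup.index_eq_two_iff]
    refine ⟨x, fun g => ?_⟩
    have hg : g ∈ Fs G ⊔ zpowers x := htop ▸ mem_top g
    obtain ⟨y, hy, z, hz, rfl⟩ := Subgroup.mem_sup_of_normal_left.mp hg
    obtain ⟨k, rfl⟩ := mem_zpowers_iff.mp hz
    have hx2' : x ^ (2 : ℤ) = 1 := by rw [zpow_two, hx2]
    rcases Int.even_or_odd' k with ⟨m, rfl | rfl⟩
    · rw [zpow_mul, hx2', one_zpow, mul_one]
      right
      refine ⟨hy, fun h1 => hxX ?_⟩
      have := mul_mem (inv_mem hy) h1
      rwa [inv_mul_cancel_left] at this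
    · rw [zpow_add, zpow_mul, hx2', one_zpow, one_mul, zpow_one]
      left
      refine ⟨?_, fun h1 => hxX ?_⟩
      · rw [mul_assoc, hx2, mul_one]; exact hy
      · have := mul_mem (inv_mem hy) h1
        rwa [inv_mul_cancel_left] at this

end Cfsg.Agent.UGT.NoGamma
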