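import Cfsg.Agent.UGT.Triple
import Cfsg.Agent.GH.L2AutSyl
import Cfsg.Agent.GH.KeyTransfer
import Cfsg.Agent.GH.Rank
import Cfsg.Agent.S1232
import Cfsg.Agent.Solvable.UniqueOrderP

/-!
# Unbalancing triples of type `L₂(q)`, `x` of `PGL₂` type, `m(C_Q(x)) = 1` (helper75 #7876 (0)-(3))

`Cfg a x d r L T Q P`: `L` a 2-component of `C(a)`, `T` a Sylow 2-subgroup of `N_{C(a)}(L)`, `C_T(x)` Sylow in
`N_{C(a)}(L) ∩ C(x)`, `Q` the kernel of `T` on `L / O(L)`, `P = T ∩ L = ⟨d, r⟩` dihedral (or a four-group), `x` an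
involution of `T` with `x d x⁻¹ = d⁻¹`, `x r x⁻¹ = d r`, `T = QP ∪ QPx`.

* `rank_le_of_small` : `C_Q(x) ≤ {1, a}` ⇒ a Sylow 2-subgroup of `G` has a self-centralizing `E₈`, so sectional
  rank `≤ 4`.
* `syl_of_rank_one` : `a` the only involution of `C_Q(x)`, `C_Q(x) ≠ {1, a}` ⇒ `T` is a Sylow 2-subgroup of `G`
  and `C_T(x)` of `C(x)`.
* `exists_hom` : moreover, if `Q ≰ C(x)`, some homomorphism `G → {±1}` maps `x` to `-1`.
-/

set_option autoImplicit false

open Cfsg Subgroup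
open Cfsg.Agent.SignalizersComponents Cfsg.Agent.Lib
open Cfsg.Agent.SignalizersComponents.IntrinsicBasic
open Cfsg.Agent.SignalizersComponents.PLayerAut
open Cfsg.Agent.Intrinsic.Basic Cfsg.Agent.Intrinsic.Cen Cfsg.Agent.Intrinsic.Diag
open Cfsg.Agent.McLLyComp.Act
open Cfsg.Agent.GH.L2Aut
open scoped commutatorElement

namespace Cfsg.Agent.UGT.RankOneR

variable {G : Type*} [Group G]

theorem four_le_card [Finite G] {p q : G} (h : Four p q) : 4 ≤ Nat.card h.sub := by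
  have hab : p * q ≠ 1 := fun h1 => h.ne (by
    have := eq_inv_of_mul_eq_one_left h1
    rwa [inv_eq_of_mul_eq_one_left h.bb] at this)
  let f : Bool × Bool → h.sub := fun e => ⟨cond e.1 p 1 * cond e.2 q 1, by
    rcases e with ⟨_ | _, _ | _⟩
    · left; exact one_mul _
    · right; right; left; exact one_mul _
    · right; left; exact mul_one _
    · right; right; right; rfl⟩
  have hf : Function.Injective f := by
    rintro ⟨e1, e2⟩ ⟨e3, e4⟩ h1
    have h2 : cond e1 p 1 * cond e2 q 1 = cond e3 p 1 * cond e4 q 1 := congrArg Subtype.val h1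
    rcases e1 <;> rcases e2 <;> rcases e3 <;> rcases e4 <;>
      simp only [cond_true, cond_false, one_mul, mul_one, mul_eq_left, mul_eq_right,
        left_eq_mul, right_eq_mul] at h2 <;>
      first
        | rfl
        | exact absurd h2 h.a1
        | exact absurd h2.symm h.a1
        | exact absurd h2 h.b1
        | exact absurd h2.symm h.b1
        | exact absurd h2 h.ne
        | exact absurd h2.symm h.ne
        | exact absurd h2 hab
        | exact absurd h2.symm hab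
  have h3 := Nat.card_le_card_of_injective f hf
  have h4 : Nat.card (Bool × Bool) = 4 := by
    rw [Nat.card_eq_fintype_card]; rfl
  rwa [h4] at h3

/-- normalizers grow in 2-groups -/
theorem exists_norm [Finite G] {T U : Subgroup G} (hU : IsPGroup 2 U) (hle : T ≤ U)
    (hne : ¬ U ≤ T) : ∃ y ∈ U, y ∉ T ∧ (∀ g ∈ T, y * g * y⁻¹ ∈ T) ∧ ∀ g ∈ T, y⁻¹ * g * y ∈ T := by
  have : Fact (Nat.Prime 2) := ⟨Nat.prime_two⟩
  have hnil : Group.IsNilpotent U := hU.isNilpotent
  have hlt : T.subgroupOf U < ⊤ := by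
    rw [lt_top_iff_ne_top]
    intro h
    exact hne (Subgroup.subgroupOf_eq_top.1 h)
  have h1 := Group.normalizerCondition_of_isNilpotent (T.subgroupOf U) hlt
  obtain ⟨y, hy, hyT⟩ := Set.exists_of_ssubset h1
  refine ⟨y, y.2, fun h => hyT h, fun g hg => ?_, fun g hg => ?_⟩
  · exact (Subgroup.mem_normalizer_iff.1 hy ⟨g, hle hg⟩).1 hg
  · have h2 := (Subgroup.mem_normalizer_iff.1 (inv_mem hy) ⟨g, hle hg⟩).1 hg
    have h3 : (y : G)⁻¹ * g * (y : G)⁻¹⁻¹ ∈ T := h2
    rwa [inv_inv] at h3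

open Cfsg.Agent.GH.KeyTransfer in
/-- **Thompson–Lyons transfer.** `D` of odd index, `|D : M| = 2`, `U` a 2-group in `C(x)` containing `x`; if
`x^g ∉ M` whenever `U^g ≤ D`, then some homomorphism onto `{±1}` maps `x` to `-1`. -/
theorem exists_hom_of_extremal [Finite G] {D M : Subgroup G} (hMD : M ≤ D) (hi : M.relIndex D = 2)
    (hD : ¬ 2 ∣ D.index) {x : G} (hx : x * x = 1) {U : Subgroup G} (hU : IsPGroup 2 U)
    (hUx : ∀ u ∈ U, u * x = x * u) (hxU : x ∈ U)
    (h : ∀ g : G, (∀ u ∈ U, g⁻¹ * u * g ∈ D) → g⁻¹ * x * g ∉ M) : ∃ f : G →* ℤˣ, f x = -1 := by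
  have : Fact (Nat.Prime 2) := ⟨Nat.prime_two⟩
  obtain ⟨f, hf⟩ := exists_hom hMD hi hx
  refine ⟨f, ?_⟩
  rw [hf]
  apply Odd.neg_one_pow
  let Ω : SubMulAction U (G ⧸ D) :=
    { carrier := {q | Bad D M x q}
      smul_mem' := by
        rintro ⟨t, ht⟩ q ⟨g, rfl, h3⟩
        refine ⟨t * g, rfl, ?_⟩
        have e : (t * g)⁻¹ * x * (t * g) = g⁻¹ * x * g := by
          calc (t * g)⁻¹ * x * (t * g) = g⁻¹ * (t⁻¹ * (x * t)) * g := by group
            _ = g⁻¹ * x * g := by rw [← hUx t ht]; group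
        rw [e]
        exact h3 }
  have h3 := hU.card_modEq_card_fixedPoints Ω
  have h4 : Nat.card Ω = Nat.card {q : G ⧸ D // Bad D M x q} := rfl
  have h5 : Nat.card (MulAction.fixedPoints U Ω) = Nat.card (MulAction.fixedPoints U (G ⧸ D)) := by
    refine Nat.card_congr
      { toFun := fun q => ⟨q.1.1, fun t => congrArg Subtype.val (q.2 t)⟩
        invFun := fun q => ⟨⟨q.1, ?_⟩, fun t => Subtype.ext (q.2 t)⟩
        left_inv := fun _ => rfl
        right_inv := fun _ => rfl }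
    obtain ⟨q, hq⟩ := q
    obtain ⟨g, rfl⟩ := QuotientGroup.mk_surjective q
    have h6 : ∀ u ∈ U, g⁻¹ * u * g ∈ D := fun u hu => smul_eq_iff.mp (hq ⟨u, hu⟩)
    exact (bad_mk hMD hi).mpr ⟨h6 x hxU, h g h6⟩
  have h6 := hU.card_modEq_card_fixedPoints (G ⧸ D)
  rw [h4, h5] at h3
  have h7 : Nat.card {q : G ⧸ D // Bad D M x q} ≡ D.index [MOD 2] := h3.trans h6.symm
  rw [← Nat.not_even_iff_odd, even_iff_two_dvd]
  intro h8
  exact hD ((Nat.ModEq.dvd_iff h7 dvd_rfl).mp h8)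

/-- The configuration, see the header. -/
structure Cfg (a x d r : G) (L T Q P : Subgroup G) : Prop where
  a2 : a * a = 1
  a1 : a ≠ 1
  x2 : x * x = 1
  comp : IsComp (centralizer ({a} : Set G)) L
  TC : T ≤ centralizer ({a} : Set G)
  TN : T ≤ normalizer (L : Set G)
  Tp : IsPGroup 2 T
  syl : ∀ U : Subgroup G, IsPGroup 2 U → T ≤ U → U ≤ centralizer ({a} : Set G) →
    U ≤ normalizer (L : Set G) → U ≤ T
  aT : a ∈ T
  xT : x ∈ T
  sylx : ∀ U : Subgroup G, IsPGroup 2 U → T ⊓ centralizer ({x} : Set G) ≤ U →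
    U ≤ centralizer ({a} : Set G) → U ≤ normalizer (L : Set G) →
    U ≤ centralizer ({x} : Set G) → U ≤ T
  Qdef : ∀ t, t ∈ Q ↔ t ∈ T ∧ Fixes t L
  Pdef : ∀ t, t ∈ P ↔ t ∈ T ∧ t ∈ L
  disj : ∀ t, t ∈ Q → t ∈ P → t = 1
  comm : ∀ q ∈ Q, ∀ p ∈ P, q * p = p * q
  dih : Dih P d r
  xd : x * d * x⁻¹ = d⁻¹
  xr : x * r * x⁻¹ = d * r
  cov : ∀ t ∈ T, ∃ q ∈ Q, ∃ p ∈ P, t = q * p ∨ t = q * p * x

namespace Cfg

variable {a x d r : G} {L T Q P : Subgroup G}

section basic

variable (C : Cfg a x d r L T Q P)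
include C

theorem QT : Q ≤ T := fun t ht => ((C.Qdef t).mp ht).1

theorem PT : P ≤ T := fun t ht => ((C.Pdef t).mp ht).1

theorem xi : x⁻¹ = x := inv_eq_of_mul_eq_one_left C.x2

theorem aQ : a ∈ Q := by
  refine (C.Qdef a).mpr ⟨C.aT, C.TN C.aT, fun y hy => ?_⟩
  have h1 : y * a = a * y := mem_centralizer_singleton_iff.mp (C.comp.le hy)
  have h2 : ⁅a, y⁆ = 1 := by
    rw [commutatorElement_def, ← h1]; group
  rw [h2]
  exact one_mem _

theorem a_comm {t : G} (ht : t ∈ T) : t * a = a * t := mem_centralizer_singleton_iff.mp (C.TC ht)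

/-- `Q` is normalized by `T` -/
theorem Qconj {t q : G} (ht : t ∈ T) (hq : q ∈ Q) : t * q * t⁻¹ ∈ Q := by
  obtain ⟨h1, h2⟩ := (C.Qdef q).mp hq
  exact (C.Qdef _).mpr ⟨mul_mem (mul_mem ht h1) (inv_mem ht), fixes_conj h2 (C.TN ht)⟩

theorem Pconj {t p : G} (ht : t ∈ T) (hp : p ∈ P) : t * p * t⁻¹ ∈ P := by
  obtain ⟨h1, h2⟩ := (C.Pdef p).mp hp
  exact (C.Pdef _).mpr ⟨mul_mem (mul_mem ht h1) (inv_mem ht), conj_mem (C.TN ht) h2⟩

theorem qp_eq {q q' p p' : G} (hq : q ∈ Q) (hq' : q' ∈ Q) (hp : p ∈ P) (hp' : p' ∈ P)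
    (h : q * p = q' * p') : q = q' ∧ p = p' := by
  have h1 : q'⁻¹ * q = p' * p⁻¹ := by
    calc q'⁻¹ * q = q'⁻¹ * (q * p) * p⁻¹ := by group
      _ = p' * p⁻¹ := by rw [h]; group
  have h2 := C.disj _ (mul_mem (inv_mem hq') hq) (h1 ▸ mul_mem hp' (inv_mem hp))
  have h3 : q = q' := by
    rw [inv_mul_eq_one] at h2
    exact h2.symm
  refine ⟨h3, ?_⟩
  rw [h3] at h
  exact mul_left_cancel h

theorem xdk (k : ℤ) : x * d ^ k * x⁻¹ = d ^ (-k) := by
  rw [← conj_zpow, C.xd, inv_zpow, zpow_neg]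

/-- `x` acts on a reflection -/
theorem xdkr (k : ℤ) : x * (d ^ k * r) * x⁻¹ = d ^ (1 - k) * r := by
  calc x * (d ^ k * r) * x⁻¹ = (x * d ^ k * x⁻¹) * (x * r * x⁻¹) := by group
    _ = d ^ (-k) * (d * r) := by rw [C.xdk, C.xr]
    _ = d ^ (1 - k) * r := by
      rw [← mul_assoc]
      nth_rw 2 [← zpow_one d]
      rw [← zpow_add]
      congr 2
      ring

theorem Pp : IsPGroup 2 P := C.Tp.to_le C.PT

theorem exists_pow_d : ∃ n, d ^ 2 ^ n = 1 := by
  obtain ⟨n, hn⟩ := C.Pp ⟨d, C.dih.d_mem⟩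
  exact ⟨n, congrArg Subtype.val hn⟩

/-- an odd power of `d` is not trivial -/
theorem odd_ne [Finite G] {k : ℤ} (hk : Odd k) : d ^ k ≠ 1 := by
  intro h
  have h6 := zpowers_odd C.exists_pow_d hk
  rw [h, Subgroup.zpowers_one_eq_bot, Subgroup.mem_bot] at h6
  exact C.dih.d1 h6

theorem mul_mem_qp {q q' p p' : G} (hp : p ∈ P) (hq' : q' ∈ Q) :
    q * p * (q' * p') = (q * q') * (p * p') := by
  calc q * p * (q' * p') = q * (p * q') * p' := by group
    _ = (q * q') * (p * p') := by rw [← C.comm q' hq' p hp]; group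

/-- `x` is not in `QP` -/
theorem x_not_qp [Finite G] {q p : G} (hq : q ∈ Q) (hp : p ∈ P) : x ≠ q * p := by
  intro h
  have h1 : ∀ p' ∈ P, x * p' * x⁻¹ = p * p' * p⁻¹ := by
    intro p' hp'
    calc x * p' * x⁻¹ = q * (p * p' * p⁻¹) * q⁻¹ := by rw [h]; group
      _ = (p * p' * p⁻¹) * q * q⁻¹ := by
        rw [C.comm q hq _ (mul_mem (mul_mem hp hp') (inv_mem hp))]
      _ = _ := by group
  have h2 := h1 r C.dih.r_mem
  rw [C.xr] at h2
  have key : ∀ k : ℤ, d * r ≠ d ^ (2 * k) * r := by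
    intro k hk
    have h3 : d ^ (2 * k - 1) = 1 := by
      have h4 := mul_right_cancel hk
      rw [sub_eq_add_neg, zpow_add, ← h4]
      group
    exact C.odd_ne ⟨k - 1, by ring⟩ h3
  rcases C.dih.cov p hp with h3 | ⟨k, rfl⟩
  · obtain ⟨k, rfl⟩ := mem_zpowers_iff.mp h3
    apply key k
    rw [h2]
    calc d ^ k * r * (d ^ k)⁻¹ = d ^ k * (r * d ^ (-k)) := by rw [zpow_neg]; group
      _ = d ^ k * (d ^ (- -k) * r) := by rw [C.dih.r_pow']
      _ = d ^ (2 * k) * r := by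
        rw [neg_neg, ← mul_assoc, ← zpow_add, two_mul]
  · apply key k
    rw [h2]
    calc d ^ k * r * r * (d ^ k * r)⁻¹ = d ^ k * (r * d ^ (-k)) := by
          rw [mul_inv_rev, C.dih.rinv, mul_assoc (d ^ k), C.dih.rr, zpow_neg]; group
      _ = d ^ k * (d ^ (- -k) * r) := by rw [C.dih.r_pow']
      _ = d ^ (2 * k) * r := by
        rw [neg_neg, ← mul_assoc, ← zpow_add, two_mul]

end basic

/-- the central involution of `P` -/
structure IsS (x d : G) (P : Subgroup G) (s : G) : Prop where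
  mem : s ∈ P
  ss : s * s = 1
  s1 : s ≠ 1
  cP : ∀ p ∈ P, s * p = p * s
  xs : x * s = s * x
  fix : ∀ k : ℤ, ∀ p ∈ P, d ^ k * x * p = p * (d ^ k * x) → p = 1 ∨ p = s
  sq : ∀ p ∈ P, p * p = 1 → ∃ v ∈ P, Four s v ∧ v * p = p * v

section fin

variable [Finite G] (C : Cfg a x d r L T Q P)
include C

theorem exists_s : ∃ s, IsS x d P s := by
  obtain ⟨n, hn, hss, hs1⟩ := C.dih.exists_z C.Pp
  have hinv : (d ^ 2 ^ n)⁻¹ = d ^ 2 ^ n := inv_eq_of_mul_eq_one_left hss
  have hr : r * d ^ 2 ^ n = d ^ 2 ^ n * r := by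
    have := C.dih.r_pow' ((2 ^ n : ℕ) : ℤ)
    rw [zpow_natCast, zpow_neg, zpow_natCast, hinv] at this
    exact this
  have hd : ∀ k : ℤ, d ^ 2 ^ n * d ^ k = d ^ k * d ^ 2 ^ n := fun k =>
    ((Commute.refl d).pow_left _).zpow_right _
  have hsP : d ^ 2 ^ n ∈ P := pow_mem C.dih.d_mem _
  have hcP : ∀ p ∈ P, d ^ 2 ^ n * p = p * d ^ 2 ^ n := by
    intro p hp
    rcases C.dih.cov p hp with h | ⟨k, rfl⟩
    · obtain ⟨k, rfl⟩ := mem_zpowers_iff.mp h
      exact hd k
    · rw [← mul_assoc, hd, mul_assoc, ← hr, mul_assoc]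
  have hu : ∀ y ∈ zpowers d, y * y = 1 → y = 1 ∨ y = d ^ 2 ^ n := by
    intro y hy hyy
    by_contra hcon
    push Not at hcon
    obtain ⟨k, rfl⟩ := mem_zpowers_iff.mp hy
    exact four_not_cyc (c := d) (a := d ^ k) (b := d ^ 2 ^ n)
        { aa := hyy, bb := hss, a1 := hcon.1, b1 := hs1, ne := hcon.2
          comm := (hd k).symm } hy (pow_mem (mem_zpowers d) _)
  refine ⟨d ^ 2 ^ n, hsP, hss, hs1, hcP, ?_, ?_, ?_⟩
  · have h1 := C.xdk ((2 ^ n : ℕ) : ℤ)
    rw [zpow_natCast, zpow_neg, zpow_natCast, hinv] at h1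
    calc x * d ^ 2 ^ n = (x * d ^ 2 ^ n * x⁻¹) * x := by group
      _ = d ^ 2 ^ n * x := by rw [h1]
  · intro k p hp h
    rcases C.dih.cov p hp with h3 | ⟨j, rfl⟩
    · obtain ⟨j, rfl⟩ := mem_zpowers_iff.mp h3
      apply hu _ h3
      have h4 : d ^ k * x * d ^ j = d ^ (k - j) * x := by
        calc d ^ k * x * d ^ j = d ^ k * (x * d ^ j * x⁻¹) * x := by group
          _ = d ^ (k - j) * x := by rw [C.xdk, ← zpow_add, sub_eq_add_neg]
      rw [h4, ← mul_assoc] at h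
      have h5 := mul_right_cancel h
      rw [sub_eq_add_neg, zpow_add, zpow_neg] at h5
      have h6 : d ^ j * d ^ k = d ^ k * d ^ j := ((Commute.refl d).zpow_left _).zpow_right _
      rw [h6] at h5
      have h7 := mul_left_cancel h5
      nth_rw 1 [← h7]
      exact inv_mul_cancel _
    · exfalso
      have h4 : d ^ k * x * (d ^ j * r) = d ^ (k + (1 - j)) * r * x := by
        calc d ^ k * x * (d ^ j * r) = d ^ k * (x * (d ^ j * r) * x⁻¹) * x := by group
          _ = d ^ (k + (1 - j)) * r * x := by rw [C.xdkr, zpow_add]; simp only [mul_assoc]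
      have h5 : d ^ j * r * (d ^ k * x) = d ^ (j - k) * r * x := by
        calc d ^ j * r * (d ^ k * x) = d ^ j * (r * d ^ k) * x := by group
          _ = d ^ (j - k) * r * x := by
            rw [C.dih.r_pow', ← mul_assoc, ← zpow_add, sub_eq_add_neg]
      rw [h4, h5] at h
      have h6 := mul_right_cancel (mul_right_cancel h)
      refine C.odd_ne (k := 2 * (k - j) + 1) ⟨k - j, rfl⟩ ?_
      have h7 : d ^ (2 * (k - j) + 1) = d ^ (k + (1 - j)) * (d ^ (j - k))⁻¹ := by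
        rw [← zpow_neg, ← zpow_add]
        congr 1
        ring
      rw [h7, h6, mul_inv_cancel]
  · intro p hp hpp
    rcases C.dih.cov p hp with h3 | ⟨j, rfl⟩
    · refine ⟨r, C.dih.r_mem, ⟨hss, C.dih.rr, hs1, C.dih.r1, fun h => ?_, hr.symm⟩, ?_⟩
      · exact C.dih.r_not (h ▸ pow_mem (mem_zpowers d) _)
      · rcases hu p h3 hpp with rfl | rfl
        · rw [mul_one, one_mul]
        · exact hr
    · refine ⟨d ^ j * r, hp, ⟨hss, hpp, hs1, fun h => ?_, fun h => ?_, hcP _ hp⟩, rfl⟩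
      · apply C.dih.r_not
        have : r = (d ^ j)⁻¹ * (d ^ j * r) := by group
        rw [this, h, mul_one]
        exact inv_mem (zpow_mem (mem_zpowers d) _)
      · apply C.dih.r_not
        have : r = (d ^ j)⁻¹ * (d ^ j * r) := by group
        rw [this, ← h]
        exact mul_mem (inv_mem (zpow_mem (mem_zpowers d) _)) (pow_mem (mem_zpowers d) _)

/-- the involutions of `T` -/
theorem invol_cases {y : G} (hy : y ∈ T) (hyy : y * y = 1) :
    (∃ q ∈ Q, ∃ p ∈ P, y = q * p ∧ q * q = 1 ∧ p * p = 1) ∨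
      ∃ q ∈ Q, ∃ k : ℤ, y = q * (d ^ k * x) := by
  obtain ⟨q, hq, p, hp, rfl | rfl⟩ := C.cov y hy
  · left
    refine ⟨q, hq, p, hp, rfl, ?_⟩
    rw [C.mul_mem_qp hp hq] at hyy
    have h1 := C.qp_eq (mul_mem hq hq) (one_mem Q) (mul_mem hp hp) (one_mem P)
      (by rw [hyy, mul_one])
    exact h1
  · right
    have hpT := C.PT hp
    have h1 : q * p * x * (q * p * x) =
        (q * ((p * x) * q * (p * x)⁻¹)) * (p * (x * p * x⁻¹)) := by
      calc q * p * x * (q * p * x) = (q * ((p * x) * q * (p * x)⁻¹)) * (p * (x * p * x)) := by group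
        _ = _ := by rw [C.xi]
    rw [h1] at hyy
    have h2 := C.qp_eq (mul_mem hq (C.Qconj (mul_mem hpT C.xT) hq)) (one_mem Q)
      (mul_mem hp (C.Pconj C.xT hp)) (one_mem P) (by rw [hyy, mul_one])
    rcases C.dih.cov p hp with h3 | ⟨k, rfl⟩
    · obtain ⟨k, rfl⟩ := mem_zpowers_iff.mp h3
      exact ⟨q, hq, k, by group⟩
    · exfalso
      have h4 := h2.2
      rw [C.xdkr] at h4
      refine C.odd_ne (k := 2 * k - 1) ⟨k - 1, by ring⟩ ?_
      calc d ^ (2 * k - 1) = d ^ k * d ^ (-(1 - k)) := by rw [← zpow_add]; congr 1; ring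
        _ = d ^ k * (r * d ^ (1 - k) * r⁻¹) := by rw [C.dih.r_pow]
        _ = d ^ k * r * (d ^ (1 - k) * r) := by rw [C.dih.rinv]; group
        _ = 1 := h4

variable {s : G} (hs : IsS x d P s)

omit [Finite G] in
theorem y_act {q : G} (hq : q ∈ Q) (k : ℤ) {p : G} (hp : p ∈ P) :
    (q * (d ^ k * x)) * p * (q * (d ^ k * x))⁻¹ = (d ^ k * x) * p * (d ^ k * x)⁻¹ := by
  have h1 : (d ^ k * x) * p * (d ^ k * x)⁻¹ ∈ P :=
    C.Pconj (mul_mem (zpow_mem (C.PT C.dih.d_mem) k) C.xT) hp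
  calc (q * (d ^ k * x)) * p * (q * (d ^ k * x))⁻¹
      = q * ((d ^ k * x) * p * (d ^ k * x)⁻¹) * q⁻¹ := by group
    _ = _ := by rw [C.comm q hq _ h1]; group

include hs

omit [Finite G] in
/-- `s` commutes with `q d^k x` -/
theorem ys {q : G} (hq : q ∈ Q) (k : ℤ) : (q * (d ^ k * x)) * s = s * (q * (d ^ k * x)) := by
  have h1 := C.y_act hq k hs.mem
  have h2 : (d ^ k * x) * s * (d ^ k * x)⁻¹ = s := by
    calc (d ^ k * x) * s * (d ^ k * x)⁻¹ = d ^ k * (x * s) * x⁻¹ * (d ^ k)⁻¹ := by group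
      _ = (d ^ k * s) * (d ^ k)⁻¹ := by rw [hs.xs]; group
      _ = s := by rw [← hs.cP _ (zpow_mem C.dih.d_mem k)]; group
  rw [h2] at h1
  calc (q * (d ^ k * x)) * s = ((q * (d ^ k * x)) * s * (q * (d ^ k * x))⁻¹) * (q * (d ^ k * x)) := by
        group
    _ = _ := by rw [h1]

omit [Finite G] in
/-- the centralizer in `QP` of `y = q₀ d^k x` -/
theorem cent_qp {q₀ : G} (hq₀ : q₀ ∈ Q) (k : ℤ) {q p : G} (hq : q ∈ Q) (hp : p ∈ P)
    (h : q * p * (q₀ * (d ^ k * x)) = q₀ * (d ^ k * x) * (q * p)) :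
    q * (q₀ * (d ^ k * x)) = q₀ * (d ^ k * x) * q ∧ (p = 1 ∨ p = s) := by
  obtain ⟨y, hy⟩ : ∃ y, y = q₀ * (d ^ k * x) := ⟨_, rfl⟩
  have hzT : d ^ k * x ∈ T := mul_mem (zpow_mem (C.PT C.dih.d_mem) k) C.xT
  have hyT : y ∈ T := hy ▸ mul_mem (C.QT hq₀) hzT
  have h1 : q * p = (y * q * y⁻¹) * ((d ^ k * x) * p * (d ^ k * x)⁻¹) := by
    rw [← C.y_act hq₀ k hp, ← hy]
    calc q * p = (q * p * y) * y⁻¹ := by group
      _ = (y * (q * p)) * y⁻¹ := by rw [hy, h]
      _ = _ := by group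
  obtain ⟨h2, h3⟩ := C.qp_eq hq (C.Qconj hyT hq) hp (C.Pconj hzT hp) h1
  rw [← hy]
  constructor
  · nth_rw 1 [h2]
    group
  · apply hs.fix k p hp
    nth_rw 2 [h3]
    group

omit [Finite G] in
/-- the centralizer in `T` of `y = q₀ d^k x` -/
theorem cent_y {q₀ : G} (hq₀ : q₀ ∈ Q) (k : ℤ) {y : G} (hy : y = q₀ * (d ^ k * x))
    (hyy : y * y = 1) {t : G} (ht : t ∈ T) (hty : t * y = y * t) :
    ∃ q ∈ Q, q * y = y * q ∧ t * t = q * q ∧ (t = q ∨ t = q * s ∨ t = q * y ∨ t = q * s * y) := by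
  have hsy : y * s = s * y := by rw [hy]; exact C.ys hs hq₀ k
  have hyT : y ∈ T := hy ▸ mul_mem (C.QT hq₀) (mul_mem (zpow_mem (C.PT C.dih.d_mem) k) C.xT)
  have key : ∀ t' : G, t' * y = y * t' → (∃ q ∈ Q, ∃ p ∈ P, t' = q * p) →
      ∃ q ∈ Q, q * y = y * q ∧ t' * t' = q * q ∧ (t' = q ∨ t' = q * s) := by
    rintro _ h1 ⟨q, hq, p, hp, rfl⟩
    rw [hy] at h1
    obtain ⟨h2, h3⟩ := C.cent_qp hs hq₀ k hq hp h1
    rw [← hy] at h2
    refine ⟨q, hq, h2, ?_, ?_⟩
    · rw [C.mul_mem_qp hp hq]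
      rcases h3 with rfl | rfl
      · rw [mul_one, mul_one]
      · rw [hs.ss, mul_one]
    · rcases h3 with rfl | rfl
      · exact Or.inl (mul_one _)
      · exact Or.inr rfl
  obtain ⟨q, hq, p, hp, h1 | h1⟩ := C.cov t ht
  · obtain ⟨q', h2, h3, h4, h5⟩ := key t hty ⟨q, hq, p, hp, h1⟩
    exact ⟨q', h2, h3, h4, h5.elim Or.inl fun h => Or.inr (Or.inl h)⟩
  · obtain ⟨q', h2, h3, h4, h5⟩ := key (t * y) (by rw [hty, mul_assoc, hty]) (by
      refine ⟨q * (x * q₀ * x⁻¹), mul_mem hq (C.Qconj C.xT hq₀), p * d ^ (-k),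
        mul_mem hp (zpow_mem C.dih.d_mem _), ?_⟩
      rw [← C.mul_mem_qp hp (C.Qconj C.xT hq₀), ← C.xdk, h1, hy]
      calc q * p * x * (q₀ * (d ^ k * x)) = q * p * (x * q₀ * x⁻¹ * (x * d ^ k * x)) := by group
        _ = _ := by rw [C.xi])
    have hyi : y⁻¹ = y := inv_eq_of_mul_eq_one_left hyy
    have h6 : t = t * y * y := by rw [mul_assoc, hyy, mul_one]
    refine ⟨q', h2, h3, ?_, ?_⟩
    · rw [← h4]
      calc t * t = t * (y * y) * t := by rw [hyy, mul_one]
        _ = t * y * (y * t) := by group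
        _ = t * y * (t * y) := by rw [hty]
    · rcases h5 with h5 | h5
      · right; right; left
        rw [← h5, mul_assoc, hyy, mul_one]
      · right; right; right
        rw [← h5, mul_assoc, hyy, mul_one]

omit [Finite G] in
/-- the centralizer in `T` of `x` -/
theorem cent_x {t : G} (ht : t ∈ T) (htx : t * x = x * t) :
    ∃ q ∈ Q, q * x = x * q ∧ t * t = q * q ∧ (t = q ∨ t = q * s ∨ t = q * x ∨ t = q * s * x) :=
  C.cent_y hs (one_mem Q) 0 (by rw [zpow_zero, one_mul, one_mul]) C.x2 ht htx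

/-- `C_Q(x)` has at most the involution `a` -/
def One (x a : G) (Q : Subgroup G) : Prop := ∀ q ∈ Q, q * x = x * q → q * q = 1 → q = 1 ∨ q = a

omit [Finite G] in
/-- the eight elements of `C_T(x)` with square 1 -/
theorem mem_eight (hR : One x a Q) {t : G} (ht : t ∈ T) (htx : t * x = x * t) (htt : t * t = 1) :
    ∃ b : Bool × Bool × Bool, (cond b.1 a 1) * (cond b.2.1 s 1) * (cond b.2.2 x 1) = t := by
  obtain ⟨q, hq, h1, h2, h3⟩ := C.cent_x hs ht htx
  have h4 : ∃ e : Bool, cond e a 1 = q := by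
    rcases hR q hq h1 (by rw [← h2, htt]) with rfl | rfl
    · exact ⟨false, rfl⟩
    · exact ⟨true, rfl⟩
  obtain ⟨e, rfl⟩ := h4
  rcases h3 with rfl | rfl | rfl | rfl
  · exact ⟨(e, false, false), by simp⟩
  · exact ⟨(e, true, false), by simp⟩
  · exact ⟨(e, false, true), by simp⟩
  · exact ⟨(e, true, true), by simp⟩

/-- There are no 16 elements with square 1 in `C_T(x)`. -/
theorem no_sixteen (hR : One x a Q) {g b u v : G} (hab : Four a b) (huv : Four u v)
    (hc : ∀ y ∈ hab.sub, ∀ z ∈ huv.sub, y * z = z * y) (hd : hab.sub ⊓ huv.sub = ⊥)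
    (hT : ∀ y ∈ hab.sub, g⁻¹ * y * g ∈ T ∧ g⁻¹ * y * g * x = x * (g⁻¹ * y * g))
    (hT' : ∀ y ∈ huv.sub, g⁻¹ * y * g ∈ T ∧ g⁻¹ * y * g * x = x * (g⁻¹ * y * g)) : False := by
  classical
  let F : Bool × Bool × Bool → G := fun b => (cond b.1 a 1) * (cond b.2.1 s 1) * (cond b.2.2 x 1)
  have hsq : ∀ {p q : G} (h : Four p q), ∀ y ∈ h.sub, y * y = 1 := by
    intro p q h y hy
    rcases hy with rfl | rfl | rfl | rfl
    · exact one_mul _
    · exact h.aa
    · exact h.bb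
    · calc p * q * (p * q) = p * (q * p) * q := by group
        _ = 1 := by rw [← h.comm]; rw [← mul_assoc, h.aa, one_mul, h.bb]
  have h1 : ∀ z : hab.sub × huv.sub, ∃ b, F b = g⁻¹ * (z.1 * z.2) * g := by
    rintro ⟨⟨y, hy⟩, ⟨z, hz⟩⟩
    have e : g⁻¹ * (y * z) * g = (g⁻¹ * y * g) * (g⁻¹ * z * g) := by group
    obtain ⟨a1, a2⟩ := hT y hy
    obtain ⟨b1, b2⟩ := hT' z hz
    refine C.mem_eight hs hR ?_ ?_ ?_
    · change g⁻¹ * (y * z) * g ∈ T
      rw [e]
      exact mul_mem a1 b1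
    · change g⁻¹ * (y * z) * g * x = x * (g⁻¹ * (y * z) * g)
      rw [e, mul_assoc, b2, ← mul_assoc, a2, mul_assoc]
    · change g⁻¹ * (y * z) * g * (g⁻¹ * (y * z) * g) = 1
      have h3 : y * z * (y * z) = 1 := by
        calc y * z * (y * z) = y * (z * y) * z := by group
          _ = (y * y) * (z * z) := by rw [← hc y hy z hz]; group
          _ = 1 := by rw [hsq hab y hy, hsq huv z hz, one_mul]
      calc g⁻¹ * (y * z) * g * (g⁻¹ * (y * z) * g) = g⁻¹ * (y * z * (y * z)) * g := by group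
        _ = 1 := by rw [h3]; group
  choose f hf using h1
  have hinj : Function.Injective f := by
    rintro ⟨⟨y, hy⟩, ⟨z, hz⟩⟩ ⟨⟨y', hy'⟩, ⟨z', hz'⟩⟩ h
    have h2 := hf (⟨y, hy⟩, ⟨z, hz⟩)
    rw [h, hf] at h2
    have h3 : y' * z' = y * z := by
      have h4 := mul_left_cancel (mul_right_cancel h2)
      exact h4
    have h5 : y⁻¹ * y' = z * z'⁻¹ := by
      calc y⁻¹ * y' = y⁻¹ * (y' * z') * z'⁻¹ := by group
        _ = _ := by rw [h3]; group
    have h6 : y⁻¹ * y' ∈ hab.sub ⊓ huv.sub := by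
      rw [mem_inf]
      refine ⟨hab.sub.mul_mem (hab.sub.inv_mem hy) hy', ?_⟩
      rw [h5]
      exact huv.sub.mul_mem hz (huv.sub.inv_mem hz')
    rw [hd, mem_bot] at h6
    have h7 : y = y' := by rwa [inv_mul_eq_one] at h6
    subst h7
    have h8 : z' = z := mul_left_cancel h3
    subst h8
    rfl
  have h2 := Nat.card_le_card_of_injective f hinj
  rw [Nat.card_prod] at h2
  have h4 : Nat.card (Bool × Bool × Bool) = 8 := by
    rw [Nat.card_eq_fintype_card]; rfl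
  have h5 := Nat.mul_le_mul (four_le_card hab) (four_le_card huv)
  omega

/-- `s` does not lie in `Q` -/
theorem s_not : s ∉ Q := fun h => hs.s1 (C.disj _ h hs.mem)

/-- **Lemma U**: `x' = g x g⁻¹ ∈ T`, `C_T(x') ≤ T^g`: the only involution of `C_Q(x')` is `a`. -/
theorem lemma_U (hR : One x a Q) {g : G} (hgx : g * x * g⁻¹ ∈ T)
    (hg : ∀ t ∈ T, t * (g * x * g⁻¹) = (g * x * g⁻¹) * t → g⁻¹ * t * g ∈ T) :
    One (g * x * g⁻¹) a Q := by
  intro b hb hbx hbb
  by_contra hcon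
  push Not at hcon
  obtain ⟨y, hy⟩ : ∃ y, y = g * x * g⁻¹ := ⟨_, rfl⟩
  rw [← hy] at hgx hg hbx
  have hyy : y * y = 1 := by
    rw [hy]
    calc g * x * g⁻¹ * (g * x * g⁻¹) = g * (x * x) * g⁻¹ := by group
      _ = 1 := by rw [C.x2]; group
  have hab : Four a b := ⟨C.a2, hbb, C.a1, hcon.1, fun h => hcon.2 h.symm,
    (C.a_comm (C.QT hb)).symm⟩
  have habQ : ∀ z ∈ hab.sub, z ∈ Q := by
    rintro z (rfl | rfl | rfl | rfl)
    · exact one_mem _
    · exact C.aQ
    · exact hb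
    · exact mul_mem C.aQ hb
  have hay : a * y = y * a := (C.a_comm hgx).symm
  have haby : ∀ z ∈ hab.sub, z * y = y * z := by
    rintro z (rfl | rfl | rfl | rfl)
    · rw [one_mul, mul_one]
    · exact hay
    · exact hbx
    · rw [mul_assoc, hbx, ← mul_assoc, hay, mul_assoc]
  have hconj : ∀ t ∈ T, t * y = y * t → g⁻¹ * t * g ∈ T ∧ g⁻¹ * t * g * x = x * (g⁻¹ * t * g) := by
    intro t ht hty
    refine ⟨hg t ht hty, ?_⟩
    calc g⁻¹ * t * g * x = g⁻¹ * (t * y) * g := by rw [hy]; group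
      _ = g⁻¹ * (y * t) * g := by rw [hty]
      _ = x * (g⁻¹ * t * g) := by rw [hy]; group
  have fin : ∀ {u v : G} (huv : Four u v), u ∈ T → v ∈ T → u * y = y * u → v * y = y * v →
      (∀ z ∈ Q, z * y = y * z → z * u = u * z ∧ z * v = v * z) → u ∉ Q → v ∉ Q → u * v ∉ Q →
      False := by
    intro u v huv hu hv huy hvy hc h1 h2 h3
    refine C.no_sixteen hs hR (g := g) hab huv ?_ ?_ ?_ ?_
    · intro z hz w hw
      obtain ⟨c1, c2⟩ := hc z (habQ z hz) (haby z hz)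
      rcases hw with rfl | rfl | rfl | rfl
      · rw [one_mul, mul_one]
      · exact c1
      · exact c2
      · rw [← mul_assoc, c1, mul_assoc, c2, mul_assoc]
    · rw [eq_bot_iff]
      rintro w ⟨hw1, hw2⟩
      have hwQ := habQ w hw1
      rcases hw2 with rfl | rfl | rfl | rfl
      · exact one_mem _
      · exact absurd hwQ h1
      · exact absurd hwQ h2
      · exact absurd hwQ h3
    · exact fun z hz => hconj z (C.QT (habQ z hz)) (haby z hz)
    · rintro z (rfl | rfl | rfl | rfl)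
      · exact hconj 1 (one_mem _) (by rw [one_mul, mul_one])
      · exact hconj z hu huy
      · exact hconj z hv hvy
      · exact hconj _ (mul_mem hu hv) (by rw [mul_assoc, hvy, ← mul_assoc, huy, mul_assoc])
  rcases C.invol_cases hgx hyy with ⟨q, hq, p, hp, h1, h2, h3⟩ | ⟨q, hq, k, h1⟩
  · obtain ⟨v, hv, hsv, hvp⟩ := hs.sq p hp h3
    have hcy : ∀ w ∈ P, w * p = p * w → w * y = y * w := by
      intro w hw hwp
      rw [h1]
      calc w * (q * p) = (w * q) * p := by group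
        _ = q * (w * p) := by rw [← C.comm q hq w hw]; group
        _ = q * p * w := by rw [hwp]; group
    have hne : ∀ w ∈ P, w ≠ 1 → w ∉ Q := fun w hw hw1 hwQ => hw1 (C.disj w hwQ hw)
    refine fin hsv (C.PT hs.mem) (C.PT hv) (hcy s hs.mem (hs.cP p hp)) (hcy v hv hvp) ?_
      (hne s hs.mem hs.s1) (hne v hv hsv.b1) (hne _ (mul_mem hs.mem hv) hsv.right.b1)
    exact fun z hz _ => ⟨C.comm z hz s hs.mem, C.comm z hz v hv⟩
  · have hys : y * s = s * y := by rw [h1]; exact C.ys hs hq k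
    have hyn : ∀ q' ∈ Q, ∀ p' ∈ P, y ≠ q' * p' := by
      intro q' hq' p' hp' h4
      have hdk : (d ^ k)⁻¹ ∈ P := inv_mem (zpow_mem C.dih.d_mem k)
      have hqq : q⁻¹ * q' ∈ Q := mul_mem (inv_mem hq) hq'
      apply C.x_not_qp hqq (mul_mem hdk hp')
      calc x = (d ^ k)⁻¹ * (q⁻¹ * (q * (d ^ k * x))) := by group
        _ = (d ^ k)⁻¹ * (q⁻¹ * (q' * p')) := by rw [← h1, h4]
        _ = (d ^ k)⁻¹ * (q⁻¹ * q') * p' := by group
        _ = q⁻¹ * q' * ((d ^ k)⁻¹ * p') := by rw [← C.comm _ hqq _ hdk, mul_assoc]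
    have hys' : Four y s := ⟨hyy, hs.ss, fun h => hyn 1 (one_mem _) 1 (one_mem _) (by rw [h, one_mul]),
      hs.s1, fun h => hyn 1 (one_mem _) s hs.mem (by rw [h, one_mul]), hys⟩
    refine fin hys' hgx (C.PT hs.mem) rfl hys.symm ?_ ?_ (C.s_not hs) ?_
    · exact fun z hz hzy => ⟨hzy, C.comm z hz s hs.mem⟩
    · exact fun h => hyn y h 1 (one_mem _) (mul_one _).symm
    · intro h
      refine hyn _ h s hs.mem ?_
      rw [mul_assoc, hs.ss, mul_one]

/-- a component argument: `g ∈ C(a)` moving `s` into `T` normalizes `L` -/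
theorem norm_L {g : G} (hga : g * a * g⁻¹ = a) (hgs : g * s * g⁻¹ ∈ T)
    (hu : g * s * g⁻¹ ∈ Q → g * s * g⁻¹ = 1 ∨ g * s * g⁻¹ = a) :
    g ∈ normalizer (L : Set G) := by
  rw [mem_normalizer_iff_cj]
  by_contra hne
  have hgc : g ∈ centralizer ({a} : Set G) := by
    rw [mem_centralizer_singleton_iff]
    calc g * a = (g * a * g⁻¹) * g := by group
      _ = a * g := by rw [hga]
  have h1 : IsComp (centralizer ({a} : Set G)) (IntrinsicBasic.cj g L) := isComp_cj_of_mem C.comp hgc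
  have h2 : g * s * g⁻¹ ∈ IntrinsicBasic.cj g L := conj_mem_cj ((C.Pdef s).mp hs.mem).2
  have h3 : Fixes (g * s * g⁻¹) L := C.comp.fixes_of_mem h1 (fun h => hne h.symm) h2
  have h4 : g * s * g⁻¹ ∈ Q := (C.Qdef _).mpr ⟨hgs, h3⟩
  rcases hu h4 with h5 | h5
  · apply hs.s1
    calc s = g⁻¹ * (g * s * g⁻¹) * g := by group
      _ = 1 := by rw [h5]; group
  · apply C.s_not hs
    have h6 : s = a := by
      calc s = g⁻¹ * (g * s * g⁻¹) * g := by group
        _ = g⁻¹ * (g * a * g⁻¹) * g := by rw [h5, hga]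
        _ = a := by group
    rw [h6]
    exact C.aQ

/-- `g` normalizes `T`: `g` centralizes `a` -/
theorem cent_of_norm (hR : One x a Q) {w : G} (hw : w ∈ Q) (hwx : w * x = x * w) (hww : w * w = a)
    {g : G} (h1 : ∀ t ∈ T, g * t * g⁻¹ ∈ T) (h2 : ∀ t ∈ T, g⁻¹ * t * g ∈ T) :
    g * a * g⁻¹ = a := by
  have hgx : g * x * g⁻¹ ∈ T := h1 x C.xT
  have hU := C.lemma_U hs hR hgx (fun t ht _ => h2 t ht)
  obtain ⟨y, hy⟩ : ∃ y, y = g * x * g⁻¹ := ⟨_, rfl⟩
  rw [← hy] at hgx hU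
  have hyy : y * y = 1 := by
    rw [hy]
    calc g * x * g⁻¹ * (g * x * g⁻¹) = g * (x * x) * g⁻¹ := by group
      _ = 1 := by rw [C.x2]; group
  rcases C.invol_cases hgx hyy with ⟨q, hq, p, hp, e1, e2, e3⟩ | ⟨q, hq, k, e1⟩
  · -- `y = q p`, `q ∈ {1, a}`
    have hqy : q * y = y * q := by
      rw [e1, mul_assoc, ← C.comm q hq p hp]
    have hqw : w * q = q * w := by
      rcases hU q hq hqy e2 with rfl | rfl
      · rw [mul_one, one_mul]
      · exact C.a_comm (C.QT hw)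
    have hwy : w * y = y * w := by
      rw [e1]
      calc w * (q * p) = (w * q) * p := by group
        _ = q * (w * p) := by rw [hqw]; group
        _ = q * p * w := by rw [C.comm w hw p hp]; group
    have h3 : g⁻¹ * w * g * x = x * (g⁻¹ * w * g) := by
      calc g⁻¹ * w * g * x = g⁻¹ * (w * y) * g := by rw [hy]; group
        _ = g⁻¹ * (y * w) * g := by rw [hwy]
        _ = x * (g⁻¹ * w * g) := by rw [hy]; group
    obtain ⟨q', hq', h4, h5, -⟩ := C.cent_x hs (h2 w (C.QT hw)) h3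
    have h6 : g⁻¹ * a * g = q' * q' := by
      rw [← h5, ← hww]; group
    have h7 : g⁻¹ * a * g = 1 ∨ g⁻¹ * a * g = a := by
      rw [h6]
      refine hR _ (mul_mem hq' hq') ?_ ?_
      · rw [mul_assoc, h4, ← mul_assoc, h4, mul_assoc]
      · rw [← h6]
        calc g⁻¹ * a * g * (g⁻¹ * a * g) = g⁻¹ * (a * a) * g := by group
          _ = 1 := by rw [C.a2]; group
    rcases h7 with h7 | h7
    · exfalso
      apply C.a1
      calc a = g * (g⁻¹ * a * g) * g⁻¹ := by group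
        _ = 1 := by rw [h7]; group
    · calc g * a * g⁻¹ = g * (g⁻¹ * a * g) * g⁻¹ := by rw [h7]
        _ = a := by group
  · have h3 : g * w * g⁻¹ * y = y * (g * w * g⁻¹) := by
      rw [hy]
      calc g * w * g⁻¹ * (g * x * g⁻¹) = g * (w * x) * g⁻¹ := by group
        _ = g * (x * w) * g⁻¹ := by rw [hwx]
        _ = g * x * g⁻¹ * (g * w * g⁻¹) := by group
    obtain ⟨q', hq', h4, h5, -⟩ := C.cent_y hs hq k e1 hyy (h1 w (C.QT hw)) h3
    have h6 : g * a * g⁻¹ = q' * q' := by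
      rw [← h5, ← hww]; group
    have h7 : g * a * g⁻¹ = 1 ∨ g * a * g⁻¹ = a := by
      rw [h6]
      refine hU _ (mul_mem hq' hq') ?_ ?_
      · rw [mul_assoc, h4, ← mul_assoc, h4, mul_assoc]
      · rw [← h6]
        calc g * a * g⁻¹ * (g * a * g⁻¹) = g * (a * a) * g⁻¹ := by group
          _ = 1 := by rw [C.a2]; group
    rcases h7 with h7 | h7
    · exfalso
      apply C.a1
      calc a = g⁻¹ * (g * a * g⁻¹) * g := by group
        _ = 1 := by rw [h7]; group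
    · exact h7

/-- an element normalizing `T` lies in `N_{C(a)}(L)` -/
theorem mem_of_norm (hR : One x a Q) {w : G} (hw : w ∈ Q) (hwx : w * x = x * w) (hww : w * w = a)
    {g : G} (h1 : ∀ t ∈ T, g * t * g⁻¹ ∈ T) (h2 : ∀ t ∈ T, g⁻¹ * t * g ∈ T) :
    g ∈ centralizer ({a} : Set G) ∧ g ∈ normalizer (L : Set G) := by
  have h3 := C.cent_of_norm hs hR hw hwx hww h1 h2
  have hU := C.lemma_U hs hR (h1 x C.xT) (fun t ht _ => h2 t ht)
  refine ⟨?_, C.norm_L hs h3 (h1 s (C.PT hs.mem)) fun h4 => hU _ h4 ?_ ?_⟩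
  · rw [mem_centralizer_singleton_iff]
    calc g * a = (g * a * g⁻¹) * g := by group
      _ = a * g := by rw [h3]
  · calc g * s * g⁻¹ * (g * x * g⁻¹) = g * (s * x) * g⁻¹ := by group
      _ = g * (x * s) * g⁻¹ := by rw [hs.xs]
      _ = g * x * g⁻¹ * (g * s * g⁻¹) := by group
  · calc g * s * g⁻¹ * (g * s * g⁻¹) = g * (s * s) * g⁻¹ := by group
      _ = 1 := by rw [hs.ss]; group

/-- **(3b)** `T` is a Sylow 2-subgroup of `G`. -/
theorem syl_T (hR : One x a Q) {w : G} (hw : w ∈ Q) (hwx : w * x = x * w) (hww : w * w = a)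
    {U : Subgroup G} (hU : IsPGroup 2 U) (hTU : T ≤ U) : U ≤ T := by
  by_contra hne
  obtain ⟨y, hyU, hyT, h1, h2⟩ := exists_norm hU hTU hne
  obtain ⟨h3, h4⟩ := C.mem_of_norm hs hR hw hwx hww h1 h2
  have h5 : T ⊔ zpowers y ≤ U := sup_le hTU (by rw [zpowers_le]; exact hyU)
  have h6 := C.syl (T ⊔ zpowers y) (hU.to_le h5) le_sup_left
    (sup_le C.TC (by rw [zpowers_le]; exact h3)) (sup_le C.TN (by rw [zpowers_le]; exact h4))
  exact hyT (h6 (le_sup_right (a := T) (mem_zpowers y)))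

/-- **(3a)** `C_T(x)` is a Sylow 2-subgroup of `C_G(x)`. -/
theorem syl_Tx (hR : One x a Q) {w : G} (hw : w ∈ Q) (hwx : w * x = x * w) (hww : w * w = a)
    {U : Subgroup G} (hU : IsPGroup 2 U) (hTU : T ⊓ centralizer ({x} : Set G) ≤ U)
    (hUx : U ≤ centralizer ({x} : Set G)) : U ≤ T ⊓ centralizer ({x} : Set G) := by
  by_contra hne
  obtain ⟨y, hyU, hyT, h1, h2⟩ := exists_norm hU hTU hne
  have hyx : y * x = x * y := mem_centralizer_singleton_iff.mp (hUx hyU)
  have hwT : w ∈ T ⊓ centralizer ({x} : Set G) :=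
    ⟨C.QT hw, mem_centralizer_singleton_iff.mpr hwx⟩
  have hsT : s ∈ T ⊓ centralizer ({x} : Set G) :=
    ⟨C.PT hs.mem, mem_centralizer_singleton_iff.mpr hs.xs.symm⟩
  have h3 : y * a * y⁻¹ = a := by
    obtain ⟨h4, h5'⟩ := h1 w hwT
    have h5 := mem_centralizer_singleton_iff.mp h5'
    obtain ⟨q', hq', h6, h7, -⟩ := C.cent_x hs h4 h5
    have h8 : y * a * y⁻¹ = q' * q' := by
      rw [← h7, ← hww]; group
    have h9 : y * a * y⁻¹ = 1 ∨ y * a * y⁻¹ = a := by
      rw [h8]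
      refine hR _ (mul_mem hq' hq') ?_ ?_
      · rw [mul_assoc, h6, ← mul_assoc, h6, mul_assoc]
      · rw [← h8]
        calc y * a * y⁻¹ * (y * a * y⁻¹) = y * (a * a) * y⁻¹ := by group
          _ = 1 := by rw [C.a2]; group
    rcases h9 with h9 | h9
    · exfalso
      apply C.a1
      calc a = y⁻¹ * (y * a * y⁻¹) * y := by group
        _ = 1 := by rw [h9]; group
    · exact h9
  obtain ⟨h4, h5'⟩ := h1 s hsT
  have h5 := mem_centralizer_singleton_iff.mp h5'
  have h6 := C.norm_L hs h3 h4 fun h7 => hR _ h7 h5 (by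
    calc y * s * y⁻¹ * (y * s * y⁻¹) = y * (s * s) * y⁻¹ := by group
      _ = 1 := by rw [hs.ss]; group)
  have h7 : y ∈ centralizer ({a} : Set G) := by
    rw [mem_centralizer_singleton_iff]
    calc y * a = (y * a * y⁻¹) * y := by group
      _ = a * y := by rw [h3]
  obtain ⟨V, hV⟩ : ∃ V, V = T ⊓ centralizer ({x} : Set G) ⊔ zpowers y := ⟨_, rfl⟩
  have h8 : V ≤ U := hV ▸ sup_le hTU (by rw [zpowers_le]; exact hyU)
  have h9 := C.sylx V (hU.to_le h8) (hV ▸ le_sup_left)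
    (hV ▸ sup_le (inf_le_left.trans C.TC) (by rw [zpowers_le]; exact h7))
    (hV ▸ sup_le (inf_le_left.trans C.TN) (by rw [zpowers_le]; exact h6))
    (h8.trans hUx)
  have h10 : y ∈ V := hV ▸ (le_sup_right (a := T ⊓ centralizer ({x} : Set G)) (mem_zpowers y))
  exact hyT ⟨h9 h10, hUx hyU⟩

/-- `|C_T(x)| ≤ 4 |C_Q(x)|` -/
theorem card_Tx_le : Nat.card ↥(T ⊓ centralizer ({x} : Set G)) ≤
    Nat.card ↥(Q ⊓ centralizer ({x} : Set G)) * 4 := by
  classical
  have h1 : ∀ t : ↥(T ⊓ centralizer ({x} : Set G)), ∃ b : ↥(Q ⊓ centralizer ({x} : Set G)) × Bool × Bool,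
      (b.1 : G) * (cond b.2.1 s 1) * (cond b.2.2 x 1) = t := by
    rintro ⟨t, ht, htx⟩
    obtain ⟨q, hq, h1, -, h3⟩ := C.cent_x hs ht (mem_centralizer_singleton_iff.mp htx)
    have hqm : q ∈ Q ⊓ centralizer ({x} : Set G) := ⟨hq, mem_centralizer_singleton_iff.mpr h1⟩
    rcases h3 with rfl | rfl | rfl | rfl
    · exact ⟨(⟨_, hqm⟩, false, false), by simp⟩
    · exact ⟨(⟨_, hqm⟩, true, false), by simp⟩
    · exact ⟨(⟨_, hqm⟩, false, true), by simp⟩
    · exact ⟨(⟨_, hqm⟩, true, true), by simp⟩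
  choose f hf using h1
  have hinj : Function.Injective f := by
    intro t t' h
    apply Subtype.ext
    rw [← hf t, ← hf t', h]
  have h2 := Nat.card_le_card_of_injective f hinj
  rw [Nat.card_prod] at h2
  have h4 : Nat.card (Bool × Bool) = 4 := by
    rw [Nat.card_eq_fintype_card]; rfl
  rwa [h4] at h2

/-- **(3c)** if `Q` does not centralize `x` then no conjugate `x'` of `x` with `C_T(x)^g ≤ T` lies in `QP`. -/
theorem not_qp (hR : One x a Q) {w : G} (hw : w ∈ Q) (hwx : w * x = x * w) (hww : w * w = a)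
    {q₀ : G} (hq₀ : q₀ ∈ Q) (hne : q₀ * x ≠ x * q₀) {g : G}
    (hg : ∀ t ∈ T, t * x = x * t → g * t * g⁻¹ ∈ T) {q p : G} (hq : q ∈ Q) (hp : p ∈ P) :
    g * x * g⁻¹ ≠ q * p := by
  intro hx
  have hG1 : ∀ t ∈ T, t * (g * x * g⁻¹) = (g * x * g⁻¹) * t → g⁻¹ * t * g ∈ T := by
    intro t ht htx
    have h1 : (T ⊓ centralizer ({g * x * g⁻¹} : Set G)).map (MulAut.conj g⁻¹).toMonoidHom ≤
        T ⊓ centralizer ({x} : Set G) := by
      refine C.syl_Tx hs hR hw hwx hww ((C.Tp.to_le inf_le_left).map _) ?_ ?_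
      · rintro u ⟨hu, hux⟩
        have hux' := mem_centralizer_singleton_iff.mp hux
        refine ⟨g * u * g⁻¹, ⟨hg u hu hux', mem_centralizer_singleton_iff.mpr ?_⟩, ?_⟩
        · calc g * u * g⁻¹ * (g * x * g⁻¹) = g * (u * x) * g⁻¹ := by group
            _ = g * (x * u) * g⁻¹ := by rw [hux']
            _ = _ := by group
        · change g⁻¹ * (g * u * g⁻¹) * g⁻¹⁻¹ = u
          group
      · rintro _ ⟨u, ⟨-, hux⟩, rfl⟩
        have hux' := mem_centralizer_singleton_iff.mp hux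
        rw [mem_centralizer_singleton_iff]
        change g⁻¹ * u * g⁻¹⁻¹ * x = x * (g⁻¹ * u * g⁻¹⁻¹)
        calc g⁻¹ * u * g⁻¹⁻¹ * x = g⁻¹ * (u * (g * x * g⁻¹)) * g := by group
          _ = g⁻¹ * (g * x * g⁻¹ * u) * g := by rw [hux']
          _ = _ := by group
    have h2 := h1 ⟨t, ⟨ht, mem_centralizer_singleton_iff.mpr htx⟩, rfl⟩
    have h3 : g⁻¹ * t * g⁻¹⁻¹ ∈ T := h2.1
    rwa [inv_inv] at h3
  have hyT : g * x * g⁻¹ ∈ T := hg x C.xT rfl
  have hU := C.lemma_U hs hR hyT hG1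
  obtain ⟨y, hy⟩ : ∃ y, y = g * x * g⁻¹ := ⟨_, rfl⟩
  rw [← hy] at hx hyT hU hG1
  have hyy : y * y = 1 := by
    rw [hy]
    calc g * x * g⁻¹ * (g * x * g⁻¹) = g * (x * x) * g⁻¹ := by group
      _ = 1 := by rw [C.x2]; group
  have hqp : q * q = 1 ∧ p * p = 1 := by
    rw [hx, C.mul_mem_qp hp hq] at hyy
    exact C.qp_eq (mul_mem hq hq) (one_mem Q) (mul_mem hp hp) (one_mem P) (by rw [hyy, mul_one])
  have hqy : q * y = y * q := by
    rw [hx, mul_assoc, ← C.comm q hq p hp]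
  have hqc : ∀ z ∈ Q, z * q = q * z := by
    intro z hz
    rcases hU q hq hqy hqp.1 with rfl | rfl
    · rw [mul_one, one_mul]
    · exact C.a_comm (C.QT hz)
  have hzy : ∀ z ∈ Q, z * y = y * z := by
    intro z hz
    rw [hx]
    calc z * (q * p) = (z * q) * p := by group
      _ = q * (z * p) := by rw [hqc z hz]; group
      _ = q * p * z := by rw [C.comm z hz p hp]; group
  obtain ⟨v, hv, hsv, hvp⟩ := hs.sq p hp hqp.2
  have hcy : ∀ u ∈ P, u * p = p * u → u * y = y * u := by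
    intro u hu hup
    rw [hx]
    calc u * (q * p) = (u * q) * p := by group
      _ = q * (u * p) := by rw [← C.comm q hq u hu]; group
      _ = q * p * u := by rw [hup]; group
  have hV : ∀ u ∈ hsv.sub, u ∈ P ∧ u * y = y * u := by
    have h1 := hcy s hs.mem (hs.cP p hp)
    have h2 := hcy v hv hvp
    rintro u (rfl | rfl | rfl | rfl)
    · exact ⟨one_mem _, by rw [one_mul, mul_one]⟩
    · exact ⟨hs.mem, h1⟩
    · exact ⟨hv, h2⟩
    · exact ⟨mul_mem hs.mem hv, by rw [mul_assoc, h2, ← mul_assoc, h1, mul_assoc]⟩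
  let f : Q × hsv.sub → ↥(T ⊓ centralizer ({x} : Set G)) := fun z =>
    ⟨g⁻¹ * ((z.1 : G) * (z.2 : G)) * g, by
      obtain ⟨⟨z, hz⟩, ⟨u, hu⟩⟩ := z
      obtain ⟨hu1, hu2⟩ := hV u hu
      have h1 : z * u * y = y * (z * u) := by
        rw [mul_assoc, hu2, ← mul_assoc, hzy z hz, mul_assoc]
      refine ⟨hG1 _ (mul_mem (C.QT hz) (C.PT hu1)) h1, mem_centralizer_singleton_iff.mpr ?_⟩
      change g⁻¹ * (z * u) * g * x = x * (g⁻¹ * (z * u) * g)
      calc g⁻¹ * (z * u) * g * x = g⁻¹ * (z * u * y) * g := by rw [hy]; group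
        _ = g⁻¹ * (y * (z * u)) * g := by rw [h1]
        _ = _ := by rw [hy]; group⟩
  have hf : Function.Injective f := by
    rintro ⟨⟨z, hz⟩, ⟨u, hu⟩⟩ ⟨⟨z', hz'⟩, ⟨u', hu'⟩⟩ h
    have h1 : g⁻¹ * (z * u) * g = g⁻¹ * (z' * u') * g := congrArg Subtype.val h
    have h2 := mul_left_cancel (mul_right_cancel h1)
    obtain ⟨h3, h4⟩ := C.qp_eq hz hz' (hV u hu).1 (hV u' hu').1 h2
    subst h3
    subst h4
    rfl
  have h1 := Nat.card_le_card_of_injective f hf
  rw [Nat.card_prod] at h1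
  have h2 := C.card_Tx_le hs
  have h3 := Nat.mul_le_mul_left (Nat.card Q) (four_le_card hsv)
  have h4 : Nat.card Q ≤ Nat.card ↥(Q ⊓ centralizer ({x} : Set G)) := by omega
  have h5 : Q ⊓ centralizer ({x} : Set G) = Q := Subgroup.eq_of_le_of_card_ge inf_le_left h4
  have h6 : q₀ ∈ Q ⊓ centralizer ({x} : Set G) := by rw [h5]; exact hq₀
  exact hne (mem_centralizer_singleton_iff.mp h6.2)

omit [Finite G] in
omit hs in
/-- the subgroup `QP` -/
theorem exists_QP : ∃ M : Subgroup G, M ≤ T ∧ ∀ t, t ∈ M ↔ ∃ q ∈ Q, ∃ p ∈ P, t = q * p := by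
  refine ⟨{ carrier := {t | ∃ q ∈ Q, ∃ p ∈ P, t = q * p}
            mul_mem' := ?_
            one_mem' := ⟨1, one_mem _, 1, one_mem _, (one_mul _).symm⟩
            inv_mem' := ?_ }, ?_, fun t => Iff.rfl⟩
  · rintro _ _ ⟨q, hq, p, hp, rfl⟩ ⟨q', hq', p', hp', rfl⟩
    exact ⟨q * q', mul_mem hq hq', p * p', mul_mem hp hp', C.mul_mem_qp hp hq'⟩
  · rintro _ ⟨q, hq, p, hp, rfl⟩
    refine ⟨q⁻¹, inv_mem hq, p⁻¹, inv_mem hp, ?_⟩
    rw [mul_inv_rev, C.comm _ (inv_mem hq) _ (inv_mem hp)]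
  · rintro _ ⟨q, hq, p, hp, rfl⟩
    exact mul_mem (C.QT hq) (C.PT hp)

/-- **(3c)** -/
theorem exists_hom (hR : One x a Q) {w : G} (hw : w ∈ Q) (hwx : w * x = x * w) (hww : w * w = a)
    {q₀ : G} (hq₀ : q₀ ∈ Q) (hne : q₀ * x ≠ x * q₀) : ∃ f : G →* ℤˣ, f x = -1 := by
  have h2 : Fact (Nat.Prime 2) := ⟨Nat.prime_two⟩
  obtain ⟨M, hMT, hM⟩ := C.exists_QP
  have hi : M.relIndex T = 2 := by
    rw [Subgroup.relIndex, Subgroup.index_eq_two_iff]
    refine ⟨⟨x, C.xT⟩, ?_⟩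
    rintro ⟨t, ht⟩
    rw [Subgroup.mem_subgroupOf, Subgroup.mem_subgroupOf]
    change Xor (t * x ∈ M) (t ∈ M)
    obtain ⟨q, hq, p, hp, rfl | rfl⟩ := C.cov t ht
    · right
      refine ⟨(hM _).mpr ⟨q, hq, p, hp, rfl⟩, fun h => ?_⟩
      have h3 : x ∈ M := (Subgroup.mul_mem_cancel_left _ ((hM _).mpr ⟨q, hq, p, hp, rfl⟩)).mp h
      obtain ⟨q', hq', p', hp', h4⟩ := (hM _).mp h3
      exact C.x_not_qp hq' hp' h4
    · left
      have h4 : q * p * x * x = q * p := by rw [mul_assoc, C.x2, mul_one]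
      refine ⟨(hM _).mpr ⟨q, hq, p, hp, h4⟩, fun h => ?_⟩
      have h3 : x ∈ M := (Subgroup.mul_mem_cancel_left _ ((hM _).mpr ⟨q, hq, p, hp, rfl⟩)).mp h
      obtain ⟨q', hq', p', hp', h4⟩ := (hM _).mp h3
      exact C.x_not_qp hq' hp' h4
  have hTi : ¬ 2 ∣ T.index := by
    obtain ⟨S, hS⟩ := C.Tp.exists_le_sylow
    have h3 : T = (S : Subgroup G) := le_antisymm hS (C.syl_T hs hR hw hwx hww S.2 hS)
    rw [h3]
    exact S.not_dvd_index
  refine exists_hom_of_extremal hMT hi hTi C.x2 (U := T ⊓ centralizer ({x} : Set G))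
    (C.Tp.to_le inf_le_left) (fun u hu => mem_centralizer_singleton_iff.mp hu.2)
    ⟨C.xT, mem_centralizer_singleton_iff.mpr rfl⟩ fun g hg hgM => ?_
  obtain ⟨q, hq, p, hp, h3⟩ := (hM _).mp hgM
  refine C.not_qp hs hR hw hwx hww hq₀ hne (g := g⁻¹) ?_ hq hp (by rw [← h3]; group)
  intro t ht htx
  have h4 := hg t ⟨ht, mem_centralizer_singleton_iff.mpr htx⟩
  rwa [inv_inv]

omit hs in
/-- `C_Q(x) ≠ {1, a}`: an element of order 4 -/
theorem exists_w (hR : One x a Q) {q : G} (hq : q ∈ Q) (hqx : q * x = x * q) (h1 : q ≠ 1)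
    (ha : q ≠ a) : ∃ w ∈ Q, w * x = x * w ∧ w * w = a := by
  obtain ⟨n, hn⟩ : ∃ n, orderOf q = 2 ^ n := by
    obtain ⟨n, hn⟩ := (IsPGroup.iff_orderOf.1 (C.Tp.to_le C.QT)) ⟨q, hq⟩
    exact ⟨n, by rw [← hn, Subgroup.orderOf_mk]⟩
  have hn0 : n ≠ 0 := by
    rintro rfl
    rw [pow_zero, orderOf_eq_one_iff] at hn
    exact h1 hn
  have hn1 : n ≠ 1 := by
    rintro rfl
    have h2 : q * q = 1 := by
      rw [← pow_two]
      have := pow_orderOf_eq_one q
      rwa [hn, pow_one] at this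
    rcases hR q hq hqx h2 with h3 | h3
    · exact h1 h3
    · exact ha h3
  obtain ⟨m, rfl⟩ : ∃ m, n = m + 2 := ⟨n - 2, by omega⟩
  have hcomm : ∀ k : ℕ, q ^ k * x = x * q ^ k := fun k =>
    ((show Commute q x from hqx).pow_left k)
  have hw : q ^ 2 ^ m * q ^ 2 ^ m = q ^ 2 ^ (m + 1) := by
    rw [← pow_add]; congr 1; ring
  refine ⟨q ^ 2 ^ m, pow_mem hq _, hcomm _, ?_⟩
  rw [hw]
  have h2 : q ^ 2 ^ (m + 1) * q ^ 2 ^ (m + 1) = 1 := by
    rw [← pow_add]
    have e : 2 ^ (m + 1) + 2 ^ (m + 1) = orderOf q := by rw [hn]; ring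
    rw [e, pow_orderOf_eq_one]
  rcases hR _ (pow_mem hq _) (hcomm _) h2 with h3 | h3
  · exfalso
    have h4 := Nat.le_of_dvd (by positivity) (orderOf_dvd_of_pow_eq_one h3)
    rw [hn] at h4
    exact absurd h4 (not_le.mpr (Nat.pow_lt_pow_right (by norm_num) (by omega)))
  · exact h3

/-- **(2)** `C_Q(x) ≤ {1, a}`: the sectional 2-rank of `G` is at most 4. -/
theorem rank_le_of_small (hR : ∀ q ∈ Q, q * x = x * q → q = 1 ∨ q = a) :
    SectionalPRankLE 2 4 G := by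
  have h2 : Fact (Nat.Prime 2) := ⟨Nat.prime_two⟩
  obtain ⟨S, hS⟩ := C.Tp.exists_le_sylow
  rw [← GH.Rank.sylow_iff S]
  obtain ⟨E, hE⟩ : ∃ E, E = T ⊓ centralizer ({x} : Set G) := ⟨_, rfl⟩
  have hET : E ≤ T := hE ▸ inf_le_left
  have hES : E ≤ (S : Subgroup G) := hET.trans hS
  have hmem : ∀ t, t ∈ E ↔ ∃ b : Bool × Bool × Bool,
      (cond b.1 a 1) * (cond b.2.1 s 1) * (cond b.2.2 x 1) = t := by
    intro t
    constructor
    · intro ht
      rw [hE] at ht
      have htx := mem_centralizer_singleton_iff.mp ht.2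
      refine C.mem_eight hs (fun q hq h1 _ => hR q hq h1) ht.1 htx ?_
      obtain ⟨q, hq, h3, h4, -⟩ := C.cent_x hs ht.1 htx
      rw [h4]
      rcases hR q hq h3 with rfl | rfl
      · exact one_mul _
      · exact C.a2
    · rintro ⟨⟨e1, e2, e3⟩, rfl⟩
      have ha : a ∈ E := hE ▸ ⟨C.aT, mem_centralizer_singleton_iff.mpr (C.a_comm C.xT).symm⟩
      have hs' : s ∈ E := hE ▸ ⟨C.PT hs.mem, mem_centralizer_singleton_iff.mpr hs.xs.symm⟩
      have hx : x ∈ E := hE ▸ ⟨C.xT, mem_centralizer_singleton_iff.mpr rfl⟩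
      refine mul_mem (mul_mem ?_ ?_) ?_
      · rcases e1
        · exact one_mem _
        · exact ha
      · rcases e2
        · exact one_mem _
        · exact hs'
      · rcases e3
        · exact one_mem _
        · exact hx
  have hsq : ∀ t ∈ E, t * t = 1 := by
    intro t ht
    rw [hE] at ht
    obtain ⟨q, hq, h3, h4, -⟩ := C.cent_x hs ht.1 (mem_centralizer_singleton_iff.mp ht.2)
    rw [h4]
    rcases hR q hq h3 with rfl | rfl
    · exact one_mul _
    · exact C.a2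
  have hcomm : ∀ t ∈ E, ∀ u ∈ E, t * u = u * t := by
    intro t ht u hu
    have h1 := hsq _ (mul_mem ht hu)
    have h3 : t * u = (t * u)⁻¹ := eq_inv_of_mul_eq_one_left h1
    rw [h3, mul_inv_rev, inv_eq_of_mul_eq_one_left (hsq t ht), inv_eq_of_mul_eq_one_left (hsq u hu)]
  have haE : a ∈ E := (hmem a).mpr ⟨(true, false, false), by simp⟩
  have hsE : s ∈ E := (hmem s).mpr ⟨(false, true, false), by simp⟩
  have hxE : x ∈ E := (hmem x).mpr ⟨(false, false, true), by simp⟩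
  have hcard : Nat.card E = 8 := by
    let f : Bool × Bool × Bool → E := fun b =>
      ⟨(cond b.1 a 1) * (cond b.2.1 s 1) * (cond b.2.2 x 1), (hmem _).mpr ⟨b, rfl⟩⟩
    have hf : Function.Bijective f := by
      constructor
      · rintro ⟨b1, b2, b3⟩ ⟨c1, c2, c3⟩ h
        have h1 : (cond b1 a 1) * (cond b2 s 1) * (cond b3 x 1) =
            (cond c1 a 1) * (cond c2 s 1) * (cond c3 x 1) := congrArg Subtype.val h
        have hq : ∀ e : Bool, cond e a 1 ∈ Q := fun e => by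
          rcases e
          · exact one_mem _
          · exact C.aQ
        have hp : ∀ e : Bool, cond e s 1 ∈ P := fun e => by
          rcases e
          · exact one_mem _
          · exact hs.mem
        have h3 : b3 = c3 := by
          rcases b3 with _ | _ <;> rcases c3 with _ | _
          · rfl
          · exfalso
            simp only [cond_true, cond_false, mul_one] at h1
            apply C.x_not_qp (mul_mem (inv_mem (hq c1)) (hq b1)) (mul_mem (inv_mem (hp c2)) (hp b2))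
            rw [← C.mul_mem_qp (q := (cond c1 a 1)⁻¹) (inv_mem (hp c2)) (hq b1), h1]
            rw [← mul_inv_rev, ← C.comm _ (hq c1) _ (hp c2)]
            group
          · exfalso
            simp only [cond_true, cond_false, mul_one] at h1
            apply C.x_not_qp (mul_mem (inv_mem (hq b1)) (hq c1)) (mul_mem (inv_mem (hp b2)) (hp c2))
            rw [← C.mul_mem_qp (q := (cond b1 a 1)⁻¹) (inv_mem (hp b2)) (hq c1), ← h1]
            rw [← mul_inv_rev, ← C.comm _ (hq b1) _ (hp b2)]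
            group
          · rfl
        subst h3
        have h4 := mul_right_cancel h1
        obtain ⟨h5, h6⟩ := C.qp_eq (hq b1) (hq c1) (hp b2) (hp c2) h4
        have h7 : b1 = c1 := by
          rcases b1 with _ | _ <;> rcases c1 with _ | _
          · rfl
          · exact absurd h5.symm C.a1
          · exact absurd h5 C.a1
          · rfl
        have h8 : b2 = c2 := by
          rcases b2 with _ | _ <;> rcases c2 with _ | _
          · rfl
          · exact absurd h6.symm hs.s1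
          · exact absurd h6 hs.s1
          · rfl
        rw [h7, h8]
      · rintro ⟨t, ht⟩
        obtain ⟨b, hb⟩ := (hmem t).mp ht
        exact ⟨b, Subtype.ext hb⟩
    rw [← Nat.card_eq_of_bijective f hf, Nat.card_eq_fintype_card]
    rfl
  refine S1232.result S.2 (E.subgroupOf S) ⟨⟨⟨?_⟩⟩, ?_⟩ ?_ ?_
  · rintro ⟨t, ht⟩ ⟨u, hu⟩
    exact Subtype.ext (Subtype.ext (hcomm _ ht _ hu))
  · intro t ht
    apply Subtype.ext
    change (t : G) ^ 2 = 1
    rw [pow_two]
    exact hsq _ ht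
  · rw [← hcard]
    exact Nat.card_congr (Subgroup.subgroupOfEquivOfLe hES).toEquiv
  · apply le_antisymm
    · intro u hu
      have hc : ∀ t ∈ E, t * (u : G) = u * t := by
        intro t ht
        have := (mem_centralizer_iff.mp hu) ⟨t, hES ht⟩ ht
        exact congrArg Subtype.val this
      rw [mem_subgroupOf, hE]
      -- `C_S(E)`
      obtain ⟨U, hU⟩ : ∃ U, U = (S : Subgroup G) ⊓ centralizer (E : Set G) := ⟨_, rfl⟩
      have hUa : ∀ y ∈ U, ∀ t ∈ E, y * t = t * y := by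
        intro y hy t ht
        rw [hU] at hy
        exact ((mem_centralizer_iff.mp hy.2) t ht).symm
      have hcU := fun y hy => mem_centralizer_singleton_iff.mpr (hUa y hy a haE)
      have h5 : U ≤ T := by
        refine C.sylx U (S.2.to_le (hU ▸ inf_le_left)) ?_ hcU ?_
          (fun y hy => mem_centralizer_singleton_iff.mpr (hUa y hy x hxE))
        · rw [← hE, hU]
          exact le_inf hES fun t ht => mem_centralizer_iff.mpr fun z hz => hcomm z hz t ht
        · intro y hy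
          refine C.norm_L hs ?_ ?_ ?_
          · rw [hUa y hy a haE]; group
          · rw [hUa y hy s hsE, mul_inv_cancel_right]
            exact C.PT hs.mem
          · rw [hUa y hy s hsE, mul_inv_cancel_right]
            exact fun h => absurd h (C.s_not hs)
      have h6 : (u : G) ∈ U := by
        rw [hU]
        exact ⟨u.2, mem_centralizer_iff.mpr fun t ht => hc t ht⟩
      exact ⟨h5 h6, mem_centralizer_singleton_iff.mpr (hUa _ h6 x hxE)⟩
    · intro t ht
      rw [mem_centralizer_iff]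
      intro z hz
      exact Subtype.ext (hcomm _ hz _ ht)

omit hs in
/-- `Q` centralizes `x`: `Q` has sectional rank at most 2. -/
theorem rank_Q (hR : ∀ q ∈ Q, q * q = 1 → q = 1 ∨ q = a) : SectionalPRankLE 2 2 Q := by
  have h2 : Fact (Nat.Prime 2) := ⟨Nat.prime_two⟩
  have hU : Solvable.UniqueOrderP.UniqueP 2 Q := by
    rintro ⟨u, hu⟩ ⟨v, hv⟩ h1 hu2 hv2
    have hu3 : u * u = 1 := by
      rw [← pow_two]; exact congrArg Subtype.val hu2
    have hv3 : v * v = 1 := by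
      rw [← pow_two]; exact congrArg Subtype.val hv2
    have hua : u = a := (hR u hu hu3).resolve_left fun h => h1 (Subtype.ext h)
    rcases hR v hv hv3 with h3 | h3
    · have : (⟨v, hv⟩ : Q) = 1 := Subtype.ext h3
      rw [this]
      exact one_mem _
    · have : (⟨v, hv⟩ : Q) = ⟨u, hu⟩ := Subtype.ext (h3.trans hua.symm)
      rw [this]
      exact mem_zpowers _
  rcases Solvable.UniqueOrderP.cyclic_or_quaternion (C.Tp.to_le C.QT) hU with h | ⟨-, m, -, ⟨e⟩⟩
  · have : IsCyclic (⊤ : Subgroup Q) := isCyclic_of_surjective (topEquiv (G := Q)).symm.toMonoidHom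
      (topEquiv (G := Q)).symm.surjective
    exact GH.Rank.le_mono (by norm_num)
      (TwoFusion.SectionalRank.sectionalPRankLE_of_cyclic (p := 2) (k := 0) (by norm_num)
        (⊤ : Subgroup Q) (by rw [index_top]; norm_num)) (by norm_num)
  · have hne : NeZero (2 ^ m) := ⟨by positivity⟩
    have hfin : Finite (QuaternionGroup (2 ^ m)) := Finite.of_equiv _ e.toEquiv
    refine GH.Rank.of_equiv ?_ e.symm
    refine TwoFusion.SectionalRank.sectionalPRankLE_of_cyclic (p := 2) (k := 1) (by norm_num)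
        (zpowers (QuaternionGroup.a 1 : QuaternionGroup (2 ^ m))) ?_
    have h3 := card_mul_index (zpowers (QuaternionGroup.a 1 : QuaternionGroup (2 ^ m)))
    rw [Nat.card_zpowers, QuaternionGroup.orderOf_a_one, Nat.card_eq_fintype_card,
      QuaternionGroup.card] at h3
    have h4 : (0 : ℕ) < 2 ^ m := by positivity
    have h5 : 2 * 2 ^ m * (zpowers (QuaternionGroup.a 1 : QuaternionGroup (2 ^ m))).index =
        2 * 2 ^ m * 2 := by rw [h3]; ring
    have h6 := Nat.eq_of_mul_eq_mul_left (by positivity) h5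
    rw [h6]
    norm_num

omit hs in
/-- `T / Q` has sectional rank at most 2. -/
theorem rank_T {k : ℕ} (hQ : SectionalPRankLE 2 k Q) : SectionalPRankLE 2 (k + 2) T := by
  have hn : (Q.subgroupOf T).Normal := by
    constructor
    rintro ⟨q, hqT⟩ hq ⟨t, ht⟩
    exact C.Qconj ht hq
  have h1 : SectionalPRankLE 2 k (Q.subgroupOf T) :=
    GH.Rank.of_equiv hQ (Subgroup.subgroupOfEquivOfLe C.QT).symm
  refine GH.Rank.of_normal (Q.subgroupOf T) h1 ?_
  let c : T := ⟨x * r, mul_mem C.xT (C.PT C.dih.r_mem)⟩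
  let π := QuotientGroup.mk' (Q.subgroupOf T)
  have hcc : ((c * c : T) : G) = d := by
    change x * r * (x * r) = d
    calc x * r * (x * r) = (x * r * x⁻¹) * (x * x) * r := by group
      _ = d := by rw [C.xr, C.x2, mul_one, mul_assoc, C.dih.rr, mul_one]
  have hck : ∀ k : ℤ, ((c ^ (2 * k) : T) : G) = d ^ k := by
    intro k
    rw [zpow_mul]
    have : (c ^ (2 : ℤ) : T) = c * c := by rw [zpow_two]
    rw [this]
    push_cast
    rw [← hcc]
    push_cast
    rfl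
  have hπ : ∀ {q : G} (hq : q ∈ Q) (t : T), π (⟨q, C.QT hq⟩ * t) = π t := by
    intro q hq t
    rw [map_mul]
    have : π ⟨q, C.QT hq⟩ = 1 := (QuotientGroup.eq_one_iff _).mpr hq
    rw [this, one_mul]
  have key : ∀ t : T, π t ∈ zpowers (π c) ∨ π (t * ⟨r, C.PT C.dih.r_mem⟩) ∈ zpowers (π c) := by
    rintro ⟨t, ht⟩
    obtain ⟨q, hq, p, hp, h | h⟩ := C.cov t ht
    · rcases C.dih.cov p hp with h3 | ⟨k, rfl⟩
      · obtain ⟨k, rfl⟩ := mem_zpowers_iff.mp h3
        left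
        have e : (⟨t, ht⟩ : T) = ⟨q, C.QT hq⟩ * c ^ (2 * k) := Subtype.ext (by
          rw [Subgroup.coe_mul, hck]
          exact h)
        rw [e, hπ hq, map_zpow]
        exact zpow_mem (mem_zpowers _) _
      · right
        have e : (⟨t, ht⟩ : T) * ⟨r, C.PT C.dih.r_mem⟩ = ⟨q, C.QT hq⟩ * c ^ (2 * k) :=
          Subtype.ext (by
            rw [Subgroup.coe_mul, Subgroup.coe_mul, hck]
            change t * r = q * d ^ k
            rw [h, mul_assoc, mul_assoc, C.dih.rr, mul_one])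
        rw [e, hπ hq, map_zpow]
        exact zpow_mem (mem_zpowers _) _
    · rcases C.dih.cov p hp with h3 | ⟨k, rfl⟩
      · -- `t = q d^k x`, `t r = q d^k c`
        obtain ⟨k, rfl⟩ := mem_zpowers_iff.mp h3
        right
        have e : (⟨t, ht⟩ : T) * ⟨r, C.PT C.dih.r_mem⟩ = ⟨q, C.QT hq⟩ * (c ^ (2 * k) * c) :=
          Subtype.ext (by
            rw [Subgroup.coe_mul, Subgroup.coe_mul, Subgroup.coe_mul, hck]
            change t * r = q * (d ^ k * (x * r))
            rw [h]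
            group)
        rw [e, hπ hq, map_mul, map_zpow]
        exact mul_mem (zpow_mem (mem_zpowers _) _) (mem_zpowers _)
      · -- `t = q d^k r x`, `r x = d⁻¹ x r`
        left
        have e : (⟨t, ht⟩ : T) = ⟨q, C.QT hq⟩ * (c ^ (2 * (k - 1)) * c) :=
          Subtype.ext (by
            rw [Subgroup.coe_mul, Subgroup.coe_mul, hck]
            change t = q * (d ^ (k - 1) * (x * r))
            have h4 : x * r = d * r * x := by rw [← C.xr]; group
            rw [h, h4, zpow_sub, zpow_one]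
            group)
        rw [e, hπ hq, map_mul, map_zpow]
        exact mul_mem (zpow_mem (mem_zpowers _) _) (mem_zpowers _)
  refine TwoFusion.SectionalRank.sectionalPRankLE_of_cyclic (p := 2) (k := 1) (by norm_num)
    (zpowers (π c)) ?_
  rw [pow_one]
  by_cases hr : π ⟨r, C.PT C.dih.r_mem⟩ ∈ zpowers (π c)
  · have h3 : zpowers (π c) = ⊤ := by
      rw [eq_top_iff]
      rintro y -
      obtain ⟨t, rfl⟩ := QuotientGroup.mk'_surjective _ y
      rcases key t with h | h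
      · exact h
      · rw [map_mul] at h
        exact (Subgroup.mul_mem_cancel_right _ hr).mp h
    rw [h3, index_top]
    norm_num
  · refine le_of_eq ?_
    rw [Subgroup.index_eq_two_iff]
    refine ⟨π ⟨r, C.PT C.dih.r_mem⟩, fun y => ?_⟩
    obtain ⟨t, rfl⟩ := QuotientGroup.mk'_surjective _ y
    rcases key t with h | h
    · right
      exact ⟨h, fun h3 => hr ((Subgroup.mul_mem_cancel_left _ h).mp h3)⟩
    · left
      rw [map_mul] at h
      refine ⟨h, fun h3 => hr ((Subgroup.mul_mem_cancel_left _ h3).mp h)⟩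

end fin

/-- **MAIN (helper75 #7876 (0)-(3)).** `a` is the only involution of `C_Q(x)`: either the sectional 2-rank of `G`
is at most 4, or `T` is a Sylow 2-subgroup of `G`, `C_T(x)` one of `C(x)`, and some homomorphism `G → {±1}`
maps `x` to `-1`. -/
theorem main [Finite G] (C : Cfg a x d r L T Q P) (hR : One x a Q) :
    SectionalPRankLE 2 4 G ∨
      ((∀ U : Subgroup G, IsPGroup 2 U → T ≤ U → U ≤ T) ∧
        (∀ U : Subgroup G, IsPGroup 2 U → T ⊓ centralizer ({x} : Set G) ≤ U →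
          U ≤ centralizer ({x} : Set G) → U ≤ T ⊓ centralizer ({x} : Set G)) ∧
        (∃ w ∈ Q, w * x = x * w ∧ w * w = a) ∧ (∃ q ∈ Q, q * x ≠ x * q) ∧
        ∃ f : G →* ℤˣ, f x = -1) := by
  obtain ⟨s, hs⟩ := C.exists_s
  by_cases h1 : ∀ q ∈ Q, q * x = x * q → q = 1 ∨ q = a
  · exact Or.inl (C.rank_le_of_small hs h1)
  push Not at h1
  obtain ⟨q, hq, hqx, hq1, hqa⟩ := h1
  obtain ⟨w, hw, hwx, hww⟩ := C.exists_w hR hq hqx hq1 hqa
  have hsyl : ∀ U : Subgroup G, IsPGroup 2 U → T ≤ U → U ≤ T := fun U hU hTU =>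
    C.syl_T hs hR hw hwx hww hU hTU
  by_cases h2 : ∀ q ∈ Q, q * x = x * q
  · left
    have hp2 : Fact (Nat.Prime 2) := ⟨Nat.prime_two⟩
    obtain ⟨S, hS⟩ := C.Tp.exists_le_sylow
    have h3 : T = (S : Subgroup G) := le_antisymm hS (hsyl S S.2 hS)
    rw [← GH.Rank.sylow_iff S, ← h3]
    exact C.rank_T (C.rank_Q fun q hq hqq => hR q hq (h2 q hq) hqq)
  · right
    push Not at h2
    obtain ⟨q₀, hq₀, hne⟩ := h2
    exact ⟨hsyl, fun U hU hTU hUx => C.syl_Tx hs hR hw hwx hww hU hTU hUx,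
      ⟨w, hw, hwx, hww⟩, ⟨q₀, hq₀, hne⟩, C.exists_hom hs hR hw hwx hww hq₀ hne⟩

end Cfg

end Cfsg.Agent.UGT.RankOneR
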