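import Cfsg.Agent.UGT.Trich

/-!
# The node END

`X` is a known simple group outside the list of S1311. The node `LB X` says that no group `G` with
`F*(G) ≅ X` has an involution `x` with `O(C_G(x)) ≠ 1`. It splits into three pieces:

* `EndInner X`: `O(C_X(t)) = 1` for all involutions `t` of `X`;
* `EndOuter X`: `O(C_G(x)) = 1` for `G = X⟨x⟩`, `x ∉ X` an involution, `C_G(X) = 1`;
* `EndOdd X`: a subgroup `D ≠ 1` of odd order of automorphisms, centralizing an involution `x` of `G`
  and normalized by `C_G(x)` with `D ∩ X = 1` does not centralize `C_X(x)`.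

`LB.of_pieces`: the three pieces give `LB X`.
-/

set_option autoImplicit false

open Cfsg Subgroup
open Cfsg.Agent.SignalizersComponents Cfsg.Agent.Lib
open Cfsg.Agent.SignalizersComponents.IntrinsicBasic
open Cfsg.Agent.SignalizersComponents.PLayerAut
open Cfsg.Agent.Intrinsic.Basic
open Cfsg.Agent.FixBN.BTheorem Cfsg.Agent.FixBN.BRelative
open Cfsg.Agent.UGT.Triple Cfsg.Agent.UGT.Iface Cfsg.Agent.UGT.Trich
open scoped commutatorElement

namespace Cfsg.Agent.UGT.End

universe u v

local notation "Fs" => generalizedFittingSubgroup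

/-- END, inner involutions. -/
def EndInner (X : Type u) [Group X] : Prop :=
  ∀ t : X, orderOf t = 2 → centralizerPPrimeCore 2 t = ⊥

/-- END, outer involutions. -/
def EndOuter (X : Type u) [Group X] : Prop :=
  ∀ (G : Type u) [Group G] [Finite G] (N : Subgroup G), N.Normal → Nonempty (X ≃* ↥N) →
    centralizer (N : Set G) = ⊥ → N.index = 2 → ∀ x : G, x ∉ N → orderOf x = 2 →
      centralizerPPrimeCore 2 x = ⊥

/-- END, outer automorphisms of odd order: `D` is an odd order subgroup of `C_G(x)`, normalized by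
`C_G(x)`, centralizing `C_N(x)` and meeting `N` trivially. -/
def EndOdd (X : Type u) [Group X] : Prop :=
  ∀ (G : Type u) [Group G] [Finite G] (N : Subgroup G), N.Normal → Nonempty (X ≃* ↥N) →
    centralizer (N : Set G) = ⊥ → ∀ x : G, orderOf x = 2 → ∀ D : Subgroup G,
      D ≤ centralizer ({x} : Set G) → centralizer ({x} : Set G) ≤ normalizer (D : Set G) →
      Odd (Nat.card D) → D ⊓ N = ⊥ →
      (∀ d ∈ D, ∀ y ∈ N, y * x = x * y → y * d = d * y) → D = ⊥

/-- **Node END** for the simple group `X`. -/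
def LB (X : Type u) [Group X] : Prop :=
  ∀ (G : Type u) [Group G] [Finite G] (N : Subgroup G), N.Normal → Nonempty (X ≃* ↥N) →
    centralizer (N : Set G) = ⊥ → ∀ x : G, orderOf x = 2 → centralizerPPrimeCore 2 x = ⊥

section congr

variable {X Y : Type u} [Group X] [Group Y]

theorem EndInner.congr (e : X ≃* Y) (h : EndInner X) : EndInner Y := by
  intro t ht
  have h1 := h (e.symm t) (by rwa [MulEquiv.orderOf_eq])
  have h2 := map_core e 2 (e.symm t)
  rw [h1, Subgroup.map_bot, MulEquiv.apply_symm_apply] at h2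
  exact h2.symm

theorem EndOuter.congr (e : X ≃* Y) (h : EndOuter X) : EndOuter Y :=
  fun G _ _ N hN ⟨f⟩ => h G N hN ⟨e.trans f⟩

theorem EndOdd.congr (e : X ≃* Y) (h : EndOdd X) : EndOdd Y :=
  fun G _ _ N hN ⟨f⟩ => h G N hN ⟨e.trans f⟩

theorem LB.congr (e : X ≃* Y) (h : LB X) : LB Y :=
  fun G _ _ N hN ⟨f⟩ => h G N hN ⟨e.trans f⟩

end congr

/-- cores of centralizers under isomorphisms -/
theorem map_core' {G : Type*} {H : Type*} [Group G] [Group H] (e : G ≃* H) (p : ℕ) (a : G) :
    (centralizerPPrimeCore p a).map e.toMonoidHom = centralizerPPrimeCore p (e a) := by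
  have h := PLayerAut.relCore_map_equiv p e (Subgroup.centralizer ({a} : Set G))
  have h2 : (Subgroup.centralizer ({a} : Set G)).map e.toMonoidHom =
      Subgroup.centralizer ({e a} : Set H) := by
    ext y
    constructor
    · rintro ⟨x, hx, rfl⟩
      have := mem_centralizer_singleton_iff.mp hx
      change e x ∈ Subgroup.centralizer ({e a} : Set H)
      rw [mem_centralizer_singleton_iff, ← map_mul, ← map_mul, this]
    · intro hy
      refine ⟨e.symm y, ?_, e.apply_symm_apply y⟩
      have := mem_centralizer_singleton_iff.mp hy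
      change e.symm y ∈ Subgroup.centralizer ({a} : Set G)
      rw [mem_centralizer_singleton_iff]
      apply e.injective
      rw [map_mul, map_mul, e.apply_symm_apply, this]
  rw [h2] at h
  exact h.symm

theorem core_le_of_subgroup {G : Type u} [Group G] [Finite G] {H : Subgroup G} {x : G}
    (hxH : x ∈ H) (h : centralizerPPrimeCore 2 (⟨x, hxH⟩ : ↥H) = ⊥) :
    core (H ⊓ centralizer ({x} : Set G)) = ⊥ := by
  rw [← map_centralizerPPrimeCore hxH, h, Subgroup.map_bot]

/-- `O(C_{N⟨x⟩}(x)) = 1` -/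
theorem core_sup_zpowers {X : Type u} [Group X] (h1 : EndInner X) (h2 : EndOuter X)
    {G : Type u} [Group G] [Finite G] {N : Subgroup G} (hN : N.Normal) (f : X ≃* ↥N)
    (hc : centralizer (N : Set G) = ⊥) {x : G} (hx : orderOf x = 2) :
    core ((N ⊔ zpowers x) ⊓ centralizer ({x} : Set G)) = ⊥ := by
  obtain ⟨H, hH⟩ : ∃ H, H = N ⊔ zpowers x := ⟨_, rfl⟩
  rw [← hH]
  have hNH : N ≤ H := hH ▸ le_sup_left
  have hxH : x ∈ H := by rw [hH]; exact mem_sup_right (mem_zpowers x)
  by_cases hxN : x ∈ N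
  · have hHN : H = N := by rw [hH]; exact sup_eq_left.mpr (by rwa [zpowers_le])
    rw [hHN]
    refine core_le_of_subgroup hxN ?_
    exact (h1.congr f) ⟨x, hxN⟩ (by rwa [Subgroup.orderOf_mk])
  · refine core_le_of_subgroup hxH ?_
    refine h2 ↥H (N.subgroupOf H) (hN.comap _) ⟨f.trans (subgroupOfEquivOfLe hNH).symm⟩ ?_ ?_
      ⟨x, hxH⟩ (fun h => hxN h) (by rwa [Subgroup.orderOf_mk])
    · rw [eq_bot_iff]
      intro y hy
      have h4 : (y : G) ∈ centralizer (N : Set G) := by
        rw [mem_centralizer_iff]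
        intro z hz
        exact congrArg Subtype.val (mem_centralizer_iff.mp hy ⟨z, hNH hz⟩ hz)
      rw [hc, mem_bot] at h4
      exact Subtype.ext h4
    · -- index 2
      rw [Subgroup.index_eq_two_iff]
      refine ⟨⟨x, hxH⟩, fun b => ?_⟩
      have hxx : x * x = 1 := sq_of_order hx
      have hb : (b : G) ∈ N ⊔ zpowers x := hH ▸ b.2
      have hmem : ∀ g : G, g ∈ N ⊔ zpowers x → g ∈ N ∨ g * x ∈ N := by
        intro g hg
        have := hN
        rw [← SetLike.mem_coe, Subgroup.normal_mul] at hg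
        obtain ⟨n, hn, k, hk, rfl⟩ := hg
        obtain ⟨i, rfl⟩ := mem_zpowers_iff.mp hk
        rcases Int.even_or_odd i with ⟨j, hj⟩ | ⟨j, hj⟩
        · left
          have : x ^ i = 1 := by
            rw [hj, ← two_mul, zpow_mul, show x ^ (2 : ℤ) = 1 by
              rw [zpow_ofNat, pow_two, hxx], one_zpow]
          change n * x ^ i ∈ N
          rw [this, mul_one]; exact hn
        · right
          have : x ^ i = x := by
            rw [hj, zpow_add, zpow_mul, show x ^ (2 : ℤ) = 1 by
              rw [zpow_ofNat, pow_two, hxx], one_zpow, zpow_one, one_mul]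
          change n * x ^ i * x ∈ N
          rw [this, mul_assoc, hxx, mul_one]; exact hn
      have hiff : ∀ g : G, g ∈ N ∨ g * x ∈ N → Xor (g * x ∈ N) (g ∈ N) := by
        intro g hg
        have hnot : ¬ (g ∈ N ∧ g * x ∈ N) := by
          rintro ⟨h5, h6⟩
          apply hxN
          have := N.mul_mem (N.inv_mem h5) h6
          rwa [inv_mul_cancel_left] at this
        rcases hg with h5 | h5
        · exact Or.inr ⟨h5, fun h6 => hnot ⟨h5, h6⟩⟩
        · exact Or.inl ⟨h5, fun h6 => hnot ⟨h6, h5⟩⟩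
      exact hiff _ (hmem _ hb)

/-- The three pieces give the node END. -/
theorem LB.of_pieces {X : Type u} [Group X] (h1 : EndInner X) (h2 : EndOuter X) (h3 : EndOdd X) :
    LB X := by
  intro G _ _ N hN hX hc x hx
  obtain ⟨f⟩ := hX
  change core (centralizer ({x} : Set G)) = ⊥
  obtain ⟨D, hD⟩ : ∃ D, D = core (centralizer ({x} : Set G)) := ⟨_, rfl⟩
  rw [← hD]
  have hcore := core_sup_zpowers h1 h2 hN f hc hx
  obtain ⟨H, hH⟩ : ∃ H, H = N ⊔ zpowers x := ⟨_, rfl⟩
  rw [← hH] at hcore
  have hNH : N ≤ H := hH ▸ le_sup_left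
  have hDC : D ≤ centralizer ({x} : Set G) := hD ▸ core_le _
  have hDodd : Odd (Nat.card D) := hD ▸ odd_card_core _
  have hDn : centralizer ({x} : Set G) ≤ normalizer (D : Set G) := hD ▸ le_normalizer_core _
  have hDH : D ⊓ H = ⊥ := by
    rw [eq_bot_iff, ← hcore]
    intro d hd
    have h3 := PumpGen.inf_le_core' (H := H) (hD ▸ hd.1) hd.2
    exact h3
  refine h3 G N hN ⟨f⟩ hc x hx D hDC hDn hDodd ?_ ?_
  · rw [eq_bot_iff, ← hDH]
    exact inf_le_inf_left _ hNH
  · intro d hd y hy hyx
    have hyC : y ∈ centralizer ({x} : Set G) := mem_c hyx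
    have h5 : ⁅d, y⁆ ∈ D ⊓ H := by
      constructor
      · have e : ⁅d, y⁆ = d * (y * d⁻¹ * y⁻¹) := by rw [commutatorElement_def]; group
        rw [e]
        exact D.mul_mem hd ((mem_normalizer_iff.mp (hDn hyC) d⁻¹).mp (D.inv_mem hd))
      · rw [commutatorElement_def]
        exact H.mul_mem (hNH (hN.conj_mem y hy d)) (H.inv_mem (hNH hy))
    rw [hDH, mem_bot] at h5
    exact (commutatorElement_eq_one_iff_mul_comm.mp h5).symm

/-- `IsLocallyBalanced` is invariant under isomorphism -/
theorem locallyBalanced_congr {X : Type u} {Y : Type v} [Group X] [Group Y] (e : X ≃* Y)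
    (h : IsLocallyBalanced X) : IsLocallyBalanced Y := by
  intro H hH x hx
  let E : MulAut X ≃* MulAut Y := MulAut.congr e
  have hle : (MulAut.conj : X →* MulAut X).range ≤ H.comap E.toMonoidHom := by
    rintro _ ⟨y, rfl⟩
    rw [mem_comap]
    apply hH
    refine ⟨e y, ?_⟩
    ext z
    change e y * z * (e y)⁻¹ = e (y * e.symm z * y⁻¹)
    simp
  let F : ↥(H.comap E.toMonoidHom) ≃* ↥H :=
    { toFun := fun y => ⟨E y, y.2⟩
      invFun := fun y => ⟨E.symm y, by
        rw [mem_comap]
        change E (E.symm y) ∈ H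
        rw [MulEquiv.apply_symm_apply]; exact y.2⟩
      left_inv := fun y => Subtype.ext (E.symm_apply_apply _)
      right_inv := fun y => Subtype.ext (E.apply_symm_apply _)
      map_mul' := fun y z => Subtype.ext (map_mul E _ _) }
  have h1 := h _ hle (F.symm x) (by rwa [MulEquiv.orderOf_eq])
  have h2 := map_core' F 2 (F.symm x)
  rw [h1, Subgroup.map_bot, MulEquiv.apply_symm_apply] at h2
  exact h2.symm

/-- A locally balanced simple group (Prelude) satisfies END. -/
theorem LB.of_locallyBalanced {X : Type u} [Group X] (hs : IsSimpleGroup X)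
    (hna : ¬ IsMulCommutative X) (h : IsLocallyBalanced X) : LB X := by
  intro G _ _ N hN hX hc x hx
  obtain ⟨f⟩ := hX
  have hsN : IsSimpleGroup ↥N := simple_congr f hs
  have hnaN : ¬ IsMulCommutative ↥N := not_comm_congr f hna
  have hF : Fs G = N := genFitting_eq hN hsN hnaN hc
  have e : X ≃* ↥(Fs G) := f.trans (MulEquiv.subgroupCongr hF.symm)
  exact core_eq_bot (simple_congr e hs) (not_comm_congr e hna) (locallyBalanced_congr e h) hx

/-- END(X) excludes minimal counterexamples with `F*(G) ≅ X`. -/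
theorem not_minCex {G : Type u} [Group G] [Finite G] (h : MinCex G) (hLB : LB ↥(Fs G)) : False := by
  obtain ⟨t, ht, hne⟩ := h.unbal
  exact hne (hLB G (Fs G) normal_fs ⟨MulEquiv.refl _⟩ (centralizer_fs h) t ht)

/-- Case (γ) of the trichotomy remains if only `EndInner` and `EndOuter` are known. -/
theorem odd_case {G : Type u} [Group G] [Finite G] (h : MinCex G) (h1 : EndInner ↥(Fs G))
    (h2 : EndOuter ↥(Fs G)) {x : G} (hx : orderOf x = 2)
    (hO : core (centralizer ({x} : Set G)) ≠ ⊥) :
    Fs G ⊔ zpowers x ≠ ⊤ ∧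
      core (centralizer ({x} : Set G)) ⊓ (Fs G ⊔ zpowers x) = ⊥ ∧
      ∀ d ∈ core (centralizer ({x} : Set G)), ∀ y ∈ (Fs G ⊔ zpowers x) ⊓ centralizer ({x} : Set G),
        ⁅d, y⁆ = 1 := by
  rcases trichotomy h hx hO with h3 | ⟨h3, h4, -⟩ | h3
  · exfalso
    apply hO
    have hxF : x ∈ Fs G := by rw [h3]; exact mem_top x
    have h5 := core_le_of_subgroup hxF (h1 ⟨x, hxF⟩ (by rwa [Subgroup.orderOf_mk]))
    rwa [h3, top_inf_eq] at h5
  · exfalso
    apply hO
    have h5 := core_sup_zpowers h1 h2 normal_fs (MulEquiv.refl _) (centralizer_fs h) hx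
    rwa [h4, top_inf_eq] at h5
  · exact h3

end Cfsg.Agent.UGT.End
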