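import Cfsg.Agent.UGT.InUList
import Cfsg.Agent.UGT.End
import Cfsg.Agent.UGT.End.McL
import Cfsg.Agent.UGT.End.Ly
import Cfsg.Agent.GH.AltOut

/-!
# END for `McL` and `Ly`, in the form `HasAltCover`

`excl`: no minimal counterexample has an `F*(G)` with `HasAltCover` (from the statement S1738 for `F*(G)`).
-/

set_option autoImplicit false

open Cfsg Subgroup
open Cfsg.Agent.FixBN.BTheorem Cfsg.Agent.FixBN.BRelative
open Cfsg.Agent.UGT.Triple Cfsg.Agent.UGT.Iface Cfsg.Agent.UGT.InUList
open Cfsg.Agent.GH.Defs (HasAltCover)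

namespace Cfsg.Agent.UGT.EndK4Cov

universe u

theorem mcL : Excl.{u} fun X [Group X] => Spor.IsoMcL X :=
  Excl.of_core fun _ _ _ h t ht => End.McL.core_eq_bot h t ht

theorem ly : Excl.{u} fun X [Group X] => Spor.IsoLy X :=
  fun _ _ _ hG h => End.not_minCex hG (End.Ly.lb h)

/-- `McL` and `Ly` -/
theorem excl (h1738 : ∀ (G : Type u) [Group G] [Finite G], GH.AltOut.St1738 G) :
    Excl.{u} fun X [Group X] => HasAltCover X := by
  intro G _ _ hG hX
  have hs := hG.simple
  have hO : oddCore ↥(generalizedFittingSubgroup G) = ⊥ := by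
    have hn : (oddCore ↥(generalizedFittingSubgroup G)).Normal := Lib.Cores.pPrimeCore_normal 2
    rcases hn.eq_bot_or_eq_top with h1 | h1
    · exact h1
    · exfalso
      obtain ⟨n, t, K, -, hK, -, -⟩ := hX
      have h2 : (Nat.card (oddCore ↥(generalizedFittingSubgroup G))).Coprime 2 :=
        Lib.Cores.pPrimeCore_coprime (G := ↥(generalizedFittingSubgroup G)) 2
      rw [h1, card_top] at h2
      have h3 : 2 ∣ Nat.card ↥(generalizedFittingSubgroup G) := hK.inv ▸ orderOf_dvd_natCard t
      exact (Nat.Prime.coprime_iff_not_dvd Nat.prime_two).mp h2.symm h3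
  rcases GH.AltOut.mcl_or_ly hG.nonab hO (h1738 _) hX with h | h
  · exact mcL G hG h
  · exact ly G hG h

end Cfsg.Agent.UGT.EndK4Cov
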