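import Cfsg.Agent.UGT.EndK4
import Cfsg.Agent.UGT.EndK4Cov
import Cfsg.Agent.S1738

/-!
# END for the whole list `K4End`
-/

set_option autoImplicit false

open Cfsg Cfsg.Agent.UGT.InUList Cfsg.Agent.UGT.Iface

namespace Cfsg.Agent.UGT.EndK4All

universe u

/-- The groups of `K4End` are excluded as `F*(G)` of a minimal counterexample. -/
theorem endK4 : Excl.{u} K4End :=
  EndK4.excl (EndK4Cov.excl fun _ _ _ hO hF t ht K hK htK n hn hKA =>
    Cfsg.Agent.S1738.result hO hF t ht K hK htK n hn hKA)

/-- The groups of `K4` are excluded. -/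
theorem exclK4 : Excl.{u} GH.Defs.K4 := not_K4_of endK4

end Cfsg.Agent.UGT.EndK4All
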