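import Cfsg.Agent.Schreier.UTFive
import Cfsg.Agent.SignalizersComponents.CompBasic

/-!
# Involutory automorphisms of groups with Sylow 2-subgroup `UT₅(2)` centralize a four-group
-/

set_option autoImplicit false

open Cfsg Subgroup
open Cfsg.Agent.Schreier.UTFive
open scoped commutatorElement

namespace Cfsg.Agent.UGT.HeFour

variable {K : Type*} [Group K]

/-- an involution on an elementary abelian group of order at least 5 centralizes a four-group -/
theorem exists_four_of_elem [Finite K] {E : Subgroup K} (hE : ∀ a ∈ E, a * a = 1) (h8 : 5 ≤ Nat.card E)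
    {τ : MulAut K} (hτ : τ * τ = 1) (hτE : ∀ a ∈ E, τ a ∈ E) :
    ∃ v w : K, v ∈ E ∧ w ∈ E ∧ v ≠ 1 ∧ w ≠ 1 ∧ v ≠ w ∧ τ v = v ∧ τ w = w := by
  have hinv : ∀ a ∈ E, a⁻¹ = a := fun a ha => inv_eq_of_mul_eq_one_left (hE a ha)
  have hcomm : ∀ a ∈ E, ∀ b ∈ E, a * b = b * a := by
    intro a ha b hb
    have h1 := hE _ (mul_mem ha hb)
    calc a * b = (a * b)⁻¹ := (hinv _ (mul_mem ha hb)).symm
      _ = b⁻¹ * a⁻¹ := by group
      _ = b * a := by rw [hinv a ha, hinv b hb]
  have hττ : ∀ a, τ (τ a) = a := fun a => by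
    rw [← MulAut.mul_apply, hτ, MulAut.one_apply]
  -- the homomorphism `a ↦ a * τ a`
  let f : E →* E :=
    { toFun := fun a => ⟨a * τ a, mul_mem a.2 (hτE a a.2)⟩
      map_one' := by ext; simp
      map_mul' := by
        intro a b
        apply Subtype.ext
        change (a : K) * b * τ (a * b) = (a * τ a) * (b * τ b)
        rw [map_mul]
        calc (a : K) * b * (τ a * τ b) = a * (b * τ a) * τ b := by group
          _ = a * (τ a * b) * τ b := by rw [hcomm b b.2 _ (hτE a a.2)]
          _ = _ := by group }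
  let F : Subgroup E := { carrier := {a | τ (a : K) = a}
                          mul_mem' := by
                            intro a b ha hb
                            change τ ((a : K) * b) = a * b
                            rw [map_mul, show τ (a : K) = a from ha, show τ (b : K) = b from hb]
                          one_mem' := map_one τ
                          inv_mem' := by
                            intro a ha
                            change τ ((a : K)⁻¹) = (a : K)⁻¹
                            rw [map_inv, show τ (a : K) = a from ha] }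
  have h1 : f.ker ≤ F := by
    intro a ha
    have h2 : (a : K) * τ a = 1 := congrArg Subtype.val ha
    change τ (a : K) = a
    exact (eq_inv_of_mul_eq_one_right h2).trans (hinv a a.2)
  have h2 : f.range ≤ F := by
    rintro _ ⟨a, rfl⟩
    change τ ((a : K) * τ a) = a * τ a
    rw [map_mul, hττ, hcomm _ (hτE a a.2) a a.2]
  have h3 : Nat.card E = Nat.card f.ker * Nat.card f.range := by
    rw [← Subgroup.card_mul_index f.ker, Subgroup.index_ker]
  have h4 := Subgroup.card_le_of_le h1
  have h5 := Subgroup.card_le_of_le h2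
  have h6 : 3 ≤ Nat.card F := by
    by_contra hcon
    have h7 : Nat.card F ≤ 2 := by omega
    have : Nat.card f.ker * Nat.card f.range ≤ 2 * 2 := Nat.mul_le_mul (h4.trans h7) (h5.trans h7)
    omega
  have : Fintype F := Fintype.ofFinite _
  rw [Nat.card_eq_fintype_card] at h6
  obtain ⟨a, b, c, hab, hac, hbc⟩ := Fintype.two_lt_card_iff.mp (show 2 < Fintype.card F by omega)
  have key : ∀ p q : F, p ≠ q → p ≠ 1 → q ≠ 1 →
      ∃ v w : K, v ∈ E ∧ w ∈ E ∧ v ≠ 1 ∧ w ≠ 1 ∧ v ≠ w ∧ τ v = v ∧ τ w = w := by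
    intro p q hpq hp hq
    refine ⟨p, q, p.1.2, q.1.2, ?_, ?_, ?_, p.2, q.2⟩
    · intro h; exact hp (Subtype.ext (Subtype.ext h))
    · intro h; exact hq (Subtype.ext (Subtype.ext h))
    · intro h; exact hpq (Subtype.ext (Subtype.ext h))
  by_cases ha : a = 1
  · exact key b c hbc (fun h => hab (ha.trans h.symm)) (fun h => hac (ha.trans h.symm))
  · by_cases hb : b = 1
    · exact key a c hac ha (fun h => hbc (hb.trans h.symm))
    · exact key a b hab ha hb

theorem exists_four [Finite K] {m : ℕ} (hm : Odd m) (hcard : Nat.card K = 2 ^ 10 * m) {x : Fin 10 → K}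
    (h : Rel x) {τ : MulAut K} (hτ : τ * τ = 1) :
    ∃ v w : K, v * v = 1 ∧ w * w = 1 ∧ v * w = w * v ∧ v ≠ 1 ∧ w ≠ 1 ∧ v ≠ w ∧ τ v = v ∧ τ w = w := by
  have : Fact (Nat.Prime 2) := ⟨Nat.prime_two⟩
  obtain ⟨T, hT⟩ := h.exists_sylow hm hcard
  -- `E = [T, T, T]`
  have hE : ⁅⁅(T : Subgroup K), (T : Subgroup K)⁆, (T : Subgroup K)⁆ = Sb x {7, 8, 9} := by
    rw [hT]
    apply le_antisymm h.commutator_le'
    have hu : ∀ i, x i ∈ Sb x Finset.univ := fun i => mem_Sb (Finset.mem_univ i)
    have hc := h.le_commutator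
    have hv : ∀ i ∈ ({4, 5, 6, 7, 8, 9} : Finset (Fin 10)), x i ∈ ⁅Sb x Finset.univ, Sb x Finset.univ⁆ :=
      fun i hi => hc (mem_Sb hi)
    refine Sb_le fun i hi => ?_
    fin_cases hi
    · exact h.mem_comm 5 0 7 _ _ (by decide) (hv _ (by decide)) (hu _)
    · exact h.mem_comm 6 1 8 _ _ (by decide) (hv _ (by decide)) (hu _)
    · exact h.mem_comm 8 0 9 _ _ (by decide) (hv _ (by decide)) (hu _)
  have hE8 : 8 ≤ Nat.card (Sb x {7, 8, 9}) := by
    have h0 : 1 ≤ Nat.card (Sb x ∅) := Nat.card_pos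
    have b : Sb x ∅ = ⊥ := by
      rw [eq_bot_iff]; exact Sb_le fun i hi => absurd hi (Finset.notMem_empty i)
    have h1 := h.card_insert 9 _ (by rw [b, Subgroup.mem_bot]; exact h.ne) h0
    have h2 := h.card_insert 7 _ (h.notMem_of_cen 3 7 9 {9} (by decide) (by decide) h.ne) h1
    have h3 := h.card_insert 8 _ (h.notMem_of_cen 0 8 9 {7, 9} (by decide) (by decide) h.ne) h2
    have e : (insert 8 ({7, 9} : Finset (Fin 10))) = {7, 8, 9} := by decide
    rw [e] at h3
    exact h3
  have hEc : ∀ a ∈ Sb x {7, 8, 9}, ∀ b ∈ Sb x {7, 8, 9}, a * b = b * a := by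
    have h1 : Sb x {7, 8, 9} ≤ centralizer (Sb x {7, 8, 9} : Set K) := by
      refine Sb_le fun i hi => ?_
      rw [mem_centralizer_iff]
      intro b hb
      exact mem_centralizer_singleton_iff.mp (h.cen i {7, 8, 9} (by fin_cases hi <;> decide) hb)
    intro a ha b hb
    exact (mem_centralizer_iff.mp (h1 hb)) a ha
  have hE2 : ∀ a ∈ Sb x {7, 8, 9}, a * a = 1 := by
    intro a ha
    refine Subgroup.closure_induction (p := fun a _ => a * a = 1) ?_ ?_ ?_ ?_ ha
    · rintro _ ⟨i, _, rfl⟩; exact h.sq i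
    · exact one_mul 1
    · intro a b ha hb h1 h2
      calc a * b * (a * b) = a * (b * a) * b := by group
        _ = a * (a * b) * b := by rw [hEc b hb a ha]
        _ = (a * a) * (b * b) := by group
        _ = 1 := by rw [h1, h2, one_mul]
    · intro a ha h1
      calc a⁻¹ * a⁻¹ = (a * a)⁻¹ := by group
        _ = 1 := by rw [h1, inv_one]
  -- an invariant Sylow subgroup
  obtain ⟨T', hT'⟩ := SignalizersComponents.CompBasic.exists_invariant_sylow 2 τ (k := 1)
    (by rw [pow_one, pow_two, hτ])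
  obtain ⟨g, hg⟩ := MulAction.exists_smul_eq K T T'
  have hTg : (T' : Subgroup K) = (T : Subgroup K).map (MulAut.conj g).toMonoidHom := by
    rw [← hg]; rfl
  set E' : Subgroup K := ⁅⁅(T' : Subgroup K), (T' : Subgroup K)⁆, (T' : Subgroup K)⁆ with hE'
  have hE'g : E' = (Sb x {7, 8, 9}).map (MulAut.conj g).toMonoidHom := by
    rw [hE', hTg, ← hE, Subgroup.map_commutator, Subgroup.map_commutator]
  have hτT : (T' : Subgroup K).map τ.toMonoidHom = T' := by
    apply Subgroup.eq_of_le_of_card_ge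
    · rintro _ ⟨a, ha, rfl⟩
      exact (hT' a).mpr ha
    · rw [Subgroup.card_map_of_injective τ.injective]
  have hτE : E'.map τ.toMonoidHom = E' := by
    rw [hE', Subgroup.map_commutator, Subgroup.map_commutator, hτT]
  have hE'2 : ∀ a ∈ E', a * a = 1 := by
    intro a ha
    rw [hE'g] at ha
    obtain ⟨b, hb, rfl⟩ := ha
    change MulAut.conj g b * MulAut.conj g b = 1
    rw [← map_mul, hE2 b hb, map_one]
  obtain ⟨v, w, hv, hw, h1, h2, h3, h4, h5⟩ := exists_four_of_elem (E := E') hE'2
    (by rw [hE'g, Subgroup.card_map_of_injective (MulAut.conj g).injective]; omega) hτ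
    (fun a ha => by rw [← hτE]; exact ⟨a, ha, rfl⟩)
  refine ⟨v, w, hE'2 v hv, hE'2 w hw, ?_, h1, h2, h3, h4, h5⟩
  rw [hE'g] at hv hw
  obtain ⟨b, hb, rfl⟩ := hv
  obtain ⟨c, hc, rfl⟩ := hw
  change MulAut.conj g b * MulAut.conj g c = MulAut.conj g c * MulAut.conj g b
  rw [← map_mul, ← map_mul, hEc b hb c hc]

end Cfsg.Agent.UGT.HeFour
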