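import Cfsg.Agent.UGT.HFAbs
import Cfsg.Agent.UGT.HeFour
import Cfsg.Agent.KFacts.He.Cent
import Cfsg.Agent.KFacts.He.Classes
import Cfsg.Agent.KFacts.He.TwoA
import Cfsg.Agent.KFacts.TwoSix.Facts
import Cfsg.Agent.Schreier.He

/-!
# N1b: no triple of type `He`

* `twoB_z`, `twoA_a`: the two classes of involutions of `He`.
* `hf_he`: `HF` for the Held group.
* `nodeHe : NodeHe`.
-/

set_option autoImplicit false

open Cfsg Subgroup
open Cfsg.Agent.SignalizersComponents Cfsg.Agent.Lib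
open Cfsg.Agent.SignalizersComponents.IntrinsicBasic
open Cfsg.Agent.Intrinsic.Basic
open Cfsg.Agent.UGT.NodeHeG Cfsg.Agent.UGT.HFAbs Cfsg.Agent.UGT.Nodes

namespace Cfsg.Agent.UGT.HeEnd

universe u

open Cfsg.Agent.KFacts.He.Bound (z)
open Cfsg.Agent.KFacts.He.Hyp (hyp iota z_ne_one finHe)
open Cfsg.Agent.KFacts.He.Cent (aut_cases simpleHe card_He card_cent)
open Cfsg.Agent.SporadicRecognition.HeldModel

/-! ### transport -/

section congr

variable {K K' : Type*} [Group K] [Group K'] [Finite K]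

theorem hf_congr (e : K ≃* K') (h : HF K) : HF K' := by
  have : Finite K' := Finite.of_equiv K e.toEquiv
  intro τ' hτ' hτ1' D' hD' hD1' hDτ' hDn'
  let c : MulAut K ≃* MulAut K' := MulAut.congr e
  have hc : ∀ (α : MulAut K) (k : K), (c α) (e k) = e (α k) := fun α k => by
    change e (α (e.symm (e k))) = _
    rw [e.symm_apply_apply]
  have hcc : ∀ k : K, c (MulAut.conj k) = MulAut.conj (e k) := by
    intro k
    ext g
    obtain ⟨g, rfl⟩ := e.surjective g
    rw [hc, MulAut.conj_apply, MulAut.conj_apply, map_mul, map_mul, map_inv]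
  obtain ⟨τ, rfl⟩ := c.surjective τ'
  obtain ⟨D, hD⟩ : ∃ D, D = D'.comap c.toMonoidHom := ⟨_, rfl⟩
  have hm : ∀ δ, δ ∈ D ↔ c δ ∈ D' := fun δ => by rw [hD]; rfl
  have hDm : D.map c.toMonoidHom = D' := by
    rw [hD]; exact Subgroup.map_comap_eq_self_of_surjective c.surjective D'
  obtain ⟨t, M, htt, ht1, hτt, hM, hMc, htM, δ, hδ, hδt, m, hm', hmm⟩ := h τ
    (c.injective (by rw [map_mul, hτ', map_one])) (fun e1 => hτ1' (by rw [e1, map_one])) D
    (by rw [← hDm, Subgroup.card_map_of_injective c.injective] at hD'; exact hD')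
    (fun e1 => hD1' (by rw [← hDm, e1, Subgroup.map_bot]))
    (fun δ hδ => c.injective (by
      rw [map_mul, map_mul]; exact hDτ' _ ((hm δ).mp hδ)))
    (fun k hk δ hδ => (hm _).mpr (by
      rw [map_mul, map_mul, map_inv, hcc]
      exact hDn' (e k) (by rw [hc, hk]) _ ((hm δ).mp hδ)))
  have hcen : ∀ g, g ∈ centralizer ({t} : Set K) ↔ e g ∈ centralizer ({e t} : Set K') := by
    intro g
    rw [mem_centralizer_singleton_iff, mem_centralizer_singleton_iff, ← map_mul, ← map_mul,
      e.injective.eq_iff]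
  have hcm : (centralizer ({t} : Set K)).map e.toMonoidHom = centralizer ({e t} : Set K') := by
    ext g
    constructor
    · rintro ⟨g, hg, rfl⟩; exact (hcen g).mp hg
    · intro hg
      obtain ⟨g, rfl⟩ := e.surjective g
      exact ⟨g, (hcen g).mpr hg, rfl⟩
  let ec : ↥(centralizer ({t} : Set K)) ≃* ↥(centralizer ({e t} : Set K')) :=
    (Subgroup.equivMapOfInjective _ e.toMonoidHom e.injective).trans (MulEquiv.subgroupCongr hcm)
  refine ⟨e t, M.map e.toMonoidHom, by rw [← map_mul, htt, map_one], fun e1 => ht1 (e.injective (by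
    rw [e1, map_one])), by rw [hc, hτt], ?_, ?_, ⟨t, htM, rfl⟩, c δ, (hm δ).mp hδ, by rw [hc, hδt],
    e m, ⟨m, hm', rfl⟩, ?_⟩
  · rw [← hcm]; exact Subgroup.map_mono hM
  · have h1 := LayerBasic.isComponent_map_equiv ec hMc
    have h2 : (M.subgroupOf (centralizer ({t} : Set K))).map ec.toMonoidHom =
        (M.map e.toMonoidHom).subgroupOf (centralizer ({e t} : Set K')) := by
      ext ⟨g, hg⟩
      constructor
      · rintro ⟨y, hy, h3⟩
        rw [mem_subgroupOf]
        exact ⟨y, hy, congrArg Subtype.val h3⟩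
      · intro h3
        rw [mem_subgroupOf] at h3
        obtain ⟨y, hy, h4⟩ := h3
        exact ⟨⟨y, hM hy⟩, mem_subgroupOf.mpr hy, Subtype.ext h4⟩
    rw [← h2]
    exact h1
  · intro h1
    apply hmm
    rw [hc, ← map_inv, ← map_mul] at h1
    have hmem : e (δ m * m⁻¹) ∈ M.map e.toMonoidHom := core_le _ h1
    have h2 := map_core (M := M.map e.toMonoidHom) (M' := M)
      (M.equivMapOfInjective e.toMonoidHom e.injective).symm.toMonoidHom
      (M.equivMapOfInjective e.toMonoidHom e.injective).symm.surjective hmem h1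
    obtain ⟨y, hy, h3⟩ := hmem
    have h4 : y = δ m * m⁻¹ := e.injective h3
    subst h4
    have h5 : ((M.equivMapOfInjective e.toMonoidHom e.injective).symm.toMonoidHom
        ⟨e (δ m * m⁻¹), ⟨_, hy, h3⟩⟩ : ↥M) = ⟨δ m * m⁻¹, hy⟩ := by
      change (M.equivMapOfInjective e.toMonoidHom e.injective).symm _ = _
      rw [MulEquiv.symm_apply_eq]
      rfl
    rw [h5] at h2
    exact h2

end congr

theorem zz_one : z * z = 1 := by
  have h1 : zC * zC = 1 := Subtype.ext Cfsg.Agent.KFacts.TwoSix.Facts.zz_sq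
  rw [← hyp.map_zz, ← map_mul, h1, map_one]

/-- the centralizer of an involution of type 2B -/
theorem twoB_z : TwoB z := by
  refine ⟨⟨(pCore 2 (centralizer ({z} : Set Cfsg.Spor.He))).map
    (centralizer ({z} : Set Cfsg.Spor.He)).subtype, ?_, ?_, ?_⟩, ?_⟩
  · exact (Lib.Cores.pCore_isPGroup 2).map _
  · rintro α hα _ ⟨q, hq, rfl⟩
    -- `α` acts on `C(z)`
    have h1 : (centralizer ({z} : Set Cfsg.Spor.He)).map α.toMonoidHom =
        centralizer ({z} : Set Cfsg.Spor.He) := by
      apply Subgroup.eq_of_le_of_card_ge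
      · rintro _ ⟨g, hg, rfl⟩
        rw [mem_centralizer_singleton_iff]
        have h2 := congrArg α (mem_centralizer_singleton_iff.mp hg)
        rw [map_mul, map_mul, hα] at h2
        exact h2
      · rw [Subgroup.card_map_of_injective α.injective]
    let e : ↥(centralizer ({z} : Set Cfsg.Spor.He)) ≃* ↥(centralizer ({z} : Set Cfsg.Spor.He)) :=
      (Subgroup.equivMapOfInjective _ α.toMonoidHom α.injective).trans (MulEquiv.subgroupCongr h1)
    have h2 : e q ∈ pCore 2 (centralizer ({z} : Set Cfsg.Spor.He)) := by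
      rw [← Lib.Cores.map_equiv_pCore e 2]
      exact ⟨q, hq, rfl⟩
    exact ⟨e q, h2, rfl⟩
  · intro g hg hgQ
    have hgC : g ∈ centralizer ({z} : Set Cfsg.Spor.He) := mem_centralizer_singleton_iff.mpr hg
    have hr : g ∈ iota.range := by rw [hyp.range]; exact hgC
    obtain ⟨u, hu⟩ := hr
    have h1 : ∀ r ∈ QQ, (u : L5) * r = r * u := by
      intro r hr
      have h2 : iota ⟨r, QQ_le_CC hr⟩ ∈ centralizer ({z} : Set Cfsg.Spor.He) := by
        rw [← hyp.range]; exact ⟨_, rfl⟩
      have h3 := hgQ (iota ⟨r, QQ_le_CC hr⟩)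
        ⟨⟨_, h2⟩, (hyp.mem_pCore_iff _).mpr ⟨⟨r, QQ_le_CC hr⟩, hr, rfl⟩, rfl⟩
      rw [← hu, ← map_mul, ← map_mul] at h3
      exact congrArg Subtype.val (hyp.inj h3)
    have h4 : (u : L5) ∈ QQ := by
      rcases Cfsg.Agent.KFacts.TwoSix.Facts.cent_QQ u.2 h1 with h2 | h2
      · rw [h2]; exact one_mem _
      · rw [h2]; exact R1_le_QQ Cfsg.Agent.KFacts.TwoSix.Facts.zz_mem_R1
    exact ⟨⟨g, hgC⟩, (hyp.mem_pCore_iff _).mpr ⟨u, h4, hu⟩, rfl⟩
  · intro α hα h
    rcases aut_cases α h with h1 | h1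
    · exact h1
    · have h2 : α ^ 2 = 1 := by
        rw [h1, ← map_pow, pow_two]
        rw [zz_one, map_one]
      have h3 : orderOf α ∣ Nat.gcd (orderOf α) 2 := Nat.dvd_gcd dvd_rfl (orderOf_dvd_of_pow_eq_one h2)
      rw [hα.coprime_two_right, Nat.dvd_one, orderOf_eq_one_iff] at h3
      exact h3

open Cfsg.Agent.KFacts.He.Lv (gn)
open Cfsg.Agent.KFacts.He.TwoACent (L)
open Cfsg.Spor.He (Gen)

/-- the centralizer of an involution of type 2A -/
theorem twoA_a : TwoA (gn .a) := by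
  obtain ⟨h1, h2, h3, h4, h5, h6⟩ := Cfsg.Agent.KFacts.He.TwoA.two_a
  refine ⟨L, h1, h2, h3, h4, h5, gn .d, h6, ?_⟩
  obtain ⟨g, hg⟩ := Cfsg.Agent.KFacts.He.Classes.z_d
  have h7 := twoB_z.map (MulAut.conj g)
  rw [MulAut.conj_apply, hg] at h7
  exact h7

theorem two_cases (t : Cfsg.Spor.He) (ht : orderOf t = 2) : TwoA t ∨ TwoB t := by
  have h1 : t * t = 1 := by rw [← pow_two, ← ht, pow_orderOf_eq_one]
  have h2 : t ≠ 1 := by rintro rfl; rw [orderOf_one] at ht; norm_num at ht
  rcases Cfsg.Agent.KFacts.He.Classes.two_classes_a h1 h2 with ⟨g, hg⟩ | ⟨g, hg⟩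
  · right
    have h7 := twoB_z.map (MulAut.conj g)
    rw [MulAut.conj_apply, hg] at h7
    exact h7
  · left
    have h7 := twoA_a.map (MulAut.conj g)
    rw [MulAut.conj_apply, show gn .a = PresentedGroup.of Gen.a from rfl, hg] at h7
    exact h7

theorem center_eq : center Cfsg.Spor.He = ⊥ := by
  rcases simpleHe.eq_bot_or_eq_top_of_normal (center Cfsg.Spor.He) inferInstance with h | h
  · exact h
  · exfalso
    have h1 : centralizer ({z} : Set Cfsg.Spor.He) = ⊤ := by
      rw [eq_top_iff]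
      intro g _
      rw [mem_centralizer_singleton_iff]
      have h2 : z ∈ center Cfsg.Spor.He := by rw [h]; exact mem_top _
      exact (mem_center_iff.mp h2 g)
    have h2 := card_cent
    rw [h1, Subgroup.card_top, card_He] at h2
    norm_num at h2

/-- **the fact about the Held group** -/
theorem hf_he : HF Cfsg.Spor.He :=
  hf_of center_eq two_cases fun τ hτ =>
    HeFour.exists_four (m := 3935925) (by decide) (by rw [card_He]; norm_num) Cfsg.Agent.Schreier.He.rel_x hτ

/-- **N1b** -/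
theorem nodeHe : NodeHe.{u} :=
  nodeHe_of fun _ _ _ h => hf_congr h.some.symm hf_he

end Cfsg.Agent.UGT.HeEnd
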