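import Mathlib.GroupTheory.GroupAction.Quotient
import Mathlib.GroupTheory.PGroup
import Mathlib.GroupTheory.Commutator.Basic
import Mathlib.GroupTheory.Abelianization.Defs
import Mathlib.Algebra.Group.Int.Units
import Mathlib.Tactic

/-!
# Parity on a `G`-set with signs

`G` finite without normal subgroup of index 2, `Ω` a transitive finite `G`-set, `ev ω` an equivariant "parity" on the
stabilizer of `ω`. For every involution `x` of `G` the number of points fixed by `x` on which `x` is odd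
is even; the same for those fixed by a 2-subgroup `T ≤ C(x)`.
-/

set_option autoImplicit false

open Subgroup MulAction

namespace Cfsg.Agent.UGT.Parity

variable {G Ω : Type*} [Group G] [MulAction G Ω]

/-- a group without homomorphisms onto `{1, -1}` -/
def NoSign (G : Type*) [Group G] : Prop := ∀ f : G →* ℤˣ, f = 1

theorem noSign_of_perfect (h : commutator G = ⊤) : NoSign G := by
  intro f
  have h1 : commutator G ≤ f.ker := by
    rw [commutator_def]
    exact Abelianization.commutator_subset_ker f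
  rw [h] at h1
  ext g
  have := h1 (mem_top g)
  rw [MonoidHom.mem_ker] at this
  rw [this]
  rfl

/-- A parity: for every point a two-valued character of its stabilizer, equivariantly. -/
structure IsParity (ev : Ω → G → Prop) : Prop where
  mul : ∀ (ω : Ω) (g h : G), g • ω = ω → h • ω = ω → (ev ω (g * h) ↔ (ev ω g ↔ ev ω h))
  conj : ∀ (ω : Ω) (g h : G), h • ω = ω → (ev (g • ω) (g * h * g⁻¹) ↔ ev ω h)

open Classical in
/-- the sign of a parity -/
noncomputable def sgn (ev : Ω → G → Prop) (ω : Ω) (g : G) : ℤˣ := if ev ω g then 1 else -1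

omit [Group G] [MulAction G Ω] in
theorem sgn_eq_one {ev : Ω → G → Prop} {ω : Ω} {g : G} : sgn ev ω g = 1 ↔ ev ω g := by
  unfold sgn
  split <;> simp_all

omit [Group G] [MulAction G Ω] in
theorem sgn_eq_neg_one {ev : Ω → G → Prop} {ω : Ω} {g : G} : sgn ev ω g = -1 ↔ ¬ ev ω g := by
  unfold sgn
  split <;> simp_all

theorem IsParity.sgn_mul {ev : Ω → G → Prop} (h : IsParity ev) {ω : Ω} {g k : G} (hg : g • ω = ω)
    (hk : k • ω = ω) : sgn ev ω (g * k) = sgn ev ω g * sgn ev ω k := by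
  have h1 := h.mul ω g k hg hk
  unfold sgn
  by_cases h2 : ev ω g <;> by_cases h3 : ev ω k <;> simp_all

theorem IsParity.sgn_conj {ev : Ω → G → Prop} (h : IsParity ev) {ω : Ω} (g : G) {k : G}
    (hk : k • ω = ω) : sgn ev (g • ω) (g * k * g⁻¹) = sgn ev ω k := by
  have h1 := h.conj ω g k hk
  unfold sgn
  by_cases h2 : ev ω k <;> simp_all

theorem IsParity.sgn_one {ev : Ω → G → Prop} (h : IsParity ev) (ω : Ω) : sgn ev ω 1 = 1 := by
  have h1 := h.sgn_mul (one_smul G ω) (one_smul G ω)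
  rw [mul_one] at h1
  exact (mul_eq_left.mp h1.symm)

theorem unit_mul_self (u : ℤˣ) : u * u = 1 := by
  rcases Int.units_eq_one_or u with h | h <;> rw [h] <;> rfl

/-- **PAR**: the sign character of `G` attached to a parity. -/
theorem exists_hom [Finite Ω] {ev : Ω → G → Prop} (h : IsParity ev) :
    ∃ f : G →* ℤˣ, ∀ x : G, x * x = 1 →
      f x = (-1) ^ (Nat.card {ω : Ω // x • ω = ω ∧ ¬ ev ω x}) := by
  classical
  cases nonempty_fintype Ω
  -- base points of the orbits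
  let base : Ω → Ω := fun ω => (Quotient.mk (orbitRel G Ω) ω).out
  have hbase : ∀ (g : G) (ω : Ω), base (g • ω) = base ω := by
    intro g ω
    have : (Quotient.mk (orbitRel G Ω) (g • ω)) = Quotient.mk (orbitRel G Ω) ω :=
      Quotient.sound ⟨g, rfl⟩
    change (Quotient.mk (orbitRel G Ω) (g • ω)).out = (Quotient.mk (orbitRel G Ω) ω).out
    rw [this]
  have hmem : ∀ ω : Ω, ∃ g : G, g • base ω = ω := by
    intro ω
    have h1 : (orbitRel G Ω).r ω (base ω) :=
      Quotient.exact (Quotient.out_eq (Quotient.mk (orbitRel G Ω) ω)).symm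
    exact h1
  choose s hs using hmem
  -- the cocycle
  let c : G → Ω → G := fun g ω => (s (g • ω))⁻¹ * g * s ω
  have hc : ∀ g ω, c g ω • base ω = base ω := by
    intro g ω
    change ((s (g • ω))⁻¹ * g * s ω) • base ω = base ω
    have h1 : s (g • ω) • base ω = g • ω := by
      have := hs (g • ω)
      rwa [hbase] at this
    rw [mul_smul, mul_smul, hs, inv_smul_eq_iff, h1]
  have hcm : ∀ (g k : G) (ω : Ω), c (g * k) ω = c g (k • ω) * c k ω := by
    intro g k ω
    change (s ((g * k) • ω))⁻¹ * (g * k) * s ω =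
      (s (g • k • ω))⁻¹ * g * s (k • ω) * ((s (k • ω))⁻¹ * k * s ω)
    rw [mul_smul]
    group
  have hc1 : ∀ ω, c 1 ω = 1 := by
    intro ω
    change (s ((1 : G) • ω))⁻¹ * 1 * s ω = 1
    rw [one_smul, mul_one, inv_mul_cancel]
  have hc' : ∀ (g k : G) (ω : Ω), c g (k • ω) • base ω = base ω := by
    intro g k ω
    have := hc g (k • ω)
    rwa [hbase] at this
  let f : G →* ℤˣ :=
    { toFun := fun g => ∏ ω : Ω, sgn ev (base ω) (c g ω)
      map_one' := by
        refine Finset.prod_eq_one fun ω _ => ?_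
        rw [hc1, h.sgn_one]
      map_mul' := by
        intro g k
        have h1 : ∀ ω : Ω, sgn ev (base ω) (c (g * k) ω) =
            sgn ev (base (k • ω)) (c g (k • ω)) * sgn ev (base ω) (c k ω) := by
          intro ω
          rw [hcm, h.sgn_mul (hc' _ _ _) (hc _ _), hbase]
        simp only [h1]
        rw [Finset.prod_mul_distrib]
        congr 1
        exact Equiv.prod_comp (MulAction.toPerm k) fun ω : Ω => sgn ev (base ω) (c g ω) }
  refine ⟨f, fun x hx => ?_⟩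
  change ∏ ω : Ω, sgn ev (base ω) (c x ω) = _
  -- split into fixed points and the others
  have hsplit := Finset.prod_filter_mul_prod_filter_not (Finset.univ : Finset Ω)
    (fun ω => x • ω = ω) (fun ω => sgn ev (base ω) (c x ω))
  have h2 : ∏ ω ∈ Finset.univ.filter (fun ω : Ω => ¬ x • ω = ω),
      sgn ev (base ω) (c x ω) = 1 := by
    refine Finset.prod_involution (fun ω _ => x • ω) ?_ ?_ ?_ ?_
    · intro ω _
      rw [mul_comm, hbase, ← h.sgn_mul (hc' _ _ _) (hc _ _), ← hcm, hx, hc1, h.sgn_one]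
    · intro ω hω _
      exact (Finset.mem_filter.mp hω).2
    · intro ω hω
      rw [Finset.mem_filter] at hω ⊢
      refine ⟨Finset.mem_univ _, fun h3 => hω.2 ?_⟩
      have := congrArg (x • ·) h3
      simp only [← mul_smul, hx, one_smul] at this
      exact this
    · intro ω _
      rw [← mul_smul, hx, one_smul]
  rw [h2, mul_one] at hsplit
  rw [← hsplit]
  have h3 : ∀ ω ∈ Finset.univ.filter (fun ω : Ω => x • ω = ω),
      sgn ev (base ω) (c x ω) = sgn ev ω x := by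
    intro ω hω
    have hfix := (Finset.mem_filter.mp hω).2
    have h4 : c x ω = (s ω)⁻¹ * x * (s ω)⁻¹⁻¹ := by
      change (s (x • ω))⁻¹ * x * s ω = _
      rw [hfix, inv_inv]
    have h5 : base ω = (s ω)⁻¹ • ω := by rw [eq_inv_smul_iff, hs]
    rw [h4]
    conv_lhs => rw [h5]
    exact h.sgn_conj (s ω)⁻¹ hfix
  rw [Finset.prod_congr rfl h3]
  -- count the signs
  have h7 : (Finset.univ.filter (fun ω : Ω => x • ω = ω ∧ ¬ ev ω x)) =
      (Finset.univ.filter (fun ω : Ω => x • ω = ω)).filter (fun ω => ¬ ev ω x) := by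
    rw [Finset.filter_filter]
  have h8 : ∏ ω ∈ Finset.univ.filter (fun ω : Ω => x • ω = ω), sgn ev ω x =
      ∏ ω ∈ Finset.univ.filter (fun ω : Ω => x • ω = ω), if ¬ ev ω x then (-1 : ℤˣ) else 1 := by
    refine Finset.prod_congr rfl fun ω _ => ?_
    unfold sgn
    by_cases h8 : ev ω x <;> simp [h8]
  rw [Nat.card_eq_fintype_card, Fintype.card_subtype, h7, ← Finset.prod_const, h8,
    ← Finset.prod_filter]

/-- **PAR**: if `G` has no subgroup of index 2, an involution is odd on an even number of its fixed points. -/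
theorem even_card [Finite Ω] (hG : NoSign G) {ev : Ω → G → Prop}
    (h : IsParity ev) {x : G} (hx : x * x = 1) :
    Even (Nat.card {ω : Ω // x • ω = ω ∧ ¬ ev ω x}) := by
  obtain ⟨f, hf⟩ := exists_hom h
  have h1 := hf x hx
  rw [hG f, MonoidHom.one_apply] at h1
  by_contra hodd
  rw [Nat.not_even_iff_odd] at hodd
  rw [hodd.neg_one_pow] at h1
  exact absurd h1 (by decide)

/-- the points fixed by a 2-subgroup `T ≤ C(x)` on which `x` is odd -/
theorem card_modEq [Finite Ω] {ev : Ω → G → Prop}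
    (h : IsParity ev) {x : G} {T : Subgroup G} (hT : IsPGroup 2 ↥T)
    (hTx : T ≤ centralizer ({x} : Set G)) :
    Nat.card {ω : Ω // x • ω = ω ∧ ¬ ev ω x} ≡
      Nat.card {ω : Ω // (x • ω = ω ∧ ¬ ev ω x) ∧ ∀ t ∈ T, t • ω = ω} [MOD 2] := by
  classical
  have hp : Fact (Nat.Prime 2) := ⟨Nat.prime_two⟩
  have hstab : ∀ (t : ↥T) (ω : Ω), (x • ω = ω ∧ ¬ ev ω x) →
      (x • (t : G) • ω = (t : G) • ω ∧ ¬ ev ((t : G) • ω) x) := by
    rintro ⟨t, ht⟩ ω ⟨h1, h2⟩
    have h3 : t * x = x * t := mem_centralizer_singleton_iff.mp (hTx ht)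
    refine ⟨?_, fun h4 => h2 ?_⟩
    · change x • t • ω = t • ω
      rw [← mul_smul, ← h3, mul_smul, h1]
    · have h5 : x = t * x * t⁻¹ := by rw [h3]; group
      have h6 : ev (t • ω) (t * x * t⁻¹) := h5 ▸ h4
      exact (h.conj ω t x h1).mp h6
  let S := {ω : Ω // x • ω = ω ∧ ¬ ev ω x}
  let _ : MulAction ↥T S :=
    { smul := fun t ω => ⟨(t : G) • ω.1, hstab t ω.1 ω.2⟩
      one_smul := fun ω => Subtype.ext (one_smul G ω.1)
      mul_smul := fun s t ω => Subtype.ext (mul_smul (s : G) (t : G) ω.1) }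
  have h1 : Nat.card S ≡ Nat.card (MulAction.fixedPoints ↥T S) [MOD 2] :=
    hT.card_modEq_card_fixedPoints S
  have e : MulAction.fixedPoints ↥T S ≃
      {ω : Ω // (x • ω = ω ∧ ¬ ev ω x) ∧ ∀ t ∈ T, t • ω = ω} :=
    { toFun := fun ω => ⟨ω.1.1, ω.1.2, fun t ht => congrArg Subtype.val (ω.2 ⟨t, ht⟩)⟩
      invFun := fun ω => ⟨⟨ω.1, ω.2.1⟩, fun t => Subtype.ext (ω.2.2 t t.2)⟩
      left_inv := fun _ => rfl
      right_inv := fun _ => rfl }
  rwa [Nat.card_congr e] at h1

/-- the sign character of a parity, computed with the points fixed by a 2-subgroup `T ≤ C(x)` -/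
theorem exists_hom_fixed [Finite Ω] {ev : Ω → G → Prop} (h : IsParity ev) :
    ∃ f : G →* ℤˣ, ∀ (x : G) (T : Subgroup G), x * x = 1 → IsPGroup 2 ↥T →
      T ≤ centralizer ({x} : Set G) →
      f x = (-1) ^ (Nat.card {ω : Ω // (x • ω = ω ∧ ¬ ev ω x) ∧ ∀ t ∈ T, t • ω = ω}) := by
  obtain ⟨f, hf⟩ := exists_hom h
  refine ⟨f, fun x T hx hT hTx => ?_⟩
  rw [hf x hx]
  have h1 := card_modEq h hT hTx
  rcases Nat.even_or_odd (Nat.card {ω : Ω // x • ω = ω ∧ ¬ ev ω x}) with h2 | h2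
  · have h3 : Even (Nat.card {ω : Ω // (x • ω = ω ∧ ¬ ev ω x) ∧ ∀ t ∈ T, t • ω = ω}) := by
      rw [Nat.even_iff] at h2 ⊢
      rw [← h2]; exact h1.symm
    rw [h2.neg_one_pow, h3.neg_one_pow]
  · have h3 : Odd (Nat.card {ω : Ω // (x • ω = ω ∧ ¬ ev ω x) ∧ ∀ t ∈ T, t • ω = ω}) := by
      rw [Nat.odd_iff] at h2 ⊢
      rw [← h2]; exact h1.symm
    rw [h2.neg_one_pow, h3.neg_one_pow]

/-- **PAR**: the points fixed by a 2-subgroup `T ≤ C(x)`. -/
theorem even_card_fixed [Finite Ω] (hG : NoSign G) {ev : Ω → G → Prop}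
    (h : IsParity ev) {x : G} (hx : x * x = 1) {T : Subgroup G} (hT : IsPGroup 2 ↥T)
    (hTx : T ≤ centralizer ({x} : Set G)) :
    Even (Nat.card {ω : Ω // (x • ω = ω ∧ ¬ ev ω x) ∧ ∀ t ∈ T, t • ω = ω}) := by
  have h2 := even_card hG h hx
  rw [Nat.even_iff] at h2 ⊢
  rw [← h2]
  exact (card_modEq h hT hTx).symm

/-- a point fixed by `T` on which `x` is odd is never alone -/
theorem exists_ne [Finite Ω] (hG : NoSign G) {ev : Ω → G → Prop}
    (h : IsParity ev) {x : G} (hx : x * x = 1) {T : Subgroup G} (hT : IsPGroup 2 ↥T)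
    (hTx : T ≤ centralizer ({x} : Set G)) {ω : Ω} (h1 : x • ω = ω) (h2 : ¬ ev ω x)
    (h3 : ∀ t ∈ T, t • ω = ω) :
    ∃ ω' : Ω, ω' ≠ ω ∧ x • ω' = ω' ∧ ¬ ev ω' x ∧ ∀ t ∈ T, t • ω' = ω' := by
  by_contra hno
  push Not at hno
  have h4 := even_card_fixed hG h hx hT hTx
  have h5 : Nat.card {ω : Ω // (x • ω = ω ∧ ¬ ev ω x) ∧ ∀ t ∈ T, t • ω = ω} = 1 := by
    rw [Nat.card_eq_one_iff_unique]
    refine ⟨⟨fun a b => Subtype.ext ?_⟩, ⟨⟨ω, ⟨h1, h2⟩, h3⟩⟩⟩
    have key : ∀ c : {ω : Ω // (x • ω = ω ∧ ¬ ev ω x) ∧ ∀ t ∈ T, t • ω = ω}, c.1 = ω := by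
      rintro ⟨c, ⟨hc1, hc2⟩, hc3⟩
      by_contra hne
      obtain ⟨t, ht, htc⟩ := hno c hne hc1 hc2
      exact htc (hc3 t ht)
    rw [key a, key b]
  rw [h5] at h4
  exact absurd h4 (by decide)

/-! ### the orbit of a point -/

/-- a parity restricted to an orbit -/
theorem IsParity.orbit {ev : Ω → G → Prop} (h : IsParity ev) (ω₀ : Ω) :
    IsParity (Ω := MulAction.orbit G ω₀) (fun ω g => ev ω.1 g) := by
  constructor
  · intro ω g k hg hk
    exact h.mul ω.1 g k (congrArg Subtype.val hg) (congrArg Subtype.val hk)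
  · intro ω g k hk
    exact h.conj ω.1 g k (congrArg Subtype.val hk)

/-- **PAR** for an orbit in an arbitrary `G`-set: a point fixed by `T` on which `x` is odd is never alone
in its orbit. -/
theorem exists_ne_orbit [Finite G] (hG : NoSign G) {ev : Ω → G → Prop}
    (h : IsParity ev) {x : G} (hx : x * x = 1) {T : Subgroup G} (hT : IsPGroup 2 ↥T)
    (hTx : T ≤ centralizer ({x} : Set G)) {ω : Ω} (h1 : x • ω = ω) (h2 : ¬ ev ω x)
    (h3 : ∀ t ∈ T, t • ω = ω) :
    ∃ g : G, g • ω ≠ ω ∧ x • g • ω = g • ω ∧ ¬ ev (g • ω) x ∧ ∀ t ∈ T, t • g • ω = g • ω := by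
  have hfin : Finite (MulAction.orbit G ω) := (Set.finite_range (fun g : G => g • ω)).to_subtype
  obtain ⟨⟨ω', g, rfl⟩, h4, h5, h6, h7⟩ := exists_ne (Ω := MulAction.orbit G ω) hG (h.orbit ω) hx hT hTx
    (ω := ⟨ω, mem_orbit_self ω⟩) (Subtype.ext h1) h2 (fun t ht => Subtype.ext (h3 t ht))
  exact ⟨g, fun h => h4 (Subtype.ext h), congrArg Subtype.val h5, h6,
    fun t ht => congrArg Subtype.val (h7 t ht)⟩

/-- **PAR** for an orbit: the number of points of the orbit fixed by `T` on which `x` is odd is even. -/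
theorem even_card_orbit [Finite G] (hG : NoSign G) {ev : Ω → G → Prop}
    (h : IsParity ev) {x : G} (hx : x * x = 1) {T : Subgroup G} (hT : IsPGroup 2 ↥T)
    (hTx : T ≤ centralizer ({x} : Set G)) (ω₀ : Ω) :
    Even (Nat.card {ω : Ω // ω ∈ MulAction.orbit G ω₀ ∧ (x • ω = ω ∧ ¬ ev ω x) ∧
      ∀ t ∈ T, t • ω = ω}) := by
  have hfin : Finite (MulAction.orbit G ω₀) := (Set.finite_range (fun g : G => g • ω₀)).to_subtype
  have h1 := even_card_fixed (Ω := MulAction.orbit G ω₀) hG (h.orbit ω₀) hx hT hTx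
  have e : {ω : MulAction.orbit G ω₀ // (x • ω = ω ∧ ¬ ev ω.1 x) ∧ ∀ t ∈ T, t • ω = ω} ≃
      {ω : Ω // ω ∈ MulAction.orbit G ω₀ ∧ (x • ω = ω ∧ ¬ ev ω x) ∧ ∀ t ∈ T, t • ω = ω} :=
    { toFun := fun ω => ⟨ω.1.1, ω.1.2, ⟨congrArg Subtype.val ω.2.1.1, ω.2.1.2⟩,
        fun t ht => congrArg Subtype.val (ω.2.2 t ht)⟩
      invFun := fun ω => ⟨⟨ω.1, ω.2.1⟩, ⟨Subtype.ext ω.2.2.1.1, ω.2.2.1.2⟩,
        fun t ht => Subtype.ext (ω.2.2.2 t ht)⟩
      left_inv := fun _ => rfl
      right_inv := fun _ => rfl }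
  rwa [Nat.card_congr e] at h1

end Cfsg.Agent.UGT.Parity
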