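import Cfsg.Agent.UGT.InUList
import Cfsg.Agent.SignalizersComponents.PConstrained
import Cfsg.Agent.S0501
import Cfsg.Agent.S0502

/-!
# Node (E): existence of a triple

`G` a minimal counterexample without triples. Then

* `balanced`: `G` is balanced (`O(C(x)) ∩ C(a)` centralizes `O₂` and the components of `C(a) / O(C(a))`);
* `oddCore_eq_bot`: `O(G) = 1`;
* a Sylow 2-subgroup has a normal elementary abelian subgroup of order 8 (S0501 and `InUList.rank`), hence is
  connected (S0502), and S1291 gives `O(C(t)) = 1` for all involutions `t`, a contradiction.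

`nodeE` takes S1291 as a hypothesis.
-/

set_option autoImplicit false

open Cfsg Subgroup
open Cfsg.Agent.SignalizersComponents Cfsg.Agent.Lib
open Cfsg.Agent.SignalizersComponents.IntrinsicBasic
open Cfsg.Agent.SignalizersComponents.PLayerAut
open Cfsg.Agent.Intrinsic.Basic
open Cfsg.Agent.FixBN.BTheorem Cfsg.Agent.FixBN.BRelative
open Cfsg.Agent.UGT.Triple Cfsg.Agent.UGT.Iface Cfsg.Agent.UGT.InUList
open scoped commutatorElement

namespace Cfsg.Agent.UGT.NodeE

universe u

local notation "Fs" => generalizedFittingSubgroup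

/-- The statement of S1291. -/
def P1291 : Prop := ∀ (G : Type u) [Group G] [Finite G], IsBalanced G → oddCore G = ⊥ →
  ¬ PRankLE 2 2 G → (IsFourConnected G ∨ ∃ S : Sylow 2 G, IsFourConnected ↥(S : Subgroup G)) →
  ∀ t : G, orderOf t = 2 → centralizerPPrimeCore 2 t = ⊥

section balanced

variable {G : Type u} [Group G] [Finite G]

/-- If `d` fixes `L` (a 2-component of `H`), its image in `H / O(H)` centralizes the image of `L`. -/
theorem mk_commute {H L : Subgroup G} (hL : IsComp H L) {d : G} (hdH : d ∈ H) (hf : Fixes d L) :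
    QuotientGroup.mk' (pPrimeCore 2 ↥H) ⟨d, hdH⟩ ∈
      centralizer (((L.subgroupOf H).map (QuotientGroup.mk' (pPrimeCore 2 ↥H)) : Subgroup _) :
        Set (↥H ⧸ pPrimeCore 2 ↥H)) := by
  rw [mem_centralizer_iff]
  rintro _ ⟨y, hy, rfl⟩
  have h1 : ⁅d, (y : G)⁆ ∈ core H := hL.core_le_core (hf.2 y hy)
  have h2 : (⁅(⟨d, hdH⟩ : ↥H), y⁆ : ↥H) ∈ pPrimeCore 2 ↥H := by
    have h3 : ((⁅(⟨d, hdH⟩ : ↥H), y⁆ : ↥H) : G) ∈ core H := h1
    exact (mem_core_iff (⁅(⟨d, hdH⟩ : ↥H), y⁆ : ↥H).2).mp h3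
  have h4 : QuotientGroup.mk' (pPrimeCore 2 ↥H) ⁅(⟨d, hdH⟩ : ↥H), y⁆ = 1 :=
    (QuotientGroup.eq_one_iff _).mpr h2
  rw [map_commutatorElement, commutatorElement_eq_one_iff_mul_comm] at h4
  exact h4.symm

/-- If no 2-component of `C(a)` is the third entry of a triple `(x, a, L)`, then
`O(C(x)) ∩ C(a) ≤ O(C(a))`. -/
theorem inf_le_of_no_triple {x a : G} (hx : orderOf x = 2) (ha : orderOf a = 2)
    (hax : a * x = x * a) (hno : ∀ L : Subgroup G, ¬ IsTriple x a L) :
    core (centralizer ({x} : Set G)) ⊓ centralizer ({a} : Set G) ≤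
      core (centralizer ({a} : Set G)) := by
  have : Fact (Nat.Prime 2) := ⟨Nat.prime_two⟩
  obtain ⟨H, hH⟩ : ∃ H : Subgroup G, H = centralizer ({a} : Set G) := ⟨_, rfl⟩
  have hxH : x ∈ H := hH ▸ mem_c hax.symm
  obtain ⟨D, hD⟩ : ∃ D, D = core (centralizer ({x} : Set G)) ⊓ centralizer ({a} : Set G) := ⟨_, rfl⟩
  have hDH : D ≤ H := by rw [hD, hH]; exact inf_le_right
  have hDc : ∀ d ∈ D, d ∈ core (H ⊓ centralizer ({x} : Set G)) := by
    intro d hd
    rw [hD] at hd
    rw [hH]
    exact inf_le_core hd.1 hd.2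
  obtain ⟨E, hE⟩ : ∃ E : Subgroup (↥H ⧸ pPrimeCore 2 ↥H),
    E = (D.subgroupOf H).map (QuotientGroup.mk' (pPrimeCore 2 ↥H)) := ⟨_, rfl⟩
  have hO := Lib.Cores.pPrimeCore_quotient_pPrimeCore (G := ↥H) 2
  have hEc : E ≤ centralizerPPrimeCore 2 (QuotientGroup.mk' (pPrimeCore 2 ↥H) ⟨x, hxH⟩) := by
    rw [hE]
    rintro _ ⟨y, hy, rfl⟩
    exact mk_mem_core hxH hx (hDc _ hy)
  have ho : orderOf (QuotientGroup.mk' (pPrimeCore 2 ↥H) ⟨x, hxH⟩) = 2 := by
    refine orderOf_eq_prime ?_ ?_
    · rw [← map_pow]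
      have : (⟨x, hxH⟩ : ↥H) ^ 2 = 1 := Subtype.ext (by
        change x ^ 2 = 1
        rw [← hx, pow_orderOf_eq_one])
      rw [this, map_one]
    · intro h
      have h3 : x ∈ core H := (mem_core_iff hxH).mpr ((QuotientGroup.eq_one_iff _).mp h)
      exact ne_one_of_order hx (eq_one_of_mem_core_sq h3 (sq_of_order hx))
  have hEodd : (Nat.card E).Coprime 2 := by
    refine Nat.Coprime.coprime_dvd_left (card_dvd_of_le hEc) ?_
    exact CoreOfCentralizer.card_centralizerPPrimeCore_coprime 2 _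
  have hEbot : E = ⊥ := by
    refine BalanceAux.eq_bot_of_le_centralizer_components 2 hO E hEodd ?_ ?_
    · exact hEc.trans (BalanceAux.core_le_centralizer_pCore 2 _ ho)
    · intro K hK
      obtain ⟨L, hL, rfl⟩ := PConstrained.exists_isPComponent_map_eq 2 hK
      have hLc : IsComp H (L.map H.subtype) := isComp_of_subtype hL
      have hsub : (L.map H.subtype).subgroupOf H = L :=
        comap_map_eq_self_of_injective H.subtype_injective L
      rw [hE]
      rintro _ ⟨y, hy, rfl⟩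
      have hyD : (y : G) ∈ D := hy
      have hf : Fixes (y : G) (L.map H.subtype) := by
        by_contra hf
        refine hno (L.map H.subtype) ⟨hx, ha, hax, hH ▸ hLc, y, ?_, ?_, hf⟩
        · rw [hD] at hyD; exact hyD.1
        · rw [← hH]; exact y.2
      have h1 := mk_commute hLc y.2 hf
      rw [hsub] at h1
      exact h1
  intro d hd
  have hdD : d ∈ D := hD ▸ hd
  have h1 : QuotientGroup.mk' (pPrimeCore 2 ↥H) ⟨d, hDH hdD⟩ ∈ E := by
    rw [hE]; exact ⟨⟨d, hDH hdD⟩, hdD, rfl⟩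
  rw [hEbot, mem_bot] at h1
  have h2 := (QuotientGroup.eq_one_iff _).mp h1
  rw [← hH]
  exact (mem_core_iff (hDH hdD)).mpr h2

/-- A finite group without triples is balanced. -/
theorem balanced (hno : ∀ (x a : G) (L : Subgroup G), ¬ IsTriple x a L) : IsBalanced G := by
  have key : ∀ x y : G, orderOf x = 2 → orderOf y = 2 → x * y = y * x →
      centralizerPPrimeCore 2 x ⊓ centralizer ({y} : Set G) ≤
        centralizerPPrimeCore 2 y ⊓ centralizer ({x} : Set G) := by
    intro x y hx hy hxy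
    refine le_inf (inf_le_of_no_triple hx hy hxy.symm fun L => hno x y L) ?_
    exact inf_le_left.trans (core_le _)
  intro x y hx hy hxy
  exact le_antisymm (key x y hx hy hxy) (key y x hy hx hxy.symm)

end balanced

variable {G : Type u} [Group G] [Finite G]

/-- `O(G) = 1` in a minimal counterexample -/
theorem oddCore_eq_bot (k4 : PK4.{u}) (hE : Excl.{u} K4End) (h : MinCex G) : oddCore G = ⊥ := by
  have hs := h.simple
  have hFn : (Fs G).Normal := Trich.normal_fs
  have hOn : (oddCore G).Normal := Lib.Cores.pPrimeCore_normal 2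
  have hn : ((oddCore G).subgroupOf (Fs G)).Normal := inferInstance
  rcases hn.eq_bot_or_eq_top with h1 | h1
  · have h2 : Disjoint (oddCore G) (Fs G) := by
      rw [subgroupOf_eq_bot] at h1
      exact h1
    have h3 : oddCore G ≤ centralizer (Fs G : Set G) := by
      intro x hx
      rw [mem_centralizer_iff]
      intro y hy
      exact (commute_of_normal_of_disjoint _ _ hOn hFn h2 x y hx hy).symm.eq
    rwa [Trich.centralizer_fs h, le_bot_iff] at h3
  · exfalso
    have h2 : Fs G ≤ oddCore G := by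
      rwa [subgroupOf_eq_top] at h1
    have h3 : ¬ 2 ∣ Nat.card ↥(Fs G) := by
      intro h4
      have h5 := h4.trans (card_dvd_of_le h2)
      have h6 : (Nat.card (oddCore G)).Coprime 2 := Lib.Cores.pPrimeCore_coprime (G := G) 2
      exact (Nat.Prime.coprime_iff_not_dvd Nat.prime_two).mp h6.symm h5
    exact rank_fs k4 hE h (GH.Rank.le_mono (by norm_num)
      (GH.Rank.zero_of_not_dvd Nat.prime_two h3) (Nat.zero_le 4))

/-- The Sylow 2-subgroups have a normal elementary abelian subgroup of order at least 8. -/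
theorem exists_normal (k4 : PK4.{u}) (hE : Excl.{u} K4End) (h : MinCex G) (S : Sylow 2 G) :
    ∃ A : Subgroup ↥(S : Subgroup G), A.Normal ∧ IsMulCommutative A ∧ (∀ a ∈ A, a ^ 2 = 1) ∧
      8 ≤ Nat.card A := by
  by_contra hno
  refine rank k4 hE h ((GH.Rank.sylow_iff S).mp (S0501.result S.isPGroup' ?_))
  intro A hA hc h2
  by_contra hlt
  refine hno ⟨A, hA, hc, h2, ?_⟩
  obtain ⟨n, hn⟩ := IsPGroup.iff_card.mp (S.isPGroup'.to_subgroup A)
  rw [hn] at hlt ⊢
  have h3 : 2 < n := by
    by_contra h4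
    exact hlt (Nat.pow_le_pow_right (by norm_num) (by omega : n ≤ 2))
  calc 8 = 2 ^ 3 := by norm_num
    _ ≤ 2 ^ n := Nat.pow_le_pow_right (by norm_num) h3

/-- **Node (E)** -/
theorem nodeE (k4 : PK4.{u}) (hE : Excl.{u} K4End) (h1291 : P1291.{u}) : NodeE.{u} := by
  intro G _ _ h
  by_contra hno
  have hbal : IsBalanced G := balanced fun x a L hT => hno ⟨x, a, L, hT⟩
  obtain ⟨S⟩ : Nonempty (Sylow 2 G) := inferInstance
  obtain ⟨A, hA, hc, h2, h8⟩ := exists_normal k4 hE h S
  have hconn : IsFourConnected ↥(S : Subgroup G) := S0502.result S.isPGroup' A hc h2 h8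
  have hrank : ¬ PRankLE 2 2 G := by
    intro hr
    have h3 := hr (A.map (S : Subgroup G).subtype) ?_ ?_
    · rw [card_map_of_injective (S : Subgroup G).subtype_injective] at h3
      omega
    · refine ⟨⟨?_⟩⟩
      rintro ⟨_, a, ha, rfl⟩ ⟨_, b, hb, rfl⟩
      have h4 := congrArg Subtype.val (hc.is_comm.comm ⟨a, ha⟩ ⟨b, hb⟩)
      exact Subtype.ext (congrArg (S : Subgroup G).subtype h4)
    · rintro _ ⟨a, ha, rfl⟩
      rw [← map_pow, h2 a ha, map_one]
  obtain ⟨t, ht, hne⟩ := h.unbal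
  exact hne (h1291 G hbal (oddCore_eq_bot k4 hE h) hrank (Or.inr ⟨S, hconn⟩) t ht)

end Cfsg.Agent.UGT.NodeE
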