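import Cfsg.Agent.UGT.Tri
import Cfsg.Agent.UGT.PumpGen

/-!
# The family of the triples with `|L / Z*(L)|` maximal

`sz L = |L / Z*(L)|`, `Z*(L) = fix L L`.

* `IsTriple.sz_le`: `sz L ≤ sz N` for a pump-up `N` of `L`; if `a` normalizes `N` and `sz N ≤ sz L` then
  `N = cen L c · O(N)`.
* `fam_top`, `fam_cx`: the triples with `sz L` maximal form a family for `Y x = ⊤`, and for `Y x = C(x)` if
  `big` holds.
-/

set_option autoImplicit false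

open Cfsg Subgroup
open Cfsg.Agent.SignalizersComponents Cfsg.Agent.Lib
open Cfsg.Agent.SignalizersComponents.IntrinsicBasic
open Cfsg.Agent.Intrinsic.Basic Cfsg.Agent.Intrinsic.Cen Cfsg.Agent.Intrinsic.Diag
open Cfsg.Agent.McLLyComp.Act
open Cfsg.Agent.UGT.Triple Cfsg.Agent.UGT.TriBase Cfsg.Agent.UGT.Tri
open scoped commutatorElement

namespace Cfsg.Agent.UGT.TriMax

variable {G : Type*} [Group G]

/-- `|L / Z*(L)|` -/
noncomputable def sz (L : Subgroup G) : ℕ := (fix L L).relIndex L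

theorem sz_def (L : Subgroup G) : sz L = (fix L L).relIndex L := rfl

theorem sz_cj (g : G) (L : Subgroup G) : sz (cj g L) = sz L := by
  rw [sz_def, sz_def, ← cj_fix, cj_def, cj_def]
  exact relIndex_map_map_of_injective _ _ (MulAut.conj g).injective

variable [Finite G]

omit [Finite G] in
theorem sz_eq_index (L : Subgroup G) :
    sz L = (center (↥L ⧸ oddCore ↥L)).index := by
  have h1 : (center (↥L ⧸ oddCore ↥L)).comap (QuotientGroup.mk' (oddCore ↥L)) =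
      (fix L L).subgroupOf L := by
    ext y
    rw [mem_comap, mem_center_iff, mem_subgroupOf, mem_fix]
    constructor
    · intro h
      refine ⟨y.2, le_normalizer y.2, fun z hz => ?_⟩
      have h2 := h (QuotientGroup.mk' _ ⟨z, hz⟩)
      have h3 : ⁅QuotientGroup.mk' (oddCore ↥L) y, QuotientGroup.mk' (oddCore ↥L) ⟨z, hz⟩⁆ = 1 :=
        commutatorElement_eq_one_iff_mul_comm.mpr h2.symm
      rw [← map_commutatorElement] at h3
      have h4 := (QuotientGroup.eq_one_iff _).mp h3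
      exact (mem_core_iff (⁅y, (⟨z, hz⟩ : ↥L)⁆ : ↥L).2).mpr h4
    · rintro ⟨-, h⟩ q
      obtain ⟨z, rfl⟩ := QuotientGroup.mk'_surjective (oddCore ↥L) q
      have h2 : ⁅y, z⁆ ∈ oddCore ↥L := (mem_core_iff (⁅y, z⁆ : ↥L).2).mp (h.2 z z.2)
      have h3 : QuotientGroup.mk' (oddCore ↥L) ⁅y, z⁆ = 1 := (QuotientGroup.eq_one_iff _).mpr h2
      rw [map_commutatorElement] at h3
      exact (commutatorElement_eq_one_iff_mul_comm.mp h3).symm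
  rw [sz_def, relIndex, ← h1, index_comap_of_surjective _ (QuotientGroup.mk'_surjective _)]

theorem sz_eq_of_sup {X J : Subgroup G} (hs : J ⊔ core X = X) : sz J = sz X := by
  rw [sz_eq_index, sz_eq_index]
  obtain ⟨e, -⟩ := exists_quotEquiv hs
  have h1 : (center (↥J ⧸ oddCore ↥J)).map e.toMonoidHom = center (↥X ⧸ oddCore ↥X) := by
    apply le_antisymm
    · rintro _ ⟨y, hy, rfl⟩
      rw [mem_center_iff]
      intro b
      obtain ⟨b, rfl⟩ := e.surjective b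
      change e b * e y = e y * e b
      rw [← map_mul, ← map_mul, mem_center_iff.mp hy b]
    · intro b hb
      obtain ⟨y, rfl⟩ := e.surjective b
      refine ⟨y, mem_center_iff.mpr fun x => e.injective ?_, rfl⟩
      rw [map_mul, map_mul]
      exact mem_center_iff.mp hb (e x)
  rw [← h1]
  have h2 := index_comap_of_surjective ((center (↥J ⧸ oddCore ↥J)).map e.toMonoidHom)
    (f := e.toMonoidHom) e.surjective
  rw [← h2, comap_map_eq_self_of_injective e.injective]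

/-- `sz M ≤ sz N` if the elements of `M` fixing `N` fix `M`; if `sz N ≤ sz M` then `N = M O(N)`. -/
theorem sz_le_of_le {H' M N : Subgroup G} (hN : IsComp H' N) (hMN : M ≤ N)
    (hf : ∀ m ∈ M, Fixes m N → Fixes m M) :
    sz M ≤ sz N ∧ (sz N ≤ sz M → M ⊔ core N = N) := by
  have hle : fix N N ⊓ M ≤ fix M M := by
    rintro m ⟨hm1, hm2⟩
    exact ⟨hm2, hf m hm2 hm1.2⟩
  have hfin : ∀ A B : Subgroup G, A.relIndex B ≠ 0 := fun A B =>
    (Nat.pos_of_dvd_of_pos (relIndex_dvd_card A B) Nat.card_pos).ne'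
  have h1 : sz M ≤ (fix N N).relIndex M := by
    rw [sz_def, ← inf_relIndex_right (fix N N) M]
    exact relIndex_le_of_le_left hle (hfin _ _)
  have h2 : (fix N N).relIndex M ≤ sz N := relIndex_le_of_le_right hMN (hfin _ _)
  refine ⟨h1.trans h2, fun h3 => ?_⟩
  have h4 : (fix N N).relIndex M = (fix N N).relIndex N := le_antisymm h2 (h3.trans h1)
  -- `N = M Z*(N)`
  have hZN : fix N N ≤ N := fix_le N N
  have hnorm : N ≤ normalizer (fix N N : Set G) := by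
    intro n hn
    rw [mem_normalizer_iff_cj, cj_fix, cj_eq_self_of_mem hn]
  have h5 : ∀ n ∈ N, ∃ m ∈ M, m⁻¹ * n ∈ fix N N := by
    -- counting cosets
    have hnN : ((fix N N).subgroupOf N).Normal := normal_subgroupOf_of_le_normalizer hnorm
    have h6 : ((fix N N).subgroupOf N).relIndex (M.subgroupOf N ⊔ (fix N N).subgroupOf N) =
        ((fix N N).subgroupOf N).index := by
      rw [relIndex_sup_right, relIndex_subgroupOf hMN, h4]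
      rfl
    have h7 : M.subgroupOf N ⊔ (fix N N).subgroupOf N = ⊤ := by
      have h8 := relIndex_mul_index (H := (fix N N).subgroupOf N)
        (K := M.subgroupOf N ⊔ (fix N N).subgroupOf N) le_sup_right
      rw [h6] at h8
      have h9 : ((fix N N).subgroupOf N).index ≠ 0 := index_ne_zero_of_finite
      have h10 : (M.subgroupOf N ⊔ (fix N N).subgroupOf N).index = 1 := by
        have : ((fix N N).subgroupOf N).index * (M.subgroupOf N ⊔ (fix N N).subgroupOf N).index =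
            ((fix N N).subgroupOf N).index * 1 := by rw [h8, mul_one]
        exact Nat.eq_of_mul_eq_mul_left (Nat.pos_of_ne_zero h9) this
      exact index_eq_one.mp h10
    intro n hn
    have h8 : (⟨n, hn⟩ : ↥N) ∈ ((M.subgroupOf N ⊔ (fix N N).subgroupOf N : Subgroup ↥N) : Set ↥N) := by
      rw [h7]; trivial
    rw [Subgroup.coe_mul_of_left_le_normalizer_right _ _
      (le_top.trans (normalizer_eq_top _).ge)] at h8
    obtain ⟨m, hm, z, hz, hmz⟩ := h8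
    refine ⟨m, hm, ?_⟩
    have h9 : (m : G) * (z : G) = n := congrArg Subtype.val hmz
    rw [← h9, inv_mul_cancel_left]
    exact hz
  -- `N = [N, N] ≤ M O(N)`
  apply le_antisymm (sup_le hMN (core_le N))
  have h6 : ⁅N, N⁆ ≤ M ⊔ core N := by
    rw [commutator_le]
    intro n₁ hn₁ n₂ hn₂
    obtain ⟨m₁, hm₁, hz₁⟩ := h5 n₁ hn₁
    obtain ⟨m₂, hm₂, hz₂⟩ := h5 n₂ hn₂
    -- work modulo `O(N)`
    have e1 : n₁ * n₂ * n₁⁻¹ * n₂⁻¹ = ⁅n₁, n₂⁆ := rfl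
    have hq : (QuotientGroup.mk' (oddCore ↥N)) ⁅(⟨n₁, hn₁⟩ : ↥N), ⟨n₂, hn₂⟩⁆ =
        (QuotientGroup.mk' (oddCore ↥N)) ⁅(⟨m₁, hMN hm₁⟩ : ↥N), ⟨m₂, hMN hm₂⟩⁆ := by
      obtain ⟨π, hπ⟩ : ∃ π, π = QuotientGroup.mk' (oddCore ↥N) := ⟨_, rfl⟩
      rw [← hπ, map_commutatorElement, map_commutatorElement]
      have hcen : ∀ z : ↥N, (z : G) ∈ fix N N → ∀ y : ↥N, π z * π y = π y * π z := by
        intro z hz y
        have h7 : ⁅z, y⁆ ∈ oddCore ↥N := (mem_core_iff (⁅z, y⁆ : ↥N).2).mp (hz.2.2 y y.2)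
        have h8 : QuotientGroup.mk' (oddCore ↥N) ⁅z, y⁆ = 1 := (QuotientGroup.eq_one_iff _).mpr h7
        rw [← hπ, map_commutatorElement] at h8
        exact commutatorElement_eq_one_iff_mul_comm.mp h8
      obtain ⟨z₁, hz₁'⟩ : ∃ z₁ : ↥N, z₁ = (⟨m₁, hMN hm₁⟩ : ↥N)⁻¹ * ⟨n₁, hn₁⟩ := ⟨_, rfl⟩
      obtain ⟨z₂, hz₂'⟩ : ∃ z₂ : ↥N, z₂ = (⟨m₂, hMN hm₂⟩ : ↥N)⁻¹ * ⟨n₂, hn₂⟩ := ⟨_, rfl⟩
      have a1 : (⟨n₁, hn₁⟩ : ↥N) = ⟨m₁, hMN hm₁⟩ * z₁ := by rw [hz₁']; group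
      have a2 : (⟨n₂, hn₂⟩ : ↥N) = ⟨m₂, hMN hm₂⟩ * z₂ := by rw [hz₂']; group
      have b1 := hcen z₁ (by rw [hz₁']; exact hz₁)
      have b2 := hcen z₂ (by rw [hz₂']; exact hz₂)
      rw [a1, a2, map_mul, map_mul]
      obtain ⟨μ₁, hμ₁⟩ : ∃ μ₁, μ₁ = π ⟨m₁, hMN hm₁⟩ := ⟨_, rfl⟩
      obtain ⟨μ₂, hμ₂⟩ : ∃ μ₂, μ₂ = π ⟨m₂, hMN hm₂⟩ := ⟨_, rfl⟩
      have c1 := b1 ⟨m₁, hMN hm₁⟩
      have c2 := b1 ⟨m₂, hMN hm₂⟩
      have c3 := b1 z₂
      have c4 := b2 ⟨m₁, hMN hm₁⟩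
      have c5 := b2 ⟨m₂, hMN hm₂⟩
      rw [← hμ₁] at c1 c4 ⊢
      rw [← hμ₂] at c2 c5 ⊢
      obtain ⟨ζ₁, hζ₁⟩ : ∃ ζ₁, ζ₁ = π z₁ := ⟨_, rfl⟩
      obtain ⟨ζ₂, hζ₂⟩ : ∃ ζ₂, ζ₂ = π z₂ := ⟨_, rfl⟩
      rw [← hζ₁] at c1 c2 c3 ⊢
      rw [← hζ₂] at c3 c4 c5 ⊢
      rw [commutatorElement_def, commutatorElement_def]
      calc μ₁ * ζ₁ * (μ₂ * ζ₂) * (μ₁ * ζ₁)⁻¹ * (μ₂ * ζ₂)⁻¹
          = μ₁ * (ζ₁ * μ₂) * ζ₂ * ζ₁⁻¹ * μ₁⁻¹ * ζ₂⁻¹ * μ₂⁻¹ := by group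
        _ = μ₁ * (μ₂ * ζ₁) * ζ₂ * ζ₁⁻¹ * μ₁⁻¹ * ζ₂⁻¹ * μ₂⁻¹ := by rw [c2]
        _ = μ₁ * μ₂ * (ζ₁ * ζ₂) * ζ₁⁻¹ * μ₁⁻¹ * ζ₂⁻¹ * μ₂⁻¹ := by group
        _ = μ₁ * μ₂ * (ζ₂ * ζ₁) * ζ₁⁻¹ * μ₁⁻¹ * ζ₂⁻¹ * μ₂⁻¹ := by rw [c3]
        _ = μ₁ * μ₂ * (ζ₂ * μ₁⁻¹) * ζ₂⁻¹ * μ₂⁻¹ := by group
        _ = μ₁ * μ₂ * (μ₁⁻¹ * ζ₂) * ζ₂⁻¹ * μ₂⁻¹ := by
            have : ζ₂ * μ₁⁻¹ = μ₁⁻¹ * ζ₂ := by
              rw [eq_inv_mul_iff_mul_eq, ← mul_assoc, ← c4, mul_inv_cancel_right]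
            rw [this]
        _ = μ₁ * μ₂ * μ₁⁻¹ * μ₂⁻¹ := by group
    have h7 := QuotientGroup.eq.mp hq.symm
    have h8 : ⁅m₁, m₂⁆⁻¹ * ⁅n₁, n₂⁆ ∈ core N := (mem_core_iff
      ((⁅(⟨m₁, hMN hm₁⟩ : ↥N), ⟨m₂, hMN hm₂⟩⁆ : ↥N)⁻¹ *
        ⁅(⟨n₁, hn₁⟩ : ↥N), ⟨n₂, hn₂⟩⁆ : ↥N).2).mpr h7
    have h9 : ⁅n₁, n₂⁆ = ⁅m₁, m₂⁆ * (⁅m₁, m₂⁆⁻¹ * ⁅n₁, n₂⁆) := by group
    rw [h9]
    refine mul_mem (mem_sup_left ?_) (mem_sup_right h8)
    rw [commutatorElement_def]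
    exact mul_mem (mul_mem (mul_mem hm₁ hm₂) (inv_mem hm₁)) (inv_mem hm₂)
  rwa [hN.perfect] at h6

/-- `sz` of the diagonal -/
theorem sz_diag_le {X K : Subgroup G} {v : G} (hK : IsComp X K) (hvX : v ∈ X) (hv : v * v = 1)
    (hne : cj v K ≠ K) : sz (diag X K v) ≤ sz K := by
  obtain ⟨h1, -, -, -, f, hf, -, -, -⟩ := exists_diag hK hvX hv hne
  rw [sz_eq_index, sz_eq_index]
  rw [← index_comap_of_surjective (center (↥(diag X K v) ⧸ oddCore ↥(diag X K v))) hf]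
  refine Nat.le_of_dvd (Nat.pos_of_ne_zero index_ne_zero_of_finite) (index_dvd_of_le ?_)
  intro y hy
  rw [mem_comap, mem_center_iff]
  intro z
  obtain ⟨z, rfl⟩ := hf z
  rw [← map_mul, ← map_mul, mem_center_iff.mp hy z]

/-- the size of a pump-up -/
theorem sz_pump {x a c : G} {L N : Subgroup G} (T : IsTriple x a L) (hc : orderOf c = 2)
    (hca : c * a = a * c) (hcL : Fixes c L) (hN : IsComp (centralizer ({c} : Set G)) N)
    (hor : (a ∈ normalizer (N : Set G) ∧ cen L c ≤ N) ∨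
      (cj a N ≠ N ∧ cen L c = diag (centralizer ({c} : Set G)) N a)) :
    sz L ≤ sz N ∧ (a ∈ normalizer (N : Set G) → sz N ≤ sz L → cen L c ⊔ core N = N) := by
  have hc2 := sq_of_order hc
  have ha2 := sq_of_order T.inva
  obtain ⟨hM, hs⟩ := isComp_cen T.comp (mem_c hca) hc2 hcL
  have hsz := sz_eq_of_sup hs
  rw [← hsz]
  rcases hor with ⟨haN, hMN⟩ | ⟨hne, hM'⟩
  · have hM2 := hM
    rw [inf_comm] at hM2
    obtain ⟨h1, h2⟩ := sz_le_of_le hN hMN (fun m hm hf => by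
      have hm' := hM.le hm
      exact PumpGen.fixes_of_pump ha2 hca hM2 hN hm'.2 hm'.1 hf (Or.inl hMN))
    exact ⟨h1, fun _ => h2⟩
  · refine ⟨?_, fun h => absurd (mem_normalizer_iff_cj.mp h) hne⟩
    rw [hM']
    exact sz_diag_le hN (mem_c hca.symm) ha2 hne

/-- triples with `sz L` maximal -/
def MaxT (x a : G) (L : Subgroup G) : Prop :=
  IsTriple x a L ∧ ∀ (x' a' : G) (L' : Subgroup G), IsTriple x' a' L' → sz L' ≤ sz L

omit [Finite G] in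
theorem MaxT.cj {x a : G} {L : Subgroup G} (h : MaxT x a L) (g : G) :
    MaxT (g * x * g⁻¹) (g * a * g⁻¹) (cj g L) :=
  ⟨h.1.cj g, fun x' a' L' h' => (h.2 x' a' L' h').trans_eq (sz_cj g L).symm⟩

theorem exists_maxT {x a : G} {L : Subgroup G} (h : IsTriple x a L) :
    ∃ x' a' L', MaxT (G := G) x' a' L' := by
  obtain ⟨⟨x', a', L'⟩, h1, h2⟩ := Set.exists_max_image
    {p : G × G × Subgroup G | IsTriple p.1 p.2.1 p.2.2} (fun p => sz p.2.2) (Set.toFinite _)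
    ⟨⟨x, a, L⟩, h⟩
  exact ⟨x', a', L', h1, fun x₁ a₁ L₁ h₁ => h2 ⟨x₁, a₁, L₁⟩ h₁⟩

/-- The maximal triples form a family. -/
theorem fam_max {Y : G → Subgroup G} (hY : ∀ g x, Y (g * x * g⁻¹) = cj g (Y x))
    (hx : ∀ (x a : G) (L : Subgroup G), MaxT x a L → x ∈ Y x)
    (ha : ∀ (x a : G) (L : Subgroup G), MaxT x a L → a ∈ Y x)
    (hbig : ∀ (x a : G) (L R D : Subgroup G), MaxT x a L → IsSyl (acting Y x a L) R → D ≤ R ⊓ L →
      (∀ d ∈ D, Fixes d L) → 2 * Nat.card ↥D < Nat.card ↥(R ⊓ L)) : Fam Y MaxT where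
  Ycj := hY
  xY := fun h => hx _ _ _ h
  aY := fun h => ha _ _ _ h
  triple := fun h => h.1
  conj := fun g h => h.cj g
  pump := by
    intro x a c L N h hc hca hcx hcL hN hor
    obtain ⟨h1, h2⟩ := sz_pump h.1 hc hca hcL hN.comp hor
    exact ⟨⟨hN, fun x' a' L' h' => (h.2 x' a' L' h').trans h1⟩, fun h3 => h2 h3 (h.2 _ _ _ hN)⟩
  big := fun h h1 h2 h3 => hbig _ _ _ _ _ h h1 h2 h3

/-- `big` holds for `Y x = ⊤`. -/
theorem big_top {x a : G} {L R D : Subgroup G} (h : IsTriple x a L)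
    (hR : IsSyl (acting (fun _ => ⊤) x a L) R) (hD : D ≤ R ⊓ L) (hf : ∀ d ∈ D, Fixes d L) :
    2 * Nat.card ↥D < Nat.card ↥(R ⊓ L) := by
  refine two_mul_card_lt h.comp (hR.inf ?_ ?_) hD hf
  · intro l hl
    exact ⟨⟨mem_top _, h.comp.le hl⟩, le_normalizer hl⟩
  · exact fun s hs => hs.2

theorem fam_top : Fam (G := G) (fun _ => ⊤) MaxT :=
  fam_max (fun g _ => by
    rw [cj_def, eq_comm, ← MonoidHom.range_eq_map, MonoidHom.range_eq_top]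
    exact (MulAut.conj g).surjective) (fun _ _ _ _ => mem_top _) (fun _ _ _ _ => mem_top _)
    (fun _ _ _ _ _ h h1 h2 h3 => big_top h.1 h1 h2 h3)

theorem fam_cx (hbig : ∀ (x a : G) (L R D : Subgroup G), MaxT x a L →
      IsSyl (acting (fun x => centralizer ({x} : Set G)) x a L) R → D ≤ R ⊓ L →
      (∀ d ∈ D, Fixes d L) → 2 * Nat.card ↥D < Nat.card ↥(R ⊓ L)) :
    Fam (G := G) (fun x => centralizer ({x} : Set G)) MaxT :=
  fam_max (fun g x => (cj_centralizer g x).symm) (fun _ _ _ _ => mem_c rfl)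
    (fun _ _ _ h => mem_c h.1.comm) hbig

end Cfsg.Agent.UGT.TriMax
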