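import Cfsg.Agent.UGT.TMCSyl
import Cfsg.Agent.McLLyComp.Defs
import Cfsg.Agent.SmallSimple.EvenOrder
import Cfsg.Agent.MinSimple.SelfCentFour
import Cfsg.Agent.S0215

/-!
# Terminal 2-components modulo cores

`MaxF 𝒯 P M0 t L`: `t` an involution, `L` a 2-component of `C(t)`, `L / O(L)` of type `𝒯`, with property
`P`, of order `M0`.
-/

set_option autoImplicit false

open Cfsg Subgroup
open Cfsg.Agent.SignalizersComponents Cfsg.Agent.Lib
open Cfsg.Agent.SignalizersComponents.IntrinsicBasic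
open Cfsg.Agent.SignalizersComponents.IntrinsicIntr
open Cfsg.Agent.SignalizersComponents.PLayerAut
open Cfsg.Agent.Intrinsic.Basic Cfsg.Agent.Intrinsic.Cen Cfsg.Agent.Intrinsic.Diag
open Cfsg.Agent.McLLyComp.Act
open Cfsg.Agent.McLLyComp.Defs (Ty)
open Cfsg.Agent.UGT.TMCBase Cfsg.Agent.UGT.TMCSyl
open scoped commutatorElement

universe u

namespace Cfsg.Agent.UGT.TMCMax

section lift

variable {G : Type*} [Group G] [Finite G]

/-- Lifting of a 2-element of `Y / O(Y)` commuting modulo `O(X)` with a 2-group `P`. -/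
theorem exists_lift_pow {X Y P : Subgroup G} (hY : IsComp X Y) (hPX : P ≤ X) (hP : IsPGroup 2 P)
    {u₀ : G} (hu : u₀ ∈ Y) {n : ℕ} (h2 : u₀ ^ 2 ^ n ∈ core X) (hc : ∀ p ∈ P, ⁅p, u₀⁆ ∈ core X) :
    ∃ w ∈ Y, w ^ 2 ^ n = 1 ∧ u₀⁻¹ * w ∈ core X ∧ ∀ p ∈ P, p * w = w * p := by
  have hp2 : Fact (Nat.Prime 2) := ⟨Nat.prime_two⟩
  have huX := hY.le hu
  have hP' : IsPGroup 2 (P.subgroupOf X) := hP.comap_of_injective _ X.subtype_injective
  have hNp' : ¬ 2 ∣ Nat.card (oddCore ↥X) := by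
    have := Cores.pPrimeCore_coprime (G := ↥X) 2
    exact (hp2.out.coprime_iff_not_dvd).mp this.symm
  obtain ⟨g, hg1, hg2⟩ := CoreOfCentralizer.exists_centralizing_of_quotient (P.subgroupOf X) hP'
    (oddCore ↥X) hNp' (QuotientGroup.mk' (oddCore ↥X) ⟨u₀, huX⟩) (by
      rintro ⟨p, hpX⟩ hp
      exact (commutator_mem_core_iff hpX huX).mp (hc p hp))
  have hg3 : u₀⁻¹ * (g : G) ∈ core X := by
    have : (QuotientGroup.mk' (oddCore ↥X)) ⟨u₀, huX⟩ = (QuotientGroup.mk' (oddCore ↥X)) ⟨g, g.2⟩ :=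
      hg2.symm
    exact mk_eq_mk_iff.mp this
  have hgg : (g : G) ^ 2 ^ n ∈ core X := by
    have h1 : (QuotientGroup.mk' (oddCore ↥X)) (g ^ 2 ^ n) = 1 := by
      rw [map_pow, hg2, ← map_pow]
      exact (mem_relCore_iff (pow_mem huX _)).mp h2
    exact (mem_relCore_iff (pow_mem g.2 _)).mpr h1
  obtain ⟨k, hk1, hk2⟩ := Cfsg.Agent.Intrinsic.Lifting.exists_two_part (odd_card_core X) hgg
  have h4 : u₀⁻¹ * (g : G) ^ k ∈ core X := by
    have : u₀⁻¹ * (g : G) ^ k = (u₀⁻¹ * g) * ((g : G)⁻¹ * (g : G) ^ k) := by group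
    rw [this]; exact mul_mem hg3 hk2
  refine ⟨(g : G) ^ k, hY.mem_of_two hu h4 hk1, hk1, h4, ?_⟩
  intro p hp
  have h5 : p * (g : G) = g * p := congrArg Subtype.val (hg1 ⟨p, hPX hp⟩ hp)
  exact (Commute.pow_right h5 k).eq

/-- Lifting of an involution of `Y / O(Y)` commuting modulo `O(X)` with a 2-group `P`. -/
theorem exists_lift {X Y P : Subgroup G} (hY : IsComp X Y) (hPX : P ≤ X) (hP : IsPGroup 2 P)
    {u₀ : G} (hu : u₀ ∈ Y) (h2 : u₀ * u₀ ∈ core X) (hc : ∀ p ∈ P, ⁅p, u₀⁆ ∈ core X) :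
    ∃ w ∈ Y, w * w = 1 ∧ u₀⁻¹ * w ∈ core X ∧ ∀ p ∈ P, p * w = w * p := by
  obtain ⟨w, h1, h3, h4, h5⟩ := exists_lift_pow hY hPX hP hu (n := 1)
    (by rw [pow_one, pow_two]; exact h2) hc
  exact ⟨w, h1, by rw [← pow_two]; simpa using h3, h4, h5⟩

end lift

variable {G : Type u} [Group G]

structure MaxF (𝒯 P : Ty.{u}) (M0 : ℕ) (t : G) (L : Subgroup G) : Prop where
  inv : orderOf t = 2
  comp : IsComp (centralizer ({t} : Set G)) L
  type : 𝒯 (↥L ⧸ oddCore ↥L)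
  prop : P (↥L ⧸ oddCore ↥L)
  card : Nat.card (↥L ⧸ oddCore ↥L) = M0

/-- hypotheses on the class `𝒯` of types: closed under isomorphisms and pump-up in `G`, orders `≤ M0` -/
structure Hyp (G : Type u) [Group G] (𝒯 P : Ty.{u}) (M0 : ℕ) : Prop where
  iso : ∀ {X Y : Type u} [Group X] [Group Y], (X ≃* Y) → 𝒯 X → 𝒯 Y
  isoP : ∀ {X Y : Type u} [Group X] [Group Y], (X ≃* Y) → P X → P Y
  pump : ∀ (t y : G) (L J : Subgroup G), orderOf t = 2 → orderOf y = 2 → y * t = t * y →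
    IsComp (centralizer ({t} : Set G)) L → 𝒯 (↥L ⧸ oddCore ↥L) → Fixes y L →
    IsComp (centralizer ({y} : Set G)) J →
    ((t ∈ normalizer (J : Set G) ∧ cen L y ≤ J) ∨
      (cj t J ≠ J ∧ cen L y = diag (centralizer ({y} : Set G)) J t)) → 𝒯 (↥J ⧸ oddCore ↥J)
  le : ∀ (t : G) (L : Subgroup G), orderOf t = 2 → IsComp (centralizer ({t} : Set G)) L →
    𝒯 (↥L ⧸ oddCore ↥L) → Nat.card (↥L ⧸ oddCore ↥L) ≤ M0

variable {𝒯 P : Ty.{u}} {M0 : ℕ}

theorem sq_of_order {x : G} (h : orderOf x = 2) : x * x = 1 := by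
  rw [← pow_two, ← h, pow_orderOf_eq_one]

theorem order_two {x : G} (h1 : x ≠ 1) (h2 : x * x = 1) : orderOf x = 2 :=
  orderOf_eq_prime (by rw [pow_two, h2]) h1

theorem ne_one_of_order {x : G} (h : orderOf x = 2) : x ≠ 1 := by
  rintro rfl
  simp at h

theorem MaxF.cj (H : Hyp G 𝒯 P M0) {t : G} {L : Subgroup G} (h : MaxF 𝒯 P M0 t L) (g : G) :
    MaxF 𝒯 P M0 (g * t * g⁻¹) (cj g L) := by
  refine ⟨?_, ?_, H.iso (cjQuot g L) h.type, H.isoP (cjQuot g L) h.prop, ?_⟩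
  · have e : orderOf (MulAut.conj g t) = orderOf t := orderOf_injective (MulAut.conj g).toMonoidHom
      (MulAut.conj g).injective t
    rw [← h.inv, ← e]; rfl
  · rw [← cj_centralizer]
    exact h.comp.cj g
  · rw [← h.card]
    exact (Nat.card_congr (cjQuot g L).toEquiv).symm

variable [Finite G]

/-- the bad case gives an isomorphism `J / O(J) → diag / O(diag)` -/
theorem inj_of_card {X J : Subgroup G} {t : G} (hJ : IsComp X J) (htX : t ∈ X) (htt : t * t = 1)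
    (hne : IntrinsicBasic.cj t J ≠ J) (hcard : Nat.card (↥J ⧸ oddCore ↥J) ≤
      Nat.card (↥(diag X J t) ⧸ oddCore ↥(diag X J t))) :
    Nonempty ((↥J ⧸ oddCore ↥J) ≃* (↥(diag X J t) ⧸ oddCore ↥(diag X J t))) ∧
      ∀ k ∈ J, k * (t * k * t⁻¹) ∈ core X → k ∈ core J := by
  obtain ⟨-, -, -, -, f, hf1, -, -, hf4⟩ := exists_diag hJ htX htt hne
  have hbij : Function.Bijective f :=
    (Nat.bijective_iff_surjective_and_card f).mpr ⟨hf1, le_antisymm hcard
      (Nat.card_le_card_of_surjective f hf1)⟩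
  refine ⟨⟨MulEquiv.ofBijective f hbij⟩, fun k hk hkk => ?_⟩
  have h1 := (hf4 ⟨k, hk⟩).mpr hkk
  rw [map_eq_one_iff f hbij.1] at h1
  exact (mem_core_iff hk).mpr ((QuotientGroup.eq_one_iff _).mp h1)

/-- a covering map argument: `Z ≤ J`, `|J / O(J)| ≤ |Z / O(Z)|` -/
theorem sup_of_card {Z J : Subgroup G} (hZJ : Z ≤ J)
    (hcard : Nat.card (↥J ⧸ oddCore ↥J) ≤ Nat.card (↥Z ⧸ oddCore ↥Z)) : Z ⊔ core J = J := by
  obtain ⟨f, hf⟩ : ∃ f : ↥Z →* (↥J ⧸ oddCore ↥J), ∀ (z : G) (hz : z ∈ Z),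
      f ⟨z, hz⟩ = QuotientGroup.mk ⟨z, hZJ hz⟩ :=
    ⟨(QuotientGroup.mk' (oddCore ↥J)).comp (inclusion hZJ), fun z hz => rfl⟩
  have hker : f.ker ≤ oddCore ↥Z := by
    have h1 : (f.ker.map Z.subtype) ≤ core Z := by
      refine le_core (map_subtype_le _) ?_ ?_
      · have h2 : f.ker.Normal := inferInstance
        intro z hz
        rw [mem_normalizer_iff_cj]
        have key : ∀ z ∈ Z, IntrinsicBasic.cj z (f.ker.map Z.subtype) ≤ f.ker.map Z.subtype := by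
          rintro z hz x hx
          rw [mem_cj] at hx
          obtain ⟨y, hy, hyx⟩ := hx
          refine ⟨⟨z, hz⟩ * y * ⟨z, hz⟩⁻¹, h2.conj_mem y hy _, ?_⟩
          change z * (y : G) * z⁻¹ = x
          have : (y : G) = z⁻¹ * x * z := hyx
          rw [this]; group
        apply le_antisymm (key z hz)
        have h3 := cj_mono (g := z) (key z⁻¹ (Z.inv_mem hz))
        rwa [cj_cj_inv] at h3
      · have h3 : f.ker.map Z.subtype ≤ core J := by
          rintro _ ⟨y, hy, rfl⟩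
          have h4 : f y = 1 := hy
          have h5 : (QuotientGroup.mk ⟨(y : G), hZJ y.2⟩ : ↥J ⧸ oddCore ↥J) = 1 := by
            rw [← hf]; exact h4
          exact (mem_core_iff (hZJ y.2)).mpr ((QuotientGroup.eq_one_iff _).mp h5)
        exact Odd.of_dvd_nat (odd_card_core J) (card_dvd_of_le h3)
    intro y hy
    exact (mem_core_iff y.2).mp (h1 ⟨y, hy, rfl⟩)
  have hrange : f.range = ⊤ := by
    apply Subgroup.eq_top_of_card_eq
    apply le_antisymm (Subgroup.card_le_card_group _)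
    refine hcard.trans ?_
    rw [Nat.card_congr (QuotientGroup.quotientKerEquivRange f).toEquiv.symm]
    have h1 := Subgroup.card_mul_index f.ker
    have h2 := Subgroup.card_mul_index (oddCore ↥Z)
    have h3 : Nat.card f.ker ≤ Nat.card (oddCore ↥Z) := Nat.le_of_dvd Nat.card_pos (card_dvd_of_le hker)
    have h4 : (oddCore ↥Z).index ≤ f.ker.index := Subgroup.index_antitone hker
    exact h4
  refine sup_of_exists hZJ fun x hx => ?_
  have h1 : (QuotientGroup.mk ⟨x, hx⟩ : ↥J ⧸ oddCore ↥J) ∈ f.range := by rw [hrange]; trivial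
  obtain ⟨⟨z, hz⟩, hzx⟩ := h1
  rw [hf] at hzx
  refine ⟨z, hz, ?_⟩
  exact (mk_eq_iff (hZJ hz) hx).mp hzx

/-- the 2-components of type `𝒯` with property `P` and maximal order form a family -/
theorem fam (H : Hyp G 𝒯 P M0) : Fam (⊤ : Subgroup G) (MaxF 𝒯 P M0) where
  mem _ := trivial
  sq h := sq_of_order h.inv
  comp h := h.comp
  conj h g _ := h.cj H g
  pump := by
    intro t L hL y _ hyy hy1 hyt hf
    have hy := order_two hy1 hyy
    have htt := sq_of_order hL.inv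
    obtain ⟨hc, hs⟩ := isComp_cen hL.comp (mem_c hyt) hyy hf
    have hc' : IsComp (centralizer ({y} : Set G) ⊓ centralizer ({t} : Set G)) (cen L y) := by
      rw [inf_comm]; exact hc
    have htC : t ∈ centralizer ({y} : Set G) := mem_c hyt.symm
    obtain ⟨J, hJ, -, hcase⟩ := McLLyComp.PumpT.exists_pump htC htt hc'
    obtain ⟨e, -⟩ := exists_quotEquiv hs
    have hZcard : Nat.card (↥(cen L y) ⧸ oddCore ↥(cen L y)) = M0 := by
      rw [← hL.card]; exact Nat.card_congr e.toEquiv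
    have hJT := H.pump t y L J hL.inv hy hyt hL.comp hL.type hf hJ hcase
    have hJM := H.le y J hy hJ hJT
    rcases hcase with ⟨-, hle⟩ | ⟨hne, heq⟩
    · left
      have h1 := sup_of_card hle (hZcard ▸ hJM)
      obtain ⟨e', -⟩ := exists_quotEquiv h1
      refine ⟨J, ⟨hy, hJ, hJT, H.isoP (e.symm.trans e') hL.prop, ?_⟩, h1⟩
      rw [← hZcard]; exact (Nat.card_congr e'.toEquiv).symm
    · right
      obtain ⟨⟨e'⟩, -⟩ := inj_of_card hJ htC htt hne (by rw [← heq, hZcard]; exact hJM)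
      have hcard : Nat.card (↥J ⧸ oddCore ↥J) = M0 := by
        rw [← hZcard, heq]; exact Nat.card_congr e'.toEquiv
      have hPJ : P (↥J ⧸ oddCore ↥J) := by
        have h2 : P (↥(cen L y) ⧸ oddCore ↥(cen L y)) := H.isoP e.symm hL.prop
        rw [heq] at h2
        exact H.isoP e'.symm h2
      have hfam : MaxF 𝒯 P M0 y J := ⟨hy, hJ, hJT, hPJ, hcard⟩
      refine ⟨J, hfam, ?_, hne, heq⟩
      have h3 := hfam.cj H t
      rwa [conj_of_comm hyt.symm] at h3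

/-- `{g ∈ C(t) : g fixes L}` -/
def FX (t : G) (L : Subgroup G) : Subgroup G where
  carrier := {g | g * t = t * g ∧ Fixes g L}
  one_mem' := ⟨by rw [one_mul, mul_one], fixes_one L⟩
  mul_mem' := by
    rintro x y ⟨hx, hx'⟩ ⟨hy, hy'⟩
    refine ⟨?_, fixes_mul hx' hy'⟩
    rw [mul_assoc, hy, ← mul_assoc, hx, mul_assoc]
  inv_mem' := by
    rintro x ⟨hx, hx'⟩
    refine ⟨?_, fixes_inv hx'⟩
    calc x⁻¹ * t = x⁻¹ * (t * x) * x⁻¹ := by group
      _ = x⁻¹ * (x * t) * x⁻¹ := by rw [hx]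
      _ = t * x⁻¹ := by group

omit [Finite G] in
theorem mem_FX {t : G} {L : Subgroup G} {g : G} : g ∈ FX t L ↔ g * t = t * g ∧ Fixes g L := Iff.rfl

omit [Finite G] in
theorem self_mem_FX {t : G} {L : Subgroup G} (h : MaxF 𝒯 P M0 t L) :
    t ∈ FX t L := by
  refine ⟨rfl, ?_⟩
  have h1 : ∀ y ∈ L, t * y = y * t := fun y hy => (comm_c (h.comp.le hy)).symm
  refine ⟨mem_normalizer_iff_cj.mpr (cj_of_comm h.comp.le), fun y hy => ?_⟩
  rw [commutatorElement_eq_one_iff_mul_comm.mpr (h1 y hy)]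
  exact one_mem _

/-- a maximal choice -/
theorem exists_max (hne : ∃ (t : G) (L : Subgroup G), MaxF 𝒯 P M0 t L) :
    ∃ (t : G) (L : Subgroup G), MaxF 𝒯 P M0 t L ∧ ∀ (t' : G) (L' : Subgroup G), MaxF 𝒯 P M0 t' L' → el (FX t' L') ≤ el (FX t L) ∧
      (el (FX t' L') = el (FX t L) → tp (FX t' L') ≤ tp (FX t L)) := by
  obtain ⟨t₀, L₀, h₀⟩ := hne
  obtain ⟨⟨t, L⟩, hmem, hmax⟩ := Set.Finite.exists_maximalFor
    (fun p : G × Subgroup G => el (FX p.1 p.2) * (Nat.card G + 1) + tp (FX p.1 p.2))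
    {p : G × Subgroup G | MaxF 𝒯 P M0 p.1 p.2} (Set.toFinite _) ⟨(t₀, L₀), h₀⟩
  refine ⟨t, L, hmem, fun t' L' h' => ?_⟩
  have h1 : el (FX t' L') * (Nat.card G + 1) + tp (FX t' L') ≤
      el (FX t L) * (Nat.card G + 1) + tp (FX t L) := by
    rcases le_total (el (FX t' L') * (Nat.card G + 1) + tp (FX t' L'))
      (el (FX t L) * (Nat.card G + 1) + tp (FX t L)) with h | h
    · exact h
    · exact hmax (j := (t', L')) h' h
  have h2 : tp (FX t L) ≤ Nat.card G := tp_le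
  constructor
  · by_contra hlt
    push Not at hlt
    have h3 : (el (FX t L) + 1) * (Nat.card G + 1) ≤ el (FX t' L') * (Nat.card G + 1) :=
      Nat.mul_le_mul_right _ hlt
    have h4 : (el (FX t L) + 1) * (Nat.card G + 1) = el (FX t L) * (Nat.card G + 1) +
      (Nat.card G + 1) := by ring
    omega
  · intro heq
    rw [heq] at h1
    omega

end Cfsg.Agent.UGT.TMCMax
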