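import Cfsg.Agent.UGT.RedR

/-!
# Reduction R, alternating types, part 2: parity

* `sign_three`: `σ = σ⁻¹` with three fixed points in `S` has sign `(-1) ^ ((|S| - 3) / 2)`.
* `isInner_of_three_mod_four`: a triple of type `Aₙ`, `n ≡ 3 mod 4`, is inner.
* `exists_inner_sub_two`: a triple of type `Aₙ`, `n ≡ 1 mod 4`, `n ≥ 9`, gives an inner triple of type `Aₙ₋₂`.
* `nodeRed_alt`: the alternating half of `Iface.NodeRed`.
-/

set_option autoImplicit false

open Cfsg Subgroup Equiv Equiv.Perm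
open Cfsg.Agent.SignalizersComponents Cfsg.Agent.Lib
open Cfsg.Agent.SignalizersComponents.IntrinsicBasic
open Cfsg.Agent.SignalizersComponents.IntrinsicIntr
open Cfsg.Agent.SignalizersComponents.PLayerAut
open Cfsg.Agent.Intrinsic.Basic Cfsg.Agent.Intrinsic.Cen Cfsg.Agent.Intrinsic.Diag
open Cfsg.Agent.McLLyComp.Act
open Cfsg.Agent.UGT.Triple Cfsg.Agent.UGT.LemG Cfsg.Agent.UGT.PumpGen
open Cfsg.Agent.UAlt Cfsg.Agent.UGT.Iface
open Cfsg.Agent.UGT.RedAlt Cfsg.Agent.UGT.NoWing Cfsg.Agent.UGT.RedR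
open scoped commutatorElement

namespace Cfsg.Agent.UGT.RedRB

variable {α : Type*} [Fintype α] [DecidableEq α]

theorem sign_three {S : Finset α} {σ : Perm α} (hσS : σ ∈ sym S) (hσσ : σ * σ = 1)
    (h3 : (fixIn S σ).card = 3) : Perm.sign σ = (-1) ^ ((S.card - 3) / 2) ∧ Odd S.card := by
  have h1 := Equiv.Perm.sign_of_pow_two_eq_one (σ := σ) (by rw [pow_two, hσσ])
  have h2 : σ.support.card = S.card - 3 := by
    have h4 : σ.support = S \ fixIn S σ := by
      ext i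
      rw [Perm.mem_support, Finset.mem_sdiff, mem_fixIn]
      constructor
      · intro h
        refine ⟨?_, fun h' => h h'.2⟩
        by_contra hi
        exact h (hσS i hi)
      · rintro ⟨h, h'⟩ h''
        exact h' ⟨h, h''⟩
    rw [h4, Finset.card_sdiff_of_subset (fixIn_subset S σ), h3]
  have h5 : Fintype.card α - Fintype.card (Function.fixedPoints σ) = S.card - 3 := by
    rw [Perm.card_fixedPoints, Perm.sum_cycleType, h2]
    have h6 : S.card ≤ Fintype.card α := Finset.card_le_univ S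
    omega
  rw [h5] at h1
  refine ⟨h1, ?_⟩
  have h6 : 2 ∣ σ.support.card := by
    have := Equiv.Perm.two_dvd_card_support (σ := σ) (by rw [pow_two, hσσ])
    exact this
  have h7 : 3 ≤ S.card := h3 ▸ Finset.card_le_card (fixIn_subset S σ)
  rw [h2] at h6
  obtain ⟨k, hk⟩ := h6
  exact ⟨k + 1, by omega⟩

/-- the part `σ t`, `t` a transposition of `σ` -/
theorem exists_rho_big {S : Finset α} {σ : Perm α} (hσS : σ ∈ sym S) (hσσ : σ * σ = 1)
    (h3 : (fixIn S σ).card = 3) (h8 : 8 ≤ S.card) (hodd : Perm.sign σ = -1) :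
    ∃ ρ ∈ alt S, (∀ i, ρ i = i ∨ ρ i = σ i) ∧ ρ * ρ = 1 ∧ σ * ρ = ρ * σ ∧ ρ ≠ 1 ∧ ρ ≠ σ ∧
      (fixIn S (σ * ρ)).card = S.card - 2 := by
  have hσ' : ∀ j, σ (σ j) = j := fun j => by
    have := congrArg (fun f : Perm α => f j) hσσ
    simpa using this
  obtain ⟨i, hiS, hiF⟩ := Finset.exists_mem_notMem_of_card_lt_card
    (show (fixIn S σ).card < S.card by omega)
  have hi : σ i ≠ i := fun h => hiF (mem_fixIn.mpr ⟨hiS, h⟩)
  obtain ⟨m, hmS, hmF⟩ := Finset.exists_mem_notMem_of_card_lt_card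
    (show (insert i (insert (σ i) (fixIn S σ))).card < S.card by
      have h1 := Finset.card_insert_le i (insert (σ i) (fixIn S σ))
      have h2 := Finset.card_insert_le (σ i) (fixIn S σ)
      omega)
  simp only [Finset.mem_insert, not_or] at hmF
  obtain ⟨hmi, hmσi, hmF⟩ := hmF
  have hm : σ m ≠ m := fun h => hmF (mem_fixIn.mpr ⟨hmS, h⟩)
  have hσiS : σ i ∈ S := mem_of_mem_sym hσS hiS
  have hσi : σ⁻¹ = σ := inv_eq_of_mul_eq_one_left hσσ
  have hcomm : σ * swap i (σ i) = swap i (σ i) * σ := by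
    have h1 : σ * swap i (σ i) * σ⁻¹ = swap i (σ i) := by
      rw [← Equiv.swap_apply_apply, hσ']
      exact swap_comm _ _
    calc σ * swap i (σ i) = σ * swap i (σ i) * σ⁻¹ * σ := by group
      _ = swap i (σ i) * σ := by rw [h1]
  obtain ⟨ρ, hρ⟩ : ∃ ρ, ρ = σ * swap i (σ i) := ⟨_, rfl⟩
  have ρi : ρ i = i := by
    rw [hρ, Perm.mul_apply, swap_apply_left, hσ']
  have ρσi : ρ (σ i) = σ i := by
    rw [hρ, Perm.mul_apply, swap_apply_right]
  have ρo : ∀ j, j ≠ i → j ≠ σ i → ρ j = σ j := by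
    intro j h1 h2
    rw [hρ, Perm.mul_apply, swap_apply_of_ne_of_ne h1 h2]
  have hσρ : σ * ρ = swap i (σ i) := by rw [hρ, ← mul_assoc, hσσ, one_mul]
  refine ⟨ρ, ⟨?_, ?_⟩, ?_, ?_, ?_, ?_, ?_, ?_⟩
  · rw [hρ]
    refine Perm.mem_alternatingGroup.mpr ?_
    rw [Perm.sign_mul, Perm.sign_swap (Ne.symm hi), hodd]
    decide
  · intro j hj
    rw [ρo j ?_ ?_]
    · exact hσS j hj
    · rintro rfl; exact hj hiS
    · rintro rfl; exact hj hσiS
  · intro j
    by_cases h1 : j = i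
    · left; rw [h1, ρi]
    by_cases h2 : j = σ i
    · left; rw [h2, ρσi]
    · right; exact ρo j h1 h2
  · rw [hρ]
    calc σ * swap i (σ i) * (σ * swap i (σ i)) = σ * (swap i (σ i) * σ) * swap i (σ i) := by group
      _ = σ * (σ * swap i (σ i)) * swap i (σ i) := by rw [hcomm]
      _ = (σ * σ) * (swap i (σ i) * swap i (σ i)) := by group
      _ = 1 := by rw [hσσ, swap_mul_self, one_mul]
  · rw [hσρ, hρ, mul_assoc, ← hcomm, ← mul_assoc, hσσ, one_mul]
  · intro h
    have h1 := ρo m hmi hmσi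
    rw [h, Perm.one_apply] at h1
    exact hm h1.symm
  · intro h
    rw [h] at ρi
    exact hi ρi
  · have heq : fixIn S (σ * ρ) = S \ {i, σ i} := by
      ext j
      rw [hσρ, mem_fixIn, Finset.mem_sdiff, Finset.mem_insert, Finset.mem_singleton, not_or]
      constructor
      · rintro ⟨h1, h2⟩
        refine ⟨h1, ?_, ?_⟩
        · rintro rfl
          rw [swap_apply_left] at h2
          exact hi h2
        · rintro rfl
          rw [swap_apply_right] at h2
          exact hi h2.symm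
      · rintro ⟨h1, h2, h4⟩
        exact ⟨h1, swap_apply_of_ne_of_ne h2 h4⟩
    have hsub : ({i, σ i} : Finset α) ⊆ S := by
      intro j hj
      simp only [Finset.mem_insert, Finset.mem_singleton] at hj
      rcases hj with rfl | rfl
      · exact hiS
      · exact hσiS
    rw [heq, Finset.card_sdiff_of_subset hsub, Finset.card_pair (Ne.symm hi)]

variable {G : Type*} [Group G] [Finite G] {x a : G} {L : Subgroup G} {S : Finset α}

theorem exists_part_big (T : IsTriple x a L) (Mo : Mod L S) (h8 : 8 ≤ S.card)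
    (hodd : Perm.sign (Mo.φ x) = -1) :
    ∃ r c d, Part x a Mo r c d ∧ (fixIn S (Mo.φ c)).card = S.card - 2 := by
  have hxL := T.x_mem
  have hx2 := sq_of_order T.invx
  obtain ⟨ρ, h1, h2, h3, h4, h5, h6, h7⟩ := exists_rho_big (Mo.mem_sym x hxL) (Mo.sq hxL hx2)
    (three_fix T Mo).1 h8 hodd
  obtain ⟨r, c, d, P, hr⟩ := exists_part T Mo h1 h2 h3 h4 h5 h6
  refine ⟨r, c, d, P, ?_⟩
  rw [P.ceq, Mo.mul _ _ hxL (le_normalizer P.rL), hr]
  exact h7

theorem exists_mod {n : ℕ} (h7 : 7 ≤ n) (h : IsAlt n (Bar L)) :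
    Nonempty (Mod L (Finset.univ : Finset (Fin n))) := by
  obtain ⟨e0⟩ := h
  exact Mod.nonempty_of_equiv (by rw [Finset.card_univ, Fintype.card_fin]; exact h7) (Ω := Fin n)
    (by rw [Finset.card_univ]) e0

/-- the degree of a triple of alternating type is odd -/
theorem odd_of_isAlt (T : IsTriple x a L) {n : ℕ} (h7 : 7 ≤ n) (h : IsAlt n (Bar L)) : Odd n := by
  obtain ⟨Mo⟩ := exists_mod h7 h
  have h1 := (sign_three (Mo.mem_sym x T.x_mem) (Mo.sq T.x_mem (sq_of_order T.invx)) (three_fix T Mo).1).2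
  rwa [Finset.card_univ, Fintype.card_fin] at h1

/-- a triple of type `Aₙ`, `n ≡ 3 mod 4`, is inner -/
theorem isInner_of_three_mod_four (T : IsTriple x a L) {n : ℕ} (h7 : 7 ≤ n) (h4 : n % 4 = 3)
    (h : IsAlt n (Bar L)) : IsInner x L := by
  obtain ⟨Mo⟩ := exists_mod h7 h
  have h1 := (sign_three (Mo.mem_sym x T.x_mem) (Mo.sq T.x_mem (sq_of_order T.invx)) (three_fix T Mo).1).1
  rw [Finset.card_univ, Fintype.card_fin] at h1
  refine isInner_of_mod Mo T.x_mem ⟨Perm.mem_alternatingGroup.mpr ?_, Mo.mem_sym x T.x_mem⟩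
  rw [h1]
  have h2 : Even ((n - 3) / 2) := by
    rw [Nat.even_iff]; omega
  exact h2.neg_one_pow

/-- a triple of type `Aₙ`, `n ≡ 1 mod 4`, gives an inner triple of type `Aₙ₋₂` -/
theorem exists_inner_sub_two (T : IsTriple x a L) {n : ℕ} (h9 : 9 ≤ n) (h4 : n % 4 = 1)
    (h : IsAlt n (Bar L)) (hOK : ∀ (c : G) (N : Subgroup G), IsTriple x c N → OKType (Bar N))
    (hHe : ∀ (c : G) (N : Subgroup G), IsTriple x c N → Spor.IsoHe (Bar N) → ¬ IsInner x N) :
    ∃ (c : G) (N : Subgroup G), IsTriple x c N ∧ IsInner x N ∧ IsAlt (n - 2) (Bar N) := by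
  obtain ⟨Mo⟩ := exists_mod (by omega) h
  have h1 := (sign_three (Mo.mem_sym x T.x_mem) (Mo.sq T.x_mem (sq_of_order T.invx)) (three_fix T Mo).1).1
  rw [Finset.card_univ, Fintype.card_fin] at h1
  have h2 : Odd ((n - 3) / 2) := by
    rw [Nat.odd_iff]; omega
  rw [h2.neg_one_pow] at h1
  obtain ⟨r, c, d, P, hc⟩ := exists_part_big T Mo
    (by rw [Finset.card_univ, Fintype.card_fin]; omega) h1
  rw [Finset.card_univ, Fintype.card_fin] at hc
  obtain ⟨N, TN, hin, hA⟩ := exists_inner_of_part T P (by omega) (hOK c) (hHe c)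
  exact ⟨c, N, TN, hin, hc ▸ hA⟩

/-- the alternating half of `Iface.NodeRed` -/
theorem nodeRed_alt (hOK : ∀ (c : G) (N : Subgroup G), IsTriple x c N → OKType (Bar N))
    (hHe : ∀ (c : G) (N : Subgroup G), IsTriple x c N → Spor.IsoHe (Bar N) → ¬ IsInner x N)
    (T : IsTriple x a L) (h : IsAltOdd (Bar L)) :
    ∃ (c : G) (K : Subgroup G) (m : ℕ), IsTriple x c K ∧ m % 4 = 3 ∧ 7 ≤ m ∧ IsAlt m (Bar K) ∧
      IsInner x K := by
  obtain ⟨n, hn, h7, hA⟩ := h
  have h2 : n % 2 = 1 := Nat.odd_iff.mp hn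
  by_cases h4 : n % 4 = 3
  · exact ⟨a, L, n, T, h4, h7, hA, isInner_of_three_mod_four T h7 h4 hA⟩
  · obtain ⟨c, N, TN, hin, hA'⟩ := exists_inner_seven T (by omega) hA hOK hHe
    exact ⟨c, N, 7, TN, rfl, le_refl 7, hA', hin⟩

end Cfsg.Agent.UGT.RedRB
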