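import Cfsg.Agent.UGT.InnB
import Cfsg.Agent.UGT.RedR
import Cfsg.Agent.UGT.Nodes
import Cfsg.Agent.SignalizersComponents.IntrinsicLift
import Cfsg.Agent.S0249

/-!
# N1b: no triple of type `He`, from a fact about `He`

`HF K`: if `τ` is an involutory automorphism of `K` and `1 ≠ D ≤ C(τ)` a group of automorphisms of odd order
normalized by `C_K(τ)`, there are an involution `t ∈ C_K(τ)` and a component `M` of `C_K(t)` containing `t` which is
moved by an element of `D` fixing `t`.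

`nodeHe_of`: `HF` for `He` implies `NodeHe`.
-/

set_option autoImplicit false

open Cfsg Subgroup
open Cfsg.Agent.SignalizersComponents Cfsg.Agent.Lib
open Cfsg.Agent.SignalizersComponents.IntrinsicBasic
open Cfsg.Agent.SignalizersComponents.IntrinsicIntr
open Cfsg.Agent.SignalizersComponents.PLayerAut
open Cfsg.Agent.Intrinsic.Basic Cfsg.Agent.Intrinsic.Cen Cfsg.Agent.Intrinsic.Diag
open Cfsg.Agent.McLLyComp.Act
open Cfsg.Agent.UGT.Triple Cfsg.Agent.UGT.Iface Cfsg.Agent.UGT.InnB Cfsg.Agent.UGT.Nodes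
open scoped commutatorElement

namespace Cfsg.Agent.UGT.NodeHeG

universe u

/-- the fact on `K = He` -/
def HF (K : Type*) [Group K] : Prop :=
  ∀ τ : MulAut K, τ * τ = 1 → τ ≠ 1 → ∀ D : Subgroup (MulAut K), Odd (Nat.card D) → D ≠ ⊥ →
    (∀ δ ∈ D, δ * τ = τ * δ) →
    (∀ k : K, τ k = k → ∀ δ ∈ D, MulAut.conj k * δ * (MulAut.conj k)⁻¹ ∈ D) →
    ∃ (t : K) (M : Subgroup K), t * t = 1 ∧ t ≠ 1 ∧ τ t = t ∧ M ≤ centralizer ({t} : Set K) ∧
      IsComponent (M.subgroupOf (centralizer ({t} : Set K))) ∧ t ∈ M ∧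
      ∃ δ ∈ D, δ t = t ∧ ∃ m ∈ M, δ m * m⁻¹ ∉ core M

variable {G : Type*} [Group G] [Finite G]

/-- lift of an involution of `L / O(L)` centralized by the involution `x` -/
theorem exists_inv {L : Subgroup G} {x : G} (hx : x ∈ normalizer (L : Set G)) (hx2 : x * x = 1)
    {t : Bar L} (htt : t * t = 1) (hτ : act L ⟨x, hx⟩ t = t) :
    ∃ (y : G) (hy : y ∈ L), y * y = 1 ∧ x * y = y * x ∧ QuotientGroup.mk ⟨y, hy⟩ = t := by
  obtain ⟨⟨n0, hn0⟩, rfl⟩ := QuotientGroup.mk_surjective t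
  rw [act_mk hx hn0] at hτ
  have h1 := (mk_eq_iff hn0 (Cfsg.Agent.McLLyComp.Act.conj_mem hx hn0)).mp hτ.symm
  obtain ⟨o, ho, hxo⟩ := Intrinsic.Lifting.exists_commute (n := 1) (odd_card_core L)
    (by rw [pow_one, pow_two, hx2]) (normalizer_le_normalizer_core L hx) h1
  have hoL := core_le L ho
  have hnL : n0 * o ∈ L := mul_mem hn0 hoL
  have hmk : (QuotientGroup.mk (⟨n0, hn0⟩ : ↥L) : Bar L) = QuotientGroup.mk ⟨n0 * o, hnL⟩ := by
    rw [mk_eq_iff hn0 hnL]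
    convert ho using 1
    group
  rw [hmk] at htt ⊢
  obtain ⟨n, hn⟩ : ∃ n, n = n0 * o := ⟨_, rfl⟩
  have hnL' : n ∈ L := hn ▸ hnL
  have hsq : n ^ 2 ^ 1 ∈ core L := by
    rw [pow_one, pow_two, hn]
    exact (mk_eq_one_iff (mul_mem hnL hnL)).mp htt
  obtain ⟨k, hk1, hk2⟩ := Intrinsic.Lifting.exists_two_part (odd_card_core L) hsq
  refine ⟨n ^ k, pow_mem hnL' k, ?_, ?_, ?_⟩
  · rw [pow_one, pow_two] at hk1
    exact hk1
  · have h2 : Commute x n := by rw [hn]; exact hxo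
    exact (h2.pow_right k).eq
  · symm
    rw [mk_eq_iff hnL (pow_mem hnL' k), ← hn]
    exact hk2

/-- the map `C_L(t) → C_{L/O(L)}(t)` -/
def resHom (L : Subgroup G) {t : G} (ht : t ∈ L) :
    ↥(L ⊓ centralizer ({t} : Set G)) →*
      ↥(centralizer ({(QuotientGroup.mk (⟨t, ht⟩ : ↥L) : Bar L)} : Set (Bar L))) where
  toFun y := ⟨QuotientGroup.mk ⟨y, y.2.1⟩, mem_centralizer_singleton_iff.mpr (by
    rw [← QuotientGroup.mk_mul, ← QuotientGroup.mk_mul]
    congr 1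
    exact Subtype.ext (mem_centralizer_singleton_iff.mp y.2.2))⟩
  map_one' := rfl
  map_mul' _ _ := rfl

theorem resHom_surjective {L : Subgroup G} {t : G} (ht : t ∈ L) (htt : t * t = 1) :
    Function.Surjective (resHom L ht) := by
  rintro ⟨k, hk⟩
  obtain ⟨⟨n0, hn0⟩, rfl⟩ := QuotientGroup.mk_surjective k
  have htN := le_normalizer (H := L) ht
  rw [mem_centralizer_singleton_iff] at hk
  have h1 : n0⁻¹ * (t * n0 * t⁻¹) ∈ core L := by
    rw [← mk_eq_iff hn0 (Cfsg.Agent.McLLyComp.Act.conj_mem htN hn0)]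
    have h2 : (QuotientGroup.mk (⟨t * n0 * t⁻¹, Cfsg.Agent.McLLyComp.Act.conj_mem htN hn0⟩ : ↥L) : Bar L) =
      QuotientGroup.mk ⟨t, ht⟩ * QuotientGroup.mk ⟨n0, hn0⟩ * (QuotientGroup.mk ⟨t, ht⟩)⁻¹ := rfl
    rw [h2, ← hk, mul_inv_cancel_right]
  obtain ⟨o, ho, hto⟩ := Intrinsic.Lifting.exists_commute (n := 1) (odd_card_core L)
    (by rw [pow_one, pow_two, htt]) (normalizer_le_normalizer_core L htN) h1
  have hnL : n0 * o ∈ L := mul_mem hn0 (core_le L ho)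
  refine ⟨⟨n0 * o, hnL, mem_c hto.symm⟩, Subtype.ext ?_⟩
  change (QuotientGroup.mk (⟨n0 * o, hnL⟩ : ↥L) : Bar L) = QuotientGroup.mk ⟨n0, hn0⟩
  symm
  rw [mk_eq_iff hn0 hnL]
  convert ho using 1
  group

theorem odd_ker_resHom {L : Subgroup G} {t : G} (ht : t ∈ L) :
    Odd (Nat.card (resHom L ht).ker) := by
  have h1 : (resHom L ht).ker.map (L ⊓ centralizer ({t} : Set G)).subtype ≤ core L := by
    rintro _ ⟨m, hm, rfl⟩
    have h2 := congrArg Subtype.val hm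
    exact (mk_eq_one_iff m.2.1).mp h2
  have h2 := Subgroup.card_dvd_of_le h1
  rw [Subgroup.card_map_of_injective (Subgroup.subtype_injective _)] at h2
  exact Odd.of_dvd_nat (odd_card_core L) h2

/-- the core maps into the core -/
theorem map_core {A B : Type*} [Group A] [Group B] [Finite A] [Finite B] {M : Subgroup A}
    {M' : Subgroup B} (f : ↥M →* ↥M') (hf : Function.Surjective f) {m : A} (hm : m ∈ M)
    (hmc : m ∈ core M) : ((f ⟨m, hm⟩ : ↥M') : B) ∈ core M' := by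
  have h1 : (⟨m, hm⟩ : ↥M) ∈ oddCore ↥M := (mem_core_iff hm).mp hmc
  have h2 : (oddCore ↥M).map f ≤ oddCore ↥M' := by
    apply Lib.Cores.le_pPrimeCore
    · exact (Lib.Cores.pPrimeCore_normal (G := ↥M) 2).map f hf
    · exact (Lib.Cores.pPrimeCore_coprime (G := ↥M) 2).coprime_dvd_left (Subgroup.card_map_dvd _ _)
  exact (mem_core_iff (f ⟨m, hm⟩).2).mpr (h2 ⟨_, h1, rfl⟩)

/-- **the pump-up of a triple with `HF`** -/
theorem exists_pump {x a : G} {L : Subgroup G} (T : IsTriple x a L) (hF : HF (Bar L)) :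
    ∃ (t : G) (M N : Subgroup G), t * t = 1 ∧ t ≠ 1 ∧ t ∈ M ∧ M ≤ centralizer ({t} : Set G) ∧
      IsTriple x t N ∧
      ((a ∈ normalizer (N : Set G) ∧ M ≤ N) ∨
        (IntrinsicBasic.cj a N ≠ N ∧ M = diag (centralizer ({t} : Set G)) N a)) ∧
      t * a = a * t := by
  have hx2 := sq_of_order T.invx
  have ha2 := sq_of_order T.inva
  obtain ⟨τ, D, hτ, h1, h2, h3, h4, h5, h6, h7⟩ := exists_image T
  obtain ⟨tb, Mb, htt, ht1, hτt, hMle, hcomp, htM, δ, hδ, hδt, m, hm, hmc⟩ :=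
    hF τ h1 h2 D h3 h4 h5 h6
  rw [hτ] at hτt
  obtain ⟨t, ht, htt', hxt, rfl⟩ := exists_inv T.x_mem hx2 htt hτt
  have htN := le_normalizer (H := L) ht
  have hta : t * a = a * t := comm_c (T.comp.le ht)
  have ht1' : t ≠ 1 := by
    rintro rfl
    exact ht1 ((mk_eq_one_iff ht).mpr (one_mem _))
  have hot : orderOf t = 2 := orderOf_eq_prime (by rw [pow_two, htt']) ht1'
  -- the 2-component
  have heven : 2 ∣ Nat.card (Mb.subgroupOf (centralizer
      ({(QuotientGroup.mk (⟨t, ht⟩ : ↥L) : Bar L)} : Set (Bar L)))) := by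
    rw [Nat.card_congr (subgroupOfEquivOfLe hMle).toEquiv]
    have h8 : orderOf (⟨_, htM⟩ : ↥Mb) ∣ Nat.card Mb := orderOf_dvd_natCard _
    rw [Subgroup.orderOf_mk, orderOf_eq_prime (by rw [pow_two, htt]) ht1] at h8
    exact h8
  obtain ⟨h8, h9⟩ := IntrinsicLift.lift_component (resHom L ht) (resHom_surjective ht htt')
    (odd_ker_resHom ht) hcomp heven
  obtain ⟨M0, hM0⟩ : ∃ M0, M0 = PComponents.pElem 2 ((Mb.subgroupOf (centralizer
      ({(QuotientGroup.mk (⟨t, ht⟩ : ↥L) : Bar L)} : Set (Bar L)))).comap (resHom L ht)) := ⟨_, rfl⟩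
  rw [← hM0] at h8 h9
  obtain ⟨M, hM⟩ : ∃ M, M = M0.map (L ⊓ centralizer ({t} : Set G)).subtype := ⟨_, rfl⟩
  have hMc : IsComp (L ⊓ centralizer ({t} : Set G)) M := by rw [hM]; exact isComp_of_subtype h8
  have htM' : t ∈ M := by
    rw [hM]
    refine ⟨⟨t, ht, mem_c rfl⟩, ?_, rfl⟩
    rw [hM0]
    refine PComponents.mem_pElem (n := 1) ?_ ?_
    · exact htM
    · refine Subtype.ext ?_
      change t ^ 2 ^ 1 = 1
      rw [pow_one, pow_two, htt']
  -- the element of `D`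
  obtain ⟨d, hdN, hd, hδd⟩ := h7 δ hδ
  obtain ⟨F, hF⟩ : ∃ F : Subgroup G, ∀ e, e ∈ F ↔ e ∈ DC x a ∧ Fixes e L := by
    refine ⟨{ carrier := {e | e ∈ DC x a ∧ Fixes e L}
              mul_mem' := ?_
              one_mem' := ?_
              inv_mem' := ?_ }, fun e => Iff.rfl⟩
    · rintro e e' ⟨h1, h2⟩ ⟨h1', h2'⟩
      exact ⟨mul_mem h1 h1', Cfsg.Agent.McLLyComp.Act.fixes_mul h2 h2'⟩
    · exact ⟨one_mem _, fixes_one L⟩
    · rintro e ⟨h1, h2⟩
      exact ⟨inv_mem h1, Cfsg.Agent.McLLyComp.Act.fixes_inv h2⟩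
  have hFodd : Odd (Nat.card F) :=
    Odd.of_dvd_nat (odd_DC x a) (card_dvd_of_le fun e he => ((hF e).mp he).1)
  have hti : t⁻¹ = t := inv_eq_of_mul_eq_one_left htt'
  have htF : ∀ e ∈ F, t * e * t⁻¹ ∈ F := by
    intro e he
    obtain ⟨e1, e2⟩ := (hF e).mp he
    exact (hF _).mpr ⟨DC_norm hxt.symm hta e1, fixes_conj e2 htN⟩
  have htn : t ∈ normalizer (F : Set G) := by
    rw [mem_normalizer_iff]
    intro e
    refine ⟨htF e, fun h => ?_⟩
    have e1 := htF _ h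
    have e2 : t * (t * e * t⁻¹) * t⁻¹ = e := by
      rw [hti]
      calc t * (t * e * t) * t = (t * t) * e * (t * t) := by group
        _ = e := by rw [htt']; group
    rwa [e2] at e1
  have htdN : t * d * t⁻¹ ∈ normalizer (L : Set G) := mul_mem (mul_mem htN hdN) (inv_mem htN)
  have hmem : d⁻¹ * (t * d * t⁻¹) ∈ F := by
    refine (hF _).mpr ⟨mul_mem (inv_mem hd) (DC_norm hxt.symm hta hd), ?_⟩
    rw [← act_eq_one_iff (mul_mem (inv_mem hdN) htdN)]
    have e1 : (⟨d⁻¹ * (t * d * t⁻¹), mul_mem (inv_mem hdN) htdN⟩ : ↥(normalizer (L : Set G))) =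
        (⟨d, hdN⟩ : ↥(normalizer (L : Set G)))⁻¹ * ((⟨t, htN⟩ : ↥(normalizer (L : Set G))) *
          ⟨d, hdN⟩ * (⟨t, htN⟩ : ↥(normalizer (L : Set G)))⁻¹) := rfl
    rw [e1, map_mul, map_mul, map_mul, map_inv, map_inv, ← hδd, act_of_mem ht]
    have e2 : δ * MulAut.conj (QuotientGroup.mk (⟨t, ht⟩ : ↥L) : Bar L) =
        MulAut.conj (QuotientGroup.mk (⟨t, ht⟩ : ↥L) : Bar L) * δ := by
      apply MulEquiv.ext
      intro y
      change δ (_ * y * _⁻¹) = _ * δ y * _⁻¹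
      rw [map_mul, map_mul, map_inv, hδt]
    rw [← e2, mul_inv_cancel_right, inv_mul_cancel]
  obtain ⟨o, ho, hto⟩ := Intrinsic.Lifting.exists_commute (n := 1) hFodd
    (by rw [pow_one, pow_two, htt']) htn hmem
  obtain ⟨ho1, ho2⟩ := (hF o).mp ho
  obtain ⟨d', hd'⟩ : ∃ d', d' = d * o := ⟨_, rfl⟩
  have hd'D : d' ∈ DC x a := hd' ▸ mul_mem hd ho1
  have hd'N : d' ∈ normalizer (L : Set G) := hd' ▸ mul_mem hdN ho2.1
  have hd'δ : act L ⟨d', hd'N⟩ = δ := by
    rw [hδd]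
    have e1 : (⟨d', hd'N⟩ : ↥(normalizer (L : Set G))) = ⟨d, hdN⟩ * ⟨o, ho2.1⟩ := Subtype.ext hd'
    rw [e1, map_mul, (act_eq_one_iff ho2.1).mpr ho2, mul_one]
  have hd't : t * d' = d' * t := by rw [hd']; exact hto
  -- `d'` moves `M`
  have hnf : ¬ Fixes d' M := by
    intro hf
    have hmC : (⟨m, hMle hm⟩ : ↥(centralizer ({(QuotientGroup.mk (⟨t, ht⟩ : ↥L) : Bar L)} : Set (Bar L)))) ∈
      Mb.subgroupOf _ := hm
    rw [← h9] at hmC
    obtain ⟨y, hy, hym⟩ := hmC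
    have hyM : (y : G) ∈ M := by rw [hM]; exact ⟨y, hy, rfl⟩
    have hymk : (QuotientGroup.mk (⟨y, y.2.1⟩ : ↥L) : Bar L) = m := congrArg Subtype.val hym
    -- `M → Mb`
    have hmap : ∀ g : ↥M, ∃ hg : (g : G) ∈ L, (QuotientGroup.mk (⟨g, hg⟩ : ↥L) : Bar L) ∈ Mb := by
      rintro ⟨g, hg⟩
      rw [hM] at hg
      obtain ⟨z, hz, rfl⟩ := hg
      refine ⟨z.2.1, ?_⟩
      have e1 : resHom L ht z ∈ Mb.subgroupOf _ := h9 ▸ ⟨z, hz, rfl⟩
      exact e1
    let f : ↥M →* ↥Mb :=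
      { toFun := fun g => ⟨QuotientGroup.mk ⟨g, (hmap g).choose⟩, (hmap g).choose_spec⟩
        map_one' := rfl
        map_mul' := fun _ _ => rfl }
    have hfs : Function.Surjective f := by
      rintro ⟨k, hk⟩
      have hkC : (⟨k, hMle hk⟩ : ↥(centralizer ({(QuotientGroup.mk (⟨t, ht⟩ : ↥L) : Bar L)} :
        Set (Bar L)))) ∈ Mb.subgroupOf _ := hk
      rw [← h9] at hkC
      obtain ⟨z, hz, hzk⟩ := hkC
      have hzM : (z : G) ∈ M := by rw [hM]; exact ⟨z, hz, rfl⟩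
      refine ⟨⟨z, hzM⟩, Subtype.ext ?_⟩
      have e1 : ((resHom L ht z : ↥(centralizer ({(QuotientGroup.mk (⟨t, ht⟩ : ↥L) : Bar L)} :
        Set (Bar L)))) : Bar L) = k := congrArg Subtype.val hzk
      exact e1
    have e1 := hf.2 y hyM
    have e2 : ⁅d', (y : G)⁆ ∈ M := core_le M e1
    have e3 := map_core f hfs e2 e1
    apply hmc
    have e4 : ((f ⟨⁅d', (y : G)⁆, e2⟩ : ↥Mb) : Bar L) = δ m * m⁻¹ := by
      rw [← hd'δ, ← hymk, act_mk hd'N y.2.1]
      rfl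
    rwa [e4] at e3
  -- the pump-up
  have hM1 := PumpGen.isComp_of_inf T.comp hMc
  rw [inf_comm] at hM1
  obtain ⟨N, TN, -, hor⟩ := PumpGen.pump T.invx hot ha2 hta hxt.symm hM1 (mem_inf.mp hd'D).1
    (mem_inf.mp hd'D).2 (mem_c hd't.symm) hnf
  exact ⟨t, M, N, htt', ht1', htM', hMc.le.trans inf_le_right, TN, hor, hta⟩

/-- a triple with `HF` gives a triple `(x, t, N)` with `Z(N / O(N)) ≠ 1` -/
theorem exists_center {x a : G} {L : Subgroup G} (T : IsTriple x a L) (hF : HF (Bar L)) :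
    ∃ (t : G) (N : Subgroup G), IsTriple x t N ∧ center (Bar N) ≠ ⊥ := by
  obtain ⟨t, M, N, htt, ht1, htM, hMt, TN, hor, hta⟩ := exists_pump T hF
  refine ⟨t, N, TN, fun hZ => ?_⟩
  have key : ∀ {J : Subgroup G}, J ≤ centralizer ({t} : Set G) → t ∈ J → center (Bar J) ≠ ⊥ := by
    intro J hJt htJ hJ
    have h1 : (QuotientGroup.mk (⟨t, htJ⟩ : ↥J) : Bar J) ∈ center (Bar J) := by
      rw [mem_center_iff]
      intro g
      obtain ⟨⟨g, hg⟩, rfl⟩ := QuotientGroup.mk_surjective g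
      rw [← QuotientGroup.mk_mul, ← QuotientGroup.mk_mul]
      congr 1
      exact Subtype.ext (comm_c (hJt hg))
    rw [hJ, mem_bot, mk_eq_one_iff] at h1
    exact ht1 (eq_one_of_mem_core_sq h1 htt)
  rcases hor with ⟨-, hMN⟩ | ⟨hne, hMN⟩
  · exact key TN.comp.le (hMN htM) hZ
  · obtain ⟨f, hfs, hfk⟩ : ∃ f : Bar N →* Bar M, Function.Surjective f ∧ f.ker ≤ center (Bar N) := by
      obtain ⟨-, -, -, -, f, hfs, hfk, -⟩ := exists_diag TN.comp (mem_c hta.symm)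
        (sq_of_order T.inva) hne
      rw [hMN]
      exact ⟨f, hfs, hfk⟩
    rw [hZ, le_bot_iff] at hfk
    have hfi : Function.Injective f := (MonoidHom.ker_eq_bot_iff f).mp hfk
    let e : Bar N ≃* Bar M := MulEquiv.ofBijective f ⟨hfi, hfs⟩
    apply key hMt htM
    rw [eq_bot_iff]
    intro y hy
    obtain ⟨z, rfl⟩ := e.surjective y
    have h1 : z ∈ center (Bar N) := by
      rw [mem_center_iff] at hy ⊢
      intro g
      apply e.injective
      rw [map_mul, map_mul]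
      exact hy (e g)
    rw [hZ, mem_bot] at h1
    rw [h1, map_one]
    exact one_mem _

theorem center_of_L34 {K : Type*} [Group K] (h : IsL34 K) : center K = ⊥ := by
  obtain ⟨F, i1, i2, h4, ⟨e⟩⟩ := h
  obtain ⟨A⟩ := LThreeFour.exists_dat h4 e
  have hs1 := Cfsg.Agent.S0249.result (F := F) 3 le_rfl
  have hs : IsSimpleGroup K := e.isSimpleGroup
  have hfin : Finite K := Nat.finite_of_card_ne_zero (by rw [A.card]; norm_num)
  refine RedR.center_of_simple hs ?_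
  by_contra hcon
  push Not at hcon
  let _ : CommGroup K := { (inferInstance : Group K) with mul_comm := hcon }
  have h2 : (Nat.card K).Prime := IsSimpleGroup.prime_card
  rw [A.card] at h2
  exact absurd h2 (by norm_num)

/-- **N1b from `HF`** -/
theorem nodeHe_of (hF : ∀ (K : Type u) [Group K] [Finite K], Spor.IsoHe K → HF K) : NodeHe.{u} := by
  intro G _ _ hG hT x a L T hHe
  obtain ⟨t, N, TN, hZ⟩ := exists_center T (hF _ hHe)
  apply hZ
  rcases hT x t N TN with h | ⟨n, hn, h7, ⟨e⟩⟩ | h | h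
  · exact RedR.center_of_L2 h
  · obtain ⟨Mo⟩ := UAlt.Mod.nonempty_of_equiv (K := N) (S := (Finset.univ : Finset (Fin n)))
      (by rw [Finset.card_univ, Fintype.card_fin]; omega) (Ω := Fin n) (by rw [Finset.card_univ]) e
    exact RedR.center_bar Mo
  · exact center_of_L34 h
  · exact RedR.center_of_He h

end Cfsg.Agent.UGT.NodeHeG
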