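import Cfsg.Agent.UGT.TMCBad

/-!
# Terminal 2-components modulo cores

`Hyp G 𝒯 P M0`: `𝒯`, `P` are isomorphism invariant properties of groups, the 2-components of type `𝒯` of the
centralizers of the involutions of `G` are closed under pump-up and `|L / O(L)| ≤ M0` for them.

`exists_terminal`: if every group with property `P` has a noncentral involution and there is a 2-component `L`
of some `C(t)` with `L / O(L)` of type `𝒯`, with property `P`, of order `M0`, then there is a subgroup `K`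
with the same properties of `K / O(K)` which is *terminal*: `K = O^{2'}(K)`, and for EVERY involution `y` of
`C_G(K)` there is a 2-component `N` of `C_G(y)` with `K ≤ N`, `N = K O(N)`.

`exists_terminal_or`: the same without hypothesis on `P`; second alternative: an involution `z` contained in a
2-component `N` of `C(z)`, all involutions of `N / O(N)` being central.
-/

set_option autoImplicit false

open Cfsg Subgroup
open Cfsg.Agent.SignalizersComponents Cfsg.Agent.Lib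
open Cfsg.Agent.SignalizersComponents.IntrinsicBasic
open Cfsg.Agent.SignalizersComponents.IntrinsicIntr
open Cfsg.Agent.SignalizersComponents.PLayerAut
open Cfsg.Agent.Intrinsic.Basic Cfsg.Agent.Intrinsic.Cen Cfsg.Agent.Intrinsic.Diag
open Cfsg.Agent.McLLyComp.Act
open Cfsg.Agent.McLLyComp.Defs (Ty)
open Cfsg.Agent.UGT.TMCBase Cfsg.Agent.UGT.TMCSyl Cfsg.Agent.UGT.TMCMax Cfsg.Agent.UGT.TMCBad
open scoped commutatorElement

universe u

namespace Cfsg.Agent.UGT.TMC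

variable {G : Type u} [Group G] [Finite G] {𝒯 P : Ty.{u}} {M0 : ℕ}

/-- data: `Q` is a Sylow 2-subgroup of `FX a L` and all its involutions are good -/
structure Term (𝒯 P : Ty.{u}) (M0 : ℕ) (a : G) (L Q : Subgroup G) : Prop where
  base : Base (⊤ : Subgroup G) (MaxF 𝒯 P M0) a L Q
  le : Q ≤ FX a L
  card : Nat.card Q = tp (FX a L)
  syl : ∀ R : Subgroup G, R ≤ FX a L → IsPGroup 2 R → ∃ h ∈ FX a L, cj h R ≤ Q
  good : ∀ b ∈ Q, b * b = 1 → b ≠ 1 → Good (MaxF 𝒯 P M0) L b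
  /-- the weight of `(a, L)` is maximal among the pump-ups -/
  max : ∀ (e : G) (N : Subgroup G), MaxF 𝒯 P M0 e N → Q ≤ FX e N → tp (FX e N) ≤ Nat.card Q

omit [Finite G] in
/-- a Sylow 2-subgroup of `FX a L` gives base data -/
theorem base_of_syl {a : G} {L Q : Subgroup G} (hL : MaxF 𝒯 P M0 a L) (hQ : Q ≤ FX a L)
    (h2 : IsPGroup 2 Q)
    (hsyl : ∀ R : Subgroup G, R ≤ FX a L → IsPGroup 2 R → ∃ h ∈ FX a L, cj h R ≤ Q) :
    Base (⊤ : Subgroup G) (MaxF 𝒯 P M0) a L Q := by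
  have : Fact (Nat.Prime 2) := ⟨Nat.prime_two⟩
  refine ⟨hL, h2, ?_, le_top, fun q hq => (hQ hq).1, fun q hq => (hQ hq).2⟩
  have h3 : zpowers a ≤ FX a L := by
    rw [zpowers_le]; exact self_mem_FX hL
  have h4 : IsPGroup 2 (zpowers a) := by
    have : Nat.card (zpowers a) = 2 ^ 1 := by rw [Nat.card_zpowers, hL.inv]; norm_num
    exact IsPGroup.of_card this
  obtain ⟨h, hh, hle⟩ := hsyl _ h3 h4
  apply hle
  rw [mem_cj]
  have h5 : h⁻¹ * a * h = a := by
    have := hh.1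
    rw [mul_assoc, ← this, ← mul_assoc, inv_mul_cancel, one_mul]
  rw [h5]
  exact mem_zpowers a

/-- an elementary abelian subgroup of maximal order can be taken inside `Q` -/
theorem exists_el_le {H Q : Subgroup G}
    (hsyl : ∀ R : Subgroup G, R ≤ H → IsPGroup 2 R → ∃ h ∈ H, cj h R ≤ Q) :
    ∃ A : Subgroup G, A ≤ Q ∧ Elem A ∧ Nat.card A = el H := by
  obtain ⟨A, h1, h2, h3⟩ := exists_el H
  obtain ⟨h, -, hle⟩ := hsyl A h1 h2.isPGroup
  refine ⟨cj h A, hle, ?_, ?_⟩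
  · intro x hx
    rw [mem_cj] at hx
    have h4 := h2 _ hx
    calc x * x = h * ((h⁻¹ * x * h) * (h⁻¹ * x * h)) * h⁻¹ := by group
      _ = 1 := by rw [h4]; group
  · rw [← h3, cj_def]
    exact card_map_of_injective (MulAut.conj h).injective

/-- **Rank version.** -/
theorem exists_term (H : Hyp G 𝒯 P M0)
    (hP : ∀ {X : Type u} [Group X], P X → ∃ x : X, x * x = 1 ∧ x ∉ center X)
    (hne : ∃ (t : G) (L : Subgroup G), MaxF 𝒯 P M0 t L) :
    ∃ (a : G) (L Q : Subgroup G), Term 𝒯 P M0 a L Q := by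
  obtain ⟨a, L, hL, hmax⟩ := exists_max hne
  obtain ⟨Q, hQ, h2, hcard, hsyl⟩ := exists_syl (FX a L)
  have hB := base_of_syl hL hQ h2 hsyl
  obtain ⟨A, hAQ, hAE, hAc⟩ := exists_el_le hsyl
  have hZ : ∀ z ∈ Q, z * z = 1 → z ≠ 1 → (∀ q ∈ Q, q * z = z * q) → Good (MaxF 𝒯 P M0) L z := by
    intro z hz hzz hz1 hzQ
    rcases (fam H).pump hL z trivial hzz hz1 (hB.comm z hz) (hB.fix z hz) with h | ⟨J, hJ⟩
    · exact h
    exfalso
    have h3 := el_bad H hP hB hz hzz hzQ hJ hAQ hAE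
    have h4 := tp_bad H hB hz hzz hzQ hJ
    obtain ⟨h5, h6⟩ := hmax z J hJ.fam
    have h7 := h6 (le_antisymm h5 (hAc ▸ h3))
    rw [← hcard] at h7
    have h8 : 0 < Nat.card Q := Nat.card_pos
    omega
  have hgood : ∀ b ∈ Q, b * b = 1 → b ≠ 1 → Good (MaxF 𝒯 P M0) L b := by
    rcases main (fam H) hB hZ with h | ⟨b, hbQ, hbb, hb1, hba, -, ⟨J, hJ⟩, hb⟩
    · exact h
    exfalso
    have haa := sq_of_order hL.inv
    have ha1 := ne_one_of_order hL.inv
    have h8 := eight_le H hP hL hbb hb1 (hB.comm b hbQ) (hB.fix b hbQ) hJ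
    have h9 := (hmax b J hJ.fam).1
    -- the four-group `⟨a, b⟩`
    obtain ⟨B₁, -, haB₁, hB₁m, hB₁E, hB₁c⟩ := elem_insert (A := (⊥ : Subgroup G))
      (by intro x hx; rw [mem_bot.mp hx, one_mul]) haa
      (by intro x hx; rw [mem_bot.mp hx, one_mul, mul_one]) (fun h => ha1 (mem_bot.mp h))
    have hB₁mem : ∀ x ∈ B₁, x = 1 ∨ x = a := by
      intro x hx
      rcases hB₁m x hx with h | h
      · exact Or.inl (mem_bot.mp h)
      · right
        have h2 := mem_bot.mp h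
        calc x = a⁻¹ * (a * x) := by group
          _ = a := by rw [h2, mul_one, inv_of_sq haa]
    obtain ⟨B₂, hB₁₂, hbB₂, hB₂m, hB₂E, hB₂c⟩ := elem_insert hB₁E hbb
      (by
        intro x hx
        rcases hB₁mem x hx with rfl | rfl
        · rw [one_mul, mul_one]
        · exact (hB.comm b hbQ).symm)
      (by
        intro h
        rcases hB₁mem b h with h | h
        · exact hb1 h
        · exact hba h)
    have hB₂Q : B₂ ≤ Q := by
      have hB₁Q : B₁ ≤ Q := by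
        intro x hx
        rcases hB₁mem x hx with rfl | rfl
        · exact one_mem _
        · exact hB.mem
      intro x hx
      rcases hB₂m x hx with h | h
      · exact hB₁Q h
      · have h1 := Q.mul_mem (Q.inv_mem hbQ) (hB₁Q h)
        rwa [inv_mul_cancel_left] at h1
    have hc4 : Nat.card (B₂.subgroupOf Q) = 4 := by
      rw [Nat.card_congr (Subgroup.subgroupOfEquivOfLe hB₂Q).toEquiv, hB₂c, hB₁c, card_bot]
    have hle4 : Nat.card (A.subgroupOf Q) ≤ 4 := by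
      refine MinSimple.SelfCentFour.card_le h2 hc4 ?_ ?_ ?_
      · rintro ⟨v, hv⟩ hv'
        exact Subtype.ext (hB₂E v hv')
      · rintro ⟨q, hq⟩ hqc
        have h10 : q * b = b * q :=
          congrArg Subtype.val ((mem_centralizer_iff.mp hqc ⟨b, hbQ⟩ hbB₂).symm)
        change q ∈ B₂
        have haB₂ := hB₁₂ haB₁
        rcases hb q hq h10 with rfl | rfl | rfl | rfl
        · exact one_mem _
        · exact haB₂
        · exact hbB₂
        · exact mul_mem haB₂ hbB₂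
      · rintro ⟨x, hx⟩ hx'
        exact Subtype.ext (hAE x hx')
    rw [Nat.card_congr (Subgroup.subgroupOfEquivOfLe hAQ).toEquiv, hAc] at hle4
    omega
  refine ⟨a, L, Q, hB, hQ, hcard, hsyl, hgood, fun e N hN hQN => ?_⟩
  have h3 : el (FX a L) ≤ el (FX e N) := by
    rw [← hAc]; exact le_el (hAQ.trans hQN) hAE
  rw [hcard]
  exact (hmax e N hN).2 (le_antisymm (hmax e N hN).1 h3)

omit [Finite G] in
theorem exists_pow_inv {z : G} {n : ℕ} (hz : z ^ 2 ^ n = 1) (hz1 : z ≠ 1) :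
    ∃ k : ℕ, z ^ k * z ^ k = 1 ∧ z ^ k ≠ 1 := by
  classical
  have hex : ∃ n, z ^ 2 ^ n = 1 := ⟨n, hz⟩
  have hspec := Nat.find_spec hex
  rcases hk : Nat.find hex with _ | k
  · rw [hk, pow_zero, pow_one] at hspec
    exact absurd hspec hz1
  · have hmin := Nat.find_min hex (m := k) (by omega)
    rw [hk] at hspec
    refine ⟨2 ^ k, ?_, hmin⟩
    rw [← pow_add, ← two_mul, ← pow_succ']; exact hspec

omit [Finite G] in
theorem pElem_pElem (X : Subgroup G) :
    PComponents.pElem 2 (PComponents.pElem 2 X) = PComponents.pElem 2 X := by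
  apply le_antisymm (PComponents.pElem_le _)
  refine (Subgroup.closure_le _).mpr ?_
  rintro y ⟨hy, n, hn⟩
  exact PComponents.mem_pElem (n := n) (PComponents.mem_pElem (n := n) hy hn) hn

/-- `K = O^{2'}(C_L(Q))` -/
def KK (L Q : Subgroup G) : Subgroup G := PComponents.pElem 2 (L ⊓ centralizer (Q : Set G))

omit [Finite G] in
theorem KK_le (L Q : Subgroup G) : KK L Q ≤ L := (PComponents.pElem_le _).trans inf_le_left

omit [Finite G] in
theorem KK_comm {L Q : Subgroup G} {k q : G} (hk : k ∈ KK L Q) (hq : q ∈ Q) : q * k = k * q :=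
  mem_centralizer_iff.mp ((PComponents.pElem_le _).trans inf_le_right hk) q hq

theorem KK_sup {a : G} {L Q : Subgroup G} (hL : IsComp (centralizer ({a} : Set G)) L)
    (h2 : IsPGroup 2 Q) (hQ : Q ≤ FX a L) : KK L Q ⊔ core L = L := by
  apply le_antisymm (sup_le (KK_le L Q) (core_le L))
  refine hL.le_of_two fun l hl n hn => ?_
  obtain ⟨w, hw1, hw2, hw3, hw4⟩ := exists_lift_pow hL (fun q hq => mem_c (hQ hq).1) h2 hl (n := n)
    (by rw [hn]; exact one_mem _) (fun q hq => hL.core_le_core ((hQ hq).2.2 l hl))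
  have h1 : w ∈ KK L Q := by
    refine PComponents.mem_pElem (n := n) ⟨hw1, ?_⟩ hw2
    exact mem_centralizer_iff.mpr fun q hq => hw4 q hq
  have h3 : l⁻¹ * w ∈ core L := by
    rw [hL.core_eq]; exact ⟨L.mul_mem (L.inv_mem hl) hw1, hw3⟩
  have h4 : l = w * (l⁻¹ * w)⁻¹ := by group
  rw [h4]
  exact mul_mem (mem_sup_left h1) (mem_sup_right (inv_mem h3))

theorem isComp_self {K L H : Subgroup G} (hL : IsComp H L) (hs : K ⊔ core L = L)
    (hK : PComponents.pElem 2 K = K) : IsComp K K := by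
  obtain ⟨e, -⟩ := exists_quotEquiv hs
  refine isComp_iff.mpr ⟨le_rfl, ?_, ?_, hK⟩
  · rw [subgroupOf_self]
    exact (inferInstance : (⊤ : Subgroup K).Normal).isSubnormal
  · have hq := (isComp_iff.mp hL).2.2.1
    have hs : IsSimpleGroup ((↥L ⧸ oddCore ↥L) ⧸ center (↥L ⧸ oddCore ↥L)) := hq.2
    have h1 : Nontrivial ((↥L ⧸ oddCore ↥L) ⧸ center (↥L ⧸ oddCore ↥L)) := hs.toNontrivial
    have h2 : Nontrivial (↥L ⧸ oddCore ↥L) :=
      (QuotientGroup.mk'_surjective (center (↥L ⧸ oddCore ↥L))).nontrivial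
    have h3 : Nontrivial (↥K ⧸ oddCore ↥K) := e.toEquiv.nontrivial
    exact QuasisimpleQuotient.isQuasisimple_of_surjective e.symm.toMonoidHom e.symm.surjective hq

/-- `K` covers the pump-ups -/
theorem KK_good {a e : G} {L Q N : Subgroup G} (hB : Base (⊤ : Subgroup G) (MaxF 𝒯 P M0) a L Q)
    (hQ : Q ≤ FX a L) (he : e ∈ Q) (hee : e * e = 1) (hN : cen L e ⊔ core N = N) :
    KK L Q ⊔ core N = N := by
  have hL := hB.fam.comp
  have hs := KK_sup hL hB.two hQ
  have hcore : core (cen L e) ≤ core N := core_le_of_sup hN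
  have hcN : cen L e ≤ N := by rw [← hN]; exact le_sup_left
  have hKe : KK L Q ≤ cen L e := by
    refine PComponents.pElem_mono (le_inf inf_le_left ?_)
    intro x hx
    exact mem_c (mem_centralizer_iff.mp hx.2 e he).symm
  have hceq : core (cen L e) = cen L e ⊓ core L :=
    core_cen hL (mem_c (hB.comm e he)) hee (hB.fix e he)
  refine sup_of_exists (hKe.trans hcN) fun x hx => ?_
  obtain ⟨c, hc, hcx⟩ := exists_mul_of_sup hN hx
  obtain ⟨k, hk, hkc⟩ := exists_mul_of_sup hs (cen_le L e hc)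
  refine ⟨k, hk, ?_⟩
  have h1 : k⁻¹ * c ∈ core (cen L e) := by
    rw [hceq]
    exact ⟨(cen L e).mul_mem ((cen L e).inv_mem (hKe hk)) hc, hkc⟩
  have h2 : k⁻¹ * x = (k⁻¹ * c) * (c⁻¹ * x) := by group
  rw [h2]
  exact mul_mem (hcore h1) hcx

/-- an element of `C(K) ∩ C(e)` fixes `N` -/
theorem fixes_of_cent {e q : G} {K N : Subgroup G} (hK : IsComp K K)
    (hN : IsComp (centralizer ({e} : Set G)) N) (hs : K ⊔ core N = N) (hqe : q * e = e * q)
    (hq : q ∈ centralizer (K : Set G)) : Fixes q N := by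
  have hKN : K ≤ N := by rw [← hs]; exact le_sup_left
  have hqK : cj q K = K := cj_of_comm fun k hk => mem_c (mem_centralizer_iff.mp hq k hk)
  have hqN : cj q N = N := by
    have h1 : K ≤ cj q N := by rw [← hqK]; exact cj_mono hKN
    exact hK.unique (isComp_cj_of_mem hN (mem_c hqe)) hN h1 hKN
  refine (fixes_iff_of_sup hs (mem_normalizer_iff_cj.mpr hqK) (mem_normalizer_iff_cj.mpr hqN)).mp ?_
  refine ⟨mem_normalizer_iff_cj.mpr hqK, fun k hk => ?_⟩
  rw [commutatorElement_eq_one_iff_mul_comm.mpr (mem_centralizer_iff.mp hq k hk).symm]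
  exact one_mem _

/-- `Q` is a Sylow 2-subgroup of `C_G(K)` -/
theorem Term.syl_cent {a : G} {L Q : Subgroup G} (h : Term 𝒯 P M0 a L Q) :
    ∀ R : Subgroup G, R ≤ centralizer (KK L Q : Set G) → IsPGroup 2 R → Q ≤ R → R = Q := by
  have : Fact (Nat.Prime 2) := ⟨Nat.prime_two⟩
  intro R hRC hR2 hQR
  by_contra hne
  have hlt : Q < R := lt_of_le_of_ne hQR fun h => hne h.symm
  have hL := h.base.fam.comp
  have hs := KK_sup hL h.base.two h.le
  have hK : IsComp (KK L Q) (KK L Q) := isComp_self hL hs (pElem_pElem _)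
  obtain ⟨g, hgR, hgN, hgQ, hg2⟩ := SporRec.MaxFix.exists_sq_mem hR2 hlt
  obtain ⟨Q', hQ'⟩ : ∃ Q', Q' = Q ⊔ zpowers g := ⟨_, rfl⟩
  have hQ'R : Q' ≤ R := by
    rw [hQ']; exact sup_le hQR (zpowers_le.mpr hgR)
  have hQQ' : Q ≤ Q' := hQ' ▸ le_sup_left
  have hgQ' : g ∈ Q' := hQ' ▸ mem_sup_right (mem_zpowers g)
  have hQ'2 : IsPGroup 2 Q' := hR2.to_le hQ'R
  have hnorm : Q' ≤ normalizer (Q : Set G) := by
    rw [hQ']; exact sup_le le_normalizer (zpowers_le.mpr hgN)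
  have hn : (Q.subgroupOf Q').Normal := normal_subgroupOf_of_le_normalizer hnorm
  have hbot : Q.subgroupOf Q' ≠ ⊥ := by
    intro hbot
    have h1 : (⟨a, hQQ' h.base.mem⟩ : ↥Q') ∈ Q.subgroupOf Q' := h.base.mem
    rw [hbot, mem_bot] at h1
    exact ne_one_of_order h.base.fam.inv (congrArg Subtype.val h1)
  obtain ⟨⟨z, hz⟩, hzQ, hzc, hz1⟩ :=
    Transfer.TausskyTwoGroup.exists_ne_one_mem_inf_center hQ'2 (Q.subgroupOf Q') hbot
  have hzQ' : z ∈ Q := hzQ
  obtain ⟨n, hn'⟩ := hQ'2 ⟨z, hz⟩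
  obtain ⟨k, hk1, hk2⟩ := exists_pow_inv (z := z) (n := n) (congrArg Subtype.val hn')
    (fun h => hz1 (Subtype.ext h))
  obtain ⟨e, he⟩ : ∃ e, e = z ^ k := ⟨_, rfl⟩
  rw [← he] at hk1 hk2
  have heQ : e ∈ Q := he ▸ Q.pow_mem hzQ' k
  have heC : ∀ q ∈ Q', q * e = e * q := by
    intro q hq
    have h1 : q * z = z * q := congrArg Subtype.val (mem_center_iff.mp hzc ⟨q, hq⟩)
    rw [he]
    exact (Commute.pow_right h1 k).eq
  obtain ⟨N, hN, hNs⟩ := h.good e heQ hk1 hk2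
  have hKN := KK_good h.base h.le heQ hk1 hNs
  have hle : Q' ≤ FX e N := fun q hq =>
    ⟨heC q hq, fixes_of_cent hK hN.comp hKN (heC q hq) (hRC (hQ'R hq))⟩
  have h1 := h.max e N hN (hQQ'.trans hle)
  have h2 := card_le_tp hQ'2 hle
  have h3 : Nat.card Q < Nat.card Q' := by
    have h4 : Q < Q' := lt_of_le_of_ne hQQ' fun h => hgQ (h ▸ hgQ')
    exact Set.ncard_lt_ncard h4 (Set.toFinite _)
  omega

/-- the involutions of `C_G(K)` -/
theorem Term.good_cent (H : Hyp G 𝒯 P M0) {a : G} {L Q : Subgroup G} (h : Term 𝒯 P M0 a L Q) {y : G}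
    (hy : y ∈ centralizer (KK L Q : Set G)) (hyy : orderOf y = 2) :
    ∃ N, MaxF 𝒯 P M0 y N ∧ KK L Q ⊔ core N = N := by
  have : Fact (Nat.Prime 2) := ⟨Nat.prime_two⟩
  have hQC : Q ≤ centralizer (KK L Q : Set G) := fun q hq =>
    mem_centralizer_iff.mpr fun k hk => (KK_comm hk hq).symm
  obtain ⟨S, hSC, hS2, -, hsyl⟩ := exists_syl (centralizer (KK L Q : Set G))
  obtain ⟨h₁, hh₁, hle₁⟩ := hsyl Q hQC h.base.two
  -- `S = Q^{h₁}`
  have hcjC : ∀ g ∈ centralizer (KK L Q : Set G), ∀ R, R ≤ centralizer (KK L Q : Set G) →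
      cj g R ≤ centralizer (KK L Q : Set G) := by
    intro g hg R hR
    calc cj g R ≤ cj g (centralizer (KK L Q : Set G)) := cj_mono hR
      _ = _ := cj_eq_self_of_mem hg
  have hcj2 : ∀ (g : G) (R : Subgroup G), IsPGroup 2 R → IsPGroup 2 (cj g R) := by
    intro g R hR
    rw [cj_def]; exact hR.map _
  have hSQ : cj h₁⁻¹ S = Q := by
    refine h.syl_cent _ (hcjC _ (inv_mem hh₁) _ hSC) (hcj2 _ _ hS2) ?_
    have h1 := cj_mono (g := h₁⁻¹) hle₁
    rwa [cj_inv_cj] at h1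
  have hz2 : IsPGroup 2 (zpowers y) := by
    have : Nat.card (zpowers y) = 2 ^ 1 := by rw [Nat.card_zpowers, hyy]; norm_num
    exact IsPGroup.of_card this
  obtain ⟨h₂, hh₂, hle₂⟩ := hsyl (zpowers y) (zpowers_le.mpr hy) hz2
  obtain ⟨g, hg⟩ : ∃ g, g = h₁⁻¹ * h₂ := ⟨_, rfl⟩
  have hgC : g ∈ centralizer (KK L Q : Set G) := hg ▸ mul_mem (inv_mem hh₁) hh₂
  have hyQ : g * y * g⁻¹ ∈ Q := by
    rw [← hSQ, hg]
    have h1 : h₂ * y * h₂⁻¹ ∈ S := hle₂ (conj_mem_cj (mem_zpowers y))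
    have h2 := conj_mem_cj (g := h₁⁻¹) h1
    convert h2 using 1
    group
  have hyy' := sq_of_order hyy
  have hy1 := ne_one_of_order hyy
  obtain ⟨N, hN, hNs⟩ := h.good _ hyQ (by
      calc g * y * g⁻¹ * (g * y * g⁻¹) = g * (y * y) * g⁻¹ := by group
        _ = 1 := by rw [hyy']; group) (by
      intro h0
      apply hy1
      calc y = g⁻¹ * (g * y * g⁻¹) * g := by group
        _ = 1 := by rw [h0]; group)
  have hKN := KK_good h.base h.le hyQ (by
      calc g * y * g⁻¹ * (g * y * g⁻¹) = g * (y * y) * g⁻¹ := by group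
        _ = 1 := by rw [hyy']; group) hNs
  have h3 := hN.cj H g⁻¹
  have h4 : g⁻¹ * (g * y * g⁻¹) * g⁻¹⁻¹ = y := by group
  rw [h4] at h3
  refine ⟨cj g⁻¹ N, h3, ?_⟩
  have h5 : cj g⁻¹ (KK L Q) = KK L Q := cj_of_comm fun k hk => by
    have := mem_centralizer_iff.mp (inv_mem hgC) k hk
    exact mem_c this
  have h6 := congrArg (IntrinsicBasic.cj g⁻¹) hKN
  rw [cj_def, Subgroup.map_sup, ← cj_def, ← cj_def, ← core_cj, h5] at h6
  exact h6

/-- **Terminal 2-components modulo cores (T-MC).** -/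
theorem exists_terminal (H : Hyp G 𝒯 P M0)
    (hP : ∀ {X : Type u} [Group X], P X → ∃ x : X, x * x = 1 ∧ x ∉ center X)
    (hne : ∃ (t : G) (L : Subgroup G), MaxF 𝒯 P M0 t L) :
    ∃ K Q : Subgroup G, IsComp K K ∧ 𝒯 (↥K ⧸ oddCore ↥K) ∧ P (↥K ⧸ oddCore ↥K) ∧
      Nat.card (↥K ⧸ oddCore ↥K) = M0 ∧ Q ≤ centralizer (K : Set G) ∧ Q ≠ ⊥ ∧ IsPGroup 2 Q ∧
      (∀ R : Subgroup G, R ≤ centralizer (K : Set G) → IsPGroup 2 R → Q ≤ R → R = Q) ∧
      ∀ y ∈ centralizer (K : Set G), orderOf y = 2 →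
        ∃ N, MaxF 𝒯 P M0 y N ∧ K ≤ N ∧ K ⊔ core N = N := by
  obtain ⟨a, L, Q, h⟩ := exists_term H hP hne
  have hL := h.base.fam.comp
  have hs := KK_sup hL h.base.two h.le
  obtain ⟨e, -⟩ := exists_quotEquiv hs
  refine ⟨KK L Q, Q, isComp_self hL hs (pElem_pElem _), H.iso e.symm h.base.fam.type,
    H.isoP e.symm h.base.fam.prop, ?_, ?_, ?_, h.base.two, h.syl_cent, ?_⟩
  · rw [← h.base.fam.card]; exact Nat.card_congr e.toEquiv
  · exact fun q hq => mem_centralizer_iff.mpr fun k hk => (KK_comm hk hq).symm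
  · intro hbot
    have h1 := h.base.mem
    rw [hbot, mem_bot] at h1
    exact ne_one_of_order h.base.fam.inv h1
  · intro y hy hyy
    obtain ⟨N, hN, hNs⟩ := h.good_cent H hy hyy
    exact ⟨N, hN, by rw [← hNs]; exact le_sup_left, hNs⟩

/-! ### the version without hypothesis on the involutions -/

/-- `X` has a noncentral involution -/
def Noncent (X : Type u) [Group X] : Prop := ∃ x : X, x * x = 1 ∧ x ∉ center X

omit [Finite G] in
theorem Noncent.iso {X Y : Type u} [Group X] [Group Y] (e : X ≃* Y) (h : Noncent X) : Noncent Y := by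
  obtain ⟨x, h1, h2⟩ := h
  refine ⟨e x, by rw [← map_mul, h1, map_one], fun h3 => h2 ?_⟩
  rw [mem_center_iff] at h3 ⊢
  intro y
  apply e.injective
  rw [map_mul, map_mul]
  exact h3 (e y)

omit [Finite G] in
/-- adding the property `Noncent` -/
theorem hyp_noncent (H : Hyp G 𝒯 P M0) : Hyp G 𝒯 (fun X _ => P X ∧ Noncent X) M0 where
  iso := H.iso
  isoP e h := ⟨H.isoP e h.1, h.2.iso e⟩
  pump := H.pump
  le := H.le

omit [Finite G] in
theorem of_noncent {t : G} {L : Subgroup G} (h : MaxF 𝒯 (fun X _ => P X ∧ Noncent X) M0 t L) :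
    MaxF 𝒯 P M0 t L := ⟨h.inv, h.comp, h.type, h.prop.1, h.card⟩

/-- **T-MC without hypothesis on the involutions.**  Second alternative: an involution `z` contained in a
2-component `N` of `C(z)`, all involutions of `N / O(N)` being central. -/
theorem exists_terminal_or (H : Hyp G 𝒯 P M0) (hne : ∃ (t : G) (L : Subgroup G), MaxF 𝒯 P M0 t L) :
    (∃ K Q : Subgroup G, IsComp K K ∧ 𝒯 (↥K ⧸ oddCore ↥K) ∧ P (↥K ⧸ oddCore ↥K) ∧
      Noncent (↥K ⧸ oddCore ↥K) ∧
      Nat.card (↥K ⧸ oddCore ↥K) = M0 ∧ Q ≤ centralizer (K : Set G) ∧ Q ≠ ⊥ ∧ IsPGroup 2 Q ∧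
      (∀ R : Subgroup G, R ≤ centralizer (K : Set G) → IsPGroup 2 R → Q ≤ R → R = Q) ∧
      ∀ y ∈ centralizer (K : Set G), orderOf y = 2 →
        ∃ N, MaxF 𝒯 P M0 y N ∧ K ≤ N ∧ K ⊔ core N = N) ∨
    ∃ (z : G) (N : Subgroup G), MaxF 𝒯 P M0 z N ∧ z ∈ N ∧ ¬ Noncent (↥N ⧸ oddCore ↥N) := by
  classical
  have hp2 : Fact (Nat.Prime 2) := ⟨Nat.prime_two⟩
  by_cases hex : ∃ (t : G) (L : Subgroup G), MaxF 𝒯 P M0 t L ∧ Noncent (↥L ⧸ oddCore ↥L)
  · left
    obtain ⟨t, L, hL, hn⟩ := hex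
    obtain ⟨K, Q, h1, h2, h3, h4, h5, h6, h7, h8, h9⟩ := exists_terminal (hyp_noncent H)
      (fun h => h.2) ⟨t, L, hL.inv, hL.comp, hL.type, ⟨hL.prop, hn⟩, hL.card⟩
    refine ⟨K, Q, h1, h2, h3.1, h3.2, h4, h5, h6, h7, h8, fun y hy hyy => ?_⟩
    obtain ⟨N, hN, hN'⟩ := h9 y hy hyy
    exact ⟨N, of_noncent hN, hN'⟩
  right
  push Not at hex
  obtain ⟨t₀, L₀, h₀⟩ := hne
  obtain ⟨⟨a, L⟩, hL, hmax⟩ := Set.Finite.exists_maximalFor
    (fun p : G × Subgroup G => tp (FX p.1 p.2))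
    {p : G × Subgroup G | MaxF 𝒯 P M0 p.1 p.2} (Set.toFinite _) ⟨(t₀, L₀), h₀⟩
  change MaxF 𝒯 P M0 a L at hL
  obtain ⟨Q, hQ, h2, hcard, hsyl⟩ := exists_syl (FX a L)
  have hB := base_of_syl hL hQ h2 hsyl
  -- an involution of `L / O(L)` is central and lifts to `Z(Q)`
  have heven : 2 ∣ Nat.card (↥L ⧸ oddCore ↥L) := by
    have h1 := Subgroup.card_mul_index (oddCore ↥L)
    have h2 := hL.comp.even
    rw [← h1] at h2
    have h3 : (Nat.card (oddCore ↥L)).Coprime 2 := Cores.pPrimeCore_coprime 2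
    exact h3.symm.dvd_of_dvd_mul_left h2
  obtain ⟨x, hx⟩ := exists_prime_orderOf_dvd_card' 2 heven
  have hxx : x * x = 1 := by
    have h3 := pow_orderOf_eq_one x
    rwa [hx, pow_two] at h3
  have hx1 : x ≠ 1 := by
    rintro rfl
    rw [orderOf_one] at hx
    norm_num at hx
  have hxc : x ∈ center (↥L ⧸ oddCore ↥L) := by
    by_contra h
    exact hex a L hL ⟨x, hxx, h⟩
  obtain ⟨⟨u₀, hu₀⟩, rfl⟩ := QuotientGroup.mk'_surjective (oddCore ↥L) x
  have hu2 : u₀ * u₀ ∈ core L := by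
    rw [← map_mul] at hxx
    exact (mem_core_iff (L.mul_mem hu₀ hu₀)).mpr ((QuotientGroup.eq_one_iff _).mp hxx)
  obtain ⟨z, hz1, hz2, hz3, hz4⟩ := exists_lift hL.comp (fun q hq => mem_c (hQ hq).1) h2 hu₀
    (hL.comp.core_le_core hu2) (fun q hq => hL.comp.core_le_core ((hQ hq).2.2 u₀ hu₀))
  have heq : (QuotientGroup.mk' (oddCore ↥L)) ⟨u₀, hu₀⟩ = (QuotientGroup.mk' (oddCore ↥L)) ⟨z, hz1⟩ := by
    refine (mk_eq_iff hu₀ hz1).mpr ?_
    rw [hL.comp.core_eq]
    exact ⟨L.mul_mem (L.inv_mem hu₀) hz1, hz3⟩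
  have hzf : Fixes z L := by
    rw [heq] at hxc
    exact (mk_center_iff hz1).mp hxc
  have hzF : z ∈ FX a L := ⟨comm_c (hL.comp.le hz1), hzf⟩
  have hz0 : z ≠ 1 := by
    intro h
    apply hx1
    rw [heq]
    have : (⟨z, hz1⟩ : ↥L) = 1 := Subtype.ext h
    rw [this, map_one]
  -- `z ∈ Q`
  have hzQ : z ∈ Q := by
    obtain ⟨R, hR⟩ : ∃ R, R = Q ⊔ zpowers z := ⟨_, rfl⟩
    have hn : zpowers z ≤ normalizer (Q : Set G) := by
      rw [zpowers_le]
      apply mem_normalizer_iff_cj.mpr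
      refine cj_of_comm fun q hq => mem_c (hz4 q hq)
    have hR2 : IsPGroup 2 R := by
      rw [hR]
      have h3 : IsPGroup 2 (zpowers z) := by
        have : Nat.card (zpowers z) = 2 ^ 1 := by
          rw [Nat.card_zpowers, order_two hz0 hz2]; norm_num
        exact IsPGroup.of_card this
      exact h2.to_sup_of_normal_left' h3 hn
    have hRF : R ≤ FX a L := by
      rw [hR]; exact sup_le hQ (zpowers_le.mpr hzF)
    have h3 := card_le_tp hR2 hRF
    rw [← hcard] at h3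
    have hQR : Q ≤ R := hR ▸ le_sup_left
    have h4 : Q = R := Subgroup.eq_of_le_of_card_ge hQR h3
    rw [h4, hR]
    exact mem_sup_right (mem_zpowers z)
  have hgood : Good (MaxF 𝒯 P M0) L z := by
    rcases (fam H).pump hL z trivial hz2 hz0 (hB.comm z hzQ) hzf with h | ⟨J, hJ⟩
    · exact h
    exfalso
    have h4 := tp_bad H hB hzQ hz2 hz4 hJ
    have h5 : tp (FX z J) ≤ tp (FX a L) := by
      rcases le_total (tp (FX z J)) (tp (FX a L)) with h | h
      · exact h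
      · exact hmax (j := (z, J)) hJ.fam h
    rw [← hcard] at h5
    have h8 : 0 < Nat.card Q := Nat.card_pos
    omega
  obtain ⟨N, hN, hNs⟩ := hgood
  refine ⟨z, N, hN, ?_, hex z N hN⟩
  have h6 : cen L z ≤ N := by rw [← hNs]; exact le_sup_left
  exact h6 (mem_cen_of_sq hz1 rfl hz2)

end Cfsg.Agent.UGT.TMC
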