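import Mathlib
import Cfsg.Prelude.Def_Balance
import Cfsg.Agent.Lib.Cores

/-!
# Ends of the Unbalanced Group Theorem: a criterion for `IsLocallyBalanced` (helper128)

`AutCoreFree K`: for every involution `σ` of `Aut K`, `C_K(σ)` has no normal subgroup `≠ 1` of odd order, and an
automorphism of odd order which commutes with `σ` and centralises `C_K(σ)` is inner.
`AutCoreFree.locallyBalanced`: then `K` is locally balanced (`Z(K) = 1`).
-/

set_option autoImplicit false

open Cfsg Subgroup

namespace Cfsg.Agent.UGT.EndBase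

universe u v

/-- `O(C_K(σ)) = 1` (internal form) -/
def NoOdd {K : Type u} [Group K] (σ : MulAut K) : Prop :=
  ∀ Y : Subgroup K, Odd (Nat.card Y) → (∀ x ∈ Y, σ x = x) →
    (∀ g, σ g = g → ∀ x ∈ Y, g * x * g⁻¹ ∈ Y) → Y = ⊥

/-- `O(C_A(σ)) = 1` for all involutions `σ` of all `A`, `Inn K ≤ A ≤ Aut K` (internal form). -/
structure AutCoreFree (K : Type u) [Group K] : Prop where
  core : ∀ σ : MulAut K, orderOf σ = 2 → NoOdd σ
  odd : ∀ σ ρ : MulAut K, orderOf σ = 2 → ρ * σ = σ * ρ → Odd (orderOf ρ) → (∀ g, σ g = g → ρ g = g) →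
    ρ ∈ (MulAut.conj : K →* MulAut K).range

section

variable {K : Type u} [Group K]

theorem conj_inj (hc : center K = ⊥) : Function.Injective (MulAut.conj : K →* MulAut K) := by
  rw [injective_iff_map_eq_one]
  intro a ha
  have h1 : a ∈ center K := by
    rw [mem_center_iff]
    intro g
    have := congrArg (fun f : MulAut K => f g) ha
    simp only [MulAut.conj_apply, MulAut.one_apply] at this
    rw [mul_inv_eq_iff_eq_mul] at this
    exact this.symm
  rwa [hc, mem_bot] at h1

theorem conj_app (φ : MulAut K) (g : K) : MulAut.conj (φ g) = φ * MulAut.conj g * φ⁻¹ := by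
  ext x
  simp [MulAut.mul_apply, MulAut.conj_apply]

/-- **The criterion.** -/
theorem AutCoreFree.locallyBalanced [Finite K] (h : AutCoreFree K) (hc : center K = ⊥) :
    IsLocallyBalanced K := by
  intro A hA x hx
  have hinj := conj_inj hc
  set σ : MulAut K := (x : MulAut K) with hσ
  have hσ2 : orderOf σ = 2 := by rw [hσ, Subgroup.orderOf_coe, hx]
  set C : Subgroup A := Subgroup.centralizer ({x} : Set A) with hC
  set P : Subgroup C := pPrimeCore 2 C with hP
  have hPo : Odd (Nat.card P) := by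
    have := Lib.Cores.pPrimeCore_coprime (G := C) 2
    rwa [Nat.coprime_comm, Nat.coprime_two_left] at this
  have hPn : P.Normal := Lib.Cores.pPrimeCore_normal 2
  -- the core as a subgroup of `Aut K`
  set R : Subgroup (MulAut K) := (P.map C.subtype).map A.subtype with hR
  have hRo : Odd (Nat.card R) := by
    rw [hR, Subgroup.card_map_of_injective A.subtype_injective, Subgroup.card_map_of_injective C.subtype_injective]
    exact hPo
  have hRσ : ∀ ρ ∈ R, ρ * σ = σ * ρ := by
    rintro _ ⟨_, ⟨c, -, rfl⟩, rfl⟩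
    have h1 : (c : A) * x = x * (c : A) := mem_centralizer_singleton_iff.mp c.2
    exact congrArg Subtype.val h1
  have hRn : ∀ g : K, σ g = g → ∀ ρ ∈ R, MulAut.conj g * ρ * (MulAut.conj g)⁻¹ ∈ R := by
    intro g hg _ hρ
    obtain ⟨_, ⟨c, hc', rfl⟩, rfl⟩ := hρ
    have h1 : MulAut.conj g * σ = σ * MulAut.conj g := by
      have h2 := conj_app σ g
      rw [hg] at h2
      conv_lhs => rw [h2]
      group
    let a : A := ⟨MulAut.conj g, hA ⟨g, rfl⟩⟩
    have h3 : a ∈ C := by
      rw [hC, mem_centralizer_singleton_iff]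
      exact Subtype.ext h1
    have h4 := hPn.conj_mem c hc' ⟨a, h3⟩
    exact ⟨_, ⟨_, h4, rfl⟩, rfl⟩
  -- the inner part
  set Y : Subgroup K := R.comap (MulAut.conj : K →* MulAut K) with hY
  have hYbot : Y = ⊥ := by
    apply h.core σ hσ2
    · have h1 : Nat.card Y = Nat.card (Y.map (MulAut.conj : K →* MulAut K)) :=
        (Subgroup.card_map_of_injective hinj).symm
      rw [h1]
      exact hRo.of_dvd_nat (Subgroup.card_dvd_of_le (Subgroup.map_comap_le _ _))
    · intro k hk
      apply hinj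
      rw [conj_app]
      have h1 := hRσ _ (show MulAut.conj k ∈ R from hk)
      rw [← h1, mul_inv_cancel_right]
    · intro g hg k hk
      show MulAut.conj (g * k * g⁻¹) ∈ R
      rw [map_mul, map_mul, map_inv]
      exact hRn g hg _ hk
  have hRbot : R = ⊥ := by
    rw [eq_bot_iff]
    intro ρ hρ
    have h1 : Odd (orderOf ρ) := by
      apply hRo.of_dvd_nat
      have := orderOf_dvd_natCard (⟨ρ, hρ⟩ : R)
      rwa [Subgroup.orderOf_mk] at this
    have h2 : ∀ g, σ g = g → ρ g = g := by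
      intro g hg
      have h3 : ρ g * g⁻¹ ∈ Y := by
        show MulAut.conj (ρ g * g⁻¹) ∈ R
        rw [map_mul, map_inv, conj_app]
        have h4 := hRn g hg _ (inv_mem hρ)
        have h5 : ρ * MulAut.conj g * ρ⁻¹ * (MulAut.conj g)⁻¹ = ρ * (MulAut.conj g * ρ⁻¹ * (MulAut.conj g)⁻¹) := by
          group
        rw [h5]
        exact mul_mem hρ h4
      rw [hYbot, mem_bot] at h3
      exact mul_inv_eq_one.mp h3
    obtain ⟨k, rfl⟩ := h.odd σ ρ hσ2 (hRσ ρ hρ) h1 h2
    have h3 : k ∈ Y := hρ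
    rw [hYbot, mem_bot] at h3
    rw [mem_bot, h3, map_one]
  have h5 : centralizerPPrimeCore 2 x = P.map C.subtype := rfl
  rw [h5]
  exact (Subgroup.map_eq_bot_iff_of_injective _ A.subtype_injective).mp hRbot

/-- constructor: `φ ^ (2 ^ n)` inner for all `φ` -/
theorem autCoreFree_of_pow (n : ℕ) (h : ∀ φ : MulAut K, φ ^ (2 ^ n) ∈ (MulAut.conj : K →* MulAut K).range)
    (hcore : ∀ σ : MulAut K, orderOf σ = 2 → NoOdd σ) : AutCoreFree K := by
  refine ⟨hcore, fun σ ρ _ _ ho _ => ?_⟩
  have h1 : (orderOf ρ).Coprime (2 ^ n) := Nat.Coprime.pow_right _ ho.coprime_two_right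
  obtain ⟨m, hm⟩ := exists_pow_eq_self_of_coprime h1.symm
  rw [← hm]
  exact pow_mem (h ρ) m

/-- constructor: all automorphisms are inner -/
theorem autCoreFree_of_inner (h : ∀ φ : MulAut K, φ ∈ (MulAut.conj : K →* MulAut K).range) (hc : center K = ⊥)
    (hcore : ∀ t : K, orderOf t = 2 → NoOdd (MulAut.conj t)) : AutCoreFree K := by
  refine ⟨?_, fun σ ρ _ _ _ _ => h ρ⟩
  intro σ hσ
  obtain ⟨t, rfl⟩ := h σ
  exact hcore t (by rwa [orderOf_injective _ (conj_inj hc)] at hσ)

/-- inner involutions -/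
theorem noOdd_conj (t : K) (h : ∀ Y : Subgroup K, Odd (Nat.card Y) → (∀ x ∈ Y, x * t = t * x) →
    (∀ g, g * t = t * g → ∀ x ∈ Y, g * x * g⁻¹ ∈ Y) → Y = ⊥) : NoOdd (MulAut.conj t) := by
  have key : ∀ x : K, MulAut.conj t x = x ↔ x * t = t * x := by
    intro x
    rw [MulAut.conj_apply, mul_inv_eq_iff_eq_mul]
    exact eq_comm
  intro Y hY h1 h2
  exact h Y hY (fun x hx => (key x).1 (h1 x hx)) (fun g hg => h2 g ((key g).2 hg))

/-- `NoOdd` is invariant under conjugation in `Aut K` and under isomorphisms. -/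
theorem noOdd_congr {K' : Type v} [Group K'] (e : K ≃* K') {σ : MulAut K} {σ' : MulAut K'}
    (he : ∀ x, e (σ x) = σ' (e x)) (h : NoOdd σ) : NoOdd σ' := by
  intro Y hY h1 h2
  have h3 : Y.comap e.toMonoidHom = ⊥ := by
    apply h
    · have h4 : Nat.card (Y.comap e.toMonoidHom) = Nat.card Y :=
        Nat.card_congr ((e.toEquiv.subtypeEquiv (fun x => Iff.rfl)))
      rwa [h4]
    · intro x hx
      apply e.injective
      rw [he]
      exact h1 _ hx
    · intro g hg x hx
      show e (g * x * g⁻¹) ∈ Y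
      rw [map_mul, map_mul, map_inv]
      exact h2 _ (by rw [← he, hg]) _ hx
  rw [eq_bot_iff]
  intro x hx
  have h4 : e.symm x ∈ Y.comap e.toMonoidHom := by
    show e (e.symm x) ∈ Y
    rwa [e.apply_symm_apply]
  rw [h3, mem_bot] at h4
  rw [mem_bot, ← e.apply_symm_apply x, h4, map_one]

theorem noOdd_conj_mul (φ : MulAut K) {σ : MulAut K} (h : NoOdd σ) : NoOdd (φ * σ * φ⁻¹) :=
  noOdd_congr φ (fun x => by simp [MulAut.mul_apply]) h

theorem AutCoreFree.congr {K' : Type v} [Group K'] (e : K ≃* K') (h : AutCoreFree K) : AutCoreFree K' := by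
  have key : ∀ (φ : MulAut K') (x : K), e (((MulAut.congr e).symm φ) x) = φ (e x) := by
    intro φ x
    show e (e.symm (φ (e x))) = φ (e x)
    rw [e.apply_symm_apply]
  refine ⟨fun σ hσ => ?_, fun σ ρ hσ hc ho hf => ?_⟩
  · exact noOdd_congr e (key σ) (h.core _ (by rw [MulEquiv.orderOf_eq]; exact hσ))
  · obtain ⟨k, hk⟩ := h.odd ((MulAut.congr e).symm σ) ((MulAut.congr e).symm ρ)
      (by rw [MulEquiv.orderOf_eq]; exact hσ) (by rw [← map_mul, ← map_mul, hc])
      (by rw [MulEquiv.orderOf_eq]; exact ho) (by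
        intro g hg
        apply e.injective
        rw [key]
        apply hf
        rw [← key, hg])
    refine ⟨e k, ?_⟩
    ext x
    obtain ⟨z, rfl⟩ := e.surjective x
    rw [← key ρ, ← hk, MulAut.conj_apply, MulAut.conj_apply, map_mul, map_mul, map_inv]

end

end Cfsg.Agent.UGT.EndBase
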