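import Cfsg.Agent.UGT.EndBase
import Cfsg.Agent.CoThreeStd.OddCent
import Cfsg.Agent.OddHalf.Table.OutMTwelve

/-!
# UGT END(M12): `M₁₂` is locally balanced (oddjob 44; helper128)

`autCoreFree`, `locallyBalanced` : for every `X ≅ M₁₂` and all involutions of `Aut X`, `O(C(t)) = 1`.
-/

set_option autoImplicit false

open Cfsg Subgroup

namespace Cfsg.Agent.UGT.EndMTwelve

open Cfsg.Agent.UGT.EndBase
open Cfsg.Agent.CoThreeStd.MTwelve hiding cj
open Cfsg.Agent.CoThreeStd.InvTwo Cfsg.Agent.CoThreeStd.OutAut Cfsg.Agent.CoThreeStd.OddCent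
open Cfsg.Agent.OddHalf.Table.OutMTwelve (al al_mul_al mem_or_mem)

universe u

theorem center_bot : center H = ⊥ := by
  rw [eq_bot_iff]
  intro z hz
  rw [mem_center_iff] at hz
  obtain ⟨σ, h | h⟩ := cent_y z (hz y).symm
  · have h1 : ∀ τ, σ * τ = τ * σ := by
      intro τ
      apply w_injective
      rw [map_mul, map_mul, ← h]
      exact (hz (w τ)).symm
    rw [mem_bot, h, Cfsg.Agent.CoThreeStd.MTwelve.perm5_central σ h1, map_one]
  · have h1 : ∀ τ, σ * τ = τ * σ := by
      intro τ
      apply w_injective
      have h2 := hz (w τ)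
      rw [h] at h2
      rw [map_mul, map_mul]
      have h3 : y * (w τ * w σ) = y * (w σ * w τ) := by
        rw [← mul_assoc, ← mul_assoc, y_comm τ, mul_assoc, h2]
      exact (mul_left_cancel h3).symm
    have h2 := Cfsg.Agent.CoThreeStd.MTwelve.perm5_central σ h1
    rw [h2, map_one, mul_one] at h
    -- `y` is not central
    exfalso
    have h3 := hz b
    rw [h, ← wd_y, ← wd_b, ← wd_append, ← wd_append] at h3
    exact wd_ne 0 (by decide) (by decide +kernel) h3

theorem autCoreFree : AutCoreFree H := by
  have hal : ∀ x, al x = alpha x := fun _ => rfl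
  apply autCoreFree_of_pow 1
  · intro φ
    rcases mem_or_mem φ with h | ⟨x, hx⟩
    · exact pow_mem h _
    · have h1 : φ = al * MulAut.conj x := by rw [hx, ← mul_assoc, al_mul_al, one_mul]
      refine ⟨alpha x * x, ?_⟩
      rw [h1, pow_one, pow_two]
      apply MulEquiv.ext
      intro u
      simp only [MulAut.mul_apply, MulAut.conj_apply, map_mul, map_inv, hal, alpha_alpha, mul_inv_rev, mul_assoc]
  · intro σ hσ
    have hσ2 : σ * σ = 1 := by rw [← pow_two, ← hσ, pow_orderOf_eq_one]
    have hσ1 : σ ≠ 1 := by
      rintro rfl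
      rw [orderOf_one] at hσ
      exact absurd hσ (by decide)
    rcases mem_or_mem σ with ⟨t, rfl⟩ | ⟨x, hx⟩
    · apply noOdd_conj
      intro Y hY hc hn
      have h1 : t * t = 1 := by
        apply conj_inj center_bot
        rw [map_mul, map_one]
        exact hσ2
      have h2 : t ≠ 1 := by
        rintro rfl
        exact hσ1 (map_one _)
      exact odd_cent h1 h2 Y hY hc hn
    · have h1 : σ = al * MulAut.conj x := by rw [hx, ← mul_assoc, al_mul_al, one_mul]
      -- `σ u = alpha x * alpha u * (alpha x)⁻¹`
      have h2 : ∀ u, σ u = alpha x * alpha u * (alpha x)⁻¹ := by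
        intro u
        rw [h1, MulAut.mul_apply, MulAut.conj_apply, hal, map_mul, map_mul, map_inv]
      have h3 : alpha x * x = 1 := by
        apply conj_inj center_bot
        rw [map_one]
        apply MulEquiv.ext
        intro u
        have h4 := congrArg (fun f : MulAut H => f u) hσ2
        simp only [MulAut.mul_apply, MulAut.one_apply] at h4
        rw [h2, h2, map_mul, map_mul, map_inv, alpha_alpha, alpha_alpha] at h4
        rw [MulAut.conj_apply, MulAut.one_apply]
        calc alpha x * x * u * (alpha x * x)⁻¹ = alpha x * (x * u * x⁻¹) * (alpha x)⁻¹ := by group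
          _ = u := h4
      have h4 : alpha x = x⁻¹ := eq_inv_of_mul_eq_one_left h3
      intro Y hY hc hn
      refine odd_outer h3 Y hY ?_ ?_
      · intro z hz
        have h5 := hc z hz
        rwa [h2, h4, inv_inv] at h5
      · intro g hg z hz
        apply hn g _ z hz
        rw [h2, h4, inv_inv]
        exact hg

/-- **`M₁₂` is locally balanced.** -/
theorem locallyBalanced {X : Type u} [Group X] (e : X ≃* Spor.M12) : IsLocallyBalanced X := by
  have : Finite X := Finite.of_equiv _ e.symm.toEquiv
  have hc : center X = ⊥ := by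
    rw [eq_bot_iff]
    intro z hz
    rw [mem_center_iff] at hz
    have h1 : e z ∈ center H := by
      rw [mem_center_iff]
      intro g
      obtain ⟨g, rfl⟩ := e.surjective g
      rw [← map_mul, ← map_mul, hz]
    rw [center_bot, mem_bot] at h1
    rw [mem_bot]
    exact e.injective (by rw [h1, map_one])
  exact (autCoreFree.congr e.symm).locallyBalanced hc

end Cfsg.Agent.UGT.EndMTwelve
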