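import Cfsg.Agent.UGT.Iface
import Cfsg.Agent.UGT.EndBase

/-!
# Ends of the Unbalanced Group Theorem: locally balanced groups (helper128)

`not_minCex`: `F*(G)` locally balanced (in particular `AutCoreFree`) ⇒ `G` is not a minimal counterexample.
-/

set_option autoImplicit false

open Cfsg Subgroup

namespace Cfsg.Agent.UGT.EndNode

open Cfsg.Agent.UGT.Iface Cfsg.Agent.UGT.EndBase

universe u v

theorem not_minCex {G : Type u} [Group G] [Finite G] (h : IsLocallyBalanced ↥(generalizedFittingSubgroup G)) :
    ¬ MinCex G := by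
  intro hG
  obtain ⟨t, ht, hne⟩ := hG.unbal
  exact hne (Cfsg.Agent.FixBN.BRelative.core_eq_bot hG.simple hG.nonab h ht)

theorem not_minCex_of_aut {G : Type u} [Group G] [Finite G] {K : Type v} [Group K]
    (e : K ≃* ↥(generalizedFittingSubgroup G)) (h : AutCoreFree K) : ¬ MinCex G := by
  intro hG
  have := hG.simple
  exact not_minCex ((h.congr e).locallyBalanced (Cfsg.Agent.FixBN.BTheorem.center_eq_bot hG.nonab)) hG

end Cfsg.Agent.UGT.EndNode
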