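import Cfsg.Agent.UGT.InUList
import Cfsg.Agent.UGT.End
import Cfsg.Agent.UGT.EndNode
import Cfsg.Agent.UGT.EndMTwelve
import Cfsg.Agent.UGT.EndJ1.Main
import Cfsg.Agent.UGT.End.EOneLB
import Cfsg.Agent.UGT.End.MEleven
import Cfsg.Agent.UGT.End.AltEven
import Cfsg.Agent.UGT.End.M22
import Cfsg.Agent.UGT.End.JTwo
import Cfsg.Agent.UGT.End.J3
import Cfsg.Agent.UGT.MTwentyThree.LB

/-!
# END for the list `K4End` (all rows except `HasAltCover`)

`excl`: the groups of `K4End` are excluded as `F*(G)` of a minimal counterexample, given this for the groups with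
`HasAltCover` (`McL` and `Ly`).
-/

set_option autoImplicit false

open Cfsg Subgroup
open Cfsg.Agent.FixBN.BTheorem Cfsg.Agent.FixBN.BRelative
open Cfsg.Agent.UGT.Triple Cfsg.Agent.UGT.Iface Cfsg.Agent.UGT.InUList
open Cfsg.Agent.GH.Defs (K4 IsU34 IsL28 IsL216 IsSz8 HasAltCover)

namespace Cfsg.Agent.UGT.EndK4

universe u

theorem Excl.of_lb {P : ∀ (X : Type u) [Group X], Prop}
    (h : ∀ (X : Type u) [Group X], IsSimpleGroup X → P X → End.LB X) : Excl.{u} P :=
  fun G _ _ hG hP => End.not_minCex hG (h _ hG.simple hP)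

theorem u34 : Excl.{u} fun X [Group X] => IsU34 X := Excl.of_lb fun _ _ hs h => End.EOneLB.lb_of_u34 hs h

theorem l28 : Excl.{u} fun X [Group X] => IsL28 X := Excl.of_lb fun _ _ hs h => End.EOneLB.lb_of_l28 hs h

theorem l216 : Excl.{u} fun X [Group X] => IsL216 X :=
  Excl.of_lb fun _ _ hs h => End.EOneLB.lb_of_l216 hs h

theorem sz8 : Excl.{u} fun X [Group X] => IsSz8 X := Excl.of_lb fun _ _ hs h => End.EOneLB.lb_of_sz8 hs h

theorem m11 : Excl.{u} fun X [Group X] => Spor.IsoM11 X :=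
  Excl.of_core fun _ _ _ h t ht => End.MEleven.core_eq_bot h t ht

theorem j1 : Excl.{u} fun X [Group X] => Spor.IsoJ1 X := fun _ _ _ hG => EndJ1.Main.not_minCex hG

theorem altEven : Excl.{u} fun X [Group X] => ∃ n : ℕ, Even n ∧ 8 ≤ n ∧ GH.Defs.IsAlt n X := by
  rintro G _ _ hG ⟨n, hn, -, h⟩
  exact EndAlt.end_alt hG hn h

theorem m12 : Excl.{u} fun X [Group X] => Spor.IsoM12 X := by
  rintro G _ _ hG ⟨e⟩
  exact EndNode.not_minCex (EndMTwelve.locallyBalanced e) hG

theorem m22 : Excl.{u} fun X [Group X] => Spor.IsoM22 X := by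
  rintro G _ _ hG ⟨e⟩
  exact EndNode.not_minCex (End.M22.locallyBalanced e) hG

theorem m23 : Excl.{u} fun X [Group X] => Spor.IsoM23 X := by
  rintro G _ _ hG ⟨e⟩
  exact EndNode.not_minCex (MTwentyThree.LB.locallyBalanced e) hG

theorem j2 : Excl.{u} fun X [Group X] => Spor.IsoJ2 X := Excl.of_lb fun _ _ _ h => End.JTwo.lb h

theorem j3 : Excl.{u} fun X [Group X] => Spor.IsoJ3 X := Excl.of_lb fun _ _ _ h => End.J3.lb h

/-- The list `K4End`. -/
theorem excl (hcov : Excl.{u} fun X [Group X] => HasAltCover X) : Excl.{u} K4End := by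
  rintro G _ _ hG (h | h | h | h | h | h | h | h | h | h | h | h | h)
  · exact u34 G hG h
  · exact m11 G hG h
  · exact l28 G hG h
  · exact sz8 G hG h
  · exact j1 G hG h
  · exact l216 G hG h
  · exact altEven G hG h
  · exact m12 G hG h
  · exact m22 G hG h
  · exact m23 G hG h
  · exact j2 G hG h
  · exact j3 G hG h
  · exact hcov G hG h

/-- The list `K4`. -/
theorem exclK4 (hcov : Excl.{u} fun X [Group X] => HasAltCover X) : Excl.{u} K4 := not_K4_of (excl hcov)

/-- `F*(G)` has sectional 2-rank at least 5 in a minimal counterexample. -/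
theorem rank_fs (k4 : PK4.{u}) (hcov : Excl.{u} fun X [Group X] => HasAltCover X) :
    ∀ (G : Type u) [Group G] [Finite G], MinCex G →
      ¬ SectionalPRankLE 2 4 ↥(generalizedFittingSubgroup G) :=
  fun _ _ _ hG => InUList.rank_fs k4 (excl hcov) hG

end Cfsg.Agent.UGT.EndK4
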