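import Mathlib
import Cfsg.Prelude.Def_TwoFusion
import Cfsg.Agent.S0215
import Cfsg.Agent.TwoFusion.Isolated
import Cfsg.Agent.Lib.Cores

/-!
# THEOREM SL (helper459, uniform version of helper45)

`M` a subgroup of the finite group `G`, `W` an odd order normal subgroup of `M`, `L / W` a nonabelian simple normal
subgroup of `M / W`, `K / W = C_{M/W}(L/W)`.  If `C_G(y) ≤ M` for all involutions `y` of `K`, `|K ∩ K^g|` is odd for
`g ∉ M`, no `K^g ≠ K` covers `L / W`, `K` contains a four-group, and `Aut(L/W)` has properties (Gam) and (O), then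
`|K^g ∩ M|` is odd for all `g ∉ M`.
-/

set_option autoImplicit false

namespace Cfsg.Agent.UGT.SL

open Cfsg Subgroup

universe u

section lemmas

variable {G : Type u} [Group G]

/-- Two involutions of a coset of a subgroup of odd order are conjugate under that subgroup. -/
theorem conj_of_coset [Finite G] {W : Subgroup G} (hodd : Odd (Nat.card W)) {x y : G} (hx : x * x = 1)
    (hy : y * y = 1) (hxy : x * y ∈ W) : ∃ w ∈ W, w * x * w⁻¹ = y := by
  have hxi : x⁻¹ = x := inv_eq_of_mul_eq_one_left hx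
  have hyi : y⁻¹ = y := inv_eq_of_mul_eq_one_left hy
  have h1 : y * x ∈ W := by
    have h := W.inv_mem hxy
    rwa [mul_inv_rev, hxi, hyi] at h
  have h2 : Odd (orderOf (y * x)) :=
    hodd.of_dvd_nat (Subgroup.orderOf_dvd_natCard W h1)
  obtain ⟨m, hm⟩ := h2
  have h3 : (y * x) ^ (2 * m + 1) = 1 := by rw [← hm]; exact pow_orderOf_eq_one _
  -- x (y x)^n = (y x)^-n x
  have h4 : ∀ n : ℕ, (y * x) ^ n * x * ((y * x) ^ n)⁻¹ = (y * x) ^ (2 * n) * x := by
    intro n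
    have h5 : x * ((y * x) ^ n)⁻¹ = (y * x) ^ n * x := by
      have h6 : x * (y * x)⁻¹ * x⁻¹ = y * x := by
        rw [mul_inv_rev, hxi, hyi]
        calc x * (x * y) * x = (x * x) * y * x := by group
          _ = y * x := by rw [hx, one_mul]
      have h7 : x * ((y * x)⁻¹) ^ n * x⁻¹ = (y * x) ^ n := by
        rw [← conj_pow, h6]
      rw [← inv_pow, ← h7]
      group
    rw [mul_assoc, h5, ← mul_assoc, ← pow_add, two_mul]
  refine ⟨(y * x) ^ (m + 1), W.pow_mem h1 _, ?_⟩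
  rw [h4]
  have h8 : 2 * (m + 1) = (2 * m + 1) + 1 := by ring
  rw [h8, pow_add, h3, one_mul, pow_one, mul_assoc, hx, mul_one]

/-- A 2-group acting on an involution modulo an odd normal subgroup centralises an involution of the coset. -/
theorem exists_fixed_involution [Finite G] {W T : Subgroup G} (hodd : Odd (Nat.card W)) (hT : IsPGroup 2 T)
    {x : G} (hx : x * x = 1) (hxW : ∀ w ∈ W, x * w * x⁻¹ ∈ W) (hTW : ∀ t ∈ T, ∀ w ∈ W, t * w * t⁻¹ ∈ W)
    (hTx : ∀ t ∈ T, x * (t * x * t⁻¹) ∈ W) : ∃ y : G, x * y ∈ W ∧ y * y = 1 ∧ ∀ t ∈ T, t * y = y * t := by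
  classical
  have hxi : x⁻¹ = x := inv_eq_of_mul_eq_one_left hx
  let Ω : Type u := {y : G // x * y ∈ W ∧ y * y = 1}
  let act : MulAction T Ω :=
    { smul := fun t y => ⟨(t : G) * y.1 * (t : G)⁻¹, by
        refine ⟨?_, ?_⟩
        · have h1 := hTW t t.2 _ y.2.1
          have h2 := hTx t t.2
          have h3 : x * ((t : G) * y.1 * (t : G)⁻¹) =
              (x * ((t : G) * x * (t : G)⁻¹)) * ((t : G) * (x * y.1) * (t : G)⁻¹) := by
            calc x * ((t : G) * y.1 * (t : G)⁻¹) = x * ((t : G) * (1 * y.1) * (t : G)⁻¹) := by rw [one_mul]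
              _ = x * ((t : G) * ((x * x) * y.1) * (t : G)⁻¹) := by rw [hx]
              _ = _ := by group
          rw [h3]
          exact W.mul_mem h2 h1
        · calc (t : G) * y.1 * (t : G)⁻¹ * ((t : G) * y.1 * (t : G)⁻¹) = (t : G) * (y.1 * y.1) * (t : G)⁻¹ := by
                group
            _ = 1 := by rw [y.2.2]; group⟩
      one_smul := fun y => by
        apply Subtype.ext
        show ((1 : T) : G) * y.1 * ((1 : T) : G)⁻¹ = y.1
        simp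
      mul_smul := fun s t y => by
        apply Subtype.ext
        show ((s * t : T) : G) * y.1 * ((s * t : T) : G)⁻¹ = (s : G) * ((t : G) * y.1 * (t : G)⁻¹) * (s : G)⁻¹
        push_cast
        group }
  have hcard : ¬ 2 ∣ Nat.card Ω := by
    -- inversion on the coset `x W`
    let Y : Type u := {y : G // x * y ∈ W}
    have hY : Nat.card Y = Nat.card W := by
      refine Nat.card_congr ⟨fun y => ⟨x * y.1, y.2⟩, fun w => ⟨x⁻¹ * w.1, by simp⟩, ?_, ?_⟩
      · intro y; simp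
      · intro w; simp
    let f : Function.End Y := fun y => ⟨y.1⁻¹, by
      have h1 := hxW _ (W.inv_mem y.2)
      have h2 : x * (x * y.1)⁻¹ * x⁻¹ = x * y.1⁻¹ := by
        rw [mul_inv_rev]
        calc x * (y.1⁻¹ * x⁻¹) * x⁻¹ = x * y.1⁻¹ * (x * x)⁻¹ := by group
          _ = x * y.1⁻¹ := by rw [hx]; group
      rw [h2] at h1
      exact h1⟩
    have hinv : Function.Involutive f := fun y => Subtype.ext (inv_inv y.1)
    have hfix : Nat.card Ω = Nat.card (Function.fixedPoints f) := by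
      refine Nat.card_congr ⟨fun y => ⟨⟨y.1, y.2.1⟩, ?_⟩, fun y => ⟨y.1.1, y.1.2, ?_⟩, ?_, ?_⟩
      · show f ⟨y.1, y.2.1⟩ = ⟨y.1, y.2.1⟩
        apply Subtype.ext
        exact inv_eq_of_mul_eq_one_left y.2.2
      · have h1 : (f y.1).1 = y.1.1 := congrArg Subtype.val y.2
        have h2 : (y.1.1)⁻¹ = y.1.1 := h1
        calc y.1.1 * y.1.1 = y.1.1 * (y.1.1)⁻¹ := by rw [h2]
          _ = 1 := mul_inv_cancel _
      · intro y; rfl
      · intro y; rfl
    have : Fintype Y := Fintype.ofFinite _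
    have : Fintype (Function.fixedPoints f) := Fintype.ofFinite _
    have h1 := Equiv.Perm.card_fixedPoints_modEq (p := 2) (n := 1) (f := f) (by
      rw [pow_one]
      funext y
      exact hinv y)
    rw [hfix, Nat.card_eq_fintype_card]
    intro hdvd
    have h2 : Fintype.card Y % 2 = 0 := by
      have h3 : Fintype.card Y % 2 = Fintype.card (Function.fixedPoints f) % 2 := by
        unfold Nat.ModEq at h1
        convert h1
      rw [h3]
      exact Nat.mod_eq_zero_of_dvd hdvd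
    rw [← Nat.card_eq_fintype_card, hY] at h2
    obtain ⟨k, hk⟩ := hodd
    omega
  obtain ⟨y, hy⟩ := hT.nonempty_fixed_point_of_prime_not_dvd_card Ω hcard
  refine ⟨y.1, y.2.1, y.2.2, fun t ht => ?_⟩
  have h1 : (⟨t, ht⟩ : T) • y = y := hy ⟨t, ht⟩
  have h2 : t * y.1 * t⁻¹ = y.1 := congrArg Subtype.val h1
  calc t * y.1 = (t * y.1 * t⁻¹) * t := by group
    _ = y.1 * t := by rw [h2]

/-- Elements of `A ⊔ B` when `B` normalises `A`. -/
theorem exists_mul_of_mem_sup {A B : Subgroup G} (h : ∀ b ∈ B, ∀ a ∈ A, b * a * b⁻¹ ∈ A) {x : G}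
    (hx : x ∈ A ⊔ B) : ∃ a ∈ A, ∃ b ∈ B, a * b = x := by
  let C : Subgroup G :=
    { carrier := {x | ∃ a ∈ A, ∃ b ∈ B, a * b = x}
      one_mem' := ⟨1, A.one_mem, 1, B.one_mem, mul_one 1⟩
      mul_mem' := by
        rintro x y ⟨a, ha, b, hb, rfl⟩ ⟨a', ha', b', hb', rfl⟩
        refine ⟨a * (b * a' * b⁻¹), A.mul_mem ha (h b hb a' ha'), b * b', B.mul_mem hb hb', ?_⟩
        group
      inv_mem' := by
        rintro x ⟨a, ha, b, hb, rfl⟩
        refine ⟨b⁻¹ * a⁻¹ * b⁻¹⁻¹, h _ (B.inv_mem hb) _ (A.inv_mem ha), b⁻¹, B.inv_mem hb, ?_⟩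
        group }
  have h1 : A ⊔ B ≤ C := by
    refine sup_le (fun a ha => ⟨a, ha, 1, B.one_mem, mul_one a⟩) (fun b hb => ⟨1, A.one_mem, b, hb, one_mul b⟩)
  exact h1 hx

theorem mul_zpow_self_aux (a : G) (i : ℤ) : (a * a) ^ i = a ^ i * a ^ i := by
  rw [← pow_two, ← zpow_natCast, ← zpow_mul, mul_comm, zpow_mul, zpow_natCast, pow_two]

theorem four_sq {a b : G} (ha2 : a * a = 1) (hb2 : b * b = 1) (hab : a * b = b * a) {x : G}
    (hx : x ∈ zpowers a ⊔ zpowers b) : x * x = 1 := by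
  have hc : Commute a b := hab
  obtain ⟨y, hy, z, hz, rfl⟩ := exists_mul_of_mem_sup (A := zpowers a) (B := zpowers b) (by
    rintro _ ⟨i, rfl⟩ _ ⟨j, rfl⟩
    refine ⟨j, ?_⟩
    show a ^ j = b ^ i * a ^ j * (b ^ i)⁻¹
    rw [(hc.zpow_zpow j i).symm.eq, mul_inv_cancel_right]) hx
  obtain ⟨i, rfl⟩ := hy
  obtain ⟨j, rfl⟩ := hz
  show a ^ i * b ^ j * (a ^ i * b ^ j) = 1
  have h1 : a ^ i * a ^ i = 1 := by rw [← mul_zpow_self_aux a i, ha2, one_zpow]
  have h2 : b ^ j * b ^ j = 1 := by rw [← mul_zpow_self_aux b j, hb2, one_zpow]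
  calc a ^ i * b ^ j * (a ^ i * b ^ j) = a ^ i * (b ^ j * a ^ i) * b ^ j := by group
    _ = a ^ i * (a ^ i * b ^ j) * b ^ j := by rw [(hc.zpow_zpow i j).eq]
    _ = (a ^ i * a ^ i) * (b ^ j * b ^ j) := by group
    _ = 1 := by rw [h1, h2, one_mul]

theorem four_isPGroup {a b : G} (ha2 : a * a = 1) (hb2 : b * b = 1) (hab : a * b = b * a) :
    IsPGroup 2 (zpowers a ⊔ zpowers b : Subgroup G) := by
  intro x
  refine ⟨1, Subtype.ext ?_⟩
  show (x : G) ^ (2 ^ 1) = 1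
  rw [pow_one, pow_two]
  exact four_sq ha2 hb2 hab x.2

theorem two_isPGroup {a : G} (ha2 : a * a = 1) : IsPGroup 2 (zpowers a) := by
  have h := four_isPGroup ha2 ha2 rfl
  rwa [sup_idem] at h

/-- Every 2-subgroup containing `P` has a conjugate of the four-group `a, b` when `P` is a Sylow subgroup. -/
theorem exists_conj_four [Finite G] (P : Sylow 2 G) {a b : G} (ha2 : a * a = 1) (hb2 : b * b = 1)
    (hab : a * b = b * a) : ∃ g : G, g * a * g⁻¹ ∈ P ∧ g * b * g⁻¹ ∈ P := by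
  have h2 : Fact (Nat.Prime 2) := ⟨Nat.prime_two⟩
  obtain ⟨Q, hQ⟩ := (four_isPGroup ha2 hb2 hab).exists_le_sylow
  obtain ⟨g, hg⟩ := MulAction.exists_smul_eq G Q P
  refine ⟨g, ?_, ?_⟩
  · rw [← hg]
    exact ⟨a, hQ (mem_sup_left (mem_zpowers a)), rfl⟩
  · rw [← hg]
    exact ⟨b, hQ (mem_sup_right (mem_zpowers b)), rfl⟩

/-- A group containing a four-group: every element `k` with `k * k = 1` commutes with a four-group. -/
theorem exists_four_commute [Finite G] {K : Subgroup G} {a b k : G} (ha : a ∈ K) (hb : b ∈ K) (ha2 : a * a = 1)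
    (hb2 : b * b = 1) (hab : a * b = b * a) (ha1 : a ≠ 1) (hb1 : b ≠ 1) (hne : a ≠ b) (hk : k ∈ K)
    (hk2 : k * k = 1) : ∃ x ∈ K, ∃ y ∈ K, x * x = 1 ∧ y * y = 1 ∧ x * y = y * x ∧ x ≠ 1 ∧ y ≠ 1 ∧ x ≠ y ∧
      k * x = x * k ∧ k * y = y * k := by
  classical
  have h2 : Fact (Nat.Prime 2) := ⟨Nat.prime_two⟩
  by_cases hk1 : k = 1
  · exact ⟨a, ha, b, hb, ha2, hb2, hab, ha1, hb1, hne, by rw [hk1]; simp, by rw [hk1]; simp⟩
  -- a Sylow subgroup of `K` containing `k` and a conjugate of `a, b`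
  have hkk : (⟨k, hk⟩ : K) * ⟨k, hk⟩ = 1 := Subtype.ext hk2
  obtain ⟨P, hP⟩ := (two_isPGroup hkk).exists_le_sylow
  have hkmem : (⟨k, hk⟩ : K) ∈ (P : Subgroup K) := hP (mem_zpowers _)
  obtain ⟨g, hga, hgb⟩ := exists_conj_four P (a := ⟨a, ha⟩) (b := ⟨b, hb⟩) (Subtype.ext ha2) (Subtype.ext hb2)
    (Subtype.ext hab)
  -- a central involution of `P`
  have hPnt : Nontrivial (P : Subgroup K) := by
    refine ⟨⟨⟨_, hkmem⟩, 1, ?_⟩⟩
    intro h
    exact hk1 (congrArg (fun z : (P : Subgroup K) => ((z : K) : G)) h)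
  have hcen : Nontrivial (center (P : Subgroup K)) := P.isPGroup'.center_nontrivial
  have hcp : IsPGroup 2 (center (P : Subgroup K)) := P.isPGroup'.to_subgroup _
  obtain ⟨z, hz⟩ : ∃ z : center (P : Subgroup K), orderOf z = 2 := by
    apply exists_prime_orderOf_dvd_card' 2
    obtain ⟨n, hn⟩ := IsPGroup.iff_card.mp hcp
    rw [hn]
    rcases Nat.eq_zero_or_pos n with h0 | h0
    · exfalso
      rw [h0, pow_zero] at hn
      exact absurd hn (by
        have := (Finite.one_lt_card (α := center (P : Subgroup K)))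
        omega)
    · exact dvd_pow_self 2 (by omega)
  let c : G := (((z : (P : Subgroup K)) : K) : G)
  have hcK : c ∈ K := ((z : (P : Subgroup K)) : K).2
  have hzz : z * z = 1 := by
    have h := pow_orderOf_eq_one z
    rwa [hz, pow_two] at h
  have hc2 : c * c = 1 := congrArg (fun t : center (P : Subgroup K) => (((t : (P : Subgroup K)) : K) : G)) hzz
  have hc1 : c ≠ 1 := by
    intro h
    have h3 : z = 1 := by
      apply Subtype.ext
      apply Subtype.ext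
      apply Subtype.ext
      exact h
    rw [h3, orderOf_one] at hz
    exact absurd hz (by norm_num)
  have hcc : ∀ x : K, x ∈ (P : Subgroup K) → c * (x : G) = (x : G) * c := by
    intro x hx
    have h3 := (mem_center_iff.mp z.2) ⟨x, hx⟩
    exact (congrArg (fun t : (P : Subgroup K) => ((t : K) : G)) h3).symm
  by_cases hck : c = k
  · refine ⟨_, (g * ⟨a, ha⟩ * g⁻¹ : K).2, _, (g * ⟨b, hb⟩ * g⁻¹ : K).2, ?_, ?_, ?_, ?_, ?_, ?_, ?_, ?_⟩
    · push_cast
      calc (g : G) * a * (g : G)⁻¹ * ((g : G) * a * (g : G)⁻¹) = (g : G) * (a * a) * (g : G)⁻¹ := by group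
        _ = 1 := by rw [ha2]; group
    · push_cast
      calc (g : G) * b * (g : G)⁻¹ * ((g : G) * b * (g : G)⁻¹) = (g : G) * (b * b) * (g : G)⁻¹ := by group
        _ = 1 := by rw [hb2]; group
    · push_cast
      calc (g : G) * a * (g : G)⁻¹ * ((g : G) * b * (g : G)⁻¹) = (g : G) * (a * b) * (g : G)⁻¹ := by group
        _ = (g : G) * (b * a) * (g : G)⁻¹ := by rw [hab]
        _ = _ := by group
    · push_cast
      intro h
      apply ha1
      calc a = (g : G)⁻¹ * ((g : G) * a * (g : G)⁻¹) * (g : G) := by group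
        _ = 1 := by rw [h]; group
    · push_cast
      intro h
      apply hb1
      calc b = (g : G)⁻¹ * ((g : G) * b * (g : G)⁻¹) * (g : G) := by group
        _ = 1 := by rw [h]; group
    · push_cast
      intro h
      apply hne
      calc a = (g : G)⁻¹ * ((g : G) * a * (g : G)⁻¹) * (g : G) := by group
        _ = b := by rw [h]; group
    · rw [← hck]; exact hcc _ hga
    · rw [← hck]; exact hcc _ hgb
  · exact ⟨c, hcK, k, hk, hc2, hk2, hcc _ hkmem, hc1, hk1, hck, (hcc _ hkmem).symm, rfl⟩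

/-- A 2-group without four-groups has at most one involution. -/
theorem eq_of_no_four [Finite G] {R : Subgroup G} (hR : IsPGroup 2 R)
    (hno : ∀ a ∈ R, ∀ b ∈ R, a * a = 1 → b * b = 1 → a * b = b * a → a ≠ 1 → b ≠ 1 → a = b) {a b : G}
    (ha : a ∈ R) (hb : b ∈ R) (ha2 : a * a = 1) (hb2 : b * b = 1) (ha1 : a ≠ 1) (hb1 : b ≠ 1) : a = b := by
  have h2 : Fact (Nat.Prime 2) := ⟨Nat.prime_two⟩
  have hRnt : Nontrivial R := ⟨⟨⟨a, ha⟩, 1, fun h => ha1 (congrArg Subtype.val h)⟩⟩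
  have hcen : Nontrivial (center R) := hR.center_nontrivial
  have hcp : IsPGroup 2 (center R) := hR.to_subgroup _
  obtain ⟨z, hz⟩ : ∃ z : center R, orderOf z = 2 := by
    apply exists_prime_orderOf_dvd_card' 2
    obtain ⟨n, hn⟩ := IsPGroup.iff_card.mp hcp
    rw [hn]
    rcases Nat.eq_zero_or_pos n with h0 | h0
    · exfalso
      rw [h0, pow_zero] at hn
      have := (Finite.one_lt_card (α := center R))
      omega
    · exact dvd_pow_self 2 (by omega)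
  have hzz : z * z = 1 := by
    have h := pow_orderOf_eq_one z
    rwa [hz, pow_two] at h
  have hc2 : ((z : R) : G) * ((z : R) : G) = 1 := congrArg (fun t : center R => ((t : R) : G)) hzz
  have hc1 : ((z : R) : G) ≠ 1 := by
    intro h
    have h3 : z = 1 := Subtype.ext (Subtype.ext h)
    rw [h3, orderOf_one] at hz
    exact absurd hz (by norm_num)
  have hcc : ∀ x ∈ R, x * ((z : R) : G) = ((z : R) : G) * x := by
    intro x hx
    have h3 := (mem_center_iff.mp z.2) ⟨x, hx⟩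
    exact congrArg (fun t : R => (t : G)) h3
  rw [hno a ha _ (z : R).2 ha2 hc2 (hcc a ha) ha1 hc1, ← hno b hb _ (z : R).2 hb2 hc2 (hcc b hb) hb1 hc1]

/-- Glauberman's Z*-theorem for an involution `u` of the subgroup `X`. -/
theorem zstar_sub [Finite G] {X : Subgroup G} {u : G} (huX : u ∈ X) (hu2 : u * u = 1) (hu1 : u ≠ 1) :
    (∃ h ∈ X, h * u * h⁻¹ ≠ u ∧ u * (h * u * h⁻¹) = h * u * h⁻¹ * u) ∨
      ∃ N : Subgroup G, N ≤ X ∧ Odd (Nat.card N) ∧ (∀ x ∈ X, ∀ n ∈ N, x * n * x⁻¹ ∈ N) ∧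
        ∀ x ∈ X, u * x * u⁻¹ * x⁻¹ ∈ N := by
  by_cases hiso : Cfsg.IsIsolatedInvolution (⟨u, huX⟩ : X)
  · right
    have hI : Cfsg.Agent.Involutions.ZStar.Iso (⟨u, huX⟩ : X) := by
      refine ⟨Subtype.ext hu2, fun g => ?_⟩
      have h1 := Cfsg.Agent.TwoFusion.Isolated.odd_orderOf_conj_mul hiso g
      have h2 : (⟨u, huX⟩ : X) * (g * ⟨u, huX⟩ * g⁻¹) =
          (⟨u, huX⟩ : X) * (g * ⟨u, huX⟩ * g⁻¹ * ⟨u, huX⟩) * (⟨u, huX⟩ : X)⁻¹ := by group
      rw [h2]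
      have h3 := (MulAut.conj (⟨u, huX⟩ : X)).orderOf_eq (g * ⟨u, huX⟩ * g⁻¹ * ⟨u, huX⟩)
      rw [MulAut.conj_apply] at h3
      rw [h3]
      exact h1
    have h1 := Cfsg.Agent.S0215.iso_commutator _ hI
    refine ⟨(pPrimeCore 2 X).map X.subtype, Subgroup.map_subtype_le _, ?_, ?_, ?_⟩
    · have h3 : Nat.card ((pPrimeCore 2 X).map X.subtype) = Nat.card (pPrimeCore 2 X) :=
        Subgroup.card_map_of_injective X.subtype_injective
      rw [h3]
      exact Nat.coprime_two_right.mp (Cfsg.Agent.Lib.Cores.pPrimeCore_coprime (G := X) 2)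
    · rintro x hx _ ⟨n, hn, rfl⟩
      exact ⟨⟨x, hx⟩ * n * ⟨x, hx⟩⁻¹, (inferInstance : (pPrimeCore 2 X).Normal).conj_mem n hn ⟨x, hx⟩, rfl⟩
    · intro x hx
      exact ⟨_, h1 ⟨x, hx⟩, rfl⟩
  · left
    unfold Cfsg.IsIsolatedInvolution at hiso
    rw [not_and] at hiso
    have h1 : orderOf (⟨u, huX⟩ : X) = 2 := by
      apply orderOf_eq_prime
      · apply Subtype.ext
        show u ^ 2 = 1
        rw [pow_two, hu2]
      · intro h
        exact hu1 (congrArg Subtype.val h)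
    have h2 := hiso h1
    push Not at h2
    obtain ⟨g, hg1, hg2⟩ := h2
    refine ⟨g, g.2, fun h => hg2 (Subtype.ext h), ?_⟩
    exact congrArg Subtype.val hg1.eq

end lemmas

/-- The setting of THEOREM SL. -/
structure Data {G : Type u} [Group G] (M L K W : Subgroup G) : Prop where
  LM : L ≤ M
  KM : K ≤ M
  WL : W ≤ L
  WK : W ≤ K
  oddW : Odd (Nat.card W)
  evenL : ¬ Odd (Nat.card L)
  nW : ∀ m ∈ M, ∀ w ∈ W, m * w * m⁻¹ ∈ W
  nL : ∀ m ∈ M, ∀ x ∈ L, m * x * m⁻¹ ∈ L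
  nK : ∀ m ∈ M, ∀ x ∈ K, m * x * m⁻¹ ∈ K
  comm : ∀ x ∈ L, ∀ k ∈ K, x * k * x⁻¹ * k⁻¹ ∈ W
  full : ∀ m ∈ M, (∀ x ∈ L, m * x * m⁻¹ * x⁻¹ ∈ W) → m ∈ K
  simple : ∀ N : Subgroup G, W ≤ N → N ≤ L → (∀ x ∈ L, ∀ n ∈ N, x * n * x⁻¹ ∈ N) → N = W ∨ N = L
  nab : ¬ ∀ a ∈ L, ∀ b ∈ L, a * b * a⁻¹ * b⁻¹ ∈ W
  t1 : ∀ y ∈ K, y * y = 1 → y ≠ 1 → ∀ c : G, c * y = y * c → c ∈ M
  t2 : ∀ g : G, g ∉ M → ∀ y ∈ K, y * y = 1 → y ≠ 1 → g * y * g⁻¹ ∉ K
  t3 : ∀ g : G, g ∉ M → ∃ x ∈ L, ∀ k ∈ K, g * k * g⁻¹ ∈ M → (g * k * g⁻¹)⁻¹ * x ∉ W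
  t4 : ∃ a ∈ K, ∃ b ∈ K, a * a = 1 ∧ b * b = 1 ∧ a * b = b * a ∧ a ≠ 1 ∧ b ≠ 1 ∧ a ≠ b
  gam : ∀ a ∈ M, ∀ b ∈ M, a * a = 1 → b * b = 1 → a * b = b * a → a ∉ K → b ∉ K → a * b ∉ K →
    L ≤ W ⊔ ((L ⊓ centralizer ({a} : Set G)) ⊔ (L ⊓ centralizer ({b} : Set G)) ⊔
      (L ⊓ centralizer ({a * b} : Set G)))

namespace Data

variable {G : Type u} [Group G] {M L K W : Subgroup G}

theorem WM (D : Data M L K W) : W ≤ M := D.WL.trans D.LM

/-- `L ∩ K = W`. -/
theorem inf_LK (D : Data M L K W) {x : G} (h1 : x ∈ L) (h2 : x ∈ K) : x ∈ W := by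
  rcases D.simple (L ⊓ K) (le_inf D.WL D.WK) inf_le_left (fun x hx n hn =>
    ⟨D.nL x (D.LM hx) n hn.1, D.nK x (D.LM hx) n hn.2⟩) with h | h
  · rw [← h]; exact ⟨h1, h2⟩
  · exfalso
    apply D.nab
    intro a ha b hb
    have h3 : b ∈ L ⊓ K := by rw [h]; exact hb
    exact D.comm a ha b h3.2

/-- An element of `W` of order dividing two is trivial. -/
theorem eq_one_of_mem_W [Finite G] (D : Data M L K W) {x : G} (h1 : x ∈ W) (h2 : x * x = 1) : x = 1 := by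
  have h3 : orderOf x ∣ Nat.card W := Subgroup.orderOf_dvd_natCard W h1
  have h4 : Odd (orderOf x) := D.oddW.of_dvd_nat h3
  have h5 : orderOf x ∣ 2 := orderOf_dvd_of_pow_eq_one (by rw [pow_two, h2])
  rcases (Nat.dvd_prime Nat.prime_two).mp h5 with h6 | h6
  · exact orderOf_eq_one_iff.mp h6
  · rw [h6] at h4
    exact absurd h4 (by decide)

/-- Elements of `L ⊔ K`. -/
theorem mem_LK (D : Data M L K W) {x : G} (h : x ∈ L ⊔ K) : ∃ l ∈ L, ∃ k ∈ K, l * k = x :=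
  exists_mul_of_mem_sup (fun b hb a ha => D.nL b (D.KM hb) a ha) h

/-- (1): for `g ∉ M`, `K ∩ K^..M` contains no four-group. -/
theorem one [Finite G] (D : Data M L K W) {g : G} (hg : g ∉ M) {a b : G} (ha : a ∈ K) (hb : b ∈ K)
    (haM : g⁻¹ * a * g ∈ M) (hbM : g⁻¹ * b * g ∈ M) (ha2 : a * a = 1) (hb2 : b * b = 1)
    (hab : a * b = b * a) (ha1 : a ≠ 1) (hb1 : b ≠ 1) (hne : a ≠ b) : False := by
  have hgi : g⁻¹ ∉ M := fun h => hg (by simpa using M.inv_mem h)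
  -- `t2` for the elements `a, b, a b`
  have key : ∀ y ∈ K, y * y = 1 → y ≠ 1 → g⁻¹ * y * g ∉ K := by
    intro y hy hy2 hy1 h
    have h3 := D.t2 g⁻¹ hgi y hy hy2 hy1
    rw [inv_inv] at h3
    exact h3 h
  have hab2 : a * b * (a * b) = 1 := by
    calc a * b * (a * b) = a * (b * a) * b := by group
      _ = a * (a * b) * b := by rw [hab]
      _ = (a * a) * (b * b) := by group
      _ = 1 := by rw [ha2, hb2, one_mul]
  have hai : a⁻¹ = a := inv_eq_of_mul_eq_one_left ha2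
  have hab1 : a * b ≠ 1 := by
    intro h
    apply hne
    have h3 : b = a⁻¹ := (inv_eq_of_mul_eq_one_right h).symm
    rw [h3, hai]
  have hG := D.gam (g⁻¹ * a * g) haM (g⁻¹ * b * g) hbM
    (by calc g⁻¹ * a * g * (g⁻¹ * a * g) = g⁻¹ * (a * a) * g := by group
          _ = 1 := by rw [ha2]; group)
    (by calc g⁻¹ * b * g * (g⁻¹ * b * g) = g⁻¹ * (b * b) * g := by group
          _ = 1 := by rw [hb2]; group)
    (by calc g⁻¹ * a * g * (g⁻¹ * b * g) = g⁻¹ * (a * b) * g := by group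
          _ = g⁻¹ * (b * a) * g := by rw [hab]
          _ = _ := by group)
    (key a ha ha2 ha1) (key b hb hb2 hb1)
    (by
      have h3 := key (a * b) (K.mul_mem ha hb) hab2 hab1
      have h4 : g⁻¹ * (a * b) * g = g⁻¹ * a * g * (g⁻¹ * b * g) := by group
      rwa [h4] at h3)
  -- the subgroups `H` and `J`
  let H : Subgroup G := L ⊓ M.comap (MulAut.conj g).toMonoidHom
  have hH : ∀ x, x ∈ H ↔ x ∈ L ∧ g * x * g⁻¹ ∈ M := fun x => Iff.rfl
  let J : Subgroup G := L ⊓ K.comap (MulAut.conj g).toMonoidHom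
  have hJ : ∀ x, x ∈ J ↔ x ∈ L ∧ g * x * g⁻¹ ∈ K := fun x => Iff.rfl
  have cen : ∀ y ∈ K, y * y = 1 → y ≠ 1 → L ⊓ centralizer ({g⁻¹ * y * g} : Set G) ≤ H := by
    intro y hy hy2 hy1 x hx
    refine (hH x).mpr ⟨hx.1, D.t1 y hy hy2 hy1 _ ?_⟩
    have h3 : g⁻¹ * y * g * x = x * (g⁻¹ * y * g) := mem_centralizer_singleton_iff.mp hx.2 |>.symm ▸ rfl
    calc g * x * g⁻¹ * y = g * (x * (g⁻¹ * y * g)) * g⁻¹ := by group
      _ = g * (g⁻¹ * y * g * x) * g⁻¹ := by rw [h3]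
      _ = y * (g * x * g⁻¹) := by group
  have hWH : L ≤ W ⊔ H := by
    refine hG.trans (sup_le le_sup_left (le_trans ?_ le_sup_right))
    refine sup_le (sup_le (cen a ha ha2 ha1) (cen b hb hb2 hb1)) ?_
    have h3 := cen (a * b) (K.mul_mem ha hb) hab2 hab1
    have h4 : g⁻¹ * (a * b) * g = g⁻¹ * a * g * (g⁻¹ * b * g) := by group
    rwa [h4] at h3
  -- `N = W J` is normalised by `L`
  have hWJ : ∀ b ∈ J, ∀ a ∈ W, b * a * b⁻¹ ∈ W := fun b hb a ha => D.nW b (D.LM hb.1) a ha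
  have hNL : ∀ x ∈ L, ∀ n ∈ W ⊔ J, x * n * x⁻¹ ∈ W ⊔ J := by
    intro x hx n hn
    obtain ⟨w, hw, h, hh, rfl⟩ := exists_mul_of_mem_sup (A := W) (B := H)
      (fun b hb a ha => D.nW b (D.LM hb.1) a ha) (hWH hx)
    obtain ⟨w', hw', j, hj, rfl⟩ := exists_mul_of_mem_sup hWJ hn
    have hh' := (hH h).mp hh
    have hj' := (hJ j).mp hj
    have h3 : h * j * h⁻¹ ∈ J := by
      refine (hJ _).mpr ⟨L.mul_mem (L.mul_mem hh'.1 hj'.1) (L.inv_mem hh'.1), ?_⟩
      have h4 := D.nK _ hh'.2 _ hj'.2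
      have h5 : g * h * g⁻¹ * (g * j * g⁻¹) * (g * h * g⁻¹)⁻¹ = g * (h * j * h⁻¹) * g⁻¹ := by group
      rwa [h5] at h4
    have h6 : h * w' * h⁻¹ ∈ W := D.nW h (D.LM hh'.1) w' hw'
    have h7 : w * h * (w' * j) * (w * h)⁻¹ = w * ((h * w' * h⁻¹) * (h * j * h⁻¹)) * w⁻¹ := by group
    rw [h7]
    have hwN : w ∈ W ⊔ J := mem_sup_left hw
    exact mul_mem (mul_mem hwN (mul_mem (mem_sup_left h6) (mem_sup_right h3))) (inv_mem hwN)
  rcases D.simple (W ⊔ J) le_sup_left (sup_le D.WL inf_le_left) hNL with h | h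
  · -- `J ≤ W`: then `g⁻¹ a g` centralises `L / W`
    have hJW : J ≤ W := by rw [← h]; exact le_sup_right
    apply key a ha ha2 ha1
    apply D.full _ haM
    intro x hx
    obtain ⟨w, hw, y, hy, rfl⟩ := exists_mul_of_mem_sup (A := W) (B := H)
      (fun b hb a ha => D.nW b (D.LM hb.1) a ha) (hWH hx)
    have hy' := (hH y).mp hy
    set c := g⁻¹ * a * g with hc
    have h3 : c * y * c⁻¹ * y⁻¹ ∈ W := by
      apply hJW
      refine (hJ _).mpr ⟨L.mul_mem (D.nL c haM y hy'.1) (L.inv_mem hy'.1), ?_⟩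
      have h4 := K.mul_mem ha (D.nK _ hy'.2 _ (K.inv_mem ha))
      have h5 : a * (g * y * g⁻¹ * a⁻¹ * (g * y * g⁻¹)⁻¹) = g * (c * y * c⁻¹ * y⁻¹) * g⁻¹ := by
        rw [hc]; group
      rwa [h5] at h4
    have h4 : c * w * c⁻¹ ∈ W := D.nW c haM w hw
    have h5 : c * (w * y) * c⁻¹ * (w * y)⁻¹ = (c * w * c⁻¹) * (c * y * c⁻¹ * y⁻¹) * w⁻¹ := by group
    rw [h5]
    exact W.mul_mem (W.mul_mem h4 h3) (W.inv_mem hw)
  · -- `L = W J`: against `t3`
    obtain ⟨x, hx, hx3⟩ := D.t3 g⁻¹ hgi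
    rw [← h] at hx
    obtain ⟨w, hw, j, hj, rfl⟩ := exists_mul_of_mem_sup hWJ hx
    have hj' := (hJ j).mp hj
    apply hx3 _ hj'.2
    · rw [inv_inv]
      have h3 : g⁻¹ * (g * j * g⁻¹) * g = j := by group
      rw [h3]
      exact D.LM hj'.1
    · rw [inv_inv]
      have h3 : (g⁻¹ * (g * j * g⁻¹) * g)⁻¹ * (w * j) = j⁻¹ * w * j⁻¹⁻¹ := by group
      rw [h3]
      exact D.nW _ (M.inv_mem (D.LM hj'.1)) _ hw

/-- The elements of `M` which centralise `y` modulo `W`. -/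
def cenW (D : Data M L K W) (y : G) : Subgroup G where
  carrier := {t | t ∈ M ∧ t * y * t⁻¹ * y⁻¹ ∈ W}
  one_mem' := ⟨M.one_mem, by simp [W.one_mem]⟩
  mul_mem' := by
    rintro s t ⟨hs, hs'⟩ ⟨ht, ht'⟩
    refine ⟨M.mul_mem hs ht, ?_⟩
    have h1 : s * t * y * (s * t)⁻¹ * y⁻¹ = (s * (t * y * t⁻¹ * y⁻¹) * s⁻¹) * (s * y * s⁻¹ * y⁻¹) := by group
    rw [h1]
    exact W.mul_mem (D.nW s hs _ ht') hs'
  inv_mem' := by
    rintro t ⟨ht, ht'⟩
    refine ⟨M.inv_mem ht, ?_⟩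
    have h1 : t⁻¹ * y * t⁻¹⁻¹ * y⁻¹ = t⁻¹ * (t * y * t⁻¹ * y⁻¹)⁻¹ * t⁻¹⁻¹ := by group
    rw [h1]
    exact D.nW _ (M.inv_mem ht) _ (W.inv_mem ht')

theorem mem_cenW (D : Data M L K W) {y t : G} : t ∈ D.cenW y ↔ t ∈ M ∧ t * y * t⁻¹ * y⁻¹ ∈ W := Iff.rfl

theorem mem_cenW_of_commute (D : Data M L K W) {y t : G} (ht : t ∈ M) (h : t * y = y * t) : t ∈ D.cenW y := by
  refine D.mem_cenW.mpr ⟨ht, ?_⟩
  have h1 : t * y * t⁻¹ * y⁻¹ = 1 := by rw [h]; group
  rw [h1]; exact W.one_mem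

theorem W_le_cenW (D : Data M L K W) {y : G} (hy : y ∈ M) : W ≤ D.cenW y := by
  intro w hw
  refine D.mem_cenW.mpr ⟨D.WM hw, ?_⟩
  have h1 : w * y * w⁻¹ * y⁻¹ = w * (y * w⁻¹ * y⁻¹) := by group
  rw [h1]
  exact W.mul_mem hw (D.nW y hy _ (W.inv_mem hw))

theorem L_le_cenW (D : Data M L K W) {y : G} (hy : y ∈ K) : L ≤ D.cenW y := fun x hx =>
  D.mem_cenW.mpr ⟨D.LM hx, D.comm x hx y hy⟩

/-- Fixed involutions in cosets of `W`. -/
theorem exists_commuting [Finite G] (D : Data M L K W) {T : Subgroup G} (hT : IsPGroup 2 T) {x : G} (hx : x ∈ K)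
    (hx2 : x * x = 1) (hx1 : x ≠ 1) (hTx : T ≤ D.cenW x) :
    ∃ y ∈ K, y * y = 1 ∧ y ≠ 1 ∧ x * y ∈ W ∧ ∀ t ∈ T, t * y = y * t := by
  have hxi : x⁻¹ = x := inv_eq_of_mul_eq_one_left hx2
  obtain ⟨y, hy1, hy2, hy3⟩ := exists_fixed_involution D.oddW hT hx2 (fun w hw => D.nW x (D.KM hx) w hw)
    (fun t ht w hw => D.nW t (hTx ht).1 w hw) (fun t ht => by
      have h1 := (hTx ht).2
      have h2 : x * (t * x * t⁻¹) = x * (t * x * t⁻¹ * x⁻¹) * x⁻¹ * (x * x) := by group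
      rw [h2, hx2, mul_one]
      exact D.nW x (D.KM hx) _ h1)
  have hyK : y ∈ K := by
    have h1 : y = x⁻¹ * (x * y) := by group
    rw [h1]
    exact K.mul_mem (K.inv_mem hx) (D.WK hy1)
  refine ⟨y, hyK, hy2, ?_, hy1, hy3⟩
  intro h
  rw [h, mul_one] at hy1
  exact hx1 (D.eq_one_of_mem_W hy1 hx2)

/-- (2): for `g ∉ M`, no involution of `K^g` lies in `L K`. -/
theorem two [Finite G] (D : Data M L K W) {g : G} (hg : g ∉ M) {u : G} (hu : u ∈ K) (hu2 : u * u = 1)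
    (hu1 : u ≠ 1) (hLK : g * u * g⁻¹ ∈ L ⊔ K) : False := by
  set v := g * u * g⁻¹ with hv
  have hv2 : v * v = 1 := by
    rw [hv]
    calc g * u * g⁻¹ * (g * u * g⁻¹) = g * (u * u) * g⁻¹ := by group
      _ = 1 := by rw [hu2]; group
  have hv1 : v ≠ 1 := by
    intro h
    apply hu1
    calc u = g⁻¹ * v * g := by rw [hv]; group
      _ = 1 := by rw [h]; group
  obtain ⟨l, hl, k, hk, hlk⟩ := D.mem_LK hLK
  have hkM := D.KM hk
  have hlM := D.LM hl
  have hvM : v ∈ M := by rw [← hlk]; exact M.mul_mem hlM hkM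
  -- `k * k ∈ W`
  have hkk : k * k ∈ W := by
    apply D.inf_LK ?_ (K.mul_mem hk hk)
    have h1 : k * l * k⁻¹ ∈ L := D.nL k hkM l hl
    have h2 : k * k = (l * (k * l * k⁻¹))⁻¹ * (v * v) := by rw [← hlk]; group
    rw [h2, hv2, mul_one]
    exact L.inv_mem (L.mul_mem hl h1)
  -- replace `k` by an element `k₀` of order at most two
  obtain ⟨m, hm⟩ := D.oddW
  have hkn : (k * k) ^ (2 * m + 1) = 1 := by
    rw [← hm]
    exact orderOf_dvd_iff_pow_eq_one.mp (Subgroup.orderOf_dvd_natCard W hkk)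
  let k₀ : G := k ^ (2 * m + 1)
  have hk₀ : k₀ ∈ K := K.pow_mem hk _
  have hk₀2 : k₀ * k₀ = 1 := by
    show k ^ (2 * m + 1) * k ^ (2 * m + 1) = 1
    rw [← pow_add, ← two_mul, mul_comm 2, mul_comm, pow_mul, pow_two, hkn]
  have hk₀W : k₀ * k⁻¹ ∈ W := by
    have h1 : k₀ * k⁻¹ = (k * k) ^ m := by
      show k ^ (2 * m + 1) * k⁻¹ = (k * k) ^ m
      rw [pow_succ, mul_inv_cancel_right, pow_mul, pow_two]
    rw [h1]
    exact W.pow_mem hkk m
  obtain ⟨a, ha, b, hb, ha2, hb2, hab, ha1, hb1, hne⟩ := D.t4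
  obtain ⟨x, hx, y, hy, hx2, hy2, hxy, hx1, hy1, hxne, hkx, hky⟩ :=
    exists_four_commute ha hb ha2 hb2 hab ha1 hb1 hne hk₀ hk₀2
  -- `v` centralises `x` and `y` modulo `W`
  have hcen : ∀ z ∈ K, k₀ * z = z * k₀ → v ∈ D.cenW z := by
    intro z hz hkz
    rw [← hlk]
    refine mul_mem (D.L_le_cenW hz hl) ?_
    have h1 : k = (k₀ * k⁻¹)⁻¹ * k₀ := by group
    rw [h1]
    exact mul_mem (inv_mem (D.W_le_cenW (D.KM hz) hk₀W)) (D.mem_cenW_of_commute (D.KM hk₀) hkz)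
  have hvp : IsPGroup 2 (zpowers v) := two_isPGroup hv2
  obtain ⟨x', hx', hx'2, hx'1, hxx', hvx'⟩ := D.exists_commuting hvp hx hx2 hx1
    (by rw [zpowers_le]; exact hcen x hx hkx)
  have hvx := hvx' v (mem_zpowers v)
  have hp : IsPGroup 2 (zpowers v ⊔ zpowers x' : Subgroup G) := four_isPGroup hv2 hx'2 hvx
  obtain ⟨y', hy', hy'2, hy'1, hyy', hvy'⟩ := D.exists_commuting hp hy hy2 hy1 (by
    refine sup_le ?_ ?_
    · rw [zpowers_le]; exact hcen y hy hky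
    · rw [zpowers_le]
      have h1 : x' = x⁻¹ * (x * x') := by group
      rw [h1]
      exact mul_mem (inv_mem (D.mem_cenW_of_commute (D.KM hx) hxy)) (D.W_le_cenW (D.KM hy) hxx'))
  have hvy := hvy' v (mem_sup_left (mem_zpowers v))
  have hxy' := hvy' x' (mem_sup_right (mem_zpowers x'))
  have hne' : x' ≠ y' := by
    intro h
    rw [← h] at hyy'
    apply hxne
    have hxi : x⁻¹ = x := inv_eq_of_mul_eq_one_left hx2
    have h1 : x * y ∈ W := by
      have h2 : x * y = (x * x') * (y * x')⁻¹ * (y * y) := by group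
      rw [h2, hy2, mul_one]
      exact W.mul_mem hxx' (W.inv_mem hyy')
    have h3 : x * y * (x * y) = 1 := by
      calc x * y * (x * y) = x * (y * x) * y := by group
        _ = x * (x * y) * y := by rw [hxy]
        _ = (x * x) * (y * y) := by group
        _ = 1 := by rw [hx2, hy2, one_mul]
    have h4 := D.eq_one_of_mem_W h1 h3
    have h5 : y = x⁻¹ := (inv_eq_of_mul_eq_one_right h4).symm
    rw [h5, hxi]
  have hM : ∀ z : G, v * z = z * v → g⁻¹ * z * g ∈ M := by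
    intro z hz
    apply D.t1 u hu hu2 hu1
    calc g⁻¹ * z * g * u = g⁻¹ * (z * v) * g := by rw [hv]; group
      _ = g⁻¹ * (v * z) * g := by rw [hz]
      _ = u * (g⁻¹ * z * g) := by rw [hv]; group
  exact D.one hg hx' hy' (hM x' hvx) (hM y' hvy) hx'2 hy'2 hxy' hx'1 hy'1 hne'

/-- (3): an involution `u` of `K^g ∩ M`, `g ∉ M`, and an involution `s` of `K` commuting with `u`:
`q u q⁻¹ = u s` for some `q ∈ K`. -/
theorem three [Finite G] (D : Data M L K W) {g : G} (hg : g ∉ M) {u : G} (hu : g⁻¹ * u * g ∈ K) (huM : u ∈ M)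
    (hu2 : u * u = 1) (hu1 : u ≠ 1) {s : G} (hs : s ∈ K) (hs2 : s * s = 1) (hs1 : s ≠ 1) (hsu : s * u = u * s) :
    ∃ q ∈ K, q * u * q⁻¹ = u * s := by
  classical
  have h2 : Fact (Nat.Prime 2) := ⟨Nat.prime_two⟩
  have hui : u⁻¹ = u := inv_eq_of_mul_eq_one_left hu2
  -- the group `X = K ⟨u⟩`
  let X : Subgroup G := K ⊔ zpowers u
  have huX : u ∈ X := mem_sup_right (mem_zpowers u)
  have hKX : K ≤ X := le_sup_left
  have hnorm : ∀ b ∈ zpowers u, ∀ a ∈ K, b * a * b⁻¹ ∈ K := fun b hb a ha =>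
    D.nK b ((zpowers_le.mpr huM) hb) a ha
  have hX : ∀ x ∈ X, ∃ q ∈ K, x = q ∨ x = q * u := by
    intro x hx
    obtain ⟨q, hq, _, ⟨i, rfl⟩, rfl⟩ := exists_mul_of_mem_sup hnorm hx
    refine ⟨q, hq, ?_⟩
    rcases Int.even_or_odd' i with ⟨j, hj | hj⟩
    · left
      show q * u ^ i = q
      rw [hj, zpow_mul, zpow_two, hu2, one_zpow, mul_one]
    · right
      show q * u ^ i = q * u
      rw [hj, zpow_add, zpow_mul, zpow_two, hu2, one_zpow, one_mul, zpow_one]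
  obtain ⟨a, ha, b, hb, ha2, hb2, hab, ha1, hb1, hne⟩ := D.t4
  have huX2 : (⟨u, huX⟩ : X) * ⟨u, huX⟩ = 1 := Subtype.ext hu2
  have hsX2 : (⟨s, hKX hs⟩ : X) * ⟨s, hKX hs⟩ = 1 := Subtype.ext hs2
  have hsuX : (⟨s, hKX hs⟩ : X) * ⟨u, huX⟩ = ⟨u, huX⟩ * ⟨s, hKX hs⟩ := Subtype.ext hsu
  obtain ⟨P, hP⟩ := (four_isPGroup hsX2 huX2 hsuX).exists_le_sylow
  have huP : (⟨u, huX⟩ : X) ∈ (P : Subgroup X) := hP (mem_sup_right (mem_zpowers _))
  have hsP : (⟨s, hKX hs⟩ : X) ∈ (P : Subgroup X) := hP (mem_sup_left (mem_zpowers _))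
  obtain ⟨t, hta, htb⟩ := exists_conj_four P (a := ⟨a, hKX ha⟩) (b := ⟨b, hKX hb⟩) (Subtype.ext ha2)
    (Subtype.ext hb2) (Subtype.ext hab)
  -- `P` does not centralise `u`
  have htM : (t : G) ∈ M := (sup_le D.KM (zpowers_le.mpr huM)) t.2
  set a' : G := (t : G) * a * (t : G)⁻¹ with ha'
  set b' : G := (t : G) * b * (t : G)⁻¹ with hb'
  have hM : ∀ z : G, z * u = u * z → g⁻¹ * z * g ∈ M := by
    intro z hz
    apply D.t1 _ hu
    · calc g⁻¹ * u * g * (g⁻¹ * u * g) = g⁻¹ * (u * u) * g := by group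
        _ = 1 := by rw [hu2]; group
    · intro h
      apply hu1
      calc u = g * (g⁻¹ * u * g) * g⁻¹ := by group
        _ = 1 := by rw [h]; group
    · calc g⁻¹ * z * g * (g⁻¹ * u * g) = g⁻¹ * (z * u) * g := by group
        _ = g⁻¹ * (u * z) * g := by rw [hz]
        _ = _ := by group
  have hfour : ¬ ∀ p : X, p ∈ (P : Subgroup X) → (p : G) * u = u * p := by
    intro hall
    have h3 : a' * u = u * a' := hall _ hta
    have h4 : b' * u = u * b' := hall _ htb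
    refine D.one hg (a := a') (b := b') (D.nK _ htM _ ha) (D.nK _ htM _ hb) (hM a' h3) (hM b' h4) ?_ ?_ ?_ ?_ ?_ ?_
    · calc a' * a' = (t : G) * (a * a) * (t : G)⁻¹ := by rw [ha']; group
        _ = 1 := by rw [ha2]; group
    · calc b' * b' = (t : G) * (b * b) * (t : G)⁻¹ := by rw [hb']; group
        _ = 1 := by rw [hb2]; group
    · calc a' * b' = (t : G) * (a * b) * (t : G)⁻¹ := by rw [ha', hb']; group
        _ = (t : G) * (b * a) * (t : G)⁻¹ := by rw [hab]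
        _ = _ := by rw [ha', hb']; group
    · intro h
      apply ha1
      calc a = (t : G)⁻¹ * a' * (t : G) := by rw [ha']; group
        _ = 1 := by rw [h]; group
    · intro h
      apply hb1
      calc b = (t : G)⁻¹ * b' * (t : G) := by rw [hb']; group
        _ = 1 := by rw [h]; group
    · intro h
      apply hne
      calc a = (t : G)⁻¹ * a' * (t : G) := by rw [ha']; group
        _ = b := by rw [h, hb']; group
  -- normaliser growth for the centraliser of `u` in `P`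
  have hPn : Group.IsNilpotent (P : Subgroup X) := P.isPGroup'.isNilpotent
  let u' : (P : Subgroup X) := ⟨⟨u, huX⟩, huP⟩
  have hlt : centralizer ({u'} : Set (P : Subgroup X)) ≠ ⊤ := by
    intro h
    apply hfour
    intro p hp
    have h3 : (⟨p, hp⟩ : (P : Subgroup X)) ∈ centralizer ({u'} : Set (P : Subgroup X)) := by rw [h]; trivial
    have h4 := mem_centralizer_singleton_iff.mp h3
    exact congrArg (fun z : (P : Subgroup X) => ((z : X) : G)) h4
  have hgrow := Group.normalizerCondition_of_isNilpotent (G := (P : Subgroup X)) _ (lt_top_iff_ne_top.mpr hlt)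
  obtain ⟨n, hn1, hn2⟩ := SetLike.exists_of_lt hgrow
  -- `n u n⁻¹` commutes with `u`, and is different from `u`
  have huc : u' ∈ centralizer ({u'} : Set (P : Subgroup X)) := mem_centralizer_singleton_iff.mpr rfl
  have hnc : n * u' * n⁻¹ ∈ centralizer ({u'} : Set (P : Subgroup X)) := (mem_normalizer_iff.mp hn1 u').mp huc
  have hc1 : ((n : X) : G) * u * ((n : X) : G)⁻¹ * u = u * (((n : X) : G) * u * ((n : X) : G)⁻¹) := by
    have h4 := mem_centralizer_singleton_iff.mp hnc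
    exact congrArg (fun z : (P : Subgroup X) => ((z : X) : G)) h4
  have hc2 : ((n : X) : G) * u * ((n : X) : G)⁻¹ ≠ u := by
    intro h
    apply hn2
    refine mem_centralizer_singleton_iff.mpr ?_
    apply Subtype.ext
    apply Subtype.ext
    show ((n : X) : G) * u = u * ((n : X) : G)
    calc ((n : X) : G) * u = (((n : X) : G) * u * ((n : X) : G)⁻¹) * ((n : X) : G) := by group
      _ = u * ((n : X) : G) := by rw [h]
  obtain ⟨q, hq, hqn⟩ := hX (n : X) (n : X).2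
  have hconj : ((n : X) : G) * u * ((n : X) : G)⁻¹ = q * u * q⁻¹ := by
    rcases hqn with h | h
    · rw [h]
    · rw [h]; group
  rw [hconj] at hc1 hc2
  have hyK : u * (q * u * q⁻¹) ∈ K := by
    have h3 : u * (q * u * q⁻¹) = (u * q * u⁻¹) * q⁻¹ * (q * (u * u) * q⁻¹) := by group
    rw [h3, hu2]
    have h4 := D.nK u huM q hq
    have h5 : q * 1 * q⁻¹ = 1 := by group
    rw [h5, mul_one]
    exact K.mul_mem h4 (K.inv_mem hq)
  have hy2 : u * (q * u * q⁻¹) * (u * (q * u * q⁻¹)) = 1 := by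
    calc u * (q * u * q⁻¹) * (u * (q * u * q⁻¹)) = u * (q * u * q⁻¹ * u) * (q * u * q⁻¹) := by group
      _ = u * (u * (q * u * q⁻¹)) * (q * u * q⁻¹) := by rw [hc1]
      _ = (u * u) * (q * (u * u) * q⁻¹) := by group
      _ = 1 := by rw [hu2]; group
  have hy1 : u * (q * u * q⁻¹) ≠ 1 := by
    intro h
    apply hc2
    have h3 : q * u * q⁻¹ = u⁻¹ := (inv_eq_of_mul_eq_one_right h).symm
    rw [h3, hui]
  have hyu : u * (q * u * q⁻¹) * u = u * (u * (q * u * q⁻¹)) := by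
    calc u * (q * u * q⁻¹) * u = u * (q * u * q⁻¹ * u) := by group
      _ = u * (u * (q * u * q⁻¹)) := by rw [hc1]
  -- the group `C_Q(u)` has only one involution
  have hRp : IsPGroup 2 ((P : Subgroup X).map X.subtype) := P.isPGroup'.map _
  have hR : IsPGroup 2 ((P : Subgroup X).map X.subtype ⊓ K ⊓ centralizer ({u} : Set G) : Subgroup G) :=
    hRp.to_le (inf_le_left.trans inf_le_left)
  have heq : u * (q * u * q⁻¹) = s := by
    refine eq_of_no_four hR ?_ ⟨⟨?_, hyK⟩, mem_centralizer_singleton_iff.mpr hyu⟩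
      ⟨⟨⟨_, hsP, rfl⟩, hs⟩, mem_centralizer_singleton_iff.mpr hsu⟩ hy2 hs2 hy1 hs1
    · intro x hx y hy hx2 hy2 hxy hx1 hy1
      by_contra hne'
      exact D.one hg hx.1.2 hy.1.2 (hM x (mem_centralizer_singleton_iff.mp hx.2))
        (hM y (mem_centralizer_singleton_iff.mp hy.2)) hx2 hy2 hxy hx1 hy1 hne'
    · rw [← hconj]
      exact ⟨(u' : X) * ((n : X) * (u' : X) * (n : X)⁻¹),
        mul_mem u'.2 (mul_mem (mul_mem n.2 u'.2) (inv_mem n.2)), rfl⟩
  refine ⟨q, hq, ?_⟩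
  rw [← heq, ← mul_assoc, hu2, one_mul]

/-- `C_L(y)` covers `L / W` for an involution `y` of `K`. -/
theorem cover [Finite G] (D : Data M L K W) {y : G} (hy : y ∈ K) (hy2 : y * y = 1) {x : G} (hx : x ∈ L) :
    ∃ w ∈ W, x * w * y = y * (x * w) := by
  have hyi : y⁻¹ = y := inv_eq_of_mul_eq_one_left hy2
  obtain ⟨w, hw, hww⟩ := conj_of_coset D.oddW (x := y) (y := x⁻¹ * y * x) hy2
    (by calc x⁻¹ * y * x * (x⁻¹ * y * x) = x⁻¹ * (y * y) * x := by group
          _ = 1 := by rw [hy2]; group)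
    (by
      have h1 := D.nW y (D.KM hy) _ (D.comm _ (L.inv_mem hx) y hy)
      have h2 : y * (x⁻¹ * y * x⁻¹⁻¹ * y⁻¹) * y⁻¹ = y * (x⁻¹ * y * x) * (y * y)⁻¹ := by group
      rw [h2, hy2, inv_one, mul_one] at h1
      exact h1)
  refine ⟨w, hw, ?_⟩
  calc x * w * y = x * (w * y * w⁻¹) * w := by group
    _ = x * (x⁻¹ * y * x) * w := by rw [hww]
    _ = y * (x * w) := by group

/-- (4): the application of the `Z*`-theorem. -/
theorem four [Finite G] (D : Data M L K W) {u y : G} (huM : u ∈ M) (huK : u ∉ K) (hu2 : u * u = 1)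
    (hu1 : u ≠ 1) (hy : y ∈ K) (hy2 : y * y = 1) (huy : u * y = y * u) :
    ∃ l ∈ L, l * y = y * l ∧ l * u * l⁻¹ ≠ u ∧ u * (l * u * l⁻¹) = l * u * l⁻¹ * u := by
  classical
  have hui : u⁻¹ = u := inv_eq_of_mul_eq_one_left hu2
  let L₁ : Subgroup G := L ⊓ centralizer ({y} : Set G)
  have hL₁ : ∀ x, x ∈ L₁ ↔ x ∈ L ∧ x * y = y * x := by
    intro x
    exact ⟨fun h => ⟨h.1, mem_centralizer_singleton_iff.mp h.2⟩,
      fun h => ⟨h.1, mem_centralizer_singleton_iff.mpr h.2⟩⟩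
  have hnorm : ∀ b ∈ zpowers u, ∀ a ∈ L₁, b * a * b⁻¹ ∈ L₁ := by
    intro b hb a ha
    have ha' := (hL₁ a).mp ha
    have hby : b * y = y * b := by
      obtain ⟨i, rfl⟩ := hb
      exact ((show Commute u y from huy).zpow_left i).eq
    refine (hL₁ _).mpr ⟨D.nL b ((zpowers_le.mpr huM) hb) a ha'.1, ?_⟩
    have hby' : b⁻¹ * y = y * b⁻¹ := ((show Commute b y from hby).inv_left).eq
    calc b * a * b⁻¹ * y = b * a * (b⁻¹ * y) := by group
      _ = b * (a * y) * b⁻¹ := by rw [hby']; group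
      _ = b * (y * a) * b⁻¹ := by rw [ha'.2]
      _ = (b * y) * a * b⁻¹ := by group
      _ = y * (b * a * b⁻¹) := by rw [hby]; group
  let X : Subgroup G := L₁ ⊔ zpowers u
  have huX : u ∈ X := mem_sup_right (mem_zpowers u)
  rcases zstar_sub huX hu2 hu1 with ⟨h, hh, hne, hc⟩ | ⟨N, hNX, hNodd, hNn, hNc⟩
  · obtain ⟨l, hl, _, ⟨i, rfl⟩, rfl⟩ := exists_mul_of_mem_sup hnorm hh
    have hl' := (hL₁ l).mp hl
    have h1 : l * u ^ i * u * (l * u ^ i)⁻¹ = l * u * l⁻¹ := by group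
    refine ⟨l, hl'.1, hl'.2, ?_, ?_⟩
    · have h2 : l * (fun x => u ^ x) i * u * (l * (fun x => u ^ x) i)⁻¹ = l * u * l⁻¹ := h1
      rw [h2] at hne
      exact hne
    · have h2 : l * (fun x => u ^ x) i * u * (l * (fun x => u ^ x) i)⁻¹ = l * u * l⁻¹ := h1
      rw [h2] at hc
      exact hc
  · exfalso
    have hL₁X : L₁ ≤ X := le_sup_left
    -- `N ∩ L` modulo `W` is normalised by `L`
    have hWN : ∀ b ∈ N ⊓ L, ∀ a ∈ W, b * a * b⁻¹ ∈ W := fun b hb a ha => D.nW b (D.LM hb.2) a ha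
    have hnn : ∀ x ∈ L, ∀ n ∈ W ⊔ N ⊓ L, x * n * x⁻¹ ∈ W ⊔ N ⊓ L := by
      intro x hx n hn
      obtain ⟨w, hw, hwy⟩ := D.cover hy hy2 hx
      have hxw : x * w ∈ L₁ := (hL₁ _).mpr ⟨L.mul_mem hx (D.WL hw), hwy⟩
      obtain ⟨w', hw', n', hn', rfl⟩ := exists_mul_of_mem_sup hWN hn
      have h1 : x * (w' * n') * x⁻¹ = (x * w) * w⁻¹ * (w' * n') * ((x * w) * w⁻¹)⁻¹ := by group
      have hwN : w⁻¹ ∈ W ⊔ N ⊓ L := mem_sup_left (W.inv_mem hw)
      have h2 : w⁻¹ * (w' * n') * w⁻¹⁻¹ ∈ W ⊔ N ⊓ L :=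
        mul_mem (mul_mem hwN (mul_mem (mem_sup_left hw') (mem_sup_right hn'))) (inv_mem hwN)
      obtain ⟨w'', hw'', n'', hn'', hwn⟩ := exists_mul_of_mem_sup hWN h2
      have h3 : x * (w' * n') * x⁻¹ = (x * w * w'' * (x * w)⁻¹) * (x * w * n'' * (x * w)⁻¹) := by
        have h4 : x * (w' * n') * x⁻¹ = (x * w) * (w⁻¹ * (w' * n') * w⁻¹⁻¹) * (x * w)⁻¹ := by group
        rw [h4, ← hwn]; group
      rw [h3]
      exact mul_mem (mem_sup_left (D.nW _ (D.LM ((hL₁ _).mp hxw).1) _ hw''))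
        (mem_sup_right ⟨hNn _ (hL₁X hxw) _ hn''.1, L.mul_mem (L.mul_mem ((hL₁ _).mp hxw).1 hn''.2)
          (L.inv_mem ((hL₁ _).mp hxw).1)⟩)
    rcases D.simple (W ⊔ N ⊓ L) le_sup_left (sup_le D.WL inf_le_right) hnn with h | h
    · -- `u` centralises `L / W`
      apply huK
      apply D.full u huM
      intro x hx
      obtain ⟨w, hw, hwy⟩ := D.cover hy hy2 hx
      have hxw : x * w ∈ L₁ := (hL₁ _).mpr ⟨L.mul_mem hx (D.WL hw), hwy⟩
      have h1 : u * (x * w) * u⁻¹ * (x * w)⁻¹ ∈ W := by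
        have h2 : u * (x * w) * u⁻¹ * (x * w)⁻¹ ∈ W ⊔ N ⊓ L := mem_sup_right
          ⟨hNc _ (hL₁X hxw), L.mul_mem (D.nL u huM _ ((hL₁ _).mp hxw).1) (L.inv_mem ((hL₁ _).mp hxw).1)⟩
        rwa [h] at h2
      have h3 : u * x * u⁻¹ * x⁻¹ = (u * (x * w) * u⁻¹ * (x * w)⁻¹) *
          ((x * w) * (u * w⁻¹ * u⁻¹) * w * (w⁻¹ * x⁻¹)) := by group
      rw [h3]
      refine W.mul_mem h1 ?_
      have h4 : (x * w) * (u * w⁻¹ * u⁻¹) * w * (w⁻¹ * x⁻¹) = x * (w * (u * w⁻¹ * u⁻¹)) * x⁻¹ := by group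
      rw [h4]
      exact D.nW x (D.LM hx) _ (W.mul_mem hw (D.nW u huM _ (W.inv_mem hw)))
    · -- `L` has odd order
      apply D.evenL
      have hpow : ∀ w ∈ W, ∀ n ∈ N ⊓ L, ∀ j : ℕ, (w * n) ^ j * (n ^ j)⁻¹ ∈ W := by
        intro w hw n hn j
        induction j with
        | zero => simp [W.one_mem]
        | succ j ih =>
          have h1 : (w * n) ^ (j + 1) * (n ^ (j + 1))⁻¹ =
              ((w * n) ^ j * (n ^ j)⁻¹) * (n ^ j * w * (n ^ j)⁻¹) := by
            rw [pow_succ, pow_succ]; group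
          rw [h1]
          exact W.mul_mem ih (D.nW _ (D.LM (L.pow_mem hn.2 j)) w hw)
      rw [← Nat.not_even_iff_odd, even_iff_two_dvd]
      intro hdvd
      have h2 : Fact (Nat.Prime 2) := ⟨Nat.prime_two⟩
      obtain ⟨x, hx⟩ := exists_prime_orderOf_dvd_card' (G := L) 2 hdvd
      have hxo : orderOf (x : G) = 2 := by rw [Subgroup.orderOf_coe]; exact hx
      have hxL : (x : G) ∈ W ⊔ N ⊓ L := by rw [h]; exact x.2
      obtain ⟨w, hw, n, hn, hwn⟩ := exists_mul_of_mem_sup hWN hxL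
      have hno : Odd (orderOf n) := hNodd.of_dvd_nat (Subgroup.orderOf_dvd_natCard N hn.1)
      have h3 := hpow w hw n hn (orderOf n)
      rw [hwn, pow_orderOf_eq_one, inv_one, mul_one] at h3
      obtain ⟨m, hm⟩ := hno
      have hx2 : (x : G) * x = 1 := by rw [← pow_two, ← hxo, pow_orderOf_eq_one]
      have h4 : (x : G) ^ orderOf n = x := by
        rw [hm, pow_succ, pow_mul, pow_two, hx2, one_pow, one_mul]
      rw [h4] at h3
      have h5 := D.eq_one_of_mem_W h3 hx2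
      rw [h5, orderOf_one] at hxo
      exact absurd hxo (by norm_num)

/-- No conjugate of an involution of `K` lies in `L`. -/
theorem not_mem_L [Finite G] (D : Data M L K W) {g e : G} (he : g⁻¹ * e * g ∈ K) (he2 : e * e = 1) (he1 : e ≠ 1) :
    e ∉ L := by
  intro heL
  have h1 : g * (g⁻¹ * e * g) * g⁻¹ = e := by group
  by_cases hg : g ∈ M
  · have h2 := D.nK g hg _ he
    rw [h1] at h2
    exact he1 (D.eq_one_of_mem_W (D.inf_LK heL h2) he2)
  · refine D.two hg he ?_ ?_ (by rw [h1]; exact mem_sup_left heL)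
    · calc g⁻¹ * e * g * (g⁻¹ * e * g) = g⁻¹ * (e * e) * g := by group
        _ = 1 := by rw [he2]; group
    · intro h
      apply he1
      calc e = g * (g⁻¹ * e * g) * g⁻¹ := by group
        _ = 1 := by rw [h]; group

/-- **THEOREM SL** (claim): for `g ∉ M` the group `K^g ∩ M` has odd order. -/
theorem claim [Finite G] (D : Data M L K W) {g : G} (hg : g ∉ M) {u : G} (hu : g⁻¹ * u * g ∈ K) (huM : u ∈ M)
    (hu2 : u * u = 1) : u = 1 := by
  by_contra hu1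
  have hui : u⁻¹ = u := inv_eq_of_mul_eq_one_left hu2
  set s := g⁻¹ * u * g with hs
  have hs2 : s * s = 1 := by
    calc s * s = g⁻¹ * (u * u) * g := by rw [hs]; group
      _ = 1 := by rw [hu2]; group
  have hs1 : s ≠ 1 := by
    intro h
    apply hu1
    calc u = g * s * g⁻¹ := by rw [hs]; group
      _ = 1 := by rw [h]; group
  have hgu : g * s * g⁻¹ = u := by rw [hs]; group
  -- `u ∉ K`
  have huK : u ∉ K := fun h => D.t2 g hg s hu hs2 hs1 (by rwa [hgu])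
  obtain ⟨l, hl, -, hne, hc⟩ := D.four huM huK hu2 hu1 K.one_mem (one_mul 1) (by simp)
  obtain ⟨e, he⟩ : ∃ e, e = u * (l * u * l⁻¹) := ⟨_, rfl⟩
  have heL : e ∈ L := by
    have h1 : e = (u * l * u⁻¹) * l⁻¹ * (l * (u * u) * l⁻¹) := by rw [he]; group
    rw [h1, hu2]
    have h2 : l * 1 * l⁻¹ = 1 := by group
    rw [h2, mul_one]
    exact L.mul_mem (D.nL u huM l hl) (L.inv_mem hl)
  have he2 : e * e = 1 := by
    calc e * e = u * (l * u * l⁻¹ * u) * (l * u * l⁻¹) := by rw [he]; group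
      _ = u * (u * (l * u * l⁻¹)) * (l * u * l⁻¹) := by rw [hc]
      _ = (u * u) * (l * (u * u) * l⁻¹) := by group
      _ = 1 := by rw [hu2]; group
  have he1 : e ≠ 1 := by
    intro h
    apply hne
    rw [he] at h
    have h3 : l * u * l⁻¹ = u⁻¹ := (inv_eq_of_mul_eq_one_right h).symm
    rw [h3, hui]
  -- `t = g⁻¹ (l u l⁻¹) g = h s h⁻¹` with `h = g⁻¹ l g`
  set h := g⁻¹ * l * g with hh
  set t := h * s * h⁻¹ with ht
  have htu : g * t * g⁻¹ = l * u * l⁻¹ := by rw [ht, hh, hs]; group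
  have hest : g⁻¹ * e * g = s * t := by
    rw [he, ← htu, hs]; group
  have hst : s * t = t * s := by
    calc s * t = g⁻¹ * (u * (l * u * l⁻¹)) * g := by rw [← htu, hs]; group
      _ = g⁻¹ * (l * u * l⁻¹ * u) * g := by rw [hc]
      _ = t * s := by rw [← htu, hs]; group
  have ht2 : t * t = 1 := by
    calc t * t = h * (s * s) * h⁻¹ := by rw [ht]; group
      _ = 1 := by rw [hs2]; group
  have ht1 : t ≠ 1 := by
    intro h1
    apply hs1
    calc s = h⁻¹ * t * h := by rw [ht]; group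
      _ = 1 := by rw [h1]; group
  by_cases hhM : h ∈ M
  · -- `e ∈ K^g`
    have h1 : t ∈ K := D.nK h hhM s hu
    refine D.not_mem_L (g := g) ?_ he2 he1 heL
    rw [hest]
    exact K.mul_mem hu h1
  · -- `t ∈ M`, as `t` commutes with `s`
    have htM : t ∈ M := D.t1 s hu hs2 hs1 t hst.symm
    have h1 : h⁻¹ * t * h ∈ K := by
      have h3 : h⁻¹ * t * h = s := by rw [ht]; group
      rwa [h3]
    obtain ⟨q, hq, hqt⟩ := D.three hhM h1 htM ht2 ht1 hu hs2 hs1 hst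
    refine D.not_mem_L (g := g * q * h) ?_ he2 he1 heL
    have h3 : (g * q * h)⁻¹ * e * (g * q * h) = h⁻¹ * q⁻¹ * (g⁻¹ * e * g) * q * h := by group
    rw [h3, hest, hst, ← hqt, ht]
    have h4 : h⁻¹ * q⁻¹ * (q * (h * s * h⁻¹) * q⁻¹) * q * h = s := by group
    rwa [h4]

end Data

end Cfsg.Agent.UGT.SL
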