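import Cfsg.Agent.UGT.SLCore
import Cfsg.Agent.UGT.SL.OfL2
import Cfsg.Prelude.Def_CaseTheorems

/-!
# THEOREM SL, end

A Sylow 2-subgroup `S` of `M` is one of `G`, `K ∩ S` is strongly closed in `S`; by S1173 (as hypothesis `h1173`)
the last term of the derived series of `C_G(K ∩ S)` is normal in `G` (if `O(G) = 1`) and covers `L / W`.
-/

set_option autoImplicit false

namespace Cfsg.Agent.UGT.SL

open Cfsg Subgroup

universe u

/-- The statement S1173 in the universe `u`. -/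
def P1173 : Prop := ∀ (G : Type u) [Group G] [Finite G], Cfsg.oddCore G = ⊥ → ∀ (S : Sylow 2 G) (T : Subgroup G),
  Cfsg.IsStronglyClosed T (S : Subgroup G) →
    ((⨅ n : ℕ, derivedSeries ↥(Subgroup.centralizer (T : Set G)) n).map
      (Subgroup.centralizer (T : Set G)).subtype).Normal

namespace Data

variable {G : Type u} [Group G] {M L K W : Subgroup G}

/-- A Sylow 2-subgroup of `M` contains an involution of `K`. -/
theorem exists_inv_sylow [Finite G] (D : Data M L K W) (T : Sylow 2 M) :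
    ∃ y ∈ K, y * y = 1 ∧ y ≠ 1 ∧ ∃ hy : y ∈ M, (⟨y, hy⟩ : M) ∈ T := by
  have : Fact (Nat.Prime 2) := ⟨Nat.prime_two⟩
  obtain ⟨a, ha, b, hb, ha2, hb2, hab, ha1, hb1, hne⟩ := D.t4
  have h1 : IsPGroup 2 (zpowers (⟨a, D.KM ha⟩ : M)) := two_isPGroup (Subtype.ext ha2)
  obtain ⟨P, hP⟩ := h1.exists_le_sylow
  obtain ⟨m, hm⟩ := MulAction.exists_smul_eq M P T
  have haP : (⟨a, D.KM ha⟩ : M) ∈ P := hP (mem_zpowers _)
  have h2 : m * (⟨a, D.KM ha⟩ : M) * m⁻¹ ∈ (m • P : Sylow 2 M) := by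
    rw [← SetLike.mem_coe, Sylow.coe_smul]
    exact ⟨_, haP, rfl⟩
  rw [hm] at h2
  refine ⟨m * a * (m : G)⁻¹, D.nK m m.2 a ha, ?_, ?_, D.KM (D.nK m m.2 a ha), h2⟩
  · calc (m : G) * a * (m : G)⁻¹ * (m * a * (m : G)⁻¹) = m * (a * a) * (m : G)⁻¹ := by group
      _ = 1 := by rw [ha2]; group
  · intro h
    apply ha1
    calc a = (m : G)⁻¹ * (m * a * (m : G)⁻¹) * m := by group
      _ = 1 := by rw [h]; group

/-- A Sylow 2-subgroup of `M` is a Sylow 2-subgroup of `G`. -/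
theorem sylow_top [Finite G] (D : Data M L K W) (T : Sylow 2 M) :
    ∃ S : Sylow 2 G, (S : Subgroup G) = (T : Subgroup M).map M.subtype := by
  have : Fact (Nat.Prime 2) := ⟨Nat.prime_two⟩
  have h1 : IsPGroup 2 ((T : Subgroup M).map M.subtype) := T.isPGroup'.map _
  obtain ⟨S, hS⟩ := h1.exists_le_sylow
  refine ⟨S, le_antisymm ?_ hS⟩
  by_contra hlt
  obtain ⟨y, hyK, hy2, hy1, hyM, hyT⟩ := D.exists_inv_sylow T
  -- normalizers grow
  let T' : Subgroup S := ((T : Subgroup M).map M.subtype).subgroupOf S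
  have hT' : T' < ⊤ := by
    rw [lt_top_iff_ne_top]
    intro h
    exact hlt ((subgroupOf_eq_top).mp h)
  have hnil : Group.IsNilpotent S := S.isPGroup'.isNilpotent
  have hgrow := (Group.normalizerCondition_of_isNilpotent (G := S)) T' hT'
  obtain ⟨s, hs, hsT⟩ := SetLike.exists_of_lt hgrow
  have hconj : ∀ x ∈ (T : Subgroup M).map M.subtype, (s : G) * x * (s : G)⁻¹ ∈ (T : Subgroup M).map M.subtype := by
    intro x hx
    have h2 : (⟨x, hS hx⟩ : S) ∈ T' := by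
      rw [mem_subgroupOf]; exact hx
    have h3 := (mem_normalizer_iff.mp hs _).mp h2
    rw [mem_subgroupOf] at h3
    exact h3
  have hyT' : y ∈ (T : Subgroup M).map M.subtype := ⟨⟨y, hyM⟩, hyT, rfl⟩
  have hsM : (s : G) ∉ M := by
    intro hsM
    -- `⟨s⟩ T` is a 2-group in `M`
    have h4 : IsPGroup 2 ((S : Subgroup G).subgroupOf M) := S.isPGroup'.comap_subtype
    have h5 : (T : Subgroup M) ≤ (S : Subgroup G).subgroupOf M := by
      intro t ht
      rw [mem_subgroupOf]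
      exact hS ⟨t, ht, rfl⟩
    have h6 := T.is_maximal' h4 h5
    apply hsT
    show s ∈ T'
    rw [mem_subgroupOf]
    refine ⟨⟨s, hsM⟩, ?_, rfl⟩
    rw [← h6, SetLike.mem_coe, mem_subgroupOf]
    exact s.2
  have h7 := D.claim hsM (u := (s : G) * y * (s : G)⁻¹)
    (by
      have : (s : G)⁻¹ * (s * y * (s : G)⁻¹) * s = y := by group
      rw [this]; exact hyK)
    (by
      obtain ⟨z, _, hz⟩ := hconj y hyT'
      rw [← hz]; exact z.2)
    (by calc (s : G) * y * (s : G)⁻¹ * (s * y * (s : G)⁻¹) = s * (y * y) * (s : G)⁻¹ := by group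
          _ = 1 := by rw [hy2]; group)
  apply hy1
  calc y = (s : G)⁻¹ * (s * y * (s : G)⁻¹) * s := by group
    _ = 1 := by rw [h7]; group

/-- `K ∩ S` is strongly closed in `S`. -/
theorem stronglyClosed [Finite G] (D : Data M L K W) {S : Subgroup G} (hS : IsPGroup 2 S) (hSM : S ≤ M) :
    Cfsg.IsStronglyClosed (K ⊓ S) S := by
  refine ⟨inf_le_right, ?_⟩
  intro x hx g hg
  refine ⟨?_, hg⟩
  by_cases hx1 : x = 1
  · rw [hx1]
    have h0 : g * 1 * g⁻¹ = 1 := by group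
    rw [h0]
    exact K.one_mem
  by_cases hgM : g ∈ M
  · exact D.nK g hgM x hx.1
  · exfalso
    -- an involution in `⟨x⟩`
    obtain ⟨k, hk⟩ := (IsPGroup.iff_orderOf.mp hS) ⟨x, hx.2⟩
    rw [orderOf_mk] at hk
    have hk0 : k ≠ 0 := by
      rintro rfl
      rw [pow_zero, orderOf_eq_one_iff] at hk
      exact hx1 hk
    obtain ⟨j, rfl⟩ := Nat.exists_eq_succ_of_ne_zero hk0
    have hy2 : x ^ 2 ^ j * x ^ 2 ^ j = 1 := by
      rw [← pow_add, ← two_mul, ← pow_succ', ← Nat.succ_eq_add_one, ← hk, pow_orderOf_eq_one]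
    have hy1 : x ^ 2 ^ j ≠ 1 := by
      intro h
      have h1 := orderOf_dvd_of_pow_eq_one h
      rw [hk] at h1
      have h2 := Nat.le_of_dvd (by positivity) h1
      have h3 : 2 ^ j < 2 ^ (j + 1) := Nat.pow_lt_pow_right (by norm_num) (Nat.lt_succ_self j)
      exact absurd h2 (not_le.mpr h3)
    have h7 := D.claim hgM (u := g * x ^ 2 ^ j * g⁻¹)
      (by
        have : g⁻¹ * (g * x ^ 2 ^ j * g⁻¹) * g = x ^ 2 ^ j := by group
        rw [this]; exact K.pow_mem hx.1 _)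
      (by
        have h8 : g * x ^ 2 ^ j * g⁻¹ = (g * x * g⁻¹) ^ 2 ^ j := by rw [conj_pow]
        rw [h8]
        exact M.pow_mem (hSM hg) _)
      (by calc g * x ^ 2 ^ j * g⁻¹ * (g * x ^ 2 ^ j * g⁻¹) = g * (x ^ 2 ^ j * x ^ 2 ^ j) * g⁻¹ := by group
            _ = 1 := by rw [hy2]; group)
    apply hy1
    calc x ^ 2 ^ j = g⁻¹ * (g * x ^ 2 ^ j * g⁻¹) * g := by group
      _ = 1 := by rw [h7]; group

/-- `L / W` is perfect. -/
theorem le_comm (D : Data M L K W) {N : Subgroup G} (hWN : W ≤ N)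
    (h : ∀ a ∈ L, ∀ b ∈ L, a * b * a⁻¹ * b⁻¹ ∈ N) : L ≤ N := by
  have h1 := D.simple (N ⊓ L) (le_inf hWN D.WL) inf_le_right (by
    intro x hx n hn
    refine ⟨?_, L.mul_mem (L.mul_mem hx hn.2) (L.inv_mem hx)⟩
    have h2 := N.mul_mem (h x hx n hn.2) hn.1
    have h3 : x * n * x⁻¹ * n⁻¹ * n = x * n * x⁻¹ := by group
    rwa [h3] at h2)
  rcases h1 with h1 | h1
  · exfalso
    apply D.nab
    intro a ha b hb
    rw [← h1]
    exact ⟨h a ha b hb, L.mul_mem (L.mul_mem (L.mul_mem ha hb) (L.inv_mem ha)) (L.inv_mem hb)⟩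
  · rw [← h1]
    exact inf_le_left

/-- `C_L(Q)` covers `L / W` for a 2-subgroup `Q` of `K`. -/
theorem cover_two [Finite G] (D : Data M L K W) {Q : Subgroup G} (hQK : Q ≤ K) (hQ : IsPGroup 2 Q) {x : G}
    (hx : x ∈ L) : ∃ w ∈ W, ∀ q ∈ Q, q * (x * w) = x * w * q := by
  classical
  have : Fact (Nat.Prime 2) := ⟨Nat.prime_two⟩
  let Ω : Type u := {y : G // x⁻¹ * y ∈ W}
  let act : MulAction Q Ω :=
    { smul := fun t y => ⟨(t : G) * y.1 * (t : G)⁻¹, by
        have h1 := D.comm x⁻¹ (L.inv_mem hx) t (hQK t.2)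
        have h2 := D.nW t (D.KM (hQK t.2)) _ y.2
        have h3 : x⁻¹ * ((t : G) * y.1 * (t : G)⁻¹) =
            (x⁻¹ * (t : G) * x⁻¹⁻¹ * (t : G)⁻¹) * ((t : G) * (x⁻¹ * y.1) * (t : G)⁻¹) := by group
        rw [h3]
        exact W.mul_mem h1 h2⟩
      one_smul := fun y => by
        apply Subtype.ext
        show ((1 : Q) : G) * y.1 * ((1 : Q) : G)⁻¹ = y.1
        simp
      mul_smul := fun s t y => by
        apply Subtype.ext
        show ((s * t : Q) : G) * y.1 * ((s * t : Q) : G)⁻¹ = (s : G) * ((t : G) * y.1 * (t : G)⁻¹) * (s : G)⁻¹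
        push_cast
        group }
  have hcard : ¬ 2 ∣ Nat.card Ω := by
    have h1 : Nat.card Ω = Nat.card W := by
      refine Nat.card_congr ⟨fun y => ⟨x⁻¹ * y.1, y.2⟩, fun w => ⟨x * w.1, by simp⟩, ?_, ?_⟩
      · intro y; simp
      · intro w; simp
    rw [h1]
    intro h
    exact (Nat.not_even_iff_odd.mpr D.oddW) (even_iff_two_dvd.mpr h)
  obtain ⟨y, hy⟩ := hQ.nonempty_fixed_point_of_prime_not_dvd_card Ω hcard
  refine ⟨x⁻¹ * y.1, y.2, fun q hq => ?_⟩
  have h1 : (⟨q, hq⟩ : Q) • y = y := hy ⟨q, hq⟩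
  have h2 : q * y.1 * q⁻¹ = y.1 := congrArg Subtype.val h1
  have h3 : x * (x⁻¹ * y.1) = y.1 := by group
  rw [h3]
  calc q * y.1 = (q * y.1 * q⁻¹) * q := by group
    _ = y.1 * q := by rw [h2]

/-- Every term of the derived series of `C_G(Q)` covers `L / W`. -/
theorem cover_derived [Finite G] (D : Data M L K W) {Q : Subgroup G} (hQK : Q ≤ K) (hQ : IsPGroup 2 Q) (n : ℕ) :
    L ≤ W ⊔ (L ⊓ (derivedSeries ↥(centralizer (Q : Set G)) n).map (centralizer (Q : Set G)).subtype) := by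
  induction n with
  | zero =>
    intro x hx
    obtain ⟨w, hw, hww⟩ := D.cover_two hQK hQ hx
    have h1 : x = (x * w) * w⁻¹ := by group
    rw [h1]
    refine mul_mem (mem_sup_right ⟨L.mul_mem hx (D.WL hw), ?_⟩) (mem_sup_left (W.inv_mem hw))
    rw [derivedSeries_zero, ← MonoidHom.range_eq_map, range_subtype]
    exact mem_centralizer_iff.mpr hww
  | succ n ih =>
    refine D.le_comm le_sup_left ?_
    intro a ha b hb
    have hnorm : ∀ b ∈ L ⊓ (derivedSeries ↥(centralizer (Q : Set G)) n).map (centralizer (Q : Set G)).subtype,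
        ∀ w ∈ W, b * w * b⁻¹ ∈ W := fun b hb w hw => D.nW b (D.LM hb.1) w hw
    obtain ⟨w, hw, d, hd, rfl⟩ := exists_mul_of_mem_sup hnorm (ih ha)
    obtain ⟨w', hw', d', hd', rfl⟩ := exists_mul_of_mem_sup hnorm (ih hb)
    have hmem : d * d' * d⁻¹ * d'⁻¹ ∈
        L ⊓ (derivedSeries ↥(centralizer (Q : Set G)) (n + 1)).map (centralizer (Q : Set G)).subtype := by
      refine ⟨L.mul_mem (L.mul_mem (L.mul_mem hd.1 hd'.1) (L.inv_mem hd.1)) (L.inv_mem hd'.1), ?_⟩
      obtain ⟨c, hc, rfl⟩ := hd.2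
      obtain ⟨c', hc', rfl⟩ := hd'.2
      refine ⟨c * c' * c⁻¹ * c'⁻¹, ?_, by simp⟩
      rw [derivedSeries_succ]
      exact commutator_mem_commutator hc hc'
    have hY : d * d' * d⁻¹ ∈ L := L.mul_mem (L.mul_mem hd.1 hd'.1) (L.inv_mem hd.1)
    have h1 : w * d * (w' * d') * (w * d)⁻¹ * (w' * d')⁻¹ =
        (w * (d * w' * d⁻¹)) * ((d * d' * d⁻¹) * w⁻¹ * (d * d' * d⁻¹)⁻¹) *
          ((d * d' * d⁻¹ * d'⁻¹) * w'⁻¹ * (d * d' * d⁻¹ * d'⁻¹)⁻¹) * (d * d' * d⁻¹ * d'⁻¹) := by group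
    rw [h1]
    refine mul_mem (mem_sup_left ?_) (mem_sup_right hmem)
    exact W.mul_mem (W.mul_mem (W.mul_mem hw (D.nW d (D.LM hd.1) w' hw'))
      (D.nW _ (D.LM hY) _ (W.inv_mem hw))) (D.nW _ (D.LM hmem.1) _ (W.inv_mem hw'))

/-- **END of THEOREM SL** (general form): there is a Sylow 2-subgroup `S` of `G` in `M` with `1 ≠ K ∩ S` strongly
closed in `S`, and a normal subgroup `R` of `G` centralising `K ∩ S` and covering `L / W`. -/
theorem exists_normal [Finite G] (D : Data M L K W) (h1173 : P1173.{u}) (hO : Cfsg.oddCore G = ⊥) :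
    ∃ S : Sylow 2 G, (S : Subgroup G) ≤ M ∧ Cfsg.IsStronglyClosed (K ⊓ S) S ∧ K ⊓ (S : Subgroup G) ≠ ⊥ ∧
      ∃ R : Subgroup G, R.Normal ∧ (∀ r ∈ R, ∀ q ∈ K ⊓ (S : Subgroup G), q * r = r * q) ∧ L ≤ W ⊔ (L ⊓ R) := by
  have : Fact (Nat.Prime 2) := ⟨Nat.prime_two⟩
  obtain ⟨T⟩ : Nonempty (Sylow 2 M) := inferInstance
  obtain ⟨S, hS⟩ := D.sylow_top T
  have hSM : (S : Subgroup G) ≤ M := by
    rw [hS]
    rintro _ ⟨x, _, rfl⟩
    exact x.2
  have hcl := D.stronglyClosed S.isPGroup' hSM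
  have hne : K ⊓ (S : Subgroup G) ≠ ⊥ := by
    obtain ⟨y, hyK, hy2, hy1, hyM, hyT⟩ := D.exists_inv_sylow T
    intro h
    apply hy1
    rw [← mem_bot, ← h]
    refine ⟨hyK, ?_⟩
    rw [SetLike.mem_coe, hS]
    exact ⟨_, hyT, rfl⟩
  refine ⟨S, hSM, hcl, hne, _, h1173 G hO S _ hcl, ?_, ?_⟩
  · rintro _ ⟨r, _, rfl⟩ q hq
    exact mem_centralizer_iff.mp r.2 q hq
  · -- the infimum is a term of the derived series
    have hQ : IsPGroup 2 ↥(K ⊓ (S : Subgroup G)) := S.isPGroup'.to_le inf_le_right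
    obtain ⟨n, hn⟩ : ∃ n, ∀ m, derivedSeries ↥(centralizer ((K ⊓ (S : Subgroup G) : Subgroup G) : Set G)) n ≤
        derivedSeries ↥(centralizer ((K ⊓ (S : Subgroup G) : Subgroup G) : Set G)) m := by
      obtain ⟨X, hX⟩ := Set.Finite.exists_minimal
        (s := Set.range (derivedSeries ↥(centralizer ((K ⊓ (S : Subgroup G) : Subgroup G) : Set G))))
        (Set.toFinite _) ⟨_, ⟨0, rfl⟩⟩
      obtain ⟨n, hn⟩ := hX.prop
      refine ⟨n, fun m => ?_⟩
      rcases le_total m n with h | h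
      · exact derivedSeries_antitone _ h
      · rw [hn]
        exact hX.2 ⟨m, rfl⟩ (by rw [← hn]; exact derivedSeries_antitone _ h)
    have h1 : (⨅ m : ℕ, derivedSeries ↥(centralizer ((K ⊓ (S : Subgroup G) : Subgroup G) : Set G)) m) =
        derivedSeries ↥(centralizer ((K ⊓ (S : Subgroup G) : Subgroup G) : Set G)) n :=
      le_antisymm (iInf_le _ n) (le_iInf hn)
    rw [h1]
    exact D.cover_derived inf_le_left hQ n

/-- **END of THEOREM SL**: contradiction if `G` has a normal simple subgroup `X` with `C_G(X) = 1`. -/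
theorem false_of_normal_simple [Finite G] (D : Data M L K W) (h1173 : P1173.{u}) (hO : Cfsg.oddCore G = ⊥)
    {X : Subgroup G} (hX : X.Normal) (hXs : IsSimpleGroup X) (hXc : centralizer (X : Set G) = ⊥) : False := by
  obtain ⟨S, hSM, hcl, hne, R, hR, hRQ, hRL⟩ := D.exists_normal h1173 hO
  have h1 : ((R ⊓ X).subgroupOf X).Normal := by
    have : (R ⊓ X).Normal := inferInstance
    infer_instance
  rcases IsSimpleGroup.eq_bot_or_eq_top_of_normal _ h1 with h | h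
  · -- `R ∩ X = 1`
    have h2 : R ⊓ X = ⊥ := by
      rw [eq_bot_iff]
      intro x hx
      have h3 : (⟨x, hx.2⟩ : X) ∈ (R ⊓ X).subgroupOf X := by rw [mem_subgroupOf]; exact hx
      rw [h, mem_bot] at h3
      rw [mem_bot]
      exact congrArg Subtype.val h3
    have h3 : R = ⊥ := by
      rw [eq_bot_iff, ← hXc]
      intro r hr
      rw [mem_centralizer_iff]
      intro x hx
      have h4 : x * r * x⁻¹ * r⁻¹ ∈ R ⊓ X := by
        refine ⟨R.mul_mem (hR.conj_mem r hr x) (R.inv_mem hr), ?_⟩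
        have h5 : x * r * x⁻¹ * r⁻¹ = x * (r * x⁻¹ * r⁻¹) := by group
        rw [SetLike.mem_coe, h5]
        exact X.mul_mem hx (hX.conj_mem _ (X.inv_mem hx) r)
      rw [h2, mem_bot] at h4
      calc x * r = (x * r * x⁻¹ * r⁻¹) * r * x := by group
        _ = r * x := by rw [h4, one_mul]
    rw [h3, inf_bot_eq, sup_bot_eq] at hRL
    exact D.nab fun a ha b hb => W.mul_mem (W.mul_mem (W.mul_mem (hRL ha) (hRL hb)) (W.inv_mem (hRL ha)))
      (W.inv_mem (hRL hb))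
  · have h2 : X ≤ R := by
      intro x hx
      have h3 : (⟨x, hx⟩ : X) ∈ (R ⊓ X).subgroupOf X := by rw [h]; trivial
      rw [mem_subgroupOf] at h3
      exact h3.1
    apply hne
    rw [eq_bot_iff, ← hXc]
    intro q hq
    rw [mem_centralizer_iff]
    intro x hx
    exact (hRQ x (h2 hx) q hq).symm

/-- **END of THEOREM SL** in a simple group `G` with `O(G) = 1`. -/
theorem false_of_simple [Finite G] (D : Data M L K W) (h1173 : P1173.{u}) (hO : Cfsg.oddCore G = ⊥)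
    (hG : IsSimpleGroup G) : False := by
  obtain ⟨S, hSM, hcl, hne, R, hR, hRQ, hRL⟩ := D.exists_normal h1173 hO
  rcases IsSimpleGroup.eq_bot_or_eq_top_of_normal _ hR with h | h
  · rw [h, inf_bot_eq, sup_bot_eq] at hRL
    exact D.nab fun a ha b hb => W.mul_mem (W.mul_mem (W.mul_mem (hRL ha) (hRL hb)) (W.inv_mem (hRL ha)))
      (W.inv_mem (hRL hb))
  · -- `Q` is central
    have h2 : K ⊓ (S : Subgroup G) ≤ center G := by
      intro q hq
      rw [mem_center_iff]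
      intro g
      exact (hRQ g (h ▸ mem_top g) q hq).symm
    rcases IsSimpleGroup.eq_bot_or_eq_top_of_normal (center G) inferInstance with h3 | h3
    · exact hne (eq_bot_iff.mpr (h3 ▸ h2))
    · apply D.nab
      intro a _ b _
      have h4 : a ∈ center G := h3 ▸ mem_top a
      have h5 : a * b * a⁻¹ * b⁻¹ = 1 := by
        rw [← mem_center_iff.mp h4 b]
        group
      rw [h5]
      exact W.one_mem

end Data

/-! ### construction of `Data` -/

/-- (Gam): for all pairs of commuting involutory automorphisms `α ≠ β`, a subgroup containing the fixed points of `α`,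
`β` and `αβ` is the whole group. -/
def GamAut (X : Type*) [Group X] : Prop :=
  ∀ α β : MulAut X, α * α = 1 → β * β = 1 → α ≠ 1 → β ≠ 1 → α ≠ β → α * β = β * α → ∀ H : Subgroup X,
    (∀ x, α x = x → x ∈ H) → (∀ x, β x = x → x ∈ H) → (∀ x, α (β x) = x → x ∈ H) → H = ⊤

/-- `PSL₂(q)`, `q ≥ 11` odd, satisfies (Gam). -/
theorem gamAut_rep {F : Type*} [Field F] [Finite F] {X : Type*} [Group X] (R : Cfsg.Agent.GH.L2Aut.Rep F X)
    (hq : 11 ≤ Nat.card F) : GamAut X := fun _ _ h1 h2 h3 h4 h5 h6 H h7 h8 h9 =>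
  gam_pair R hq h1 h2 h3 h4 h5 h6 H h7 h8 h9

/-- (Gam) is invariant under isomorphism. -/
theorem GamAut.congr {X Y : Type*} [Group X] [Group Y] (h : GamAut X) (e : X ≃* Y) : GamAut Y := by
  intro α β h1 h2 h3 h4 h5 h6 H h7 h8 h9
  let c : MulAut Y →* MulAut X := (MulAut.congr e.symm).toMonoidHom
  have hc : ∀ (γ : MulAut Y) (x : X), e (c γ x) = γ (e x) := fun γ x => by
    show e (e.symm (γ (e x))) = _
    rw [e.apply_symm_apply]
  have hinj : ∀ γ δ : MulAut Y, c γ = c δ → γ = δ := fun γ δ h => (MulAut.congr e.symm).injective h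
  have key := h (c α) (c β) (by rw [← map_mul, h1, map_one]) (by rw [← map_mul, h2, map_one])
    (fun h => h3 (hinj _ _ (by rw [h, map_one]))) (fun h => h4 (hinj _ _ (by rw [h, map_one])))
    (fun h => h5 (hinj _ _ h)) (by rw [← map_mul, h6, map_mul]) (H.comap e.toMonoidHom)
    (fun x hx => h7 _ (by rw [MulEquiv.toMonoidHom_eq_coe, MonoidHom.coe_coe, ← hc, hx]))
    (fun x hx => h8 _ (by rw [MulEquiv.toMonoidHom_eq_coe, MonoidHom.coe_coe, ← hc, hx]))
    (fun x hx => h9 _ (by rw [MulEquiv.toMonoidHom_eq_coe, MonoidHom.coe_coe, ← hc, ← hc, hx]))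
  rw [eq_top_iff]
  intro y _
  have h10 : e.symm y ∈ H.comap e.toMonoidHom := by rw [key]; trivial
  rw [mem_comap, MulEquiv.toMonoidHom_eq_coe, MonoidHom.coe_coe, e.apply_symm_apply] at h10
  exact h10

variable {G : Type u} [Group G]

/-- **(Gam) modulo a subgroup of odd order** (helper716's argument, for all groups with (Gam)) -/
theorem gam_mod' {L W : Subgroup G} (hn : (W.subgroupOf L).Normal)
    (hWL : W ≤ L) (hW : Odd (Nat.card W)) (hgam : GamAut (L ⧸ W.subgroupOf L))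
    {a b : G} (haa : a * a = 1) (hbb : b * b = 1) (hab : a * b = b * a)
    (haL : a ∈ Subgroup.normalizer (L : Set G)) (haW : a ∈ Subgroup.normalizer (W : Set G))
    (hbL : b ∈ Subgroup.normalizer (L : Set G)) (hbW : b ∈ Subgroup.normalizer (W : Set G))
    (ha : ∃ x ∈ L, x⁻¹ * (a * x * a⁻¹) ∉ W) (hb : ∃ x ∈ L, x⁻¹ * (b * x * b⁻¹) ∉ W)
    (hc : ∃ x ∈ L, x⁻¹ * ((a * b) * x * (a * b)⁻¹) ∉ W) (H : Subgroup G) (hWH : W ≤ H)
    (h1 : ∀ x ∈ L, x * a = a * x → x ∈ H) (h2 : ∀ x ∈ L, x * b = b * x → x ∈ H)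
    (h3 : ∀ x ∈ L, x * (a * b) = (a * b) * x → x ∈ H) : L ≤ H := by
  have hsq : ∀ (c : G) (hcL : c ∈ Subgroup.normalizer (L : Set G))
      (hcW : c ∈ Subgroup.normalizer (W : Set G)), c * c = 1 →
      act hn hWL c hcL hcW * act hn hWL c hcL hcW = 1 := by
    intro c hcL hcW hcc
    rw [← act_mul, act_eq_one_iff]
    intro x _
    have h4 : x⁻¹ * (c * c * x * (c * c)⁻¹) = 1 := by rw [hcc]; group
    rw [h4]
    exact one_mem _
  have hne : ∀ (c : G) (hcL : c ∈ Subgroup.normalizer (L : Set G))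
      (hcW : c ∈ Subgroup.normalizer (W : Set G)), (∃ x ∈ L, x⁻¹ * (c * x * c⁻¹) ∉ W) →
      act hn hWL c hcL hcW ≠ 1 := by
    intro c hcL hcW ⟨x, hx, hxW⟩ h
    exact hxW ((act_eq_one_iff hn hWL c hcL hcW).1 h x hx)
  have hcov : ∀ (c : G) (hcL : c ∈ Subgroup.normalizer (L : Set G))
      (hcW : c ∈ Subgroup.normalizer (W : Set G)), c * c = 1 → (∀ x ∈ L, x * c = c * x → x ∈ H) →
      ∀ y, act hn hWL c hcL hcW y = y →
        y ∈ (H.subgroupOf L).map (QuotientGroup.mk' (W.subgroupOf L)) := by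
    intro c hcL hcW hcc hH y hy
    obtain ⟨x, rfl⟩ := QuotientGroup.mk_surjective y
    obtain ⟨w, hw, hwc⟩ := act_fix hn hWL hW hcc hcL hcW hy
    have hxw : (x : G) * w ∈ L := mul_mem x.2 (hWL hw)
    refine ⟨⟨(x : G) * w, hxw⟩, hH _ hxw hwc, ?_⟩
    change ((⟨(x : G) * w, hxw⟩ : L) : L ⧸ W.subgroupOf L) = x
    rw [eq_comm, QuotientGroup.eq]
    change (x : G)⁻¹ * ((x : G) * w) ∈ W
    rwa [inv_mul_cancel_left]
  have habab : (a * b) * (a * b) = 1 := by
    calc (a * b) * (a * b) = a * (b * a) * b := by group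
      _ = a * (a * b) * b := by rw [hab]
      _ = (a * a) * (b * b) := by group
      _ = 1 := by rw [haa, hbb, one_mul]
  have key := hgam _ _ (hsq a haL haW haa) (hsq b hbL hbW hbb) (hne a haL haW ha)
    (hne b hbL hbW hb) (fun h => by
      have h4 := hne (a * b) (mul_mem haL hbL) (mul_mem haW hbW) hc
      apply h4
      rw [act_mul hn hWL a b haL haW hbL hbW, ← h]
      exact hsq a haL haW haa)
    (by
      rw [← act_mul, ← act_mul]
      congr 1)
    ((H.subgroupOf L).map (QuotientGroup.mk' (W.subgroupOf L)))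
    (hcov a haL haW haa h1) (hcov b hbL hbW hbb h2) (by
      intro y hy
      apply hcov (a * b) (mul_mem haL hbL) (mul_mem haW hbW) habab h3
      rw [act_mul, MulAut.mul_apply]
      exact hy)
  intro x hx
  have h4 : ((⟨x, hx⟩ : L) : L ⧸ W.subgroupOf L) ∈
      (H.subgroupOf L).map (QuotientGroup.mk' (W.subgroupOf L)) := by rw [key]; trivial
  obtain ⟨y, hy, hyx⟩ := h4
  have h5 : (y : L ⧸ W.subgroupOf L) = ((⟨x, hx⟩ : L) : L ⧸ W.subgroupOf L) := hyx
  rw [QuotientGroup.eq] at h5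
  have h6 : (y : G)⁻¹ * x ∈ W := h5
  have h7 : x = (y : G) * ((y : G)⁻¹ * x) := by group
  rw [h7]
  exact mul_mem hy (hWH h6)

/-- Construction of `Data` from the isomorphism type of `L / W`. -/
theorem Data.ofQuot [Finite G] {M L K W : Subgroup G} (hn : (W.subgroupOf L).Normal)
    (hs : IsSimpleGroup (L ⧸ W.subgroupOf L)) (hna : ¬ ∀ x y : L ⧸ W.subgroupOf L, x * y = y * x)
    (hev : 2 ∣ Nat.card (L ⧸ W.subgroupOf L)) (hgam : GamAut (L ⧸ W.subgroupOf L))
    (LM : L ≤ M) (KM : K ≤ M) (WL : W ≤ L) (WK : W ≤ K) (oddW : Odd (Nat.card W))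
    (nW : ∀ m ∈ M, ∀ w ∈ W, m * w * m⁻¹ ∈ W) (nL : ∀ m ∈ M, ∀ x ∈ L, m * x * m⁻¹ ∈ L)
    (nK : ∀ m ∈ M, ∀ x ∈ K, m * x * m⁻¹ ∈ K) (comm : ∀ x ∈ L, ∀ k ∈ K, x * k * x⁻¹ * k⁻¹ ∈ W)
    (full : ∀ m ∈ M, (∀ x ∈ L, m * x * m⁻¹ * x⁻¹ ∈ W) → m ∈ K)
    (t1 : ∀ y ∈ K, y * y = 1 → y ≠ 1 → ∀ c : G, c * y = y * c → c ∈ M)
    (t2 : ∀ g : G, g ∉ M → ∀ y ∈ K, y * y = 1 → y ≠ 1 → g * y * g⁻¹ ∉ K)
    (t3 : ∀ g : G, g ∉ M → ∃ x ∈ L, ∀ k ∈ K, g * k * g⁻¹ ∈ M → (g * k * g⁻¹)⁻¹ * x ∉ W)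
    (t4 : ∃ a ∈ K, ∃ b ∈ K, a * a = 1 ∧ b * b = 1 ∧ a * b = b * a ∧ a ≠ 1 ∧ b ≠ 1 ∧ a ≠ b) :
    Data M L K W where
  LM := LM
  KM := KM
  WL := WL
  WK := WK
  oddW := oddW
  evenL := by
    intro h
    have h1 : Nat.card (L ⧸ W.subgroupOf L) ∣ Nat.card L := card_quotient_dvd_card _
    exact (Nat.not_even_iff_odd.mpr h) (even_iff_two_dvd.mpr (hev.trans h1))
  nW := nW
  nL := nL
  nK := nK
  comm := comm
  full := full
  simple := simple_of_quot hn hs
  nab := by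
    intro h
    apply hna
    intro x y
    obtain ⟨a, rfl⟩ := QuotientGroup.mk_surjective x
    obtain ⟨b, rfl⟩ := QuotientGroup.mk_surjective y
    rw [← QuotientGroup.mk_mul, ← QuotientGroup.mk_mul, eq_comm, QuotientGroup.eq, mem_subgroupOf]
    have h1 := h b⁻¹ (L.inv_mem b.2) a⁻¹ (L.inv_mem a.2)
    have h2 := hn.conj_mem (⟨_, WL h1⟩ : L) (by rw [mem_subgroupOf]; exact h1) 1
    have h3 : (((b * a)⁻¹ * (a * b) : L) : G) = (a : G)⁻¹ * (b : G)⁻¹ * a * b := by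
      push_cast
      group
    rw [h3]
    have h4 := h a⁻¹ (L.inv_mem a.2) b⁻¹ (L.inv_mem b.2)
    simpa using h4
  t1 := t1
  t2 := t2
  t3 := t3
  t4 := t4
  gam := by
    intro a ha b hb haa hbb hab haK hbK habK
    have hnL : ∀ m ∈ M, m ∈ normalizer (L : Set G) := by
      intro m hm
      rw [mem_normalizer_iff]
      intro x
      refine ⟨nL m hm x, fun h => ?_⟩
      have h1 := nL _ (M.inv_mem hm) _ h
      have h2 : m⁻¹ * (m * x * m⁻¹) * m⁻¹⁻¹ = x := by group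
      rwa [h2] at h1
    have hnW : ∀ m ∈ M, m ∈ normalizer (W : Set G) := by
      intro m hm
      rw [mem_normalizer_iff]
      intro x
      refine ⟨nW m hm x, fun h => ?_⟩
      have h1 := nW _ (M.inv_mem hm) _ h
      have h2 : m⁻¹ * (m * x * m⁻¹) * m⁻¹⁻¹ = x := by group
      rwa [h2] at h1
    have hout : ∀ m ∈ M, m ∉ K → ∃ x ∈ L, x⁻¹ * (m * x * m⁻¹) ∉ W := by
      intro m hm hmK
      by_contra hcon
      push Not at hcon
      apply hmK
      apply full m hm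
      intro x hx
      have h1 := hcon x hx
      have h2 := nW x (LM hx) _ h1
      have h3 : x * (x⁻¹ * (m * x * m⁻¹)) * x⁻¹ = m * x * m⁻¹ * x⁻¹ := by group
      rwa [h3] at h2
    refine gam_mod' hn WL oddW hgam haa hbb hab (hnL a ha) (hnW a ha) (hnL b hb) (hnW b hb) (hout a ha haK)
      (hout b hb hbK) (hout (a * b) (M.mul_mem ha hb) habK) _ le_sup_left ?_ ?_ ?_
    · intro x hx hxa
      exact mem_sup_right (mem_sup_left (mem_sup_left ⟨hx, mem_centralizer_singleton_iff.mpr hxa⟩))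
    · intro x hx hxb
      exact mem_sup_right (mem_sup_left (mem_sup_right ⟨hx, mem_centralizer_singleton_iff.mpr hxb⟩))
    · intro x hx hxab
      exact mem_sup_right (mem_sup_right ⟨hx, mem_centralizer_singleton_iff.mpr hxab⟩)

/-! ### standard subgroups -/

/-- `SL.Data` for a standard subgroup `L`, simple of even order with (Gam), and a four-group in `C_G(L)` -/
theorem Data.of_standard_gam [Finite G] {L : Subgroup G} (hL : Cfsg.IsStandardSubgroup L)
    (hs : IsSimpleGroup L) (hna : ¬ ∀ x y : L, x * y = y * x) (hev : 2 ∣ Nat.card L) (hgam : GamAut L)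
    (t4 : ∃ a ∈ centralizer (L : Set G), ∃ b ∈ centralizer (L : Set G), a * a = 1 ∧ b * b = 1 ∧
      a * b = b * a ∧ a ≠ 1 ∧ b ≠ 1 ∧ a ≠ b) :
    Data (normalizer (L : Set G)) L (centralizer (L : Set G)) ⊥ := by
  have hb : (⊥ : Subgroup G).subgroupOf L = ⊥ := by
    rw [eq_bot_iff]
    intro x hx
    rw [Subgroup.mem_subgroupOf, Subgroup.mem_bot] at hx
    rw [Subgroup.mem_bot]
    exact Subtype.ext hx
  have hn : ((⊥ : Subgroup G).subgroupOf L).Normal := by rw [hb]; infer_instance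
  let e : L ≃* L ⧸ (⊥ : Subgroup G).subgroupOf L :=
    (QuotientGroup.quotientBot (G := L)).symm.trans (QuotientGroup.quotientMulEquivOfEq hb.symm)
  refine Data.ofQuot hn (e.symm.isSimpleGroup) ?_ ?_ (hgam.congr e)
    Subgroup.le_normalizer (by rw [hL.2.2.2]; exact Subgroup.le_normalizer)
    bot_le bot_le (by rw [Subgroup.card_bot]; exact odd_one) ?_ ?_ ?_ ?_ ?_ ?_ ?_ ?_ t4
  · intro h
    apply hna
    intro x y
    have h1 := h (e x) (e y)
    rw [← map_mul, ← map_mul] at h1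
    exact e.injective h1
  · rw [← Nat.card_congr e.toEquiv]
    exact hev
  · intro m _ w hw
    rw [Subgroup.mem_bot] at hw ⊢
    rw [hw]; group
  · intro m hm x hx
    exact (Subgroup.mem_normalizer_iff.1 hm x).1 hx
  · intro m hm x hx
    rw [hL.2.2.2] at hm
    exact (Subgroup.mem_normalizer_iff.1 hm x).1 hx
  · intro x hx k hk
    rw [Subgroup.mem_bot]
    have h1 := (Subgroup.mem_centralizer_iff.1 hk) x hx
    rw [h1]; group
  · intro m _ h
    rw [Subgroup.mem_centralizer_iff]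
    intro x hx
    have h1 := h x hx
    rw [Subgroup.mem_bot] at h1
    calc x * m = (m * x * m⁻¹ * x⁻¹) * x * m := by rw [h1, one_mul]
      _ = m * x := by group
  · exact fun y hy hy2 hy1 c hc => std_t1 hL hy hy2 hy1 hc
  · exact fun g hg y hy hy2 hy1 => std_t2 hL hg hy hy2 hy1
  · intro g hg
    obtain ⟨x, hx, h⟩ := std_t3 hL hg
    refine ⟨x, hx, ?_⟩
    intro k hk _ h1
    rw [Subgroup.mem_bot, inv_mul_eq_one] at h1
    exact h k hk h1

/-- **A standard subgroup with (Gam) in a simple group has a centralizer of 2-rank 1.** -/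
theorem standard_false [Finite G] (h1173 : P1173.{u}) (hO : Cfsg.oddCore G = ⊥) (hG : IsSimpleGroup G)
    {L : Subgroup G} (hL : Cfsg.IsStandardSubgroup L)
    (hs : IsSimpleGroup L) (hna : ¬ ∀ x y : L, x * y = y * x) (hev : 2 ∣ Nat.card L) (hgam : GamAut L)
    (t4 : ∃ a ∈ centralizer (L : Set G), ∃ b ∈ centralizer (L : Set G), a * a = 1 ∧ b * b = 1 ∧
      a * b = b * a ∧ a ≠ 1 ∧ b ≠ 1 ∧ a ≠ b) : False :=
  (Data.of_standard_gam hL hs hna hev hgam t4).false_of_simple h1173 hO hG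

/-- **A standard subgroup `L ≅ PSL₂(q)`, `q ≥ 11` odd, in a simple group has a centralizer of 2-rank 1.** -/
theorem standard_L2_false [Finite G] (h1173 : P1173.{u}) (hO : Cfsg.oddCore G = ⊥) (hG : IsSimpleGroup G)
    {L : Subgroup G} (hL : Cfsg.IsStandardSubgroup L)
    {F : Type*} [Field F] [Finite F] (R : Cfsg.Agent.GH.L2Aut.Rep F L) (hq : 11 ≤ Nat.card F)
    (t4 : ∃ a ∈ centralizer (L : Set G), ∃ b ∈ centralizer (L : Set G), a * a = 1 ∧ b * b = 1 ∧
      a * b = b * a ∧ a ≠ 1 ∧ b ≠ 1 ∧ a ≠ b) : False :=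
  (Data.of_standard_L2 hL R hq t4).false_of_simple h1173 hO hG

end Cfsg.Agent.UGT.SL
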