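import Cfsg.Agent.GH.L2One.DblLem
import Cfsg.Agent.GH.L2One.SplitCase
import Cfsg.Agent.GH.L2One.CaseOne
import Cfsg.Agent.GH.L2One.CaseTwoE
import Cfsg.Agent.OddHalf.D6.Harada

/-!
# `m₂(Q) = 1`, `|Q| ≥ 4`, `L/O(L) = L₂(q)` or `A₇`: sectional 2-rank at most 4

`Dbl` (the situation of GH-L2, CASE I, after (7)) gives `r(S) ≤ 4`: if `T > T₀`, then `S` has no normal `E₈`
(S0501); if `T = T₀`, then `S` has a self-centralizing `E₈` (S1232). Together with CASE II (`T` is not Sylow in the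
simple group `G`): `rank_of_frame`. No hypothesis on cores or on other components.
-/

set_option autoImplicit false

open Cfsg Subgroup

namespace Cfsg.Agent.UGT.FrameRank

open Cfsg.Agent.GH.L2One Cfsg.Agent.GH.L2One.DblLem

variable {G : Type*} [Group G]

/-! ### an `E₈` from three commuting involutions -/

def bl (a : G) (i : Bool) : G := bif i then a else 1

theorem bl_mul {a : G} (ha : a * a = 1) (i j : Bool) : bl a i * bl a j = bl a (xor i j) := by
  cases i <;> cases j <;> simp [bl, ha]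

theorem bl_comm {a b : G} (h : a * b = b * a) (i j : Bool) : bl a i * bl b j = bl b j * bl a i := by
  cases i <;> cases j <;> simp [bl, h]

/-- the group generated by three commuting involutions -/
theorem exists_E8 {a b c : G} (ha : a * a = 1) (hb : b * b = 1) (hc : c * c = 1) (hab : a * b = b * a)
    (hac : a * c = c * a) (hbc : b * c = c * b) (h1 : a ≠ 1) (h2 : b ≠ 1) (h3 : b ≠ a) (h4 : c ≠ 1)
    (h5 : c ≠ a) (h6 : c ≠ b) (h7 : c ≠ a * b) : ∃ E : Subgroup G, Nat.card E = 8 ∧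
      ∀ g, g ∈ E ↔ ∃ i j k : Bool, g = bl a i * bl b j * bl c k := by
  let f : Bool × Bool × Bool → G := fun p => bl a p.1 * bl b p.2.1 * bl c p.2.2
  have hmul : ∀ p q : Bool × Bool × Bool, f p * f q = f (xor p.1 q.1, xor p.2.1 q.2.1, xor p.2.2 q.2.2) := by
    intro p q
    show bl a p.1 * bl b p.2.1 * bl c p.2.2 * (bl a q.1 * bl b q.2.1 * bl c q.2.2) =
      bl a (xor p.1 q.1) * bl b (xor p.2.1 q.2.1) * bl c (xor p.2.2 q.2.2)
    rw [← bl_mul ha, ← bl_mul hb, ← bl_mul hc]
    calc bl a p.1 * bl b p.2.1 * bl c p.2.2 * (bl a q.1 * bl b q.2.1 * bl c q.2.2)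
        = bl a p.1 * bl b p.2.1 * (bl c p.2.2 * bl a q.1) * bl b q.2.1 * bl c q.2.2 := by group
      _ = bl a p.1 * bl b p.2.1 * (bl a q.1 * bl c p.2.2) * bl b q.2.1 * bl c q.2.2 := by
          rw [bl_comm hac]
      _ = bl a p.1 * (bl b p.2.1 * bl a q.1) * (bl c p.2.2 * bl b q.2.1) * bl c q.2.2 := by group
      _ = bl a p.1 * (bl a q.1 * bl b p.2.1) * (bl b q.2.1 * bl c p.2.2) * bl c q.2.2 := by
          rw [bl_comm hab, bl_comm hbc]
      _ = _ := by group
  have hone : f (false, false, false) = 1 := by simp [f, bl]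
  have hinv : ∀ p, (f p)⁻¹ = f p := by
    intro p
    apply inv_eq_of_mul_eq_one_right
    rw [hmul]
    simp only [Bool.xor_self]
    exact hone
  have hker : ∀ p, f p = 1 → p = (false, false, false) := by
    rintro ⟨i, j, k⟩ hp
    have hp' : bl a i * bl b j * bl c k = 1 := hp
    have hai : a⁻¹ = a := inv_eq_of_mul_eq_one_right ha
    have hbi : b⁻¹ = b := inv_eq_of_mul_eq_one_right hb
    cases i <;> cases j <;> cases k <;> simp only [bl, cond_true, cond_false, one_mul, mul_one] at hp'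
    · rfl
    · exact absurd hp' h4
    · exact absurd hp' h2
    · exact absurd (by rw [← hbi]; exact (eq_inv_of_mul_eq_one_right hp')) h6
    · exact absurd hp' h1
    · exact absurd (by rw [← hai]; exact (eq_inv_of_mul_eq_one_right hp')) h5
    · exact absurd (by rw [← hai]; exact (eq_inv_of_mul_eq_one_right hp')) h3
    · exact absurd (by
        have h8 := eq_inv_of_mul_eq_one_right hp'
        rw [mul_inv_rev, hai, hbi, ← hab] at h8
        exact h8) h7
  have hinj : Function.Injective f := by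
    intro p q hpq
    have h8 : f p * f q = 1 := by rw [hpq, hmul]; simp only [Bool.xor_self]; exact hone
    rw [hmul] at h8
    have h9 := hker _ h8
    obtain ⟨i, j, k⟩ := p
    obtain ⟨i', j', k'⟩ := q
    simp only [Prod.mk.injEq, bne_eq_false_iff_eq] at h9
    rw [h9.1, h9.2.1, h9.2.2]
  let E : Subgroup G :=
    { carrier := Set.range f
      mul_mem' := by
        rintro _ _ ⟨p, rfl⟩ ⟨q, rfl⟩
        exact ⟨_, (hmul p q).symm⟩
      one_mem' := ⟨_, hone⟩
      inv_mem' := by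
        rintro _ ⟨p, rfl⟩
        exact ⟨p, (hinv p).symm⟩ }
  refine ⟨E, ?_, ?_⟩
  · have e1 : Nat.card E = Nat.card (Bool × Bool × Bool) :=
      (Nat.card_congr (Equiv.ofInjective f hinj)).symm
    rw [e1]
    simp
  · intro g
    constructor
    · rintro ⟨⟨i, j, k⟩, rfl⟩
      exact ⟨i, j, k, rfl⟩
    · rintro ⟨i, j, k, rfl⟩
      exact ⟨(i, j, k), rfl⟩

/-! ### `T = T₀` -/

variable {x z : G} {T T0 D : Subgroup G} {d : ℕ} {r c s : G}

/-- `C_D(c) = {1, z, c, z c}` -/
theorem cent_c {S : Subgroup G} (h : Dbl x z S T T0 D d r c s) {e : G} (he : e ∈ D) (hec : e * c = c * e) :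
    ∃ i j : Bool, e = bl z i * bl c j := by
  obtain ⟨k, hk | hk⟩ := h.D_form e he
  · have h1 : r ^ (2 * k) = 1 := by
      rw [hk, c_rk h] at hec
      have h2 := mul_right_cancel hec
      rw [two_mul, zpow_add]
      nth_rewrite 1 [h2]
      rw [← zpow_add, neg_add_cancel, zpow_zero]
    rcases rk_sq h h1 with h3 | h3
    · exact ⟨false, false, by rw [hk, h3]; simp [bl]⟩
    · exact ⟨true, false, by rw [hk, h3]; simp [bl]⟩
  · have h1 : r ^ (2 * k) = 1 := by
      rw [hk] at hec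
      have e1 : r ^ k * c * c = r ^ k := by rw [mul_assoc, h.cc, mul_one]
      have e2 : c * (r ^ k * c) = r ^ (-k) := by
        rw [← mul_assoc, c_rk h, mul_assoc, h.cc, mul_one]
      rw [e1, e2] at hec
      rw [two_mul, zpow_add]
      nth_rewrite 1 [hec]
      rw [← zpow_add, neg_add_cancel, zpow_zero]
    rcases rk_sq h h1 with h3 | h3
    · exact ⟨false, true, by rw [hk, h3]; simp [bl]⟩
    · exact ⟨true, true, by rw [hk, h3]; simp [bl]⟩

theorem c_ne_one {S : Subgroup G} (h : Dbl x z S T T0 D d r c s) : c ≠ 1 := by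
  intro h1
  exact h.c_not 0 (by rw [h1, zpow_zero])

theorem c_ne_z {S : Subgroup G} (h : Dbl x z S T T0 D d r c s) : c ≠ z := by
  rw [z_zpow h]
  exact h.c_not _

/-- `D × D^s ⟨s⟩`, `s² = 1`: a self-centralizing `E₈` -/
theorem rank_split [Finite G] (S : Sylow 2 G) (h : Dbl x z (S : Subgroup G) T T0 D d r c s)
    (hss : s * s = 1) (hT : ∀ t ∈ T, t ∈ T0) : SectionalPRankLE 2 4 G := by
  have hsi : s⁻¹ = s := inv_eq_of_mul_eq_one_right hss
  set e := c * (s * c * s⁻¹) with he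
  have hcc := h.comm c h.c_mem c h.c_mem
  have hee : e * e = 1 := by
    rw [he, sq_split h h.c_mem h.c_mem, h.cc]; group
  have hzx : x * z * s = s * (x * z) := S_xz h h.s_mem
  have hse : s * e = e * s := by
    calc s * e = (s * c * s⁻¹) * (s * s * c * (s * s)⁻¹) * s := by rw [he]; group
      _ = (s * c * s⁻¹ * c) * s := by rw [hss]; group
      _ = e * s := by rw [← hcc]
  have heT : e ∈ T := T.mul_mem (h.D_le h.c_mem) (sD_T h h.c_mem)
  have hxzT : x * z ∈ T := T.mul_mem (x_T h) (z_T h)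
  have hze : x * z * e = e * (x * z) := S_xz h (h.T_le heT)
  have hs1 : s ≠ 1 := fun h1 => h.s_not (by rw [h1]; exact T.one_mem)
  have hxzs : x * z ≠ s := fun h1 => h.s_not (by rw [← h1]; exact hxzT)
  have he1 : e ≠ 1 := by
    intro h1
    exact c_ne_one h (split_one h h.c_mem h.c_mem h1).1
  have hes : e ≠ s := fun h1 => h.s_not (by rw [← h1]; exact heT)
  have hexz : e ≠ x * z := by
    intro h1
    have h2 : c * (s * c * s⁻¹) = z * (s * z * s⁻¹) := by
      rw [← he, h1, h.sz, xz_comm h]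
    exact c_ne_z h (unique h h.c_mem h.c_mem (z_D h) (z_D h) h2).1
  have hesxz : e ≠ s * (x * z) := by
    intro h1
    apply h.s_not
    have h2 : s = e * (x * z)⁻¹ := by rw [h1]; group
    rw [h2]
    exact T.mul_mem heT (T.inv_mem hxzT)
  obtain ⟨E, hE8, hE⟩ := exists_E8 hss (xz_sq h) hee hzx.symm hse hze hs1 (xz_ne h) hxzs he1 hes hexz hesxz
  have hmem : ∀ g, g ∈ E → ∃ i j k : Bool, g = bl s i * bl (x * z) j * bl e k := fun g hg => (hE g).1 hg
  -- elements of `T` commuting with `s` and `e`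
  have key : ∀ t ∈ T, t * s = s * t → t * e = e * t → ∃ j k : Bool, t = bl (x * z) j * bl e k := by
    intro t ht hts hte
    obtain ⟨u, hu, f, hf, htu⟩ := (h.mem_T0 t).1 (hT t ht)
    have h1 : f * (s * u * s⁻¹) = u * (s * f * s⁻¹) := by
      calc f * (s * u * s⁻¹) = (s * u * s⁻¹) * f := h.comm f hf u hu
        _ = (s * u * s⁻¹) * (s * s * f * (s * s)⁻¹) := by rw [hss]; group
        _ = s * (u * (s * f * s⁻¹)) * s⁻¹ := by group
        _ = s * t * s⁻¹ := by rw [← htu]
        _ = t := by rw [← hts]; group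
        _ = u * (s * f * s⁻¹) := htu
    have h2 := (unique h hf hu hu hf h1).1
    rw [h2] at htu
    have h3 : u * c * (s * (u * c) * s⁻¹) = c * u * (s * (c * u) * s⁻¹) := by
      have e1 : u * c * (s * (u * c) * s⁻¹) = t * e := by
        rw [htu, he]
        calc u * c * (s * (u * c) * s⁻¹) = u * (c * (s * u * s⁻¹)) * (s * c * s⁻¹) := by group
          _ = u * ((s * u * s⁻¹) * c) * (s * c * s⁻¹) := by rw [h.comm c h.c_mem u hu]
          _ = _ := by group
      have e2 : c * u * (s * (c * u) * s⁻¹) = e * t := by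
        rw [htu, he]
        calc c * u * (s * (c * u) * s⁻¹) = c * (u * (s * c * s⁻¹)) * (s * u * s⁻¹) := by group
          _ = c * ((s * c * s⁻¹) * u) * (s * u * s⁻¹) := by rw [h.comm u hu c h.c_mem]
          _ = _ := by group
      rw [e1, e2, hte]
    have h4 := (unique h (D.mul_mem hu h.c_mem) (D.mul_mem hu h.c_mem) (D.mul_mem h.c_mem hu)
      (D.mul_mem h.c_mem hu) h3).1
    obtain ⟨j, k, h5⟩ := cent_c h hu h4
    refine ⟨j, k, ?_⟩
    rw [htu, h5]
    have hcz : c * z = z * c := (T_z h (h.D_le h.c_mem))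
    cases j <;> cases k <;> simp only [bl, cond_true, cond_false, one_mul, mul_one]
    · group
    · rfl
    · rw [h.sz, xz_comm h]
    · calc z * c * (s * (z * c) * s⁻¹) = z * (c * (s * z * s⁻¹)) * (s * c * s⁻¹) := by group
        _ = z * ((s * z * s⁻¹) * c) * (s * c * s⁻¹) := by rw [h.comm c h.c_mem z (z_D h)]
        _ = (z * x) * e := by rw [h.sz, he]; group
        _ = x * z * e := by rw [xz_comm h]
  refine OddHalf.D6.Harada.rank_of_self S E ?_ ?_ ?_ hE8 ?_
  · intro g hg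
    obtain ⟨i, j, k, rfl⟩ := hmem g hg
    have hb : ∀ (a : G) (i : Bool), a ∈ (S : Subgroup G) → bl a i ∈ (S : Subgroup G) := by
      intro a i ha
      cases i
      · exact one_mem _
      · exact ha
    exact mul_mem (mul_mem (hb _ _ h.s_mem) (hb _ _ (h.T_le hxzT))) (hb _ _ (h.T_le heT))
  · intro a ha b hb
    obtain ⟨i, j, k, rfl⟩ := hmem a ha
    obtain ⟨i', j', k', rfl⟩ := hmem b hb
    have c1 : ∀ i j, Commute (bl s i) (bl s j) := fun i j => by
      cases i <;> cases j <;> simp [bl]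
    have c2 : ∀ i j, Commute (bl (x * z) i) (bl (x * z) j) := fun i j => by
      cases i <;> cases j <;> simp [bl]
    have c3 : ∀ i j, Commute (bl e i) (bl e j) := fun i j => by
      cases i <;> cases j <;> simp [bl]
    have c4 : ∀ i j, Commute (bl s i) (bl (x * z) j) := fun i j => bl_comm hzx.symm i j
    have c5 : ∀ i j, Commute (bl s i) (bl e j) := fun i j => bl_comm hse i j
    have c6 : ∀ i j, Commute (bl (x * z) i) (bl e j) := fun i j => bl_comm hze i j
    have d1 : Commute (bl s i) (bl s i' * bl (x * z) j' * bl e k') :=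
      ((c1 _ _).mul_right (c4 _ _)).mul_right (c5 _ _)
    have d2 : Commute (bl (x * z) j) (bl s i' * bl (x * z) j' * bl e k') :=
      (((c4 _ _).symm).mul_right (c2 _ _)).mul_right (c6 _ _)
    have d3 : Commute (bl e k) (bl s i' * bl (x * z) j' * bl e k') :=
      (((c5 _ _).symm).mul_right ((c6 _ _).symm)).mul_right (c3 _ _)
    exact (d1.mul_left d2).mul_left d3
  · intro a ha
    obtain ⟨i, j, k, rfl⟩ := hmem a ha
    have q1 : bl s i * bl s i = 1 := by rw [bl_mul hss, Bool.xor_self]; rfl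
    have q2 : bl (x * z) j * bl (x * z) j = 1 := by rw [bl_mul (xz_sq h), Bool.xor_self]; rfl
    have q3 : bl e k * bl e k = 1 := by rw [bl_mul hee, Bool.xor_self]; rfl
    have c4 : bl (x * z) j * bl s i = bl s i * bl (x * z) j := (bl_comm hzx.symm i j).symm
    have c5 : bl e k * bl s i = bl s i * bl e k := (bl_comm hse i k).symm
    have c6 : bl e k * bl (x * z) j = bl (x * z) j * bl e k := (bl_comm hze j k).symm
    calc bl s i * bl (x * z) j * bl e k * (bl s i * bl (x * z) j * bl e k)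
        = bl s i * bl (x * z) j * (bl e k * bl s i) * bl (x * z) j * bl e k := by group
      _ = bl s i * (bl (x * z) j * bl s i) * (bl e k * bl (x * z) j) * bl e k := by rw [c5]; group
      _ = (bl s i * bl s i) * (bl (x * z) j * bl (x * z) j) * (bl e k * bl e k) := by
          rw [c4, c6]; group
      _ = 1 := by rw [q1, q2, q3]; group
  · intro g hg hgE
    have hgs : g * s = s * g := hgE s ((hE s).2 ⟨true, false, false, by simp [bl]⟩)
    have hge : g * e = e * g := hgE e ((hE e).2 ⟨false, false, true, by simp [bl]⟩)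
    by_cases hgT : g ∈ T
    · obtain ⟨j, k, h1⟩ := key g hgT hgs hge
      exact (hE g).2 ⟨false, j, k, by rw [h1]; simp [bl]⟩
    · have h1 := h.S_form g hg hgT
      have h2 : s⁻¹ * g * s = s * (s⁻¹ * g) := by rw [mul_assoc, hgs]; group
      have h3 : s⁻¹ * g * e = e * (s⁻¹ * g) := by
        have : s⁻¹ * e = e * s⁻¹ := by rw [hsi]; exact hse
        calc s⁻¹ * g * e = s⁻¹ * (g * e) := by group
          _ = (s⁻¹ * e) * g := by rw [hge]; group
          _ = e * (s⁻¹ * g) := by rw [this]; group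
      obtain ⟨j, k, h4⟩ := key _ h1 h2 h3
      refine (hE g).2 ⟨true, j, k, ?_⟩
      have h5 : g = s * (s⁻¹ * g) := by group
      rw [h5, h4]
      simp only [bl, cond_true]
      group

/-! ### `T > T₀` -/

/-- an element of `T₀` commuting with its conjugate by `a ∈ T - T₀` has no reflection as `D`-component -/
theorem not_refl {S : Subgroup G} (hD : Dbl x z S T T0 D d r c s) {a : G} (haT : a ∈ T) (haT0 : a ∉ T0)
    {e f : G} (he : e ∈ D) (hf : f ∈ D)
    (hcom : e * (s * f * s⁻¹) * (a * (e * (s * f * s⁻¹)) * a⁻¹) =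
      a * (e * (s * f * s⁻¹)) * a⁻¹ * (e * (s * f * s⁻¹))) (k : ℤ) : e ≠ r ^ k * c := by
  rintro rfl
  obtain ⟨l, hlo, hl⟩ := conj_r hD haT
  obtain ⟨j, hj⟩ := conj_c hD haT
  have hjo : Odd j := by
    rw [← Int.not_even_iff_odd, ← hD.swap a haT j hj]
    exact haT0
  have h1 := conj_refl hD hl hj k
  obtain ⟨f', hf', h2⟩ := conj_sD hD haT hf
  have h4 : a * (r ^ k * c * (s * f * s⁻¹)) * a⁻¹ = (r ^ (l * k + j) * c) * (s * f' * s⁻¹) := by
    calc a * (r ^ k * c * (s * f * s⁻¹)) * a⁻¹ = (a * (r ^ k * c) * a⁻¹) * (a * (s * f * s⁻¹) * a⁻¹) := by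
          group
      _ = _ := by rw [h1, h2]
  rw [h4] at hcom
  have hm1 : r ^ (l * k + j) * c ∈ D := D.mul_mem (D.zpow_mem hD.r_mem _) hD.c_mem
  have h5 : r ^ k * c * (s * f * s⁻¹) * (r ^ (l * k + j) * c * (s * f' * s⁻¹)) =
      (r ^ k * c * (r ^ (l * k + j) * c)) * (s * (f * f') * s⁻¹) := by
    calc r ^ k * c * (s * f * s⁻¹) * (r ^ (l * k + j) * c * (s * f' * s⁻¹))
        = r ^ k * c * ((s * f * s⁻¹) * (r ^ (l * k + j) * c)) * (s * f' * s⁻¹) := by group
      _ = _ := by rw [← hD.comm _ hm1 f hf]; group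
  have h6 : r ^ (l * k + j) * c * (s * f' * s⁻¹) * (r ^ k * c * (s * f * s⁻¹)) =
      (r ^ (l * k + j) * c * (r ^ k * c)) * (s * (f' * f) * s⁻¹) := by
    calc r ^ (l * k + j) * c * (s * f' * s⁻¹) * (r ^ k * c * (s * f * s⁻¹))
        = r ^ (l * k + j) * c * ((s * f' * s⁻¹) * (r ^ k * c)) * (s * f * s⁻¹) := by group
      _ = _ := by rw [← hD.comm _ he f' hf']; group
  rw [h5, h6, refl_mul_refl hD, refl_mul_refl hD] at hcom
  have h7 := (unique hD (D.zpow_mem hD.r_mem _) (D.mul_mem hf hf') (D.zpow_mem hD.r_mem _)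
    (D.mul_mem hf' hf) hcom).1
  rw [rk_eq hD] at h7
  have h8 := four_dvd hD h7
  obtain ⟨i, rfl⟩ := hlo
  obtain ⟨i', rfl⟩ := hjo
  have h9 : k - ((2 * i + 1) * k + (2 * i' + 1)) - ((2 * i + 1) * k + (2 * i' + 1) - k) =
      4 * (-(i * k) - i') - 2 := by ring
  rw [h9] at h8
  omega

/-- if `T > T₀` a normal elementary abelian subgroup of `S` lies in `⟨x, z⟩` -/
theorem normal_mem {S : Subgroup G} (h : Dbl x z S T T0 D d r c s) {a : G} (ha : a ∈ T) (ha0 : a ∉ T0)
    {U : Subgroup G} (hUS : U ≤ S) (hUn : ∀ g ∈ S, ∀ u ∈ U, g * u * g⁻¹ ∈ U) (hUc : ∀ u ∈ U, ∀ v ∈ U, u * v = v * u)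
    (hU2 : ∀ u ∈ U, u * u = 1) {g : G} (hg : g ∈ U) : g = 1 ∨ g = x ∨ g = z ∨ g = x * z := by
  have hgS := hUS hg
  have hgg := hU2 g hg
  have hgi : g⁻¹ = g := inv_eq_of_mul_eq_one_right hgg
  -- `g ∈ T`
  have hgT : g ∈ T := by
    by_contra hT
    have h1 := h.S_form g hgS hT
    have hr : r ∈ S := h.T_le (h.D_le h.r_mem)
    have hri : r⁻¹ ∈ S := S.inv_mem hr
    have h2 : r⁻¹ * g * r⁻¹⁻¹ ∈ U := hUn _ hri g hg
    have h3 : g * (r⁻¹ * g * r) ∈ U := by
      rw [inv_inv] at h2; exact U.mul_mem hg h2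
    obtain ⟨l, -, hl⟩ := conj_r h (T.inv_mem h1)
    -- `g r⁻¹ g = s e s⁻¹`
    have hte := h.D_norm _ h1 r⁻¹ (D.inv_mem h.r_mem)
    set e := s⁻¹ * g * r⁻¹ * (s⁻¹ * g)⁻¹ with he
    have h5 : g * (r⁻¹ * g * r) = (s * e * s⁻¹) * r := by
      calc g * (r⁻¹ * g * r) = (g * r⁻¹ * g⁻¹) * (g * g) * r := by group
        _ = (s * e * s⁻¹) * r := by rw [hgg, he]; group
    have h6 := hU2 _ h3
    rw [h5] at h6
    have h7 : (s * e * s⁻¹) * r * ((s * e * s⁻¹) * r) = (r * r) * (s * (e * e) * s⁻¹) := by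
      have h8 := h.comm r h.r_mem e hte
      calc (s * e * s⁻¹) * r * ((s * e * s⁻¹) * r) = ((s * e * s⁻¹) * r) * ((s * e * s⁻¹) * r) := rfl
        _ = (r * (s * e * s⁻¹)) * (r * (s * e * s⁻¹)) := by rw [h8]
        _ = _ := sq_split h h.r_mem hte
    rw [h7] at h6
    have h8 := (split_one h (D.mul_mem h.r_mem h.r_mem) (D.mul_mem hte hte) h6).1
    apply two_odd h odd_one
    rw [mul_one, zpow_two]; exact h8
  by_cases hg0 : g ∈ T0
  · obtain ⟨e, he, f, hf, hef⟩ := (h.mem_T0 g).1 hg0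
    have hef2 := hgg
    rw [hef, sq_split h he hf] at hef2
    obtain ⟨hee, hff⟩ := split_one h (D.mul_mem he he) (D.mul_mem hf hf) hef2
    have hcom := hUc g hg _ (hUn a (h.T_le ha) g hg)
    rw [hef] at hcom
    have h1 := not_refl h ha ha0 he hf hcom
    -- the second component
    have hsg : s⁻¹ * g * s ∈ U := by
      have := hUn s⁻¹ (S.inv_mem h.s_mem) g hg
      rwa [inv_inv] at this
    have hss : (s * s)⁻¹ ∈ T := T.inv_mem (ss_T h)
    have he' : (s * s)⁻¹ * e * (s * s) ∈ D := by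
      have := h.D_norm _ hss e he
      rwa [inv_inv] at this
    have hsg2 : s⁻¹ * g * s = f * (s * ((s * s)⁻¹ * e * (s * s)) * s⁻¹) := by
      rw [h.comm f hf _ he', hef]; group
    have hcom2 := hUc _ hsg _ (hUn a (h.T_le ha) _ hsg)
    rw [hsg2] at hcom2
    have h2 := not_refl h ha ha0 hf he' hcom2
    rcases D_inv h he hee with h3 | h3 | ⟨k, h3⟩
    · rcases D_inv h hf hff with h4 | h4 | ⟨k, h4⟩
      · left; rw [hef, h3, h4]; group
      · right; left; rw [hef, h3, h4, h.sz, one_mul]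
      · exact absurd h4 (h2 k)
    · rcases D_inv h hf hff with h4 | h4 | ⟨k, h4⟩
      · right; right; left; rw [hef, h3, h4]; group
      · right; right; right; rw [hef, h3, h4, h.sz, xz_comm h]
      · exact absurd h4 (h2 k)
    · exact absurd h3 (h1 k)
  · exfalso
    obtain ⟨k, hk⟩ := conj_c h hgT
    have hko : Odd k := by
      rw [← Int.not_even_iff_odd, ← h.swap g hgT k hk]
      exact hg0
    have h1 : g * (c * g * c⁻¹) ∈ U := U.mul_mem hg (hUn c (h.T_le (h.D_le h.c_mem)) g hg)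
    have h2 : g * (c * g * c⁻¹) = r ^ k := by
      calc g * (c * g * c⁻¹) = (g * c * g⁻¹) * c⁻¹ := by rw [hgi]; group
        _ = r ^ k := by rw [hk]; group
    have h3 := hU2 _ h1
    rw [h2, ← zpow_add, ← two_mul] at h3
    exact two_odd h hko h3

theorem rank_big [Finite G] (S : Sylow 2 G) (h : Dbl x z (S : Subgroup G) T T0 D d r c s)
    {a : G} (ha : a ∈ T) (ha0 : a ∉ T0) : SectionalPRankLE 2 4 G := by
  classical
  have : Fact (Nat.Prime 2) := ⟨Nat.prime_two⟩
  rw [← GH.Rank.sylow_iff S]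
  refine Cfsg.Agent.S0501.result S.isPGroup' ?_
  intro A hAn hAc hA2
  have key : ∀ g ∈ A, (g : G) = 1 ∨ (g : G) = x ∨ (g : G) = z ∨ (g : G) = x * z := by
    intro g hg
    refine normal_mem h ha ha0 (U := A.map (S : Subgroup G).subtype) ?_ ?_ ?_ ?_ ⟨g, hg, rfl⟩
    · rintro _ ⟨u, -, rfl⟩
      exact u.2
    · rintro w hw _ ⟨u, hu, rfl⟩
      exact ⟨⟨w, hw⟩ * u * ⟨w, hw⟩⁻¹, hAn.conj_mem u hu ⟨w, hw⟩, rfl⟩
    · rintro _ ⟨u, hu, rfl⟩ _ ⟨v, hv, rfl⟩
      exact congrArg (fun y : A => ((y : ↥(S : Subgroup G)) : G)) (hAc.is_comm.comm (⟨u, hu⟩ : A) ⟨v, hv⟩)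
    · rintro _ ⟨u, hu, rfl⟩
      have h1 := hA2 u hu
      rw [pow_two] at h1
      exact congrArg Subtype.val h1
  -- `A` embeds in a set of four elements
  let F : Finset G := {1, x, z, x * z}
  have hF : F.card ≤ 4 := Finset.card_le_four
  let φ : A → F := fun g => ⟨((g : ↥(S : Subgroup G)) : G), by
    rcases key g g.2 with h1 | h1 | h1 | h1 <;> rw [h1] <;> simp [F]⟩
  have hφ : Function.Injective φ := by
    intro g g' hgg
    apply Subtype.ext
    apply Subtype.ext
    exact congrArg (fun y : F => (y : G)) hgg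
  calc Nat.card A ≤ Nat.card F := Nat.card_le_card_of_injective φ hφ
    _ = F.card := by rw [Nat.card_eq_fintype_card, Fintype.card_coe]
    _ ≤ 4 := hF

/-- **CASE I gives sectional 2-rank at most 4.** -/
theorem rank_of_dbl [Finite G] (S : Sylow 2 G) (h : Dbl x z (S : Subgroup G) T T0 D d r c s) :
    SectionalPRankLE 2 4 G := by
  by_cases hT : ∀ t ∈ T, t ∈ T0
  · obtain ⟨t, ht, h1⟩ := SplitCase.exists_inv h (hT _ (ss_T h))
    exact rank_split S (SplitCase.change h (T0_le h ht)) h1 hT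
  · push Not at hT
    obtain ⟨a, ha, ha0⟩ := hT
    exact rank_big S h ha ha0

/-- **`m₂(Q) = 1`, `|Q| ≥ 4`: sectional 2-rank at most 4.** -/
theorem rank_of_frame [Finite G] [IsSimpleGroup G] (hG : ¬ IsMulCommutative G) {A : Type*} [Group A]
    {K Q : Subgroup G} {o1 : G → ℤˣ} {o2 : G → A} (F : Frame x K T D Q d r c o1 o2) :
    SectionalPRankLE 2 4 G := by
  obtain ⟨P, hTP⟩ := F.T_two.exists_le_sylow
  have hn : ∃ a b : G, a * b ≠ b * a := by
    by_contra hcon
    push Not at hcon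
    exact hG ⟨⟨hcon⟩⟩
  by_cases hPT : T = (P : Subgroup G)
  · exact (caseTwo inferInstance hn F P hPT.symm).elim
  · obtain ⟨s, T0, h, -⟩ := CaseOne.dbl F P.isPGroup' hTP hPT
    exact rank_of_dbl P h

end Cfsg.Agent.UGT.FrameRank
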