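import Cfsg.Agent.UGT.RedAltC
import Cfsg.Agent.Lib.PSL2Four
import Cfsg.Agent.LThreeFour.Exists
import Cfsg.Agent.LThreeFour.Inv
import Cfsg.Agent.GH.L2Aut

/-!
# `A₇` is not involved in `PSL₂(q)`, `q` odd, nor in `PSL₃(4)` (locally)

* `NoWing K`: no nontrivial element of odd order of `K` centralizes a four-group.
* `noWing_L2`, `noWing_L34`.
* `exists_wing`: a 2-component of type `Aₙ`, `n ≥ 7`, has such an element.
* `not_bar`, `not_bar_center`.
-/

set_option autoImplicit false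

open Cfsg Subgroup Equiv Equiv.Perm
open Cfsg.Agent.SignalizersComponents Cfsg.Agent.Lib
open Cfsg.Agent.SignalizersComponents.IntrinsicBasic
open Cfsg.Agent.SignalizersComponents.IntrinsicIntr
open Cfsg.Agent.SignalizersComponents.PLayerAut
open Cfsg.Agent.Intrinsic.Basic Cfsg.Agent.Intrinsic.Cen Cfsg.Agent.Intrinsic.Diag
open Cfsg.Agent.McLLyComp.Act
open Cfsg.Agent.UGT.Triple Cfsg.Agent.UGT.LemG Cfsg.Agent.UGT.PumpGen
open Cfsg.Agent.UAlt Cfsg.Agent.UGT.Iface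
open Cfsg.Agent.ClassicalGeometry.KleinCount
open scoped commutatorElement

namespace Cfsg.Agent.UGT.NoWing

/-- no nontrivial element of odd order centralizes a four-group -/
def NoWing (K : Type*) [Group K] : Prop :=
  ∀ t u w : K, CommInv t u → w * t = t * w → w * u = u * w → Odd (orderOf w) → w = 1

theorem NoWing.congr {K K' : Type*} [Group K] [Group K'] (h : NoWing K') (e : K ≃* K') : NoWing K := by
  intro t u w htu hwt hwu ho
  apply (MulEquiv.map_eq_one_iff e).mp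
  refine h (e t) (e u) (e w) ⟨?_, ?_, ?_, ?_, ?_, ?_⟩ ?_ ?_ ?_
  · exact fun h1 => htu.hx ((MulEquiv.map_eq_one_iff e).mp h1)
  · exact fun h1 => htu.hy ((MulEquiv.map_eq_one_iff e).mp h1)
  · exact fun h1 => htu.hxy (e.injective h1)
  · rw [← map_mul, htu.xx, map_one]
  · rw [← map_mul, htu.yy, map_one]
  · rw [← map_mul, htu.comm, map_mul]
  · rw [← map_mul, hwt, map_mul]
  · rw [← map_mul, hwu, map_mul]
  · rwa [MulEquiv.orderOf_eq]

theorem noWing_L2 {K : Type*} [Group K] (h : IsL2 K) : NoWing K := by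
  obtain ⟨F, i1, i2, hodd, h5, ⟨e⟩⟩ := h
  refine NoWing.congr ?_ e
  intro t u w htu hwt hwu ho
  exact PSL2Four.eq_one_of_odd (GH.L2Aut.two_ne_zero_of_odd hodd) htu hwt hwu ho

theorem noWing_L34 {K : Type*} [Group K] (h : IsL34 K) : NoWing K := by
  obtain ⟨F, i1, i2, h4, ⟨e⟩⟩ := h
  obtain ⟨A⟩ := LThreeFour.exists_dat h4 e
  intro t u w htu hwt hwu ho
  obtain ⟨g, hg⟩ := A.invol_conj t htu.hx htu.xx
  have h1 : (g * w * g⁻¹) * A.x 0 2 1 = A.x 0 2 1 * (g * w * g⁻¹) := by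
    rw [← hg]
    calc g * w * g⁻¹ * (g * t * g⁻¹) = g * (w * t) * g⁻¹ := by group
      _ = g * (t * w) * g⁻¹ := by rw [hwt]
      _ = _ := by group
  have h2 : g * w * g⁻¹ ∈ A.T := by
    obtain ⟨p, hp⟩ := A.cent _ h1
    exact ⟨p, hp.symm⟩
  have h3 : (⟨g * w * g⁻¹, h2⟩ : A.T) ^ 64 = 1 := by
    rw [← A.card_T]; exact pow_card_eq_one'
  have h4 : (g * w * g⁻¹) ^ 64 = 1 := congrArg Subtype.val h3
  have h5 : w ^ 64 = 1 := by
    rw [conj_pow] at h4
    exact conj_eq_one_iff.mp h4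
  have h6 : orderOf w ∣ 2 ^ 6 := orderOf_dvd_of_pow_eq_one h5
  have h7 : Nat.Coprime (orderOf w) (2 ^ 6) := (Nat.coprime_two_right.mpr ho).pow_right 6
  exact orderOf_eq_one_iff.mp (Nat.Coprime.eq_one_of_dvd h7 h6)

variable {α : Type*} [Fintype α] [DecidableEq α]

/-- `Alt(7)` in `Alt(T)` -/
theorem exists_emb {T : Finset α} (h7 : 7 ≤ T.card) : ∃ e : Perm (Fin 7) →* Perm α,
    Function.Injective e ∧ ∀ σ, Perm.sign σ = 1 → e σ ∈ alt T := by
  obtain ⟨f⟩ := Function.Embedding.nonempty_of_card_le (α := Fin 7) (β := T)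
    (by rw [Fintype.card_fin, Fintype.card_coe]; exact h7)
  obtain ⟨f', hf'⟩ : ∃ f' : Fin 7 ↪ α, ∀ i, f' i ∈ T :=
    ⟨f.trans (Function.Embedding.subtype _), fun i => (f i).2⟩
  refine ⟨Equiv.Perm.extendDomainHom f'.toEquivRange, Equiv.Perm.extendDomainHom_injective _, ?_⟩
  intro σ hσ
  refine ⟨?_, fun i hi => ?_⟩
  · refine Perm.mem_alternatingGroup.mpr ?_
    rw [Equiv.Perm.extendDomainHom_apply, Perm.sign_extendDomain]
    exact hσ
  · rw [Equiv.Perm.extendDomainHom_apply]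
    refine Perm.extendDomain_apply_not_subtype _ _ ?_
    rintro ⟨j, rfl⟩
    exact hi (hf' j)

variable {G : Type*} [Group G] [Finite G]

theorem odd_orderOf_pow (w : G) : Odd (orderOf (w ^ 4 ^ (orderOf w).factorization 2)) := by
  set k := (orderOf w).factorization 2 with hk
  obtain ⟨m, hm⟩ := Nat.ordProj_dvd (orderOf w) 2
  rw [← hk] at hm
  have hm' : ¬ 2 ∣ m := by
    have h1 := Nat.not_dvd_ordCompl Nat.prime_two (orderOf_pos w).ne'
    rw [← hk] at h1
    have h2 : orderOf w / 2 ^ k = m := by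
      rw [hm, Nat.mul_div_cancel_left _ (by positivity)]
    rwa [h2] at h1
  have hodd : Odd m := by
    rw [← Nat.not_even_iff_odd, even_iff_two_dvd]
    exact hm'
  refine Odd.of_dvd_nat hodd (orderOf_dvd_of_pow_eq_one ?_)
  have h4 : (4 : ℕ) = 2 * 2 := rfl
  rw [← pow_mul, h4, mul_pow, mul_assoc, ← hm, mul_comm, pow_mul, pow_orderOf_eq_one, one_pow]

theorem exists_wing {M : Subgroup G} {T : Finset α} (Mo : Mod M T) (h7 : 7 ≤ T.card) :
    ∃ t ∈ M, ∃ u ∈ M, ∃ w ∈ M, t * t = 1 ∧ u * u = 1 ∧ t * u = u * t ∧ w * t = t * w ∧ w * u = u * w ∧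
      Odd (orderOf w) ∧ Mo.φ t ≠ 1 ∧ Mo.φ u ≠ 1 ∧ Mo.φ t ≠ Mo.φ u ∧ Mo.φ w ≠ 1 := by
  obtain ⟨e, he, hT⟩ := exists_emb h7
  obtain ⟨t0, ht0⟩ : ∃ t0 : Perm (Fin 7), t0 = swap 0 1 * swap 2 3 := ⟨_, rfl⟩
  obtain ⟨u0, hu0⟩ : ∃ u0 : Perm (Fin 7), u0 = swap 0 2 * swap 1 3 := ⟨_, rfl⟩
  obtain ⟨w0, hw0⟩ : ∃ w0 : Perm (Fin 7), w0 = swap 4 5 * swap 5 6 := ⟨_, rfl⟩
  have e1 : t0 * t0 = 1 := by rw [ht0]; decide +kernel
  have e2 : u0 * u0 = 1 := by rw [hu0]; decide +kernel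
  have e3 : t0 * u0 = u0 * t0 := by rw [ht0, hu0]; decide +kernel
  have e4 : t0 * w0 = w0 * t0 := by rw [ht0, hw0]; decide +kernel
  have e5 : u0 * w0 = w0 * u0 := by rw [hu0, hw0]; decide +kernel
  have e6 : w0 ^ 3 = 1 := by rw [hw0]; decide +kernel
  have e7 : t0 ≠ 1 := by rw [ht0]; decide +kernel
  have e8 : u0 ≠ 1 := by rw [hu0]; decide +kernel
  have e9 : t0 ≠ u0 := by rw [ht0, hu0]; decide +kernel
  have e10 : w0 ≠ 1 := by rw [hw0]; decide +kernel
  have s1 : Perm.sign t0 = 1 := by rw [ht0]; decide +kernel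
  have s2 : Perm.sign u0 = 1 := by rw [hu0]; decide +kernel
  have s3 : Perm.sign w0 = 1 := by rw [hw0]; decide +kernel
  have hone : (1 : G) ∈ normalizer (M : Set G) := one_mem _
  obtain ⟨t, htM, htt, -, hφt⟩ := Mo.exists_inv_lift hone (n := 0) (one_pow _) (hT t0 s1)
    (by rw [← map_mul, e1, map_one]) (by rw [Mo.one, one_mul, mul_one])
  have htN := le_normalizer (H := M) htM
  have ht2 : t ^ 2 ^ 1 = 1 := by rw [pow_one, pow_two, htt]
  obtain ⟨u, huM, huu, htu, hφu⟩ := Mo.exists_inv_lift htN ht2 (hT u0 s2)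
    (by rw [← map_mul, e2, map_one]) (by rw [hφt, ← map_mul, e3, map_mul])
  have huN := le_normalizer (H := M) huM
  obtain ⟨w1, hwM, htw, hφw⟩ := Mo.exists_comm_lift htN ht2 (hT w0 s3)
    (by rw [hφt, ← map_mul, e4, map_mul])
  have hwN := le_normalizer (H := M) hwM
  -- make it commute with `u`
  obtain ⟨F, hF⟩ : ∃ F, F = core M ⊓ centralizer ({t} : Set G) := ⟨_, rfl⟩
  have hFodd : Odd (Nat.card F) := by
    rw [hF]
    exact Odd.of_dvd_nat (odd_card_core M) (card_dvd_of_le inf_le_left)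
  have hut : u ∈ centralizer ({t} : Set G) := mem_c htu.symm
  have huF : u ∈ normalizer (F : Set G) := by
    have h1 : u ∈ normalizer (core M : Set G) := le_normalizer_core M huM
    have h2 : u ∈ normalizer (centralizer ({t} : Set G) : Set G) := le_normalizer hut
    rw [mem_normalizer_iff_cj] at h1 h2 ⊢
    rw [hF, cj_inf, h1, h2]
  have hmem : w1⁻¹ * (u * w1 * u⁻¹) ∈ F := by
    rw [hF]
    refine mem_inf.mpr ⟨?_, ?_⟩
    · rw [← Mo.eq_iff hwM (mul_mem (mul_mem huM hwM) (inv_mem huM)), Mo.conj huN hwN, hφw, hφu,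
        ← map_mul, e5, map_mul, mul_inv_cancel_right]
    · have hwt : w1 ∈ centralizer ({t} : Set G) := mem_c htw.symm
      exact mul_mem (inv_mem hwt) (mul_mem (mul_mem hut hwt) (inv_mem hut))
  obtain ⟨o, ho, hwo⟩ := Intrinsic.Lifting.exists_commute (n := 1) hFodd
    (by rw [pow_one, pow_two, huu]) huF hmem
  rw [hF] at ho
  have hoM := core_le M ho.1
  have hφo : Mo.φ o = 1 := (Mo.core_iff o hoM).mpr ho.1
  have hto : t * o = o * t := (comm_c ho.2).symm
  obtain ⟨w2, hw2⟩ : ∃ w2, w2 = w1 * o := ⟨_, rfl⟩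
  have hw2M : w2 ∈ M := hw2 ▸ mul_mem hwM hoM
  have hw2t : Commute w2 t := by
    show w2 * t = t * w2
    rw [hw2]
    calc w1 * o * t = w1 * (t * o) := by rw [hto]; group
      _ = (t * w1) * o := by rw [htw]; group
      _ = t * (w1 * o) := by group
  have hw2u : Commute w2 u := by
    show w2 * u = u * w2
    rw [hw2]; exact hwo.symm
  have hφw2 : Mo.φ w2 = e w0 := by
    rw [hw2, Mo.mul _ _ hwN (le_normalizer hoM), hφw, hφo, mul_one]
  obtain ⟨k, hk⟩ : ∃ k, k = (orderOf w2).factorization 2 := ⟨_, rfl⟩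
  refine ⟨t, htM, u, huM, w2 ^ 4 ^ k, pow_mem hw2M _, htt, huu, htu, ?_, ?_, ?_, ?_, ?_, ?_, ?_⟩
  · exact (hw2t.pow_left _).eq
  · exact (hw2u.pow_left _).eq
  · rw [hk]; exact odd_orderOf_pow w2
  · rw [hφt]
    exact fun h => e7 (he (by rw [h, map_one]))
  · rw [hφu]
    exact fun h => e8 (he (by rw [h, map_one]))
  · rw [hφt, hφu]
    exact fun h => e9 (he h)
  · rw [Mo.pow (le_normalizer hw2M), hφw2, ← map_pow]
    intro h
    have h1 : w0 ^ 4 ^ k = 1 := he (by rw [h, map_one])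
    apply e10
    have h2 : 4 ^ k % 3 = 1 := by
      rw [Nat.pow_mod]; norm_num
    rw [← Nat.div_add_mod (4 ^ k) 3, h2, pow_add, pow_mul, e6, one_pow, one_mul, pow_one] at h1
    exact h1

/-- there is no homomorphism with odd kernel into a group without wings -/
theorem no_hom {M : Subgroup G} {T : Finset α} (Mo : Mod M T) (h7 : 7 ≤ T.card) {K : Type*} [Group K]
    (hK : NoWing K) (f : ↥M →* K) (hf : ∀ m : ↥M, f m = 1 → Mo.φ m = 1) : False := by
  obtain ⟨t, ht, u, hu, w, hw, h1, h2, h3, h4, h5, h6, h7, h8, h9, h10⟩ := exists_wing Mo h7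
  apply h10
  apply hf ⟨w, hw⟩
  refine hK (f ⟨t, ht⟩) (f ⟨u, hu⟩) _ ⟨?_, ?_, ?_, ?_, ?_, ?_⟩ ?_ ?_ ?_
  · exact fun h => h7 (hf _ h)
  · exact fun h => h8 (hf _ h)
  · intro h
    apply h9
    have h11 : f (⟨t, ht⟩ * ⟨u, hu⟩⁻¹) = 1 := by rw [map_mul, map_inv, h, mul_inv_cancel]
    have h12 := hf _ h11
    change Mo.φ (t * u⁻¹) = 1 at h12
    rw [Mo.mul _ _ (le_normalizer ht) (inv_mem (le_normalizer hu)), Mo.inv (le_normalizer hu),
      mul_inv_eq_one] at h12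
    exact h12
  · rw [← map_mul, ← map_one f]
    exact congrArg f (Subtype.ext h1)
  · rw [← map_mul, ← map_one f]
    exact congrArg f (Subtype.ext h2)
  · rw [← map_mul, ← map_mul]
    exact congrArg f (Subtype.ext h3)
  · rw [← map_mul, ← map_mul]
    exact congrArg f (Subtype.ext h4)
  · rw [← map_mul, ← map_mul]
    exact congrArg f (Subtype.ext h5)
  · refine Odd.of_dvd_nat h6 ?_
    refine (orderOf_map_dvd f _).trans ?_
    rw [Subgroup.orderOf_mk]

theorem core_of_le {M N : Subgroup G} (hMN : M ≤ N) {m : G} (hm : m ∈ M) (hmN : m ∈ core N) :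
    m ∈ core M := by
  have h1 : M ⊓ core N ≤ core M := by
    refine le_core inf_le_left ?_ ?_
    · intro g hg
      have h1 : g ∈ normalizer (M : Set G) := le_normalizer hg
      have h2 : g ∈ normalizer (core N : Set G) := le_normalizer_core N (hMN hg)
      rw [mem_normalizer_iff_cj] at h1 h2 ⊢
      rw [cj_inf, h1, h2]
    · exact Odd.of_dvd_nat (odd_card_core N) (card_dvd_of_le inf_le_right)
  exact h1 ⟨hm, hmN⟩

/-- a subgroup of type `Aₙ`, `n ≥ 7`, of `N`: `N / O(N)` has wings -/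
theorem not_bar {M N : Subgroup G} (hMN : M ≤ N) {T : Finset α} (Mo : Mod M T) (h7 : 7 ≤ T.card) :
    ¬ NoWing (Bar N) := by
  intro hK
  refine no_hom Mo h7 hK ((QuotientGroup.mk' (oddCore ↥N)).comp (inclusion hMN)) fun m hm => ?_
  rw [MonoidHom.comp_apply] at hm
  have h1 : inclusion hMN m ∈ oddCore ↥N := (QuotientGroup.eq_one_iff _).mp hm
  have h2 : (m : G) ∈ core N := (mem_core_iff (hMN m.2)).mpr h1
  exact (Mo.core_iff _ m.2).mpr (core_of_le hMN m.2 h2)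

/-- a subgroup of type `Aₙ`, `n ≥ 7`, of `N`: `(N / O(N)) / Z` has wings -/
theorem not_bar_center {M N : Subgroup G} (hMN : M ≤ N) {T : Finset α} (Mo : Mod M T)
    (h7 : 7 ≤ T.card) : ¬ NoWing (Bar N ⧸ center (Bar N)) := by
  intro hK
  refine no_hom Mo h7 hK ((QuotientGroup.mk' (center (Bar N))).comp
    ((QuotientGroup.mk' (oddCore ↥N)).comp (inclusion hMN))) fun m hm => ?_
  rw [MonoidHom.comp_apply, MonoidHom.comp_apply] at hm
  have h1 : QuotientGroup.mk' (oddCore ↥N) (inclusion hMN m) ∈ center (Bar N) :=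
    (QuotientGroup.eq_one_iff _).mp hm
  rw [mem_center_iff] at h1
  have hmN := le_normalizer (H := M) m.2
  have key : ∀ σ ∈ alt T, Mo.φ m * σ = σ * Mo.φ m := by
    intro σ hσ
    obtain ⟨k, hk, rfl⟩ := Mo.lift σ hσ
    have hkN := le_normalizer (H := M) hk
    have h2 := h1 (QuotientGroup.mk' (oddCore ↥N) (inclusion hMN ⟨k, hk⟩))
    rw [← map_mul, ← map_mul] at h2
    have h3 := QuotientGroup.eq.mp h2
    have h4 : ((k * m : G)⁻¹ * (m * k) : G) ∈ core N := by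
      have h5 : ((k * m : G)⁻¹ * (m * k) : G) ∈ N :=
        mul_mem (inv_mem (mul_mem (hMN hk) (hMN m.2))) (mul_mem (hMN m.2) (hMN hk))
      exact (mem_core_iff h5).mpr h3
    have h5 : ((k * m : G)⁻¹ * (m * k) : G) ∈ core M :=
      core_of_le hMN (mul_mem (inv_mem (mul_mem hk m.2)) (mul_mem m.2 hk)) h4
    rw [← Mo.eq_iff (mul_mem hk m.2) (mul_mem m.2 hk), Mo.mul _ _ hkN hmN, Mo.mul _ _ hmN hkN] at h5
    exact h5.symm
  ext i
  by_cases hi : i ∈ T
  · exact apply_of_comm_alt (S := T) (by omega) key hi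
  · exact Mo.mem_sym _ hmN i hi

end Cfsg.Agent.UGT.NoWing
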