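import Cfsg.Agent.McLLyComp.PumpT
import Cfsg.Agent.SignalizersComponents.BalanceDelta

/-!
# Unbalancing triples

`x ∈ H` an involution, `D = O(C_H(x))`, `L` a 2-component of `H`.

* `mem_normalizer`: `D` normalizes `L`.
* `of_not_fixes`: if some `d ∈ D` does not centralize `L / O(L)`, then `x` normalizes `L` and does not
  centralize `L / O(L)`.
* `Triple x a L`: `a`, `x` commuting involutions, `L` a 2-component of `C(a)`, `O(C(x)) ∩ C(a)` does not
  centralize `L / O(L)`.
* `Triple.pump`: the pump-up of a triple to `C(c)`.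
-/

set_option autoImplicit false

open Cfsg Subgroup
open Cfsg.Agent.SignalizersComponents Cfsg.Agent.Lib
open Cfsg.Agent.SignalizersComponents.IntrinsicBasic
open Cfsg.Agent.SignalizersComponents.IntrinsicIntr
open Cfsg.Agent.SignalizersComponents.PLayerAut
open Cfsg.Agent.Intrinsic.Basic Cfsg.Agent.Intrinsic.Cen Cfsg.Agent.Intrinsic.Diag
open Cfsg.Agent.McLLyComp.Act
open scoped commutatorElement

namespace Cfsg.Agent.UGT.Triple

variable {G : Type*} [Group G]

theorem sq_of_order {x : G} (h : orderOf x = 2) : x * x = 1 := by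
  rw [← pow_two, ← h, pow_orderOf_eq_one]

theorem ne_one_of_order {x : G} (h : orderOf x = 2) : x ≠ 1 := by
  rintro rfl
  rw [orderOf_one] at h
  exact absurd h (by norm_num)

theorem core_le' (H : Subgroup G) : core H ≤ H := core_le H

/-- `core H` is normal in `H` -/
theorem conj_core {H : Subgroup G} {h d : G} (hh : h ∈ H) (hd : d ∈ core H) :
    h * d * h⁻¹ ∈ core H := conj_mem_core (le_normalizer hh) hd

variable [Finite G]

/-- The image of `O(C_H(x))` in `H / O(H)` lies in the core of the centralizer of the image of `x`. -/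
theorem mk_mem_core {H : Subgroup G} {x d : G} (hxH : x ∈ H) (hx : orderOf x = 2)
    (hd : d ∈ core (H ⊓ centralizer ({x} : Set G))) :
    QuotientGroup.mk' (pPrimeCore 2 ↥H) ⟨d, (core_le _ hd).1⟩ ∈
      centralizerPPrimeCore 2 (QuotientGroup.mk' (pPrimeCore 2 ↥H) ⟨x, hxH⟩) := by
  have h2 : Fact (Nat.Prime 2) := ⟨Nat.prime_two⟩
  obtain ⟨D, hD⟩ : ∃ D, D = core (H ⊓ centralizer ({x} : Set G)) := ⟨_, rfl⟩
  rw [← hD] at hd
  have hDle : D ≤ H ⊓ centralizer ({x} : Set G) := hD ▸ core_le _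
  have hNn : (pPrimeCore 2 ↥H).Normal := Lib.Cores.pPrimeCore_normal 2
  have hNp' : ¬ 2 ∣ Nat.card (pPrimeCore 2 ↥H) :=
    (h2.out.coprime_iff_not_dvd).mp (Lib.Cores.pPrimeCore_coprime (G := ↥H) 2).symm
  have key : (D.subgroupOf H).map (QuotientGroup.mk' (pPrimeCore 2 ↥H)) ≤
      centralizerPPrimeCore 2 (QuotientGroup.mk' (pPrimeCore 2 ↥H) ⟨x, hxH⟩) := by
    apply BalanceAux.le_centralizerPPrimeCore
    · rintro _ ⟨y, hy, rfl⟩
      rw [mem_centralizer_singleton_iff, ← map_mul, ← map_mul]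
      congr 1
      exact Subtype.ext (mem_centralizer_singleton_iff.mp (hDle hy).2)
    · have h3 : (Nat.card D).Coprime 2 := by rw [hD]; exact coprime_card_core _
      refine Nat.Coprime.coprime_dvd_left ?_ h3
      refine (card_dvd_of_surjective _
        ((QuotientGroup.mk' (pPrimeCore 2 ↥H)).subgroupMap_surjective _)).trans ?_
      exact card_comap_dvd_of_injective _ _ (subtype_injective _)
    · intro y hy
      have hpa : IsPGroup 2 (zpowers (⟨x, hxH⟩ : ↥H)) := by
        apply BalanceAux.isPGroup_zpowers_of_orderOf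
        rw [← hx, Subgroup.orderOf_mk]
      obtain ⟨g, hg, rfl⟩ := CoreOfCentralizer.exists_centralizing_of_quotient
        (zpowers (⟨x, hxH⟩ : ↥H)) hpa (pPrimeCore 2 ↥H) hNp' y (by
          intro c hc
          obtain ⟨n, rfl⟩ := mem_zpowers_iff.mp hc
          have h2 : Commute (QuotientGroup.mk' (pPrimeCore 2 ↥H) ⟨x, hxH⟩) y :=
            (mem_centralizer_singleton_iff.mp hy).symm
          have h3 := h2.zpow_left n
          change QuotientGroup.mk' (pPrimeCore 2 ↥H) (⟨x, hxH⟩ ^ n) * y = _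
          rw [map_zpow]
          exact h3)
      have hga : (g : G) ∈ centralizer ({x} : Set G) := by
        rw [mem_centralizer_singleton_iff]
        exact (congrArg Subtype.val (hg ⟨x, hxH⟩ (mem_zpowers _))).symm
      have hgm : (g : G) ∈ H ⊓ centralizer ({x} : Set G) := ⟨g.2, hga⟩
      have hgn : g ∈ normalizer ((D.subgroupOf H : Subgroup _) : Set ↥H) := by
        rw [mem_normalizer_iff]
        intro y
        rw [mem_subgroupOf, mem_subgroupOf, hD]
        have h4 : (g : G) ∈ normalizer (core (H ⊓ centralizer ({x} : Set G)) : Set G) :=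
          le_normalizer_core _ hgm
        exact mem_normalizer_iff.mp h4 y
      exact le_normalizer_map _ ⟨g, hgn, rfl⟩
  exact key ⟨⟨d, (hDle hd).1⟩, hd, rfl⟩

/-- `O(C_H(x))` normalizes every 2-component of `H`. -/
theorem mem_normalizer {H L : Subgroup G} {x d : G} (hL : IsComp H L) (hxH : x ∈ H)
    (hx : orderOf x = 2) (hd : d ∈ core (H ⊓ centralizer ({x} : Set G))) :
    d ∈ normalizer (L : Set G) := by
  have h2 : Fact (Nat.Prime 2) := ⟨Nat.prime_two⟩
  have hdH : d ∈ H := (core_le _ hd).1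
  have h1 := mk_mem_core hxH hx hd
  have ho : orderOf (QuotientGroup.mk' (pPrimeCore 2 ↥H) ⟨x, hxH⟩) = 2 := by
    refine orderOf_eq_prime ?_ ?_
    · rw [← map_pow]
      have : (⟨x, hxH⟩ : ↥H) ^ 2 = 1 := Subtype.ext (by
        change x ^ 2 = 1
        rw [← hx, pow_orderOf_eq_one])
      rw [this, map_one]
    · intro h
      have h3 : x ∈ core H := (mem_core_iff hxH).mpr ((QuotientGroup.eq_one_iff _).mp h)
      exact ne_one_of_order hx (eq_one_of_mem_core_sq h3 (sq_of_order hx))
  have h3 := BalanceAux.core_le_normalizer_component 2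
    (Lib.Cores.pPrimeCore_quotient_pPrimeCore (G := ↥H) 2) _ ho _ hL.2.2.1 h1
  have h4 := PComponents.mem_normalizer_of_map hL.2 h3
  rw [mem_normalizer_iff] at h4 ⊢
  intro k
  constructor
  · intro hk
    exact (h4 ⟨k, hL.le hk⟩).mp hk
  · intro hk
    have hkH : k ∈ H := by
      have := H.mul_mem (H.mul_mem (H.inv_mem hdH) (hL.le hk)) hdH
      convert this using 1
      group
    exact (h4 ⟨k, hkH⟩).mpr hk

/-- If some `d ∈ O(C_H(x))` does not centralize `L / O(L)`, then `x` normalizes `L` and does not centralize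
`L / O(L)`. -/
theorem of_not_fixes {H L : Subgroup G} {x d : G} (hL : IsComp H L) (hxH : x ∈ H)
    (hx : orderOf x = 2) (hd : d ∈ core (H ⊓ centralizer ({x} : Set G))) (hf : ¬ Fixes d L) :
    x ∈ normalizer (L : Set G) ∧ ¬ Fixes x L := by
  have hx2 := sq_of_order hx
  have hdH : d ∈ H := (core_le _ hd).1
  have hdL := mem_normalizer hL hxH hx hd
  have hxL : x ∈ normalizer (L : Set G) := by
    rw [mem_normalizer_iff_cj]
    by_contra hne
    obtain ⟨h1, -, -, h4, -⟩ := exists_diag hL hxH hx2 hne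
    have hLx : IsComp H (cj x L) := isComp_cj_of_mem hL hxH
    apply hf
    refine fixes_of_comm_diag hL hxH hx2 hne hdH hdL (mem_normalizer hLx hxH hx hd) fun m hm => ?_
    have h5 : Fixes d (diag H L x) := h1.fixes_of_core hd
    have h6 := h5.2 m hm
    rw [h4] at h6
    exact h6.2
  refine ⟨hxL, fun hfx => hf ?_⟩
  obtain ⟨h1, h3⟩ := isComp_cen hL hxH hx2 hfx
  have h5 : Fixes d (cen L x) := h1.fixes_of_core hd
  exact (fixes_iff_of_sup h3 h5.1 hdL).mp h5

/-! ### triples -/

/-- `a`, `x` are commuting involutions, `L` is a 2-component of `C(a)` and `O(C(x)) ∩ C(a)` does not centralize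
`L / O(L)`. -/
structure IsTriple (x a : G) (L : Subgroup G) : Prop where
  invx : orderOf x = 2
  inva : orderOf a = 2
  comm : a * x = x * a
  comp : IsComp (centralizer ({a} : Set G)) L
  bad : ∃ d ∈ core (centralizer ({x} : Set G)), d ∈ centralizer ({a} : Set G) ∧ ¬ Fixes d L

/-- `O(C(x)) ∩ C(a)` lies in the core of `C(a) ∩ C(x)` -/
theorem inf_le_core {x a d : G} (hd : d ∈ core (centralizer ({x} : Set G)))
    (hda : d ∈ centralizer ({a} : Set G)) :
    d ∈ core (centralizer ({a} : Set G) ⊓ centralizer ({x} : Set G)) := by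
  obtain ⟨N, hN⟩ : ∃ N, N = core (centralizer ({x} : Set G)) ⊓ centralizer ({a} : Set G) := ⟨_, rfl⟩
  have hNle : N ≤ centralizer ({a} : Set G) ⊓ centralizer ({x} : Set G) := by
    rw [hN]
    exact le_inf inf_le_right (inf_le_left.trans (core_le _))
  have h1 : N ≤ core (centralizer ({a} : Set G) ⊓ centralizer ({x} : Set G)) := by
    refine le_core hNle ?_ ?_
    · intro g hg
      rw [_root_.Subgroup.mem_normalizer_iff]
      have h1 : g ∈ normalizer (core (centralizer ({x} : Set G)) : Set G) := le_normalizer_core _ hg.2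
      have h2 : g ∈ normalizer (centralizer ({a} : Set G) : Set G) := le_normalizer hg.1
      intro y
      rw [hN, mem_inf, mem_inf]
      exact and_congr (mem_normalizer_iff.mp h1 y) (mem_normalizer_iff.mp h2 y)
    · refine Odd.of_dvd_nat (odd_card_core (centralizer ({x} : Set G))) ?_
      rw [hN]
      exact card_dvd_of_le inf_le_left
  exact h1 (hN ▸ ⟨hd, hda⟩)

omit [Finite G] in
theorem mem_c {x y : G} (h : y * x = x * y) : y ∈ centralizer ({x} : Set G) :=
  mem_centralizer_singleton_iff.mpr h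

omit [Finite G] in
theorem comm_c {x y : G} (h : y ∈ centralizer ({x} : Set G)) : y * x = x * y :=
  mem_centralizer_singleton_iff.mp h

section triple

variable {x a : G} {L : Subgroup G}

theorem IsTriple.mem_normalizer_of_core (T : IsTriple x a L) {d : G}
    (hd : d ∈ core (centralizer ({x} : Set G))) (hda : d ∈ centralizer ({a} : Set G)) :
    d ∈ normalizer (L : Set G) :=
  mem_normalizer T.comp (mem_c T.comm.symm) T.invx (inf_le_core hd hda)

theorem IsTriple.x_mem (T : IsTriple x a L) : x ∈ normalizer (L : Set G) := by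
  obtain ⟨d, hd, hda, hf⟩ := T.bad
  exact (of_not_fixes T.comp (mem_c T.comm.symm) T.invx (inf_le_core hd hda) hf).1

theorem IsTriple.not_fixes (T : IsTriple x a L) : ¬ Fixes x L := by
  obtain ⟨d, hd, hda, hf⟩ := T.bad
  exact (of_not_fixes T.comp (mem_c T.comm.symm) T.invx (inf_le_core hd hda) hf).2

omit [Finite G] in
theorem IsTriple.cj (T : IsTriple x a L) (g : G) : IsTriple (g * x * g⁻¹) (g * a * g⁻¹) (cj g L) := by
  have hc : ∀ y : G, centralizer ({g * y * g⁻¹} : Set G) =
      IntrinsicBasic.cj g (centralizer ({y} : Set G)) := fun y => (cj_centralizer g y).symm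
  obtain ⟨d, hd, hda, hf⟩ := T.bad
  refine ⟨?_, ?_, ?_, ?_, g * d * g⁻¹, ?_, ?_, ?_⟩
  · have h := (MulAut.conj g).orderOf_eq x
    rw [T.invx] at h
    exact h
  · have h := (MulAut.conj g).orderOf_eq a
    rw [T.inva] at h
    exact h
  · calc g * a * g⁻¹ * (g * x * g⁻¹) = g * (a * x) * g⁻¹ := by group
      _ = g * (x * a) * g⁻¹ := by rw [T.comm]
      _ = _ := by group
  · rw [hc]
    exact T.comp.cj g
  · rw [hc, core_cj]
    exact conj_mem_cj hd
  · rw [hc]
    exact conj_mem_cj hda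
  · intro h
    apply hf
    have h1 := h.cj g⁻¹
    rw [cj_inv_cj] at h1
    convert h1 using 1
    group

/-- Some `d ∈ O(C(x)) ∩ C(a) ∩ C(c)` does not centralize `L / O(L)`, `c` an involution commuting with `a`, `x` and
centralizing `L / O(L)`. -/
theorem IsTriple.exists_bad (T : IsTriple x a L) {c : G} (hc : orderOf c = 2) (hca : c * a = a * c)
    (hcx : c * x = x * c) (hcL : Fixes c L) :
    ∃ d ∈ core (centralizer ({x} : Set G)), d ∈ centralizer ({a} : Set G) ∧
      d ∈ centralizer ({c} : Set G) ∧ ¬ Fixes d L := by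
  obtain ⟨d, hd, hda, hf⟩ := T.bad
  obtain ⟨F, hF⟩ : ∃ F : Subgroup G, ∀ e, e ∈ F ↔ e ∈ core (centralizer ({x} : Set G)) ∧
      e ∈ centralizer ({a} : Set G) ∧ Fixes e L := by
    refine ⟨{ carrier := {e | e ∈ core (centralizer ({x} : Set G)) ∧
        e ∈ centralizer ({a} : Set G) ∧ Fixes e L}
              mul_mem' := ?_
              one_mem' := ?_
              inv_mem' := ?_ }, fun e => Iff.rfl⟩
    · rintro e e' ⟨h1, h2, h3⟩ ⟨h1', h2', h3'⟩
      exact ⟨mul_mem h1 h1', mul_mem h2 h2', fixes_mul h3 h3'⟩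
    · exact ⟨one_mem _, one_mem _, fixes_one L⟩
    · rintro e ⟨h1, h2, h3⟩
      exact ⟨inv_mem h1, inv_mem h2, fixes_inv h3⟩
  have hFodd : Odd (Nat.card F) :=
    Odd.of_dvd_nat (odd_card_core (centralizer ({x} : Set G)))
      (card_dvd_of_le fun e he => ((hF e).mp he).1)
  have hc2 := sq_of_order hc
  have hci : c⁻¹ = c := inv_eq_of_mul_eq_one_left hc2
  have hcF : ∀ e ∈ F, c * e * c⁻¹ ∈ F := by
    intro e he
    obtain ⟨h1, h2, h3⟩ := (hF e).mp he
    refine (hF _).mpr ⟨conj_core (mem_c hcx) h1, ?_, fixes_conj h3 hcL.1⟩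
    exact mul_mem (mul_mem (mem_c hca) h2) (inv_mem (mem_c hca))
  have hcn : c ∈ normalizer (F : Set G) := by
    rw [mem_normalizer_iff]
    intro e
    refine ⟨hcF e, fun h => ?_⟩
    have h1 := hcF _ h
    have h2 : c * (c * e * c⁻¹) * c⁻¹ = e := by
      rw [hci]
      calc c * (c * e * c) * c = (c * c) * e * (c * c) := by group
        _ = e := by rw [hc2]; group
    rwa [h2] at h1
  have hdL : d ∈ normalizer (L : Set G) := T.mem_normalizer_of_core hd hda
  have hmem : d⁻¹ * (c * d * c⁻¹) ∈ F := by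
    refine (hF _).mpr ⟨mul_mem (inv_mem hd) (conj_core (mem_c hcx) hd), ?_, ?_⟩
    · exact mul_mem (inv_mem hda) (mul_mem (mul_mem (mem_c hca) hda) (inv_mem (mem_c hca)))
    · have h1 : Fixes (d⁻¹ * c * d⁻¹⁻¹) L := fixes_conj hcL (inv_mem hdL)
      have h2 := fixes_mul h1 (fixes_inv hcL)
      convert h2 using 1
      group
  obtain ⟨o, ho, hco⟩ := Intrinsic.Lifting.exists_commute (n := 1) hFodd
    (by rw [pow_one, pow_two, hc2]) hcn hmem
  obtain ⟨h1, h2, h3⟩ := (hF o).mp ho
  refine ⟨d * o, mul_mem hd h1, mul_mem hda h2, mem_c hco.symm, fun h => hf ?_⟩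
  exact (fixes_mul_iff_left h3).mp h

/-- `[d, m] ∈ O(M)` for `m ∈ M` if `d ∈ C(a) ∩ N(M)` commutes with `m` modulo `O(C(c))`, `M` a 2-component of
`C(a) ∩ C(c)`. -/
theorem comm_mem_core {a c d m : G} {M : Subgroup G}
    (hM : IsComp (centralizer ({a} : Set G) ⊓ centralizer ({c} : Set G)) M)
    (hdM : d ∈ normalizer (M : Set G)) (hm : m ∈ M)
    (h : ⁅d, m⁆ ∈ core (centralizer ({c} : Set G))) : ⁅d, m⁆ ∈ core M := by
  have h1 : ⁅d, m⁆ ∈ M := by
    rw [commutatorElement_def]
    exact mul_mem (conj_mem hdM hm) (inv_mem hm)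
  rw [hM.core_eq]
  exact ⟨h1, inf_le_core h (hM.le h1).1⟩

/-- **(P)** The pump-up of a triple. -/
theorem IsTriple.pump (T : IsTriple x a L) {c : G} (hc : orderOf c = 2) (hca : c * a = a * c)
    (hcx : c * x = x * c) (hcL : Fixes c L) :
    ∃ N, IsTriple x c N ∧ ((a ∈ normalizer (N : Set G) ∧ cen L c ≤ N) ∨
      (IntrinsicBasic.cj a N ≠ N ∧ cen L c = diag (centralizer ({c} : Set G)) N a)) := by
  obtain ⟨d, hd, hda, hdc, hf⟩ := T.exists_bad hc hca hcx hcL
  have hc2 := sq_of_order hc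
  have ha2 := sq_of_order T.inva
  obtain ⟨h1, h3⟩ := isComp_cen T.comp (mem_c hca) hc2 hcL
  have h1' := h1
  rw [inf_comm] at h1'
  have hdL := T.mem_normalizer_of_core hd hda
  have hdM : d ∈ normalizer (cen L c : Set G) := mem_normalizer_cen hdL (comm_c hdc)
  have hfM : ¬ Fixes d (cen L c) := fun h => hf ((fixes_iff_of_sup h3 hdM hdL).mp h)
  obtain ⟨N, hN, -, hor⟩ := McLLyComp.PumpT.exists_pump (mem_c hca.symm) ha2 h1'
  refine ⟨N, ⟨T.invx, hc, hcx, hN, d, hd, hdc, fun hfN => hfM ?_⟩, hor⟩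
  refine ⟨hdM, fun m hm => ?_⟩
  apply comm_mem_core h1 hdM hm
  have hNc : ∀ y ∈ core N, y ∈ core (centralizer ({c} : Set G)) := fun y hy => hN.core_le_core hy
  rcases hor with ⟨-, hMN⟩ | ⟨hne, hMN⟩
  · exact hNc _ (hfN.2 m (hMN hm))
  · obtain ⟨h5, h6, -⟩ := exists_diag hN (mem_c hca.symm) ha2 hne
    rw [hMN] at hm
    obtain ⟨k, hk, hmk⟩ := h6 m hm
    have hmX : m ∈ centralizer ({c} : Set G) := (h5.le hm).1
    have hN' : IsComp (centralizer ({c} : Set G)) (IntrinsicBasic.cj a N) :=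
      isComp_cj_of_mem hN (mem_c hca.symm)
    have hk' : a * k * a⁻¹ ∈ IntrinsicBasic.cj a N := conj_mem_cj hk
    have hfN' : Fixes d (IntrinsicBasic.cj a N) := by
      have h7 := hfN.cj a
      have h8 : a * d * a⁻¹ = d := by rw [← comm_c hda]; group
      rwa [h8] at h7
    have e1 : ⁅d, k⁆ ∈ core (centralizer ({c} : Set G)) := hNc _ (hfN.2 k hk)
    have e2 : ⁅d, a * k * a⁻¹⁆ ∈ core (centralizer ({c} : Set G)) :=
      hN'.core_le_core (hfN'.2 _ hk')
    rw [commutator_mem_core_iff hdc (hN.le hk)] at e1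
    rw [commutator_mem_core_iff hdc (hN'.le hk')] at e2
    rw [commutator_mem_core_iff hdc hmX, mk_of_diag hN (mem_c hca.symm) hmX hk hmk, ← mul_assoc,
      e1, mul_assoc, e2]
    exact (mul_assoc _ _ _).symm

end triple

end Cfsg.Agent.UGT.Triple
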