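import Cfsg.Agent.UGT.Parity
import Cfsg.Agent.UGT.Triple

/-!
# Parity for pairs `(a, L)`

`G` acts on the pairs `(a, L)`, `a ∈ G`, `L ≤ G` by conjugation.
-/

set_option autoImplicit false

open Cfsg Subgroup MulAction
open Cfsg.Agent.SignalizersComponents.IntrinsicBasic
open Cfsg.Agent.Intrinsic.Basic
open Cfsg.Agent.UGT.Parity Cfsg.Agent.UGT.Triple

namespace Cfsg.Agent.UGT.ParityPair

variable {G : Type*} [Group G]

/-- a pair `(a, L)` -/
structure Pair (G : Type*) [Group G] where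
  a : G
  L : Subgroup G

theorem Pair.ext' {P Q : Pair G} (h1 : P.a = Q.a) (h2 : P.L = Q.L) : P = Q := by
  cases P; cases Q; cases h1; cases h2; rfl

instance : MulAction G (Pair G) where
  smul g P := ⟨g * P.a * g⁻¹, cj g P.L⟩
  one_smul P := Pair.ext' (by change 1 * P.a * 1⁻¹ = P.a; group) (cj_one P.L)
  mul_smul g h P := Pair.ext' (by
    change g * h * P.a * (g * h)⁻¹ = g * (h * P.a * h⁻¹) * g⁻¹
    group) (cj_mul g h P.L)

theorem smul_a (g : G) (P : Pair G) : (g • P).a = g * P.a * g⁻¹ := rfl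

theorem smul_L (g : G) (P : Pair G) : (g • P).L = cj g P.L := rfl

theorem smul_eq_iff {g : G} {P : Pair G} :
    g • P = P ↔ g * P.a = P.a * g ∧ g ∈ normalizer (P.L : Set G) := by
  constructor
  · intro h
    refine ⟨?_, mem_normalizer_iff_cj.mpr (congrArg Pair.L h)⟩
    have h1 : g * P.a * g⁻¹ = P.a := congrArg Pair.a h
    rw [mul_inv_eq_iff_eq_mul] at h1
    exact h1
  · rintro ⟨h1, h2⟩
    refine Pair.ext' ?_ (mem_normalizer_iff_cj.mp h2)
    rw [smul_a, h1, mul_inv_cancel_right]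

/-- **PAR for pairs.** `ev a L g` is a parity ("`g` is even on `L`") for the pairs `(a, L)`; `T` is a 2-group
centralizing `x`, `a` and normalizing `L`, `x` is odd on `(a, L)`. Then there is a different conjugate pair with
the same properties. -/
theorem exists_ne_pair [Finite G] (hG : NoSign G) (ev : G → Subgroup G → G → Prop)
    (hmul : ∀ (a : G) (L : Subgroup G) (g h : G), g * a = a * g → g ∈ normalizer (L : Set G) →
      h * a = a * h → h ∈ normalizer (L : Set G) → (ev a L (g * h) ↔ (ev a L g ↔ ev a L h)))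
    (hconj : ∀ (a : G) (L : Subgroup G) (g h : G), h * a = a * h → h ∈ normalizer (L : Set G) →
      (ev (g * a * g⁻¹) (cj g L) (g * h * g⁻¹) ↔ ev a L h))
    {x : G} (hx : x * x = 1) {T : Subgroup G} (hT : IsPGroup 2 ↥T)
    (hTx : T ≤ centralizer ({x} : Set G)) {a : G} {L : Subgroup G} (hxa : x * a = a * x)
    (hxL : x ∈ normalizer (L : Set G)) (hodd : ¬ ev a L x) (hTa : T ≤ centralizer ({a} : Set G))
    (hTL : T ≤ normalizer (L : Set G)) :
    ∃ g : G, ¬ (g * a = a * g ∧ g ∈ normalizer (L : Set G)) ∧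
      x * (g * a * g⁻¹) = (g * a * g⁻¹) * x ∧ x ∈ normalizer (cj g L : Set G) ∧
      ¬ ev (g * a * g⁻¹) (cj g L) x ∧ T ≤ centralizer ({g * a * g⁻¹} : Set G) ∧
      T ≤ normalizer (cj g L : Set G) := by
  have hpar : IsParity (Ω := Pair G) (fun P g => ev P.a P.L g) := by
    constructor
    · intro P g h hg hh
      rw [smul_eq_iff] at hg hh
      exact hmul _ _ _ _ hg.1 hg.2 hh.1 hh.2
    · intro P g h hh
      rw [smul_eq_iff] at hh
      exact hconj _ _ _ _ hh.1 hh.2
  obtain ⟨g, h1, h2, h3, h4⟩ := exists_ne_orbit (Ω := Pair G) hG hpar hx hT hTx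
    (ω := ⟨a, L⟩) (smul_eq_iff.mpr ⟨hxa, hxL⟩) hodd (fun t ht => smul_eq_iff.mpr
      ⟨comm_c (hTa ht), hTL ht⟩)
  refine ⟨g, fun h => h1 (smul_eq_iff.mpr h), (smul_eq_iff.mp h2).1, (smul_eq_iff.mp h2).2, h3,
    fun t ht => ?_, fun t ht => (smul_eq_iff.mp (h4 t ht)).2⟩
  exact mem_c (smul_eq_iff.mp (h4 t ht)).1

/-- number of pairs in the orbit of `(a, L)` fixed by `T` and odd for `x` is even -/
theorem even_card_pairs [Finite G] (hG : NoSign G) (ev : G → Subgroup G → G → Prop)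
    (hmul : ∀ (a : G) (L : Subgroup G) (g h : G), g * a = a * g → g ∈ normalizer (L : Set G) →
      h * a = a * h → h ∈ normalizer (L : Set G) → (ev a L (g * h) ↔ (ev a L g ↔ ev a L h)))
    (hconj : ∀ (a : G) (L : Subgroup G) (g h : G), h * a = a * h → h ∈ normalizer (L : Set G) →
      (ev (g * a * g⁻¹) (cj g L) (g * h * g⁻¹) ↔ ev a L h))
    {x : G} (hx : x * x = 1) {T : Subgroup G} (hT : IsPGroup 2 ↥T)
    (hTx : T ≤ centralizer ({x} : Set G)) (P₀ : Pair G) :
    Even (Nat.card {P : Pair G // P ∈ MulAction.orbit G P₀ ∧ (x • P = P ∧ ¬ ev P.a P.L x) ∧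
      ∀ t ∈ T, t • P = P}) := by
  have hpar : IsParity (Ω := Pair G) (fun P g => ev P.a P.L g) := by
    constructor
    · intro P g h hg hh
      rw [smul_eq_iff] at hg hh
      exact hmul _ _ _ _ hg.1 hg.2 hh.1 hh.2
    · intro P g h hh
      rw [smul_eq_iff] at hh
      exact hconj _ _ _ _ hh.1 hh.2
  exact even_card_orbit hG hpar hx hT hTx P₀

end Cfsg.Agent.UGT.ParityPair
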