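import Cfsg.Agent.UGT.TMCBase
import Cfsg.Agent.Lib.ProductSet

/-!
# Elementary abelian 2-subgroups and Sylow subgroups: auxiliary facts for the terminal 2-component theorem
-/

set_option autoImplicit false

open Cfsg Subgroup
open Cfsg.Agent.SignalizersComponents Cfsg.Agent.Lib
open Cfsg.Agent.SignalizersComponents.IntrinsicBasic
open Cfsg.Agent.SignalizersComponents.IntrinsicIntr
open Cfsg.Agent.SignalizersComponents.PLayerAut
open Cfsg.Agent.Intrinsic.Basic Cfsg.Agent.Intrinsic.Cen Cfsg.Agent.Intrinsic.Diag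
open Cfsg.Agent.McLLyComp.Act
open scoped commutatorElement

namespace Cfsg.Agent.UGT.TMCSyl

variable {G : Type*} [Group G]

/-- elementary abelian of exponent 2 -/
def Elem (A : Subgroup G) : Prop := ∀ x ∈ A, x * x = 1

theorem Elem.comm {A : Subgroup G} (hA : Elem A) {x y : G} (hx : x ∈ A) (hy : y ∈ A) :
    x * y = y * x := by
  have h1 := hA _ (mul_mem hx hy)
  have h2 := TMCBase.inv_of_sq (hA x hx)
  have h3 := TMCBase.inv_of_sq (hA y hy)
  have h4 := TMCBase.inv_of_sq h1
  rw [mul_inv_rev, h2, h3] at h4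
  exact h4.symm

theorem Elem.isPGroup {A : Subgroup G} (hA : Elem A) : IsPGroup 2 A := by
  intro a
  refine ⟨1, Subtype.ext ?_⟩
  change (a : G) ^ 2 ^ 1 = 1
  rw [pow_one, pow_two]
  exact hA a a.2

/-- adding an involution to an elementary abelian group -/
theorem elem_insert {A : Subgroup G} (hA : Elem A) {u : G} (huu : u * u = 1)
    (hc : ∀ x ∈ A, x * u = u * x) (hu : u ∉ A) [Finite A] :
    ∃ B : Subgroup G, A ≤ B ∧ u ∈ B ∧ (∀ x ∈ B, x ∈ A ∨ u * x ∈ A) ∧ Elem B ∧
      Nat.card B = 2 * Nat.card A := by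
  have hui := TMCBase.inv_of_sq huu
  let B : Subgroup G :=
    { carrier := {x | x ∈ A ∨ u * x ∈ A}
      one_mem' := Or.inl (one_mem _)
      mul_mem' := by
        rintro x y (hx | hx) (hy | hy)
        · exact Or.inl (mul_mem hx hy)
        · right
          have h1 : u * (x * y) = x * (u * y) := by rw [← mul_assoc, ← hc x hx, mul_assoc]
          rw [h1]; exact mul_mem hx hy
        · right
          rw [← mul_assoc]; exact mul_mem hx hy
        · left
          have h1 : x * y = (u * x) * (u * y) := by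
            have h2 : x * u = u * x := by
              have h3 := hc _ hx
              calc x * u = u * ((u * x) * u) := by
                    rw [← mul_assoc, ← mul_assoc, huu, one_mul]
                _ = u * (u * (u * x)) := by rw [h3]
                _ = u * x := by rw [← mul_assoc u u, huu, one_mul]
            calc x * y = (u * u) * (x * y) := by rw [huu, one_mul]
              _ = u * (u * x) * y := by group
              _ = u * (x * u) * y := by rw [h2]
              _ = _ := by group
          rw [h1]; exact mul_mem hx hy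
      inv_mem' := by
        rintro x (hx | hx)
        · exact Or.inl (inv_mem hx)
        · right
          have h1 : u * x⁻¹ = (u * x)⁻¹ := by
            have h2 := hc _ hx
            rw [mul_inv_rev, hui]
            have h3 : x * u = u * x := by
              calc x * u = u * ((u * x) * u) := by
                    rw [← mul_assoc, ← mul_assoc, huu, one_mul]
                _ = u * (u * (u * x)) := by rw [h2]
                _ = u * x := by rw [← mul_assoc u u, huu, one_mul]
            calc u * x⁻¹ = x⁻¹ * (x * u) * x⁻¹ := by group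
              _ = x⁻¹ * (u * x) * x⁻¹ := by rw [h3]
              _ = x⁻¹ * u := by group
          rw [h1]; exact inv_mem hx }
  have hmem : ∀ x, x ∈ B ↔ x ∈ A ∨ u * x ∈ A := fun x => Iff.rfl
  have hAB : A ≤ B := fun x hx => Or.inl hx
  have huB : u ∈ B := Or.inr (by rw [huu]; exact one_mem _)
  refine ⟨B, hAB, huB, fun x hx => hx, ?_, ?_⟩
  · rintro x (hx | hx)
    · exact hA x hx
    · have h1 := hA _ hx
      have h2 := hc _ hx
      calc x * x = (u * u) * x * (u * u) * x := by rw [huu]; group
        _ = u * ((u * x) * u) * (u * x) := by group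
        _ = u * (u * (u * x)) * (u * x) := by rw [h2]
        _ = (u * u) * ((u * x) * (u * x)) := by group
        _ = 1 := by rw [h1, huu, one_mul]
  · have h1 : A.relIndex B = 2 := by
      rw [Subgroup.relIndex_eq_two_iff]
      refine ⟨u, huB, fun b hb => ?_⟩
      rcases hb with hb | hb
      · right
        refine ⟨hb, fun h => hu ?_⟩
        have := mul_mem (inv_mem hb) h
        rwa [inv_mul_cancel_left] at this
      · left
        have h3 : b * u = u * b := by
          have h2 := hc _ hb
          calc b * u = u * ((u * b) * u) := by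
                rw [← mul_assoc, ← mul_assoc, huu, one_mul]
            _ = u * (u * (u * b)) := by rw [h2]
            _ = u * b := by rw [← mul_assoc u u, huu, one_mul]
        refine ⟨by rw [h3]; exact hb, fun h => hu ?_⟩
        have := mul_mem hb (inv_mem h)
        rwa [mul_inv_cancel_right] at this
    have h2 := Subgroup.card_mul_index (A.subgroupOf B)
    have h3 : (A.subgroupOf B).index = 2 := h1
    rw [h3, Nat.card_congr (Subgroup.subgroupOfEquivOfLe hAB).toEquiv] at h2
    rw [← h2, mul_comm]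

/-! ### the order of the largest elementary abelian subgroup -/

noncomputable def el (H : Subgroup G) : ℕ :=
  sSup {n | ∃ A : Subgroup G, A ≤ H ∧ Elem A ∧ Nat.card A = n}

variable [Finite G]

theorem el_bdd (H : Subgroup G) :
    BddAbove {n | ∃ A : Subgroup G, A ≤ H ∧ Elem A ∧ Nat.card A = n} := by
  refine ⟨Nat.card G, ?_⟩
  rintro n ⟨A, -, -, rfl⟩
  exact Subgroup.card_le_card_group A

theorem le_el {A H : Subgroup G} (hA : A ≤ H) (hE : Elem A) : Nat.card A ≤ el H :=
  le_csSup (el_bdd H) ⟨A, hA, hE, rfl⟩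

theorem exists_el (H : Subgroup G) : ∃ A : Subgroup G, A ≤ H ∧ Elem A ∧ Nat.card A = el H := by
  refine Nat.sSup_mem (s := {n | ∃ A : Subgroup G, A ≤ H ∧ Elem A ∧ Nat.card A = n}) ?_ (el_bdd H)
  refine ⟨_, ⊥, bot_le, ?_, rfl⟩
  intro x hx
  rw [mem_bot.mp hx, one_mul]

theorem el_mono {H K : Subgroup G} (h : H ≤ K) : el H ≤ el K := by
  obtain ⟨A, h1, h2, h3⟩ := exists_el H
  rw [← h3]
  exact le_el (h1.trans h) h2

/-! ### 2-parts -/

/-- the 2-part of `|H|` -/
noncomputable def tp (H : Subgroup G) : ℕ := 2 ^ (Nat.card H).factorization 2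

theorem card_le_tp {P H : Subgroup G} (hP : IsPGroup 2 P) (hPH : P ≤ H) : Nat.card P ≤ tp H := by
  have : Fact (Nat.Prime 2) := ⟨Nat.prime_two⟩
  obtain ⟨n, hn⟩ := IsPGroup.iff_card.mp hP
  rw [tp, hn]
  refine Nat.pow_le_pow_right (by norm_num) ?_
  have h1 : 2 ^ n ∣ Nat.card H := hn ▸ card_dvd_of_le hPH
  exact (Nat.Prime.pow_dvd_iff_le_factorization Nat.prime_two Nat.card_pos.ne').mp h1

theorem tp_le {H : Subgroup G} : tp H ≤ Nat.card G :=
  (Nat.le_of_dvd Nat.card_pos (Nat.ordProj_dvd _ _)).trans (Subgroup.card_le_card_group H)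

theorem tp_mono {H K : Subgroup G} (h : H ≤ K) : tp H ≤ tp K := by
  have h1 : (Nat.card H).factorization 2 ≤ (Nat.card K).factorization 2 :=
    (Nat.factorization_le_iff_dvd Nat.card_pos.ne' Nat.card_pos.ne').mpr (card_dvd_of_le h) 2
  exact Nat.pow_le_pow_right (by norm_num) h1

theorem tp_of_two {P : Subgroup G} (hP : IsPGroup 2 P) : tp P = Nat.card P := by
  have : Fact (Nat.Prime 2) := ⟨Nat.prime_two⟩
  obtain ⟨n, hn⟩ := IsPGroup.iff_card.mp hP
  rw [tp, hn, Nat.prime_two.factorization_pow]
  simp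

/-- a Sylow 2-subgroup of a subgroup -/
theorem exists_syl (H : Subgroup G) : ∃ Q : Subgroup G, Q ≤ H ∧ IsPGroup 2 Q ∧ Nat.card Q = tp H ∧
    ∀ P : Subgroup G, P ≤ H → IsPGroup 2 P → ∃ h ∈ H, cj h P ≤ Q := by
  have h2 : Fact (Nat.Prime 2) := ⟨Nat.prime_two⟩
  obtain ⟨Q0⟩ : Nonempty (Sylow 2 ↥H) := inferInstance
  refine ⟨(Q0 : Subgroup ↥H).map H.subtype, map_subtype_le _, Q0.isPGroup'.map _, ?_, ?_⟩
  · rw [card_map_of_injective H.subtype_injective, Q0.card_eq_multiplicity, tp]
  · intro P hPH hP
    have h1 : IsPGroup 2 (P.subgroupOf H) := hP.comap_of_injective _ H.subtype_injective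
    obtain ⟨R, hR⟩ := h1.exists_le_sylow
    obtain ⟨h, hh⟩ := MulAction.exists_smul_eq ↥H R Q0
    refine ⟨h, h.2, ?_⟩
    intro x hx
    rw [mem_cj] at hx
    have h3 : (h : G)⁻¹ * x * h ∈ H := hPH hx
    have h4 : (⟨(h : G)⁻¹ * x * h, h3⟩ : ↥H) ∈ R := hR hx
    have h5 : h * ⟨(h : G)⁻¹ * x * h, h3⟩ * h⁻¹ ∈ (Q0 : Subgroup ↥H) := by
      rw [← hh]
      exact Subgroup.smul_mem_pointwise_smul _ (MulAut.conj h) _ h4
    refine ⟨_, h5, ?_⟩
    change (h : G) * ((h : G)⁻¹ * x * h) * (h : G)⁻¹ = x
    group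

end Cfsg.Agent.UGT.TMCSyl
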