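import Cfsg.Agent.UGT.RelK.Functor
import Cfsg.Agent.Lib.KFamily

/-!
# Weak 2-balance on rank 4 (UGT N5; helper285 #10351 THEOREM 5/2, helper459 #10239 PIECE 2)

* `Fam2 E X`: a strictly 2-balanced family on an elementary abelian 2-group `E` of order at least 16.
* `Fam2.odd_WW`, `Fam2.inf_centralizer`: `W = ⟨X D⟩` has odd order and `C_W(D) = X D`.
* `Hyp E`: weak 2-balance: `[Δ(D) ∩ C(c), E] ≤ O(C(c))` for four-groups `D ≤ E`, `Δ(U) ∩ C(c) ≤ O(C(c))` for `U ≤ E`
  of order 8, `1 ≠ c ∈ E`.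
* `KU U = [⟨Δ(D) : D ≤ U⟩, U] Δ(U)`, `What E = [W_E, E] Δ(E)`.
* `Hyp.what_eq`: `What E = KU U` for every `U ≤ E` of order 8, `Hyp.odd_what`, `Hyp.normalizer_le`,
  `Hyp.of_what_eq_bot`.
-/

set_option autoImplicit false
set_option linter.unusedSectionVars false

open Cfsg Subgroup
open Cfsg.Agent.SignalizersComponents Cfsg.Agent.Lib.KFamily
open scoped commutatorElement

namespace Cfsg.Agent.UGT.Func52

/-! ### four-groups -/

section fg

variable {G : Type*} [Group G] {a b : G}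

/-- the group generated by `a` and `b` -/
def fg (a b : G) : Subgroup G := zpowers a ⊔ zpowers b

theorem fg_comm (a b : G) : fg a b = fg b a := sup_comm _ _

theorem left_mem (a b : G) : a ∈ fg a b := mem_sup_left (mem_zpowers a)

theorem right_mem (a b : G) : b ∈ fg a b := mem_sup_right (mem_zpowers b)

theorem fg_le {E : Subgroup G} (ha : a ∈ E) (hb : b ∈ E) : fg a b ≤ E :=
  sup_le (zpowers_le.2 ha) (zpowers_le.2 hb)

/-- the explicit four-group -/
def ex (a b : G) (ha : a * a = 1) (hb : b * b = 1) (hab : a * b = b * a) : Subgroup G where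
  carrier := {1, a, b, a * b}
  one_mem' := Or.inl rfl
  inv_mem' := by
    have hai : a⁻¹ = a := inv_eq_of_mul_eq_one_left ha
    have hbi : b⁻¹ = b := inv_eq_of_mul_eq_one_left hb
    intro x hx
    simp only [Set.mem_insert_iff, Set.mem_singleton_iff] at hx ⊢
    rcases hx with rfl | rfl | rfl | rfl
    · exact Or.inl inv_one
    · exact Or.inr (Or.inl hai)
    · exact Or.inr (Or.inr (Or.inl hbi))
    · rw [_root_.mul_inv_rev, hai, hbi, hab]; exact Or.inr (Or.inr (Or.inr rfl))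
  mul_mem' := by
    intro x y hx hy
    have h1 : a * (a * b) = b := by rw [← mul_assoc, ha, one_mul]
    have h2 : b * (a * b) = a := by rw [hab, ← mul_assoc, hb, one_mul]
    have h3 : a * b * a = b := by rw [hab, mul_assoc, ha, mul_one]
    have h4 : a * b * b = a := by rw [mul_assoc, hb, mul_one]
    have h5 : a * b * (a * b) = 1 := by rw [← mul_assoc, h3, hb]
    simp only [Set.mem_insert_iff, Set.mem_singleton_iff] at hx hy ⊢
    rcases hx with rfl | rfl | rfl | rfl <;> rcases hy with rfl | rfl | rfl | rfl <;>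
      simp [ha, hb, h1, h2, h3, h4, h5, ← hab]

theorem fg_eq_ex (ha : a * a = 1) (hb : b * b = 1) (hab : a * b = b * a) : fg a b = ex a b ha hb hab := by
  apply le_antisymm
  · refine sup_le (zpowers_le.2 (Or.inr (Or.inl rfl))) (zpowers_le.2 (Or.inr (Or.inr (Or.inl rfl))))
  · rintro x (rfl | rfl | rfl | rfl)
    · exact one_mem _
    · exact left_mem _ _
    · exact right_mem _ _
    · exact mul_mem (left_mem _ _) (right_mem _ _)

theorem card_fg (ha : a * a = 1) (hb : b * b = 1) (hab : a * b = b * a) (ha1 : a ≠ 1) (hb1 : b ≠ 1)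
    (hne : a ≠ b) : Nat.card (fg a b) = 4 := by
  rw [fg_eq_ex ha hb hab]
  change Set.ncard ({1, a, b, a * b} : Set G) = 4
  have hbi : b⁻¹ = b := inv_eq_of_mul_eq_one_left hb
  rw [Set.ncard_insert_of_notMem, Set.ncard_insert_of_notMem, Set.ncard_pair]
  · intro h
    apply ha1
    have h2 : 1 * b = a * b := by rw [one_mul]; exact h
    exact (mul_right_cancel h2).symm
  · simp only [Set.mem_insert_iff, Set.mem_singleton_iff, not_or]
    refine ⟨hne, fun h => hb1 ?_⟩
    have h2 : a * 1 = a * b := by rw [mul_one]; exact h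
    exact (mul_left_cancel h2).symm
  · simp only [Set.mem_insert_iff, Set.mem_singleton_iff, not_or]
    refine ⟨ha1.symm, hb1.symm, fun h => hne ?_⟩
    rw [eq_comm, mul_eq_one_iff_eq_inv, hbi] at h
    exact h

theorem mem_zpowers_iff_of_sq (ha : a * a = 1) {x : G} : x ∈ zpowers a ↔ x = 1 ∨ x = a := by
  constructor
  · intro hx
    obtain ⟨n, rfl⟩ := mem_zpowers_iff.1 hx
    rcases Int.even_or_odd n with ⟨k, rfl⟩ | ⟨k, rfl⟩
    · left
      rw [← two_mul, zpow_mul, zpow_ofNat, pow_two, ha, one_zpow]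
    · right
      rw [zpow_add, zpow_mul, zpow_ofNat, pow_two, ha, one_zpow, zpow_one, one_mul]
  · rintro (rfl | rfl)
    · exact one_mem _
    · exact mem_zpowers _

/-- a subgroup of order four is generated by any two different involutions in it -/
theorem eq_fg [Finite G] {D : Subgroup G} (hD : Nat.card D = 4) (haD : a ∈ D) (hbD : b ∈ D)
    (ha : a * a = 1) (hb : b * b = 1) (hab : a * b = b * a) (ha1 : a ≠ 1) (hb1 : b ≠ 1) (hne : a ≠ b) :
    D = fg a b :=
  (Subgroup.eq_of_le_of_card_ge (fg_le haD hbD) (by rw [hD, card_fg ha hb hab ha1 hb1 hne])).symm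

/-- two different involutions in a group of order four -/
theorem exists_pair [Finite G] {D : Subgroup G} (hD : Nat.card D = 4) :
    ∃ a ∈ D, ∃ b ∈ D, a ≠ 1 ∧ b ≠ 1 ∧ a ≠ b := by
  have h5 : ∀ a b : G, ∃ c ∈ D, c ≠ a ∧ c ≠ b := by
    intro a b
    by_contra hcon
    push Not at hcon
    have : (D : Set G) ⊆ {a, b} := by
      intro c hc
      by_contra hc'
      simp only [Set.mem_insert_iff, Set.mem_singleton_iff, not_or] at hc'
      exact hc'.2 (hcon c hc hc'.1)
    have h6 := Set.ncard_le_ncard this (Set.toFinite _)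
    have h7 := Set.ncard_insert_le a ({b} : Set G)
    rw [Set.ncard_singleton] at h7
    have h8 : (D : Set G).ncard = Nat.card D := rfl
    omega
  obtain ⟨a, ha, ha1, -⟩ := h5 1 1
  obtain ⟨b, hb, hb1, hba⟩ := h5 1 a
  exact ⟨a, ha, b, hb, ha1, hb1, hba.symm⟩

end fg

/-! ### strictly 2-balanced families -/

section fam

variable {G : Type*} [Group G] [Finite G]

/-- a strictly 2-balanced family on `E` -/
structure Fam2 (E : Subgroup G) (X : Subgroup G → Subgroup G) : Prop where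
  elem : IsElementaryAbelian 2 E
  card : 16 ≤ Nat.card E
  odd : ∀ D ≤ E, Nat.card D = 4 → Odd (Nat.card (X D))
  cent : ∀ D ≤ E, Nat.card D = 4 → X D ≤ centralizer (D : Set G)
  inv : ∀ D ≤ E, Nat.card D = 4 → E ≤ normalizer (X D : Set G)
  bal : ∀ D ≤ E, Nat.card D = 4 → ∀ D' ≤ E, Nat.card D' = 4 → X D ⊓ centralizer (D' : Set G) ≤ X D'

variable {E : Subgroup G} {X : Subgroup G → Subgroup G}

theorem not_two_dvd {n : ℕ} (h : Odd n) : ¬ 2 ∣ n := fun h1 =>
  (Nat.not_even_iff_odd.2 h) (even_iff_two_dvd.2 h1)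

theorem odd_of_not_two_dvd {n : ℕ} (h : ¬ 2 ∣ n) : Odd n :=
  Nat.not_even_iff_odd.1 fun h1 => h (even_iff_two_dvd.1 h1)

theorem elem_comm (hE : IsElementaryAbelian 2 E) {a b : G} (ha : a ∈ E) (hb : b ∈ E) : a * b = b * a :=
  CoprimeGen.comm_of_isElementaryAbelian hE a ha b hb

theorem elem_sq (hE : IsElementaryAbelian 2 E) {a : G} (ha : a ∈ E) : a * a = 1 := by
  rw [← pow_two]; exact hE.2 a ha

/-- the first step: the group generated by the `X ⟨a, b⟩` -/
def th (E : Subgroup G) (X : Subgroup G → Subgroup G) (a : G) : Subgroup G :=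
  ⨆ b : {b : G // b ∈ E ∧ b ∉ zpowers a}, X (fg a b)

namespace Fam2

variable (F : Fam2 E X)
include F

theorem card_fg' {a b : G} (ha : a ∈ E) (ha1 : a ≠ 1) (hb : b ∈ E) (hb1 : b ∉ zpowers a) :
    Nat.card (fg a b) = 4 := by
  rw [mem_zpowers_iff_of_sq (elem_sq F.elem ha), not_or] at hb1
  exact card_fg (elem_sq F.elem ha) (elem_sq F.elem hb) (elem_comm F.elem ha hb) ha1 hb1.1 (Ne.symm hb1.2)

theorem cent' {a b : G} (ha : a ∈ E) (ha1 : a ≠ 1) (hb : b ∈ E) (hb1 : b ∉ zpowers a) {c : G}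
    (hc : c ∈ fg a b) : X (fg a b) ≤ centralizer {c} := by
  intro x hx
  have h1 := mem_centralizer_iff.1 (F.cent _ (fg_le ha hb) (F.card_fg' ha ha1 hb hb1) hx) c hc
  rw [mem_centralizer_singleton_iff]
  exact h1.symm

/-- the first step -/
theorem step (FT : ∀ Y : Subgroup G, Odd (Nat.card Y) → Group.IsSolvable Y) {a : G} (ha : a ∈ E) (ha1 : a ≠ 1) :
    Odd (Nat.card (th E X a)) ∧ ∀ b ∈ E, b ∉ zpowers a → th E X a ⊓ centralizer {b} = X (fg a b) := by
  have haa := elem_sq F.elem ha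
  obtain ⟨B, hBE, hBc, haB, hsup⟩ := RelK.Functor.exists_complement F.elem ha ha1
  have hBz : ∀ b ∈ B, b ≠ 1 → b ∉ zpowers a := by
    intro b hb hb1 h
    rcases (mem_zpowers_iff_of_sq haa).1 h with rfl | rfl
    · exact hb1 rfl
    · exact haB hb
  have h8 : 2 ^ 3 ≤ Nat.card B := by have := F.card; omega
  obtain ⟨h1, h2⟩ := SFTwo.result B (fun x hx y hy => elem_comm F.elem (hBE hx) (hBE hy))
    (fun x hx => F.elem.2 x (hBE hx)) h8 (fun b => X (fg a b))
    (fun b hb hb1 => F.cent' ha ha1 (hBE hb) (hBz b hb hb1) (right_mem _ _))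
    (fun b hb hb1 => not_two_dvd (F.odd _ (fg_le ha (hBE hb)) (F.card_fg' ha ha1 (hBE hb) (hBz b hb hb1))))
    (fun b hb hb1 c hc x hx => (mem_normalizer_iff.1
      (F.inv _ (fg_le ha (hBE hb)) (F.card_fg' ha ha1 (hBE hb) (hBz b hb hb1)) (hBE hc)) x).1 hx)
    (fun b hb hb1 => FT _ (F.odd _ (fg_le ha (hBE hb)) (F.card_fg' ha ha1 (hBE hb) (hBz b hb hb1))))
    (by
      rintro b hb hb1 c hc hc1 x ⟨hx, hxc⟩
      refine F.bal _ (fg_le ha (hBE hb)) (F.card_fg' ha ha1 (hBE hb) (hBz b hb hb1)) _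
        (fg_le ha (hBE hc)) (F.card_fg' ha ha1 (hBE hc) (hBz c hc hc1)) ⟨hx, ?_⟩
      have hxa := F.cent' ha ha1 (hBE hb) (hBz b hb hb1) (left_mem a b) hx
      have h3 : fg a c ≤ centralizer ({x} : Set G) := fg_le
        (mem_centralizer_singleton_iff.2 (mem_centralizer_singleton_iff.1 hxa).symm)
        (mem_centralizer_singleton_iff.2 (mem_centralizer_singleton_iff.1 hxc).symm)
      change x ∈ centralizer (fg a c : Set G)
      rw [mem_centralizer_iff]
      intro d hd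
      exact mem_centralizer_singleton_iff.1 (h3 hd))
  -- the join over `B` is `th`
  have hcos : ∀ b ∈ E, b ∉ zpowers a → ∃ b' ∈ B, b' ≠ 1 ∧ fg a b = fg a b' := by
    intro b hb hbz
    have hbs : b ∈ zpowers a ⊔ B := by rw [hsup]; exact hb
    have hn : B ≤ normalizer (zpowers a : Set G) := by
      intro y hy
      rw [mem_normalizer_iff]
      intro x
      have hc : y * a = a * y := elem_comm F.elem (hBE hy) ha
      constructor
      · intro hx
        rcases (mem_zpowers_iff_of_sq haa).1 hx with rfl | rfl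
        · rw [mul_one, mul_inv_cancel]; exact one_mem _
        · rw [hc, mul_inv_cancel_right]; exact mem_zpowers _
      · intro hx
        rcases (mem_zpowers_iff_of_sq haa).1 hx with h | h
        · have : x = 1 := by
            have h4 : x = y⁻¹ * (y * x * y⁻¹) * y := by group
            rw [h4, h]; group
          rw [this]; exact one_mem _
        · have : x = a := by
            have h4 : x = y⁻¹ * (y * x * y⁻¹) * y := by group
            rw [h4, h, mul_assoc, ← hc, inv_mul_cancel_left]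
          rw [this]; exact mem_zpowers _
    obtain ⟨z, hz, b', hb', rfl⟩ := (CoprimeBasic.mem_sup_iff hn b).1 hbs
    have hb'1 : b' ≠ 1 := by
      rintro rfl
      exact hbz (by rw [mul_one]; exact hz)
    refine ⟨b', hb', hb'1, ?_⟩
    rcases (mem_zpowers_iff_of_sq haa).1 hz with rfl | rfl
    · rw [one_mul]
    · apply le_antisymm
      · exact fg_le (left_mem _ _) (mul_mem (left_mem _ _) (right_mem _ _))
      · refine fg_le (left_mem _ _) ?_
        have h5 : z * (z * b') ∈ fg z (z * b') := mul_mem (left_mem _ _) (right_mem _ _)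
        rwa [← mul_assoc, haa, one_mul] at h5
  have hth : (⨆ b : {b : G // b ∈ B ∧ b ≠ 1}, X (fg a b)) = th E X a := by
    apply le_antisymm
    · refine iSup_le ?_
      rintro ⟨b, hb, hb1⟩
      exact le_iSup (fun b : {b : G // b ∈ E ∧ b ∉ zpowers a} => X (fg a b)) ⟨b, hBE hb, hBz b hb hb1⟩
    · refine iSup_le ?_
      rintro ⟨b, hb, hbz⟩
      obtain ⟨b', hb', hb'1, h⟩ := hcos b hb hbz
      change X (fg a b) ≤ _
      rw [h]
      exact le_iSup (fun b : {b : G // b ∈ B ∧ b ≠ 1} => X (fg a b)) ⟨b', hb', hb'1⟩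
  rw [hth] at h1 h2
  refine ⟨odd_of_not_two_dvd h1, ?_⟩
  intro b hb hbz
  have hthc : th E X a ≤ centralizer {a} := by
    refine iSup_le ?_
    rintro ⟨c, hc, hcz⟩
    exact F.cent' ha ha1 hc hcz (left_mem _ _)
  obtain ⟨b', hb', hb'1, h⟩ := hcos b hb hbz
  rw [h, ← h2 b' hb' hb'1]
  have hcc : ∀ x ∈ th E X a, (x ∈ centralizer ({b} : Set G) ↔ x ∈ centralizer ({b'} : Set G)) := by
    intro x hx
    have hxa : a ∈ centralizer ({x} : Set G) :=
      mem_centralizer_singleton_iff.2 (mem_centralizer_singleton_iff.1 (hthc hx)).symm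
    have key : ∀ c d : G, fg a c = fg a d → x ∈ centralizer ({c} : Set G) → x ∈ centralizer ({d} : Set G) := by
      intro c d hcd hxc
      have h3 : fg a c ≤ centralizer ({x} : Set G) := fg_le hxa
        (mem_centralizer_singleton_iff.2 (mem_centralizer_singleton_iff.1 hxc).symm)
      have h4 : d ∈ centralizer ({x} : Set G) := h3 (by rw [hcd]; exact right_mem _ _)
      exact mem_centralizer_singleton_iff.2 (mem_centralizer_singleton_iff.1 h4).symm
    exact ⟨key b b' h, key b' b h.symm⟩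
  ext x
  constructor
  · rintro ⟨hx, hxb⟩
    exact ⟨hx, (hcc x hx).1 hxb⟩
  · rintro ⟨hx, hxb⟩
    exact ⟨hx, (hcc x hx).2 hxb⟩

theorem th_le_cent {a : G} (ha : a ∈ E) (ha1 : a ≠ 1) : th E X a ≤ centralizer {a} := by
  refine iSup_le ?_
  rintro ⟨c, hc, hcz⟩
  exact F.cent' ha ha1 hc hcz (left_mem _ _)

theorem notMem_zpowers {a b : G} (ha : a ∈ E) (hb1 : b ≠ 1) (hne : a ≠ b) : b ∉ zpowers a := by
  rw [mem_zpowers_iff_of_sq (elem_sq F.elem ha), not_or]
  exact ⟨hb1, hne.symm⟩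

/-- the two steps -/
theorem main (FT : ∀ Y : Subgroup G, Odd (Nat.card Y) → Group.IsSolvable Y) :
    Odd (Nat.card (WW X E 4)) ∧ ∀ a ∈ E, a ≠ 1 → WW X E 4 ⊓ centralizer {a} = th E X a := by
  have h8 : 2 ^ 3 ≤ Nat.card E := by have := F.card; omega
  obtain ⟨h1, h2⟩ := SFTwo.result E (fun x hx y hy => elem_comm F.elem hx hy)
    F.elem.2 h8 (th E X)
    (fun a ha ha1 => F.th_le_cent ha ha1)
    (fun a ha ha1 => not_two_dvd (F.step FT ha ha1).1)
    (fun a ha ha1 b hb x hx => by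
      have hle : th E X a ≤ (th E X a).comap (MulAut.conj b).toMonoidHom := by
        refine iSup_le ?_
        rintro ⟨c, hc, hcz⟩ y hy
        rw [mem_comap]
        refine le_iSup (fun b : {b : G // b ∈ E ∧ b ∉ zpowers a} => X (fg a b)) ⟨c, hc, hcz⟩ ?_
        exact (mem_normalizer_iff.1 (F.inv _ (fg_le ha hc) (F.card_fg' ha ha1 hc hcz) hb) y).1 hy
      exact hle hx)
    (fun a ha ha1 => FT _ (F.step FT ha ha1).1)
    (by
      intro a ha ha1 b hb hb1
      by_cases hab : a = b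
      · subst hab; exact inf_le_left
      · rw [(F.step FT ha ha1).2 b hb (F.notMem_zpowers ha hb1 hab), fg_comm]
        exact le_iSup (fun c : {c : G // c ∈ E ∧ c ∉ zpowers b} => X (fg b c))
          ⟨a, ha, F.notMem_zpowers hb ha1 (Ne.symm hab)⟩)
  have hW : (⨆ a : {a : G // a ∈ E ∧ a ≠ 1}, th E X a) = WW X E 4 := by
    apply le_antisymm
    · refine iSup_le ?_
      rintro ⟨a, ha, ha1⟩
      refine iSup_le ?_
      rintro ⟨b, hb, hbz⟩
      exact le_WW (fg_le ha hb) (F.card_fg' ha ha1 hb hbz)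
    · refine iSup_le ?_
      rintro ⟨D, hD, hDc⟩
      obtain ⟨a, ha, b, hb, ha1, hb1, hne⟩ := exists_pair hDc
      have hDe := eq_fg hDc ha hb (elem_sq F.elem (hD ha)) (elem_sq F.elem (hD hb))
        (elem_comm F.elem (hD ha) (hD hb)) ha1 hb1 hne
      change X D ≤ _
      rw [hDe]
      refine le_trans ?_ (le_iSup (fun a : {a : G // a ∈ E ∧ a ≠ 1} => th E X a) ⟨a, hD ha, ha1⟩)
      exact le_iSup (fun b : {b : G // b ∈ E ∧ b ∉ zpowers a} => X (fg a b))
        ⟨b, hD hb, F.notMem_zpowers (hD ha) hb1 hne⟩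
  rw [hW] at h1 h2
  exact ⟨odd_of_not_two_dvd h1, h2⟩

/-- `C_W(D) = X D` -/
theorem inf_centralizer (FT : ∀ Y : Subgroup G, Odd (Nat.card Y) → Group.IsSolvable Y) {D : Subgroup G}
    (hD : D ≤ E) (hDc : Nat.card D = 4) : WW X E 4 ⊓ centralizer (D : Set G) = X D := by
  obtain ⟨a, ha, b, hb, ha1, hb1, hne⟩ := exists_pair hDc
  have hDe := eq_fg hDc ha hb (elem_sq F.elem (hD ha)) (elem_sq F.elem (hD hb))
    (elem_comm F.elem (hD ha) (hD hb)) ha1 hb1 hne
  apply le_antisymm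
  · rintro x ⟨hx, hxD⟩
    have hxa : x ∈ centralizer ({a} : Set G) :=
      mem_centralizer_singleton_iff.2 (mem_centralizer_iff.1 hxD a ha).symm
    have hxb : x ∈ centralizer ({b} : Set G) :=
      mem_centralizer_singleton_iff.2 (mem_centralizer_iff.1 hxD b hb).symm
    have h1 : x ∈ th E X a := by rw [← (F.main FT).2 a (hD ha) ha1]; exact ⟨hx, hxa⟩
    have h2 : x ∈ th E X a ⊓ centralizer {b} := ⟨h1, hxb⟩
    rw [(F.step FT (hD ha) ha1).2 b (hD hb) (F.notMem_zpowers (hD ha) hb1 hne), ← hDe] at h2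
    exact h2
  · exact le_inf (le_WW hD hDc) (F.cent D hD hDc)

end Fam2

end fam

/-! ### `Δ(D)` -/

section delta

variable {G : Type*} [Group G] [Finite G]

local notation "Δ" => signalizerDelta 2
local notation "O_" => centralizerPPrimeCore 2

theorem core_odd (a : G) : Odd (Nat.card (O_ a)) := by
  have h := CoreOfCentralizer.card_centralizerPPrimeCore_coprime 2 a
  exact (Nat.coprime_two_right).1 h

theorem core_le_cent (a : G) : O_ a ≤ centralizer ({a} : Set G) := map_subtype_le _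

theorem delta_le {D : Subgroup G} {d : G} (hd : d ∈ D) (hd1 : d ≠ 1) : Δ D ≤ O_ d := S1299.delta_le 2 hd hd1

theorem le_delta {D Y : Subgroup G} (h : ∀ d ∈ D, d ≠ 1 → Y ≤ O_ d) : Y ≤ Δ D :=
  le_iInf fun d => h d.1 d.2.1 d.2.2

theorem delta_anti {D E : Subgroup G} (h : D ≤ E) : Δ E ≤ Δ D := S1299.delta_antitone 2 h

theorem delta_le_cent (D : Subgroup G) : Δ D ≤ centralizer (D : Set G) := by
  intro x hx
  rw [mem_centralizer_iff]
  intro d hd
  rcases eq_or_ne d 1 with rfl | hd1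
  · rw [one_mul, mul_one]
  · exact (mem_centralizer_singleton_iff.1 (core_le_cent d (delta_le hd hd1 hx))).symm

theorem delta_odd {D : Subgroup G} (hD : 2 ≤ Nat.card D) : Odd (Nat.card (Δ D)) := by
  have h1 : D ≠ ⊥ := by
    rintro rfl
    rw [card_bot] at hD
    omega
  obtain ⟨d, hd1⟩ := (ne_bot_iff_exists_ne_one).1 h1
  have h2 : (d : G) ≠ 1 := fun h => hd1 (Subtype.ext h)
  exact (core_odd _).of_dvd_nat (card_dvd_of_le (delta_le d.2 h2))

theorem cent_le_normalizer_delta (D : Subgroup G) : centralizer (D : Set G) ≤ normalizer (Δ D : Set G) := by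
  intro c hc
  have key : ∀ c : G, c ∈ centralizer (D : Set G) → ∀ x ∈ Δ D, c * x * c⁻¹ ∈ Δ D := by
    intro c hc x hx
    refine mem_iInf.2 ?_
    rintro ⟨d, hd, hd1⟩
    have h1 : c ∈ centralizer ({d} : Set G) :=
      mem_centralizer_singleton_iff.2 (mem_centralizer_iff.1 hc d hd).symm
    exact (mem_normalizer_iff.1
      (CoreOfCentralizer.centralizer_le_normalizer_centralizerPPrimeCore 2 d h1) x).1 (delta_le hd hd1 hx)
  rw [mem_normalizer_iff]
  intro x
  refine ⟨key c hc x, fun hx => ?_⟩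
  have h2 := key c⁻¹ (inv_mem hc) _ hx
  have h3 : c⁻¹ * (c * x * c⁻¹) * c⁻¹⁻¹ = x := by group
  rwa [h3] at h2

/-- weak 2-balance on `E` -/
structure Hyp (E : Subgroup G) : Prop where
  elem : IsElementaryAbelian 2 E
  card : 16 ≤ Nat.card E
  w2 : ∀ D ≤ E, Nat.card D = 4 → ∀ c ∈ E, c ≠ 1 → ⁅Δ D ⊓ centralizer {c}, E⁆ ≤ O_ c
  b3 : ∀ U ≤ E, Nat.card U = 8 → ∀ c ∈ E, c ≠ 1 → Δ U ⊓ centralizer {c} ≤ O_ c

/-- the part centralized by `E` -/
def RR (E : Subgroup G) : Subgroup G :=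
  ⨆ D : {D : Subgroup G // D ≤ E ∧ Nat.card D = 4}, Δ (D : Subgroup G) ⊓ centralizer (E : Set G)

/-- the strictly 2-balanced family -/
def XX (E D : Subgroup G) : Subgroup G := Δ D ⊔ RR E

/-- the canonical group attached to a group `U` of order 8 -/
def KU (U : Subgroup G) : Subgroup G := ⁅WW Δ U 4, U⁆ ⊔ Δ U

/-- the completion -/
def What (E : Subgroup G) : Subgroup G := ⁅WW (XX E) E 4, E⁆ ⊔ Δ E

theorem norm_WW {A : Subgroup G} {X : Subgroup G → Subgroup G} {U : Subgroup G}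
    (h : ∀ D ≤ U, Nat.card D = 4 → A ≤ normalizer (X D : Set G)) : A ≤ normalizer (WW X U 4 : Set G) :=
  RelK.Functor.le_normalizer_iSup fun D => h D.1 D.2.1 D.2.2

namespace Hyp

variable {E : Subgroup G} (H : Hyp E)
include H

theorem le_cent {D : Subgroup G} (hD : D ≤ E) : E ≤ centralizer (D : Set G) := by
  intro e he
  rw [mem_centralizer_iff]
  intro d hd
  exact elem_comm H.elem (hD hd) he

theorem isPGroup : IsPGroup 2 E := CoprimeGen.isPGroup_of_isElementaryAbelian H.elem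

theorem RR_le : RR E ≤ centralizer (E : Set G) := iSup_le fun _ => inf_le_right

theorem RR_odd (FT : ∀ Y : Subgroup G, Odd (Nat.card Y) → Group.IsSolvable Y) : Odd (Nat.card (RR E)) := by
  have : Fact (Nat.Prime 2) := ⟨Nat.prime_two⟩
  have hodd : ∀ D : {D : Subgroup G // D ≤ E ∧ Nat.card D = 4},
      Odd (Nat.card ↥(Δ (D : Subgroup G) ⊓ centralizer (E : Set G))) := fun D =>
    (delta_odd (D := (D : Subgroup G)) (by rw [D.2.2]; norm_num)).of_dvd_nat (card_dvd_of_le inf_le_left)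
  have h := RelK.Functor.iSup_aux (p := 2) (G := G)
    (N := fun D : {D : Subgroup G // D ≤ E ∧ Nat.card D = 4} => Δ (D : Subgroup G) ⊓ centralizer (E : Set G))
    (by
      intro i j x hx
      have h1 : x ∈ normalizer (Δ (j : Subgroup G) : Set G) :=
        cent_le_normalizer_delta _ (centralizer_le j.2.1 hx.2)
      have h2 : x ∈ normalizer (centralizer (E : Set G) : Set G) := le_normalizer hx.2
      rw [mem_normalizer_iff] at h1 h2 ⊢
      intro y
      exact and_congr (h1 y) (h2 y))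
    (fun i => not_two_dvd (hodd i)) (fun i => FT _ (hodd i)) (P := ⊥) (IsPGroup.of_bot) (fun i => bot_le)
  exact odd_of_not_two_dvd h.1

theorem RR_norm {D : Subgroup G} (hD : D ≤ E) : RR E ≤ normalizer (Δ D : Set G) :=
  (H.RR_le.trans (centralizer_le hD)).trans (cent_le_normalizer_delta D)

theorem E_norm {D : Subgroup G} (hD : D ≤ E) : E ≤ normalizer (Δ D : Set G) :=
  (H.le_cent hD).trans (cent_le_normalizer_delta D)

theorem E_norm_RR : E ≤ normalizer (RR E : Set G) := by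
  apply GoldschmidtGen.le_normalizer_of_conj_mem
  intro a ha x hx
  have h1 := mem_centralizer_iff.1 (H.RR_le hx) a ha
  rw [h1, mul_inv_cancel_right]
  exact hx

/-- `Δ(D) ∩ C(V) ⊆ Δ(V) · (Δ(D) ∩ C(E))` for four-groups `D` and arbitrary `V` -/
theorem split' {D V : Subgroup G} (hD : D ≤ E) (hDc : Nat.card D = 4) (hV : V ≤ E)
    {y : G} (hy : y ∈ Δ D ⊓ centralizer (V : Set G)) :
    ∃ m ∈ ⁅Δ D ⊓ centralizer (V : Set G), E⁆, ∃ c ∈ Δ D ⊓ centralizer (E : Set G), y = m * c := by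
  have : Fact (Nat.Prime 2) := ⟨Nat.prime_two⟩
  have hYn : E ≤ normalizer ((Δ D ⊓ centralizer (V : Set G) : Subgroup G) : Set G) :=
    GoldschmidtGen.le_normalizer_inf_centralizer (H.E_norm hD)
      (fun a ha b hb => elem_comm H.elem ha (hV hb))
  have hYo : Odd (Nat.card ↥(Δ D ⊓ centralizer (V : Set G))) :=
    (delta_odd (D := D) (by rw [hDc]; norm_num)).of_dvd_nat (card_dvd_of_le inf_le_left)
  obtain ⟨m, hm, c, hc, h⟩ := Lib.CoprimeCommutator.exists_commutator_mul_fixed_of_isPGroup 2 E _ H.isPGroup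
    hYn (not_two_dvd hYo) y hy
  exact ⟨m, hm, c, ⟨hc.1.1, hc.2⟩, h⟩

theorem w2' {D V : Subgroup G} (hD : D ≤ E) (hDc : Nat.card D = 4) (hV : V ≤ E) :
    ⁅Δ D ⊓ centralizer (V : Set G), E⁆ ≤ Δ V := by
  refine le_delta fun d hd hd1 => ?_
  refine le_trans (commutator_mono (inf_le_inf_left _ ?_) le_rfl) (H.w2 D hD hDc d (hV hd) hd1)
  exact centralizer_le (by simpa using hd)

theorem split {D V : Subgroup G} (hD : D ≤ E) (hDc : Nat.card D = 4) (hV : V ≤ E)
    {y : G} (hy : y ∈ Δ D ⊓ centralizer (V : Set G)) : ∃ m ∈ Δ V, ∃ c ∈ RR E, y = m * c := by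
  obtain ⟨m, hm, c, hc, h⟩ := H.split' hD hDc hV hy
  exact ⟨m, H.w2' hD hDc hV hm, c, le_iSup (fun D : {D : Subgroup G // D ≤ E ∧ Nat.card D = 4} =>
    Δ (D : Subgroup G) ⊓ centralizer (E : Set G)) ⟨D, hD, hDc⟩ hc, h⟩

theorem fam (FT : ∀ Y : Subgroup G, Odd (Nat.card Y) → Group.IsSolvable Y) : Fam2 E (XX E) where
  elem := H.elem
  card := H.card
  odd D hD hDc := by
    have h1 := CoprimeBasic.card_sup_dvd (H.RR_norm hD)
    refine Odd.of_dvd_nat ?_ h1
    exact (delta_odd (by rw [hDc]; norm_num)).mul (H.RR_odd FT)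
  cent D hD hDc := sup_le (delta_le_cent D) (H.RR_le.trans (centralizer_le hD))
  inv D hD hDc := GoldschmidtGen.le_normalizer_sup (H.E_norm hD) H.E_norm_RR
  bal D hD hDc D' hD' hDc' := by
    have hn := H.RR_norm hD
    rintro x ⟨hx, hxD'⟩
    obtain ⟨y, hy, r, hr, rfl⟩ := (CoprimeBasic.mem_sup_iff hn x).1 hx
    have hrc : r ∈ centralizer (D' : Set G) := centralizer_le hD' (H.RR_le hr)
    have hyc : y ∈ centralizer (D' : Set G) := by
      have h4 : y * r ∈ centralizer (D' : Set G) := hxD'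
      have := mul_mem h4 (inv_mem hrc)
      rwa [mul_inv_cancel_right] at this
    obtain ⟨m, hm, c, hc, rfl⟩ := H.split hD hDc hD' ⟨hy, hyc⟩
    rw [mul_assoc]
    exact mul_mem (mem_sup_left hm) (mul_mem (mem_sup_right hc) (mem_sup_right hr))

/-- `W` has odd order -/
theorem odd_WW (FT : ∀ Y : Subgroup G, Odd (Nat.card Y) → Group.IsSolvable Y) :
    Odd (Nat.card (WW (XX E) E 4)) := ((H.fam FT).main FT).1

/-- `C_W(D) = Δ(D) R` -/
theorem inf_centralizer (FT : ∀ Y : Subgroup G, Odd (Nat.card Y) → Group.IsSolvable Y) {D : Subgroup G}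
    (hD : D ≤ E) (hDc : Nat.card D = 4) : WW (XX E) E 4 ⊓ centralizer (D : Set G) = XX E D :=
  (H.fam FT).inf_centralizer FT hD hDc

theorem delta_le_WW {D : Subgroup G} (hD : D ≤ E) (hDc : Nat.card D = 4) : Δ D ≤ WW (XX E) E 4 :=
  le_sup_left.trans (le_WW (X := XX E) hD hDc)

theorem E_norm_WW : E ≤ normalizer (WW (XX E) E 4 : Set G) :=
  norm_WW fun _ hD _ => GoldschmidtGen.le_normalizer_sup (H.E_norm hD) H.E_norm_RR

/-- generation by a subgroup of order 8 -/
theorem WW_le (FT : ∀ Y : Subgroup G, Odd (Nat.card Y) → Group.IsSolvable Y) {U : Subgroup G}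
    (hU : U ≤ E) (hUc : Nat.card U = 8) : WW (XX E) E 4 ≤ WW Δ U 4 ⊔ RR E := by
  have : Fact (Nat.Prime 2) := ⟨Nat.prime_two⟩
  have hUe : IsElementaryAbelian 2 U :=
    ⟨⟨⟨fun x y => Subtype.ext (elem_comm H.elem (hU x.2) (hU y.2))⟩⟩, fun x hx => H.elem.2 x (hU hx)⟩
  have hU1 : U ≠ ⊥ := by
    rintro rfl
    rw [card_bot] at hUc
    omega
  have h1 := Lib.CoprimeHyperplane.iSup_centralizer_hyperplane hUe hU1 (not_two_dvd (H.odd_WW FT))
    (hU.trans H.E_norm_WW)
  rw [← h1]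
  refine iSup_le ?_
  rintro ⟨B, hBU, hBi⟩
  have hBc : Nat.card B = 4 := by
    have h2 : Nat.card B * B.relIndex U = Nat.card U := by
      have := relIndex_mul_relIndex (⊥ : Subgroup G) B U bot_le hBU
      rwa [relIndex_bot_left, relIndex_bot_left] at this
    rw [hBi, hUc] at h2
    omega
  change WW (XX E) E 4 ⊓ centralizer (B : Set G) ≤ _
  rw [H.inf_centralizer FT (hBU.trans hU) hBc]
  exact sup_le_sup_right (le_WW hBU hBc) _

theorem RR_norm_WW {U : Subgroup G} (hU : U ≤ E) : RR E ≤ normalizer (WW Δ U 4 : Set G) :=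
  norm_WW fun _ hD _ => H.RR_norm (hD.trans hU)

theorem E_norm_WWU {U : Subgroup G} (hU : U ≤ E) : E ≤ normalizer (WW Δ U 4 : Set G) :=
  norm_WW fun _ hD _ => H.E_norm (hD.trans hU)

theorem WWU_le {U : Subgroup G} (hU : U ≤ E) : WW Δ U 4 ≤ WW (XX E) E 4 := by
  refine iSup_le ?_
  rintro ⟨D, hD, hDc⟩
  exact H.delta_le_WW (hD.trans hU) hDc

/-- `[W_E, E] ≤ [W_U, U] Δ(U)` -/
theorem commutator_le_KU (FT : ∀ Y : Subgroup G, Odd (Nat.card Y) → Group.IsSolvable Y) {U : Subgroup G}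
    (hU : U ≤ E) (hUc : Nat.card U = 8) : ⁅WW (XX E) E 4, E⁆ ≤ KU U := by
  have : Fact (Nat.Prime 2) := ⟨Nat.prime_two⟩
  obtain ⟨N, hN⟩ : ∃ N, N = ⁅WW Δ U 4, U⁆ := ⟨_, rfl⟩
  have hNn : WW Δ U 4 ≤ normalizer (N : Set G) :=
    hN ▸ Lib.CoprimeCommutator.left_le_normalizer_commutator _ _
  have hEN : E ≤ normalizer (N : Set G) := hN ▸ GoldschmidtGen.le_normalizer_commutator (H.E_norm_WWU hU)
    (fun a ha b hb => elem_comm H.elem ha (hU hb))
  have hWUo : Odd (Nat.card (WW Δ U 4)) := (H.odd_WW FT).of_dvd_nat (card_dvd_of_le (H.WWU_le hU))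
  -- elements of `W_U`
  have key : ∀ v ∈ WW Δ U 4, ∀ e ∈ E, ⁅v, e⁆ ∈ KU U := by
    intro v hv e he
    obtain ⟨m, hm, c, hc, rfl⟩ := Lib.CoprimeCommutator.exists_commutator_mul_fixed_of_isPGroup 2 U _
      (H.isPGroup.to_le hU) (hU.trans (H.E_norm_WWU hU)) (not_two_dvd hWUo) v hv
    rw [← hN] at hm
    -- a four-group of `U`
    obtain ⟨D, hDU, hDc⟩ : ∃ D ≤ U, Nat.card D = 4 := by
      obtain ⟨D₁, hD₁⟩ := Sylow.exists_subgroup_card_pow_prime (G := ↥U) 2
        (show 2 ^ 2 ∣ Nat.card U by rw [hUc]; norm_num)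
      refine ⟨D₁.map U.subtype, map_subtype_le D₁, ?_⟩
      rw [card_map_of_injective U.subtype_injective, hD₁]; norm_num
    have hcX : c ∈ XX E D := by
      rw [← H.inf_centralizer FT (hDU.trans hU) hDc]
      exact ⟨H.WWU_le hU hc.1, centralizer_le hDU hc.2⟩
    obtain ⟨y, hy, r, hr, hyr⟩ := (CoprimeBasic.mem_sup_iff (H.RR_norm (hDU.trans hU)) c).1 hcX
    have hrE : ∀ e ∈ E, r * e = e * r := fun e he => (mem_centralizer_iff.1 (H.RR_le hr) e he).symm
    have hyU : y ∈ centralizer (U : Set G) := by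
      have h3 : c ∈ centralizer (U : Set G) := hc.2
      have h4 : r ∈ centralizer (U : Set G) := centralizer_le hU (H.RR_le hr)
      have := mul_mem h3 (inv_mem h4)
      rwa [← hyr, mul_inv_cancel_right] at this
    have hce : ⁅c, e⁆ ∈ Δ U := by
      have h5 : ⁅c, e⁆ = ⁅y, e⁆ := by
        rw [← hyr, commutatorElement_def, commutatorElement_def]
        calc y * r * e * (y * r)⁻¹ * e⁻¹ = y * (r * e) * r⁻¹ * y⁻¹ * e⁻¹ := by group
          _ = y * e * y⁻¹ * e⁻¹ := by rw [hrE e he]; group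
      rw [h5]
      exact H.w2' (hDU.trans hU) hDc hU (commutator_mem_commutator ⟨hy, hyU⟩ he)
    have hceW : ⁅c, e⁆ ∈ WW Δ U 4 := by
      rw [commutatorElement_def]
      have h6 : c * e * c⁻¹ * e⁻¹ = c * (e * c⁻¹ * e⁻¹) := by group
      rw [h6]
      exact mul_mem hc.1 (GoldschmidtGen.conj_mem_of_le_normalizer (H.E_norm_WWU hU) he (inv_mem hc.1))
    have h7 : ⁅m * c, e⁆ = ⁅c, e⁆ * (⁅c, e⁆⁻¹ * m * ⁅c, e⁆⁻¹⁻¹) * m⁻¹ * (m * (e * m⁻¹ * e⁻¹)) := by
      simp only [commutatorElement_def]; group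
    have h8 : ⁅c, e⁆⁻¹ * m * ⁅c, e⁆⁻¹⁻¹ ∈ N :=
      GoldschmidtGen.conj_mem_of_le_normalizer hNn (inv_mem hceW) hm
    have h9 : m * (e * m⁻¹ * e⁻¹) ∈ N :=
      mul_mem hm (GoldschmidtGen.conj_mem_of_le_normalizer hEN he (inv_mem hm))
    rw [h7, KU, ← hN]
    exact mul_mem (mul_mem (mul_mem (mem_sup_right hce) (mem_sup_left h8))
      (mem_sup_left (inv_mem hm))) (mem_sup_left h9)
  rw [commutator_le]
  intro w hw e he
  obtain ⟨v, hv, r, hr, rfl⟩ := (CoprimeBasic.mem_sup_iff (H.RR_norm_WW hU) w).1 (H.WW_le FT hU hUc hw)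
  have hrE : r * e = e * r := (mem_centralizer_iff.1 (H.RR_le hr) e he).symm
  have h5 : ⁅v * r, e⁆ = ⁅v, e⁆ := by
    rw [commutatorElement_def, commutatorElement_def]
    calc v * r * e * (v * r)⁻¹ * e⁻¹ = v * (r * e) * r⁻¹ * v⁻¹ * e⁻¹ := by group
      _ = v * e * v⁻¹ * e⁻¹ := by rw [hrE]; group
  rw [h5]
  exact key v hv e he

theorem delta_U_le {U : Subgroup G} (hU : U ≤ E) (hUc : Nat.card U = 8) : Δ U ≤ What E := by
  have : Fact (Nat.Prime 2) := ⟨Nat.prime_two⟩
  obtain ⟨D, hDU, hDc⟩ : ∃ D ≤ U, Nat.card D = 4 := by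
    obtain ⟨D₁, hD₁⟩ := Sylow.exists_subgroup_card_pow_prime (G := ↥U) 2
      (show 2 ^ 2 ∣ Nat.card U by rw [hUc]; norm_num)
    refine ⟨D₁.map U.subtype, map_subtype_le D₁, ?_⟩
    rw [card_map_of_injective U.subtype_injective, hD₁]; norm_num
  intro y hy
  obtain ⟨m, hm, c, hc, rfl⟩ := Lib.CoprimeCommutator.exists_commutator_mul_fixed_of_isPGroup 2 E _
    H.isPGroup (H.E_norm hU) (not_two_dvd (delta_odd (by rw [hUc]; norm_num))) y hy
  refine mul_mem (mem_sup_left ?_) (mem_sup_right ?_)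
  · exact commutator_mono ((delta_anti hDU).trans (H.delta_le_WW (hDU.trans hU) hDc)) le_rfl hm
  · refine le_delta (Y := Δ U ⊓ centralizer (E : Set G)) (fun d hd hd1 => ?_) hc
    refine le_trans (inf_le_inf_left _ ?_) (H.b3 U hU hUc d hd hd1)
    exact centralizer_le (by simpa using hd)

/-- **The completion depends only on any subgroup of order 8.** -/
theorem what_eq (FT : ∀ Y : Subgroup G, Odd (Nat.card Y) → Group.IsSolvable Y) {U : Subgroup G}
    (hU : U ≤ E) (hUc : Nat.card U = 8) : What E = KU U := by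
  apply le_antisymm
  · exact sup_le (H.commutator_le_KU FT hU hUc) ((delta_anti hU).trans le_sup_right)
  · refine sup_le ?_ (H.delta_U_le hU hUc)
    exact (commutator_mono (H.WWU_le hU) hU).trans le_sup_left

theorem exists_sub : ∃ U ≤ E, Nat.card U = 8 := by
  have : Fact (Nat.Prime 2) := ⟨Nat.prime_two⟩
  obtain ⟨k, hk⟩ := H.isPGroup.exists_card_eq
  have h16 := H.card
  have hk4 : 4 ≤ k := by
    by_contra hcon
    have : 2 ^ k ≤ 2 ^ 3 := Nat.pow_le_pow_right (by norm_num) (by omega)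
    omega
  obtain ⟨D₁, hD₁⟩ := Sylow.exists_subgroup_card_pow_prime (G := ↥E) 2
    (show 2 ^ 3 ∣ Nat.card E by rw [hk]; exact pow_dvd_pow 2 (by omega))
  refine ⟨D₁.map E.subtype, map_subtype_le D₁, ?_⟩
  rw [card_map_of_injective E.subtype_injective, hD₁]; norm_num

theorem what_le : What E ≤ WW (XX E) E 4 := by
  obtain ⟨D, hD, hDc⟩ : ∃ D ≤ E, Nat.card D = 4 := by
    obtain ⟨U, hU, hUc⟩ := H.exists_sub
    have : Fact (Nat.Prime 2) := ⟨Nat.prime_two⟩
    obtain ⟨D₁, hD₁⟩ := Sylow.exists_subgroup_card_pow_prime (G := ↥U) 2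
      (show 2 ^ 2 ∣ Nat.card U by rw [hUc]; norm_num)
    refine ⟨D₁.map U.subtype, (map_subtype_le D₁).trans hU, ?_⟩
    rw [card_map_of_injective U.subtype_injective, hD₁]; norm_num
  exact sup_le (Lib.CoprimeCommutator.commutator_le_left H.E_norm_WW)
    ((delta_anti hD).trans (H.delta_le_WW hD hDc))

/-- the completion has odd order -/
theorem odd_what (FT : ∀ Y : Subgroup G, Odd (Nat.card Y) → Group.IsSolvable Y) : Odd (Nat.card (What E)) :=
  (H.odd_WW FT).of_dvd_nat (card_dvd_of_le H.what_le)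

/-- the case `What E = 1` -/
theorem of_what_eq_bot (h : What E = ⊥) :
    (∀ D ≤ E, Nat.card D = 4 → Δ D ≤ centralizer (E : Set G)) ∧
      (∀ U ≤ E, Nat.card U = 8 → Δ U = ⊥) := by
  refine ⟨fun D hD hDc => ?_, fun U hU hUc => ?_⟩
  · rw [← commutator_eq_bot_iff_le_centralizer, eq_bot_iff, ← h]
    exact (commutator_mono (H.delta_le_WW hD hDc) le_rfl).trans le_sup_left
  · rw [eq_bot_iff, ← h]
    exact H.delta_U_le hU hUc

end Hyp

/-! ### conjugation -/

theorem KU_conj_le (U : Subgroup G) (g : G) :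
    (KU U).map (MulAut.conj g).toMonoidHom ≤ KU (U.map (MulAut.conj g).toMonoidHom) := by
  have : Fact (Nat.Prime 2) := ⟨Nat.prime_two⟩
  rw [KU, Subgroup.map_sup, Subgroup.map_commutator]
  exact sup_le_sup (commutator_mono (WW_conj_le (delta_equi 2) U 4 g) le_rfl) (delta_equi 2 U g)

theorem KU_conj (U : Subgroup G) (g : G) :
    (KU U).map (MulAut.conj g).toMonoidHom = KU (U.map (MulAut.conj g).toMonoidHom) := by
  apply le_antisymm (KU_conj_le U g)
  have h1 := KU_conj_le (U.map (MulAut.conj g).toMonoidHom) g⁻¹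
  have h2 : (U.map (MulAut.conj g).toMonoidHom).map (MulAut.conj g⁻¹).toMonoidHom = U := by
    ext x
    simp only [mem_map, MulEquiv.toMonoidHom_eq_coe, MonoidHom.coe_coe, MulAut.conj_apply]
    constructor
    · rintro ⟨_, ⟨y, hy, rfl⟩, rfl⟩
      have : g⁻¹ * (g * y * g⁻¹) * g⁻¹⁻¹ = y := by group
      rwa [this]
    · intro hx
      exact ⟨g * x * g⁻¹, ⟨x, hx, rfl⟩, by group⟩
  rw [h2] at h1
  intro x hx
  refine ⟨g⁻¹ * x * g, h1 ⟨x, hx, by simp⟩, ?_⟩
  simp only [MulEquiv.toMonoidHom_eq_coe, MonoidHom.coe_coe, MulAut.conj_apply]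
  group

/-- if `U^g ≤ E'` then `What(E)^g = What(E')` -/
theorem Hyp.what_conj (FT : ∀ Y : Subgroup G, Odd (Nat.card Y) → Group.IsSolvable Y) {E E' U : Subgroup G}
    (H : Hyp E) (H' : Hyp E') (hU : U ≤ E) (hUc : Nat.card U = 8) {g : G}
    (hg : U.map (MulAut.conj g).toMonoidHom ≤ E') :
    (What E).map (MulAut.conj g).toMonoidHom = What E' := by
  rw [H.what_eq FT hU hUc, KU_conj, H'.what_eq FT hg]
  rw [card_map_of_injective (MulAut.conj g).injective, hUc]

/-- `N_G(U) ≤ N_G(What E)` for `U ≤ E` of order 8 -/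
theorem Hyp.normalizer_le (FT : ∀ Y : Subgroup G, Odd (Nat.card Y) → Group.IsSolvable Y) {E U : Subgroup G}
    (H : Hyp E) (hU : U ≤ E) (hUc : Nat.card U = 8) :
    normalizer (U : Set G) ≤ normalizer (What E : Set G) := by
  intro g hg
  have h2 : U.map (MulAut.conj g).toMonoidHom = U := mem_normalizer_iff_map_conj_eq.1 hg
  rw [mem_normalizer_iff_map_conj_eq]
  exact H.what_conj FT H hU hUc (h2.le.trans hU)

/-- `N_G(E) ≤ N_G(What E)` -/
theorem Hyp.normalizer_le' (FT : ∀ Y : Subgroup G, Odd (Nat.card Y) → Group.IsSolvable Y) {E : Subgroup G}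
    (H : Hyp E) : normalizer (E : Set G) ≤ normalizer (What E : Set G) := by
  obtain ⟨U, hU, hUc⟩ := H.exists_sub
  intro g hg
  have h2 : E.map (MulAut.conj g).toMonoidHom = E := mem_normalizer_iff_map_conj_eq.1 hg
  rw [mem_normalizer_iff_map_conj_eq]
  exact H.what_conj FT H hU hUc ((map_mono hU).trans h2.le)

/-- `What E = What E'` if `|E ∩ E'| ≥ 8` -/
theorem Hyp.what_eq_what (FT : ∀ Y : Subgroup G, Odd (Nat.card Y) → Group.IsSolvable Y) {E E' U : Subgroup G}
    (H : Hyp E) (H' : Hyp E') (hU : U ≤ E) (hU' : U ≤ E') (hUc : Nat.card U = 8) : What E = What E' := by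
  rw [H.what_eq FT hU hUc, H'.what_eq FT hU' hUc]

end delta

end Cfsg.Agent.UGT.Func52
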