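import Cfsg.Agent.UGT.RedAlt
import Cfsg.Agent.UAlt.ModExists
import Cfsg.Agent.UGT.Iface
import Cfsg.Agent.Intrinsic.WZero

/-!
# Reduction R for triples of alternating type, part 2

`P : Part x a Mo r c d` (see `RedAlt`), `N` the pump-up of the 2-component `M` of `C_L(c)`.

* `quot_cmp`: `cmp t / O(cmp t) ≅ Alt(Fix t)`.
* `Part.isAlt`: if `a` normalizes `N` and `N / O(N)` is alternating then `a` fixes `N` and
  `N / O(N) ≅ Alt(Fix c)`.
-/

set_option autoImplicit false

open Cfsg Subgroup Equiv Equiv.Perm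
open Cfsg.Agent.SignalizersComponents Cfsg.Agent.Lib
open Cfsg.Agent.SignalizersComponents.IntrinsicBasic
open Cfsg.Agent.SignalizersComponents.IntrinsicIntr
open Cfsg.Agent.SignalizersComponents.PLayerAut
open Cfsg.Agent.Intrinsic.Basic Cfsg.Agent.Intrinsic.Cen Cfsg.Agent.Intrinsic.Diag
open Cfsg.Agent.McLLyComp.Act
open Cfsg.Agent.UGT.Triple Cfsg.Agent.UGT.LemG Cfsg.Agent.UGT.PumpGen
open Cfsg.Agent.UAlt Cfsg.Agent.UGT.Iface
open scoped commutatorElement

namespace Cfsg.Agent.UGT.RedAlt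

variable {α : Type*} [Fintype α] [DecidableEq α]

/-! ### three points -/

/-- a nontrivial element of `Alt(F)`, `|F| = 3`, is a 3-cycle without fixed points in `F` -/
theorem moves_three {F : Finset α} (hF : F.card = 3) {δ : Perm α} (hδ : δ ∈ alt F) (hδ1 : δ ≠ 1) :
    ∀ i ∈ F, δ i ≠ i ∧ δ (δ i) ≠ i ∧ δ (δ (δ i)) = i ∧ ∀ j ∈ F, j = i ∨ j = δ i ∨ j = δ (δ i) := by
  have hsupp : δ.support ⊆ F := by
    intro i hi
    by_contra h
    exact (Perm.mem_support.mp hi) (hδ.2 i h)
  have hsign : Perm.sign δ = 1 := Perm.mem_alternatingGroup.mp hδ.1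
  have h2 : 2 ≤ δ.support.card := Perm.two_le_card_support_of_ne_one hδ1
  have h3 : δ.support.card ≤ 3 := hF ▸ Finset.card_le_card hsupp
  have hcard : δ.support.card = 3 := by
    by_contra hne
    have h4 : δ.support.card = 2 := by omega
    have h5 : δ.IsSwap := Perm.card_support_eq_two.mp h4
    rw [h5.sign_eq] at hsign
    exact absurd hsign (by decide)
  have hsF : δ.support = F := Finset.eq_of_subset_of_card_le hsupp (by omega)
  have hcyc : δ.IsThreeCycle := card_support_eq_three_iff.mp hcard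
  have h6 : δ ^ 3 = 1 := by rw [← hcyc.orderOf, pow_orderOf_eq_one]
  have key : ∀ i ∈ F, δ i ≠ i ∧ δ (δ i) ≠ i ∧ δ (δ (δ i)) = i := by
    intro i hi
    have h7 : δ i ≠ i := by
      rw [← hsF] at hi
      exact Perm.mem_support.mp hi
    have h8 : δ (δ (δ i)) = i := by
      have := congrArg (fun f : Perm α => f i) h6
      simpa [pow_succ] using this
    refine ⟨h7, fun h => ?_, h8⟩
    rw [h] at h8
    exact h7 h8
  intro i hi
  obtain ⟨k1, k2, k3⟩ := key i hi
  refine ⟨k1, k2, k3, fun j hj => ?_⟩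
  have hsub : ({i, δ i, δ (δ i)} : Finset α) ⊆ F := by
    intro p hp
    simp only [Finset.mem_insert, Finset.mem_singleton] at hp
    rcases hp with rfl | rfl | rfl
    · exact hi
    · exact mem_of_mem_sym (alt_le_sym _ hδ) hi
    · exact mem_of_mem_sym (alt_le_sym _ hδ) (mem_of_mem_sym (alt_le_sym _ hδ) hi)
  have hc3 : ({i, δ i, δ (δ i)} : Finset α).card = 3 := by
    rw [Finset.card_eq_three]
    refine ⟨i, δ i, δ (δ i), k1.symm, k2.symm, ?_, rfl⟩
    intro h
    exact k1 (δ.injective h).symm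
  have heq : ({i, δ i, δ (δ i)} : Finset α) = F := Finset.eq_of_subset_of_card_le hsub (by omega)
  rw [← heq] at hj
  simpa using hj

/-- an involution commuting with a 3-cycle on `F` fixes `F` pointwise -/
theorem fix_three {F : Finset α} (hF : F.card = 3) {δ τ : Perm α} (hδ : δ ∈ alt F) (hδ1 : δ ≠ 1)
    (hτ : τ * τ = 1) (hc : τ * δ = δ * τ) : ∀ i ∈ F, τ i = i := by
  intro i hi
  obtain ⟨k1, k2, k3, k4⟩ := moves_three hF hδ hδ1 i hi
  have hτ' : ∀ j, τ (τ j) = j := fun j => by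
    have := congrArg (fun f : Perm α => f j) hτ
    simpa using this
  have hc' : ∀ j, τ (δ j) = δ (τ j) := fun j => by
    have := congrArg (fun f : Perm α => f j) hc
    simpa using this
  have hτF : τ i ∈ F := by
    by_contra h
    have h1 := hδ.2 _ h
    rw [← hc'] at h1
    exact k1 (τ.injective h1)
  rcases k4 _ hτF with h | h | h
  · exact h
  · exfalso
    apply k2
    have h1 := hτ' i
    rw [h, hc', h] at h1
    exact h1
  · exfalso
    apply k1
    have h1 := hτ' i
    rw [h, hc', hc', h] at h1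
    have h2 : δ (δ (δ (δ i))) = δ i := by rw [k3]
    rw [h2] at h1
    exact h1

theorem isAlt_of_equiv {T : Finset α} {K : Type*} [Group K] (e : K ≃* ↥(alt T)) : IsAlt T.card K :=
  ⟨(e.trans (altEquiv T).symm).trans (Equiv.altCongrHom T.equivFin)⟩

variable {G : Type*} [Group G] [Finite G]

/-- `cmp t / O(cmp t) ≅ Alt(Fix t)` -/
theorem quot_cmp {L : Subgroup G} {S : Finset α} (Mo : Mod L S) {t : G}
    (ht : t ∈ normalizer (L : Set G)) (htt : t * t = 1) (h5 : 5 ≤ (fixIn S (Mo.φ t)).card) :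
    Nonempty ((↥(Mo.cmp t) ⧸ oddCore ↥(Mo.cmp t)) ≃* ↥(alt (fixIn S (Mo.φ t)))) := by
  let f : ↥(Mo.cmp t) →* ↥(alt (fixIn S (Mo.φ t))) :=
    { toFun := fun k => ⟨Mo.φ k, Mo.cmp_mem_alt k.2⟩
      map_one' := Subtype.ext Mo.one
      map_mul' := fun p q => Subtype.ext (Mo.mul p q (le_normalizer (Mo.cmp_le t p.2))
        (le_normalizer (Mo.cmp_le t q.2))) }
  have hf : Function.Surjective f := by
    rintro ⟨σ, hσ⟩
    obtain ⟨k, hk, rfl⟩ := Mo.cmp_lift ht htt h5 hσ
    exact ⟨⟨k, hk⟩, rfl⟩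
  have hker : oddCore ↥(Mo.cmp t) = f.ker := by
    apply le_antisymm
    · intro k hk
      have h1 : (k : G) ∈ core (Mo.cmp t) := (mem_core_iff k.2).mpr hk
      have h2 := ((Mo.isComp_cmp ht htt h5).core_le_core.trans
        (Mo.core_cent_le ht htt (by omega))) h1
      rw [MonoidHom.mem_ker]
      exact Subtype.ext ((Mo.core_iff _ (Mo.cmp_le t k.2)).mpr h2)
    · have h1 : Odd (Nat.card f.ker) := by
        have h2 : f.ker.map (Mo.cmp t).subtype ≤ core L := by
          rintro _ ⟨k, hk, rfl⟩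
          exact (Mo.core_iff _ (Mo.cmp_le t k.2)).mp (congrArg Subtype.val hk)
        have h3 := Subgroup.card_dvd_of_le h2
        rw [Subgroup.card_map_of_injective (Subgroup.subtype_injective _)] at h3
        exact Odd.of_dvd_nat (odd_card_core L) h3
      have h4 : f.ker.map (Mo.cmp t).subtype ≤ core (Mo.cmp t) := by
        refine le_core (map_subtype_le _) ?_ ?_
        · intro g hg
          have h5 : (f.ker).Normal := inferInstance
          rw [mem_normalizer_iff]
          have key : ∀ g ∈ Mo.cmp t, ∀ y ∈ f.ker.map (Mo.cmp t).subtype,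
              g * y * g⁻¹ ∈ f.ker.map (Mo.cmp t).subtype := by
            rintro g hg _ ⟨k, hk, rfl⟩
            exact ⟨⟨g, hg⟩ * k * ⟨g, hg⟩⁻¹, h5.conj_mem k hk _, rfl⟩
          intro y
          refine ⟨key g hg y, fun h => ?_⟩
          have := key g⁻¹ (inv_mem hg) _ h
          convert this using 1
          group
        · rw [Subgroup.card_map_of_injective (Subgroup.subtype_injective _)]
          exact h1
      intro k hk
      have h5 := h4 ⟨k, hk, rfl⟩
      exact (mem_core_iff k.2).mp h5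
  exact ⟨(QuotientGroup.quotientMulEquivOfEq hker).trans (QuotientGroup.quotientKerEquivOfSurjective f hf)⟩

section

variable {x a : G} {L : Subgroup G} {S : Finset α} {Mo : Mod L S} {r c d : G}

omit [Finite G] in
theorem Part.xeq (P : Part x a Mo r c d) : x = c * r := by
  rw [P.ceq, mul_assoc, P.rr, mul_one]

omit [Finite G] in
theorem Part.cr (P : Part x a Mo r c d) : c * r = r * c := by
  rw [P.ceq, mul_assoc, P.rr, mul_one, ← mul_assoc, ← P.xr, mul_assoc, P.rr, mul_one]

/-- `N / O(N)` alternating and normalized by `a`: `N / O(N) ≅ Alt(Fix c)` -/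
theorem Part.isAlt (P : Part x a Mo r c d) (T : IsTriple x a L) {N : Subgroup G}
    (TN : IsTriple x c N) (hdN : ¬ Fixes d N) (haN : a ∈ normalizer (N : Set G)) (hMN : Mo.cmp c ≤ N)
    {β : Type*} [Fintype β] [DecidableEq β] {S' : Finset β} (Mo' : Mod N S') :
    Fixes a N ∧ IsAlt (fixIn S (Mo.φ c)).card (Bar N) := by
  have ha2 := sq_of_order T.inva
  have hcc := sq_of_order P.invc
  obtain ⟨h3, hD⟩ := three_fix TN Mo'
  have hcN : Fixes c N := Intrinsic.WZero.fixes_of_comm fun y hy => (comm_c (TN.comp.le hy)).symm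
  have hMc : IsComp (N ⊓ centralizer ({a} : Set G)) (Mo.cmp c) := by
    refine P.comp.restrict ?_ ?_
    · rw [inf_comm (centralizer ({a} : Set G))]
      exact inf_le_inf_right _ TN.comp.le
    · exact le_inf hMN fun y hy => (P.comp.le hy).1
  obtain ⟨hMeq, h5'⟩ := (Mo'.isComp_iff_cmp haN ha2).mp hMc
  have hrN : r ∈ N := hMN P.mem
  have hrN' := le_normalizer (H := N) hrN
  have hφx : Mo'.φ x = Mo'.φ r := by
    rw [P.xeq, Mo'.mul _ _ hcN.1 hrN', (Mo'.fixes_iff hcN.1).mpr hcN, one_mul]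
  have hφr : Mo'.φ r ∈ alt (fixIn S' (Mo'.φ a)) := Mo'.cmp_mem_alt (hMeq ▸ P.mem)
  have hdD : d ∈ DD x c := ⟨P.dD, P.dc⟩
  have hdNn : d ∈ normalizer (N : Set G) := TN.mem_normalizer_of_core P.dD P.dc
  have hd1 : Mo'.φ d ≠ 1 := fun h => hdN ((Mo'.fixes_iff hdNn).mp h)
  have hda : Mo'.φ a * Mo'.φ d = Mo'.φ d * Mo'.φ a := Mo'.comm haN hdNn (comm_c P.da).symm
  have hfix := fix_three h3 (hD d hdD) hd1 (Mo'.sq haN ha2) hda
  have h1 : Mo'.φ a = 1 := by
    ext j
    by_cases hj : j ∈ S'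
    · by_cases hj2 : j ∈ fixIn S' (Mo'.φ a)
      · exact (mem_fixIn.mp hj2).2
      · refine hfix j (mem_fixIn.mpr ⟨hj, ?_⟩)
        rw [hφx]
        exact hφr.2 j hj2
    · exact Mo'.mem_sym a haN j hj
  refine ⟨(Mo'.fixes_iff haN).mp h1, ?_⟩
  obtain ⟨e1⟩ := quot_cmp Mo' haN ha2 h5'
  obtain ⟨e2⟩ := quot_cmp Mo P.cN hcc P.five
  have hS : fixIn S' (Mo'.φ a) = S' := by
    ext j
    rw [mem_fixIn, h1]
    simp
  rw [hS, ← hMeq] at e1
  exact isAlt_of_equiv (((Mo'.quotEquiv.trans (altEquiv S')).trans e1.symm).trans e2)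

end

end Cfsg.Agent.UGT.RedAlt
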