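import Cfsg.Agent.UGT.RedAltB

/-!
# Reduction R for triples of alternating type, part 3: the part with two transpositions
-/

set_option autoImplicit false

open Cfsg Subgroup Equiv Equiv.Perm
open Cfsg.Agent.SignalizersComponents Cfsg.Agent.Lib
open Cfsg.Agent.SignalizersComponents.IntrinsicBasic
open Cfsg.Agent.SignalizersComponents.IntrinsicIntr
open Cfsg.Agent.SignalizersComponents.PLayerAut
open Cfsg.Agent.Intrinsic.Basic Cfsg.Agent.Intrinsic.Cen Cfsg.Agent.Intrinsic.Diag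
open Cfsg.Agent.McLLyComp.Act
open Cfsg.Agent.UGT.Triple Cfsg.Agent.UGT.LemG Cfsg.Agent.UGT.PumpGen
open Cfsg.Agent.UAlt Cfsg.Agent.UGT.Iface
open scoped commutatorElement

namespace Cfsg.Agent.UGT.RedAlt

variable {α : Type*} [Fintype α] [DecidableEq α]

/-- the part consisting of two transpositions -/
theorem exists_rho {S : Finset α} {σ : Perm α} (hσS : σ ∈ sym S) (hσσ : σ * σ = 1)
    (h3 : (fixIn S σ).card = 3) (h8 : 8 ≤ S.card) :
    ∃ ρ ∈ alt S, (∀ i, ρ i = i ∨ ρ i = σ i) ∧ ρ * ρ = 1 ∧ σ * ρ = ρ * σ ∧ ρ ≠ 1 ∧ ρ ≠ σ ∧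
      (fixIn S (σ * ρ)).card = 7 := by
  have hσ' : ∀ j, σ (σ j) = j := fun j => by
    have := congrArg (fun f : Perm α => f j) hσσ
    simpa using this
  obtain ⟨i, hiS, hiF⟩ := Finset.exists_mem_notMem_of_card_lt_card
    (show (fixIn S σ).card < S.card by omega)
  have hi : σ i ≠ i := fun h => hiF (mem_fixIn.mpr ⟨hiS, h⟩)
  obtain ⟨k, hkS, hkF⟩ := Finset.exists_mem_notMem_of_card_lt_card
    (show (insert i (insert (σ i) (fixIn S σ))).card < S.card by
      have h1 := Finset.card_insert_le i (insert (σ i) (fixIn S σ))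
      have h2 := Finset.card_insert_le (σ i) (fixIn S σ)
      omega)
  simp only [Finset.mem_insert, not_or] at hkF
  obtain ⟨hki, hkσi, hkF⟩ := hkF
  have hk : σ k ≠ k := fun h => hkF (mem_fixIn.mpr ⟨hkS, h⟩)
  obtain ⟨m, hmS, hmF⟩ := Finset.exists_mem_notMem_of_card_lt_card
    (show (insert i (insert (σ i) (insert k (insert (σ k) (fixIn S σ))))).card < S.card by
      have h1 := Finset.card_insert_le i (insert (σ i) (insert k (insert (σ k) (fixIn S σ))))
      have h2 := Finset.card_insert_le (σ i) (insert k (insert (σ k) (fixIn S σ)))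
      have h3 := Finset.card_insert_le k (insert (σ k) (fixIn S σ))
      have h4 := Finset.card_insert_le (σ k) (fixIn S σ)
      omega)
  simp only [Finset.mem_insert, not_or] at hmF
  obtain ⟨hmi, hmσi, hmk, hmσk, hmF⟩ := hmF
  have hm : σ m ≠ m := fun h => hmF (mem_fixIn.mpr ⟨hmS, h⟩)
  have hσki : σ k ≠ i := fun h => hkσi (by rw [← h, hσ'])
  have hσkσi : σ k ≠ σ i := fun h => hki (σ.injective h)
  obtain ⟨ρ, hρ⟩ : ∃ ρ, ρ = swap i (σ i) * swap k (σ k) := ⟨_, rfl⟩
  have ρi : ρ i = σ i := by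
    rw [hρ, Perm.mul_apply, swap_apply_of_ne_of_ne (Ne.symm hki) (Ne.symm hσki), swap_apply_left]
  have ρσi : ρ (σ i) = i := by
    rw [hρ, Perm.mul_apply, swap_apply_of_ne_of_ne (Ne.symm hkσi) (Ne.symm hσkσi), swap_apply_right]
  have ρk : ρ k = σ k := by
    rw [hρ, Perm.mul_apply, swap_apply_left, swap_apply_of_ne_of_ne hσki hσkσi]
  have ρσk : ρ (σ k) = k := by
    rw [hρ, Perm.mul_apply, swap_apply_right, swap_apply_of_ne_of_ne hki hkσi]
  have ρo : ∀ j, j ≠ i → j ≠ σ i → j ≠ k → j ≠ σ k → ρ j = j := by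
    intro j h1 h2 h3 h4
    rw [hρ, Perm.mul_apply, swap_apply_of_ne_of_ne h3 h4, swap_apply_of_ne_of_ne h1 h2]
  have hσiS : σ i ∈ S := mem_of_mem_sym hσS hiS
  have hσkS : σ k ∈ S := mem_of_mem_sym hσS hkS
  have cases4 : ∀ j, j = i ∨ j = σ i ∨ j = k ∨ j = σ k ∨ (j ≠ i ∧ j ≠ σ i ∧ j ≠ k ∧ j ≠ σ k) := by
    intro j
    tauto
  refine ⟨ρ, ⟨?_, ?_⟩, ?_, ?_, ?_, ?_, ?_, ?_⟩
  · rw [hρ]
    refine Perm.mem_alternatingGroup.mpr ?_
    rw [Perm.sign_mul, Perm.sign_swap (Ne.symm hi), Perm.sign_swap (Ne.symm hk)]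
    decide
  · intro j hj
    refine ρo j ?_ ?_ ?_ ?_
    · rintro rfl; exact hj hiS
    · rintro rfl; exact hj hσiS
    · rintro rfl; exact hj hkS
    · rintro rfl; exact hj hσkS
  · intro j
    rcases cases4 j with h | h | h | h | ⟨h1, h2, h3, h4⟩
    · right; rw [h, ρi]
    · right; rw [h, ρσi, hσ']
    · right; rw [h, ρk]
    · right; rw [h, ρσk, hσ']
    · left; exact ρo j h1 h2 h3 h4
  · ext j
    rw [Perm.mul_apply, Perm.one_apply]
    rcases cases4 j with h | h | h | h | ⟨h1, h2, h3, h4⟩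
    · rw [h, ρi, ρσi]
    · rw [h, ρσi, ρi]
    · rw [h, ρk, ρσk]
    · rw [h, ρσk, ρk]
    · rw [ρo j h1 h2 h3 h4, ρo j h1 h2 h3 h4]
  · ext j
    rw [Perm.mul_apply, Perm.mul_apply]
    rcases cases4 j with h | h | h | h | ⟨h1, h2, h3, h4⟩
    · rw [h, ρi, ρσi, hσ']
    · rw [h, ρσi, hσ', ρi]
    · rw [h, ρk, ρσk, hσ']
    · rw [h, ρσk, hσ', ρk]
    · rw [ρo j h1 h2 h3 h4, ρo (σ j)]
      · intro h; exact h2 (by rw [← h, hσ'])
      · intro h; exact h1 (σ.injective h)
      · intro h; exact h4 (by rw [← h, hσ'])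
      · intro h; exact h3 (σ.injective h)
  · intro h
    rw [h] at ρi
    exact hi ρi.symm
  · intro h
    have h1 := ρo m hmi hmσi hmk hmσk
    rw [h] at h1
    exact hm h1
  · have heq : fixIn S (σ * ρ) = insert i (insert (σ i) (insert k (insert (σ k) (fixIn S σ)))) := by
      ext j
      simp only [Finset.mem_insert, mem_fixIn, Perm.mul_apply]
      rcases cases4 j with h | h | h | h | ⟨h1, h2, h3, h4⟩
      · rw [h, ρi]; simp [hiS, hσ']
      · rw [h, ρσi]; simp [hσiS]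
      · rw [h, ρk]; simp [hkS, hσ']
      · rw [h, ρσk]; simp [hσkS]
      · rw [ρo j h1 h2 h3 h4]
        constructor
        · intro h; exact Or.inr (Or.inr (Or.inr (Or.inr h)))
        · rintro (h | h | h | h | h)
          · exact absurd h h1
          · exact absurd h h2
          · exact absurd h h3
          · exact absurd h h4
          · exact h
    have n4 : σ k ∉ fixIn S σ := by
      rw [mem_fixIn, hσ']
      exact fun h => hk h.2.symm
    have n3 : k ∉ insert (σ k) (fixIn S σ) := by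
      rw [Finset.mem_insert, not_or]
      exact ⟨Ne.symm hk, hkF⟩
    have n2 : σ i ∉ insert k (insert (σ k) (fixIn S σ)) := by
      rw [Finset.mem_insert, Finset.mem_insert, not_or, not_or]
      refine ⟨Ne.symm hkσi, Ne.symm hσkσi, ?_⟩
      rw [mem_fixIn, hσ']
      exact fun h => hi h.2.symm
    have n1 : i ∉ insert (σ i) (insert k (insert (σ k) (fixIn S σ))) := by
      rw [Finset.mem_insert, Finset.mem_insert, Finset.mem_insert, not_or, not_or, not_or]
      exact ⟨Ne.symm hi, Ne.symm hki, Ne.symm hσki, hiF⟩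
    rw [heq, Finset.card_insert_of_notMem n1, Finset.card_insert_of_notMem n2,
      Finset.card_insert_of_notMem n3, Finset.card_insert_of_notMem n4, h3]

variable {G : Type*} [Group G] [Finite G] {x a : G} {L : Subgroup G} {S : Finset α}

/-- a triple of type `Aₙ`, `n ≥ 9`: the part with `|Fix c| = 7` -/
theorem exists_part_seven (T : IsTriple x a L) (Mo : Mod L S) (h8 : 8 ≤ S.card) :
    ∃ r c d, Part x a Mo r c d ∧ (fixIn S (Mo.φ c)).card = 7 := by
  have hxL := T.x_mem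
  have hx2 := sq_of_order T.invx
  obtain ⟨ρ, h1, h2, h3, h4, h5, h6, h7⟩ := exists_rho (Mo.mem_sym x hxL) (Mo.sq hxL hx2)
    (three_fix T Mo).1 h8
  obtain ⟨r, c, d, P, hr⟩ := exists_part T Mo h1 h2 h3 h4 h5 h6
  refine ⟨r, c, d, P, ?_⟩
  rw [P.ceq, Mo.mul _ _ hxL (le_normalizer P.rL), hr]
  exact h7

/-- `x` is inner on a triple of type `Aₙ`, `n ≡ 3 mod 4` -/
theorem isInner_of_mod (Mo : Mod L S) (hx : x ∈ normalizer (L : Set G)) (h : Mo.φ x ∈ alt S) :
    IsInner x L := by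
  obtain ⟨r, hr, hrx⟩ := Mo.lift _ h
  refine ⟨r, hr, ?_⟩
  rw [← Mo.fixes_iff (mul_mem hx (inv_mem (le_normalizer hr))), Mo.mul _ _ hx (inv_mem (le_normalizer hr)),
    Mo.inv (le_normalizer hr), hrx, mul_inv_cancel]

theorem isInner_of_fixes {N : Subgroup G} {y : G} (hy : y ∈ N) (h : Fixes (y⁻¹ * x) N) :
    IsInner x N := by
  refine ⟨y, hy, ?_⟩
  have h1 := fixes_conj h (le_normalizer hy)
  convert h1 using 1
  group

end Cfsg.Agent.UGT.RedAlt
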