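import Cfsg.Agent.UGT.NodeHeG
import Cfsg.Agent.Lib.ThompsonPQ
import Cfsg.Agent.SignalizersComponents.QsBasic

/-!
# `HF K` from the centralizers of the involutions of `K`

`TwoB v`: the centralizer of `v` is of characteristic 2 and no automorphism of odd order centralizes it.
`TwoA v`: `C(v)` has a normal quasisimple subgroup `M`, `v ∈ M`, `C(M) ≤ M` of exponent 2, `M` contains an involution
of type `TwoB`.

`hf_of`: if every involution of `K` is of one of the types and every involutory automorphism centralizes a four-group,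
then `HF K`.
-/

set_option autoImplicit false

open Cfsg Subgroup
open Cfsg.Agent.SignalizersComponents Cfsg.Agent.Lib
open Cfsg.Agent.Intrinsic.Basic
open Cfsg.Agent.UGT.NodeHeG

namespace Cfsg.Agent.UGT.HFAbs

/-! ### Commuting involutions on a group of odd order -/

section

variable {A : Type*} [Group A] [Finite A]

/-- a fixed point free involution inverts -/
theorem inverts {D : Subgroup A} (hD : Odd (Nat.card D)) {v : A} (hv : v * v = 1)
    (hn : ∀ d ∈ D, v * d * v⁻¹ ∈ D) (hf : ∀ d ∈ D, d * v = v * d → d = 1) :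
    ∀ d ∈ D, v * d * v⁻¹ = d⁻¹ := by
  let f : D → D := fun d => ⟨(d : A)⁻¹ * (v * d * v⁻¹), mul_mem (inv_mem d.2) (hn d d.2)⟩
  have hvi : v⁻¹ = v := inv_eq_of_mul_eq_one_left hv
  have hinj : Function.Injective f := by
    intro a b hab
    have h1 : (a : A)⁻¹ * (v * a * v⁻¹) = (b : A)⁻¹ * (v * b * v⁻¹) := congrArg Subtype.val hab
    have h2 : ((b : A) * (a : A)⁻¹) * v = v * ((b : A) * (a : A)⁻¹) := by
      have h3 : (b : A) * (a : A)⁻¹ = v * ((b : A) * (a : A)⁻¹) * v⁻¹ := by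
        calc (b : A) * (a : A)⁻¹ = b * ((a : A)⁻¹ * (v * a * v⁻¹)) * (v * a * v⁻¹)⁻¹ := by group
          _ = b * ((b : A)⁻¹ * (v * b * v⁻¹)) * (v * a * v⁻¹)⁻¹ := by rw [h1]
          _ = v * ((b : A) * (a : A)⁻¹) * v⁻¹ := by group
      calc ((b : A) * (a : A)⁻¹) * v = v * ((b : A) * (a : A)⁻¹) * v⁻¹ * v := by rw [← h3]
        _ = v * ((b : A) * (a : A)⁻¹) := by group
    have h4 := hf _ (mul_mem b.2 (inv_mem a.2)) h2
    exact Subtype.ext (mul_inv_eq_one.mp h4).symm
  have hsurj := Finite.injective_iff_surjective.mp hinj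
  intro d hd
  obtain ⟨⟨e, he⟩, h1⟩ := hsurj ⟨d, hd⟩
  have h2 : e⁻¹ * (v * e * v⁻¹) = d := congrArg Subtype.val h1
  rw [← h2, hvi]
  calc v * (e⁻¹ * (v * e * v)) * v = v * e⁻¹ * v * e * (v * v) := by group
    _ = v * e⁻¹ * v * e := by rw [hv, mul_one]
    _ = (e⁻¹ * (v⁻¹ * e * v⁻¹))⁻¹ := by group
    _ = (e⁻¹ * (v * e * v))⁻¹ := by rw [hvi]

/-- a four-group on a nontrivial group of odd order -/
theorem exists_fix {D : Subgroup A} (hD : Odd (Nat.card D)) (hD1 : D ≠ ⊥) {v w : A} (hv : v * v = 1)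
    (hw : w * w = 1) (hvw : v * w = w * v) (hnv : ∀ d ∈ D, v * d * v⁻¹ ∈ D)
    (hnw : ∀ d ∈ D, w * d * w⁻¹ ∈ D) :
    ∃ u, (u = v ∨ u = w ∨ u = v * w) ∧ ∃ d ∈ D, d ≠ 1 ∧ d * u = u * d := by
  by_contra hcon
  have key : ∀ u, (u = v ∨ u = w ∨ u = v * w) → ∀ d ∈ D, d * u = u * d → d = 1 := by
    intro u hu d hd h
    by_contra hd1
    exact hcon ⟨u, hu, d, hd, hd1, h⟩
  have h1 := inverts hD hv hnv (key v (Or.inl rfl))
  have h2 := inverts hD hw hnw (key w (Or.inr (Or.inl rfl)))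
  apply hD1
  rw [eq_bot_iff]
  intro d hd
  rw [mem_bot]
  apply key (v * w) (Or.inr (Or.inr rfl)) d hd
  have h3 : v * w * d * (v * w)⁻¹ = d := by
    calc v * w * d * (v * w)⁻¹ = v * (w * d * w⁻¹) * v⁻¹ := by group
      _ = v * d⁻¹ * v⁻¹ := by rw [h2 d hd]
      _ = (v * d * v⁻¹)⁻¹ := by group
      _ = d := by rw [h1 d hd, inv_inv]
  calc d * (v * w) = v * w * d * (v * w)⁻¹ * (v * w) := by rw [h3]
    _ = v * w * d := by group

end

variable {K : Type*} [Group K]

/-- `C(v)` has characteristic 2 and is not centralized by an automorphism of odd order -/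
def TwoB (v : K) : Prop :=
  (∃ Q : Subgroup K, IsPGroup 2 Q ∧ (∀ α : MulAut K, α v = v → ∀ q ∈ Q, α q ∈ Q) ∧
    ∀ g : K, g * v = v * g → (∀ q ∈ Q, g * q = q * g) → g ∈ Q) ∧
  ∀ α : MulAut K, Odd (orderOf α) → (∀ g : K, g * v = v * g → α g = g) → α = 1

/-- `C(v)` has a normal quasisimple subgroup with small centralizer -/
def TwoA (v : K) : Prop :=
  ∃ M : Subgroup K, M ≤ centralizer ({v} : Set K) ∧ (M.subgroupOf (centralizer ({v} : Set K))).Normal ∧
    IsQuasisimple M ∧ v ∈ M ∧ (∀ y : K, (∀ m ∈ M, y * m = m * y) → y ∈ M ∧ y * y = 1) ∧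
    ∃ z ∈ M, TwoB z

/-- transport of a fixed point -/
theorem conj_fix {f : K ≃* K} {v : K} {α : MulAut K} (h : α (f v) = f v) :
    (f⁻¹ * α * f : MulAut K) v = v := by
  rw [MulAut.mul_apply, MulAut.mul_apply, h]
  exact MulAut.inv_apply_self K f v

theorem TwoB.map {v : K} (h : TwoB v) (f : MulAut K) : TwoB (f v) := by
  obtain ⟨⟨Q, h1, h2, h3⟩, h4⟩ := h
  refine ⟨⟨Q.map f.toMonoidHom, h1.map _, ?_, ?_⟩, ?_⟩
  · rintro α hα _ ⟨q, hq, rfl⟩
    refine ⟨(f⁻¹ * α * f : MulAut K) q, h2 _ (conj_fix hα) q hq, ?_⟩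
    change f (f⁻¹ (α (f q))) = α (f q)
    exact MulAut.apply_inv_self K f _
  · intro g hg hq
    refine ⟨f⁻¹ g, ?_, MulAut.apply_inv_self K f g⟩
    apply h3
    · apply f.injective
      rw [map_mul, map_mul, MulAut.apply_inv_self]
      exact hg
    · intro q hqQ
      apply f.injective
      rw [map_mul, map_mul, MulAut.apply_inv_self]
      exact hq _ ⟨q, hqQ, rfl⟩
  · intro α hα h
    have h5 : f⁻¹ * α * f = 1 := by
      apply h4
      · have h6 : orderOf (f⁻¹ * α * f) = orderOf α := by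
          have h7 := orderOf_injective (MulAut.conj f⁻¹).toMonoidHom (MulAut.conj f⁻¹).injective α
          rw [← h7]
          congr 1
        rw [h6]; exact hα
      · intro g hg
        apply f.injective
        change f (f⁻¹ (α (f g))) = f g
        rw [MulAut.apply_inv_self]
        apply h
        rw [← map_mul, ← map_mul, hg]
    calc α = f * (f⁻¹ * α * f) * f⁻¹ := by group
      _ = 1 := by rw [h5]; group

theorem TwoA.map {v : K} (h : TwoA v) (f : MulAut K) : TwoA (f v) := by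
  obtain ⟨M, h1, h2, h3, h4, h5, z, hz, h6⟩ := h
  have hc : ∀ g : K, g ∈ centralizer ({f v} : Set K) → f⁻¹ g ∈ centralizer ({v} : Set K) := by
    intro g hg
    rw [mem_centralizer_singleton_iff] at hg ⊢
    apply f.injective
    rw [map_mul, map_mul, MulAut.apply_inv_self]
    exact hg
  refine ⟨M.map f.toMonoidHom, ?_, ⟨?_⟩, ?_, ⟨v, h4, rfl⟩, ?_, f z, ⟨z, hz, rfl⟩, h6.map f⟩
  · rintro _ ⟨m, hm, rfl⟩
    rw [mem_centralizer_singleton_iff]
    have := mem_centralizer_singleton_iff.mp (h1 hm)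
    change f m * f v = f v * f m
    rw [← map_mul, ← map_mul, this]
  · rintro ⟨m, hm⟩ hmM ⟨g, hg⟩
    rw [mem_subgroupOf] at hmM ⊢
    obtain ⟨m0, hm0, h7⟩ := hmM
    have h8 := h2.conj_mem ⟨m0, h1 hm0⟩ (mem_subgroupOf.mpr hm0) ⟨f⁻¹ g, hc g hg⟩
    rw [mem_subgroupOf] at h8
    refine ⟨_, h8, ?_⟩
    change f (f⁻¹ g * m0 * (f⁻¹ g)⁻¹) = g * m * g⁻¹
    have h9 : f m0 = m := h7
    rw [map_mul, map_mul, map_inv, MulAut.apply_inv_self, h9]
  · exact PLayerAut.isQuasisimple_of_equiv (M.equivMapOfInjective f.toMonoidHom f.injective) h3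
  · intro y hy
    have h7 := h5 (f⁻¹ y) (by
      intro m hm
      apply f.injective
      rw [map_mul, map_mul, MulAut.apply_inv_self]
      exact hy _ ⟨m, hm, rfl⟩)
    refine ⟨⟨f⁻¹ y, h7.1, MulAut.apply_inv_self K f y⟩, ?_⟩
    have h8 := congrArg f h7.2
    rw [map_mul, MulAut.apply_inv_self, map_one] at h8
    exact h8

/-- an automorphism of odd order moving `g` by a fixed element of 2-power order fixes `g` -/
theorem fix_of_mul [Finite K] {α : MulAut K} (hα : Odd (orderOf α)) {g c : K} (hc : α c = c)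
    {k : ℕ} (hk : c ^ 2 ^ k = 1) (hg : α g = g * c) : α g = g := by
  have h1 : ∀ n : ℕ, (α ^ n) g = g * c ^ n := by
    intro n
    induction n with
    | zero => simp
    | succ n ih =>
      rw [pow_succ', MulAut.mul_apply, ih, map_mul, map_pow, hc, hg, pow_succ', mul_assoc]
  have h2 := h1 (orderOf α)
  rw [pow_orderOf_eq_one, MulAut.one_apply] at h2
  have h3 : c ^ orderOf α = 1 := (left_eq_mul.mp h2)
  have h4 : orderOf c ∣ Nat.gcd (orderOf α) (2 ^ k) :=
    Nat.dvd_gcd (orderOf_dvd_of_pow_eq_one h3) (orderOf_dvd_of_pow_eq_one hk)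
  have h5 : Nat.gcd (orderOf α) (2 ^ k) = 1 := (Nat.Coprime.pow_right k hα.coprime_two_right)
  rw [h5, Nat.dvd_one, orderOf_eq_one_iff] at h4
  rw [hg, h4, mul_one]

/-- an automorphism of odd order trivial on `X` and `C(X) ∩ Y` is trivial on `Y`, if `Y` normalizes `X` -/
theorem fix_of_normal [Finite K] {α : MulAut K} (hα : Odd (orderOf α)) {X : Subgroup K}
    (hX : ∀ m ∈ X, α m = m) {g : K} (hg : ∀ m ∈ X, g * m * g⁻¹ ∈ X)
    (hC : (∀ m ∈ X, g⁻¹ * α g * m = m * (g⁻¹ * α g)) →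
      g⁻¹ * α g ∈ X ∧ ∃ k : ℕ, (g⁻¹ * α g) ^ 2 ^ k = 1) : α g = g := by
  obtain ⟨h1, k, h2⟩ := hC (by
    intro m hm
    have h3 := hX _ (hg m hm)
    rw [map_mul, map_mul, map_inv, hX m hm] at h3
    calc g⁻¹ * α g * m = g⁻¹ * (α g * m * (α g)⁻¹) * α g := by group
      _ = g⁻¹ * (g * m * g⁻¹) * α g := by rw [h3]
      _ = m * (g⁻¹ * α g) := by group)
  exact fix_of_mul hα (hX _ h1) h2 (by group)

/-- the `A × B` lemma in `Aut K` -/
theorem fix_of_axb [Finite K] {Q : Subgroup K} (hQ : IsPGroup 2 Q) {τ δ : MulAut K} (hτ : τ * τ = 1)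
    (hδ : Odd (orderOf δ)) (hc : δ * τ = τ * δ) (hτQ : ∀ q ∈ Q, τ q ∈ Q) (hδQ : ∀ q ∈ Q, δ q ∈ Q)
    (hf : ∀ q ∈ Q, τ q = q → δ q = q) (hZ : center K = ⊥) : ∀ q ∈ Q, δ q = q := by
  have : Fact (Nat.Prime 2) := ⟨Nat.prime_two⟩
  have hinj : Function.Injective (MulAut.conj : K →* MulAut K) := by
    rw [injective_iff_map_eq_one]
    intro y hy
    have h1 : y ∈ center K := by
      rw [mem_center_iff]
      intro g
      have h2 := DFunLike.congr_fun hy g
      rw [MulAut.conj_apply, MulAut.one_apply] at h2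
      calc g * y = y * g * y⁻¹ * y := by rw [h2]
        _ = y * g := by group
    rw [hZ, mem_bot] at h1
    exact h1
  have hfix : ∀ (γ : MulAut K) (y : K), γ y = y ↔ γ * MulAut.conj y = MulAut.conj y * γ := by
    intro γ y
    have h1 : γ * MulAut.conj y = MulAut.conj (γ y) * γ := by
      ext k
      simp [MulAut.mul_apply, MulAut.conj_apply, map_mul, map_inv]
    rw [h1, mul_left_inj]
    exact ⟨fun h => by rw [h], fun h => hinj h⟩
  have hcj : ∀ (γ : MulAut K) (y : K), γ * MulAut.conj y * γ⁻¹ = MulAut.conj (γ y) := by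
    intro γ y
    ext k
    simp [MulAut.mul_apply, MulAut.conj_apply, map_mul, map_inv]
  have hnorm : ∀ γ : MulAut K, (∀ q ∈ Q, γ q ∈ Q) →
      γ ∈ Subgroup.normalizer ((Q.map (MulAut.conj : K →* MulAut K) : Subgroup (MulAut K)) : Set (MulAut K)) := by
    intro γ hγ
    have hm : Q.map γ.toMonoidHom = Q := by
      apply Subgroup.eq_of_le_of_card_ge
      · rintro _ ⟨q, hq, rfl⟩
        exact hγ q hq
      · rw [Subgroup.card_map_of_injective γ.injective]
    rw [Subgroup.mem_normalizer_iff]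
    intro x
    constructor
    · rintro ⟨q, hq, rfl⟩
      exact ⟨γ q, hγ q hq, (hcj γ q).symm⟩
    · rintro ⟨q, hq, h1⟩
      obtain ⟨q', hq', h2⟩ : q ∈ Q.map γ.toMonoidHom := by rw [hm]; exact hq
      refine ⟨q', hq', ?_⟩
      have h3 : γ q' = q := h2
      rw [← h3, ← hcj] at h1
      exact mul_left_cancel (mul_right_cancel h1)
  have hzp : ∀ {a b : MulAut K}, a * b = b * a → ∀ c ∈ zpowers a, c * b = b * c := by
    intro a b hab c hc
    obtain ⟨k, rfl⟩ := mem_zpowers_iff.1 hc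
    exact (show Commute a b from hab).zpow_left k
  have h1 := ThompsonPQ.thompson_p_times_q (G := MulAut K) 2 (zpowers τ) (zpowers δ)
    (Q.map (MulAut.conj : K →* MulAut K))
    (by
      intro ⟨x, hx⟩
      obtain ⟨k, rfl⟩ := mem_zpowers_iff.1 hx
      refine ⟨1, Subtype.ext ?_⟩
      change (τ ^ k) ^ 2 ^ 1 = 1
      rw [pow_one, ← zpow_natCast, ← zpow_mul, mul_comm, zpow_mul, zpow_natCast, pow_two, hτ, one_zpow])
    (by rw [Nat.card_zpowers]; exact hδ.coprime_two_right)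
    (hQ.map _)
    (by
      intro a ha
      rw [mem_centralizer_iff]
      intro b hb
      exact hzp (a := δ) (b := a) (hzp (a := τ) (b := δ) hc.symm a ha).symm b hb)
    (by rw [zpowers_le]; exact hnorm τ hτQ)
    (by rw [zpowers_le]; exact hnorm δ hδQ)
    (by
      rintro _ ⟨⟨q, hq, rfl⟩, hy⟩
      have h2 := (mem_centralizer_iff.1 hy) τ (mem_zpowers τ)
      have h3 := (hfix τ q).mpr h2
      have h4 := (hfix δ q).mp (hf q hq h3)
      rw [mem_centralizer_iff]
      intro b hb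
      exact hzp h4 b hb)
  intro q hq
  have h2 := (mem_centralizer_iff.1 (h1 (mem_zpowers δ))) _ ⟨q, hq, rfl⟩
  exact (hfix δ q).mpr h2.symm

/-- an automorphism of odd order trivial on the normal 2-subgroup `Q` of `C(v)` is trivial -/
theorem eq_one_of_two [Finite K] {v : K} {Q : Subgroup K} (hQ : IsPGroup 2 Q)
    (h2 : ∀ α : MulAut K, α v = v → ∀ q ∈ Q, α q ∈ Q)
    (h3 : ∀ g : K, g * v = v * g → (∀ q ∈ Q, g * q = q * g) → g ∈ Q)
    (h4 : ∀ α : MulAut K, Odd (orderOf α) → (∀ g : K, g * v = v * g → α g = g) → α = 1)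
    {δ : MulAut K} (hδ : Odd (orderOf δ)) (hv : δ v = v) (h : ∀ q ∈ Q, δ q = q) : δ = 1 := by
  apply h4 δ hδ
  intro g hg
  refine fix_of_normal hδ h ?_ ?_
  · intro q hq
    refine h2 (MulAut.conj g) ?_ q hq
    rw [MulAut.conj_apply, hg, mul_inv_cancel_right]
  · intro h5
    have h6 : g⁻¹ * δ g * v = v * (g⁻¹ * δ g) := by
      have h7 := congrArg δ hg
      rw [map_mul, map_mul, hv] at h7
      calc g⁻¹ * δ g * v = g⁻¹ * (δ g * v) := by group
        _ = g⁻¹ * (v * δ g) := by rw [h7]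
        _ = g⁻¹ * (v * g) * g⁻¹ * δ g := by group
        _ = g⁻¹ * (g * v) * g⁻¹ * δ g := by rw [hg]
        _ = v * (g⁻¹ * δ g) := by group
    have h8 := h3 _ h6 h5
    refine ⟨h8, ?_⟩
    obtain ⟨k, hk⟩ := hQ ⟨_, h8⟩
    exact ⟨k, congrArg Subtype.val hk⟩

/-- **`HF K` from the centralizers of the involutions** -/
theorem hf_of [Finite K] (hZ : center K = ⊥) (h : ∀ v : K, orderOf v = 2 → TwoA v ∨ TwoB v)
    (hF : ∀ τ : MulAut K, τ * τ = 1 → ∃ v w : K, v * v = 1 ∧ w * w = 1 ∧ v * w = w * v ∧ v ≠ 1 ∧ w ≠ 1 ∧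
      v ≠ w ∧ τ v = v ∧ τ w = w) : HF K := by
  intro τ hτ _ D hD hD1 hDτ hDn
  obtain ⟨v, w, hv, hw, hvw, hv1, hw1, hne, hτv, hτw⟩ := hF τ hτ
  have hcj : ∀ (γ : MulAut K) (y : K), γ * MulAut.conj y * γ⁻¹ = MulAut.conj (γ y) := by
    intro γ y
    ext k
    simp [MulAut.mul_apply, MulAut.conj_apply, map_mul, map_inv]
  have hinj : Function.Injective (MulAut.conj : K →* MulAut K) := by
    rw [injective_iff_map_eq_one]
    intro y hy
    have h1 : y ∈ center K := by
      rw [mem_center_iff]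
      intro g
      have h2 := DFunLike.congr_fun hy g
      rw [MulAut.conj_apply, MulAut.one_apply] at h2
      calc g * y = y * g * y⁻¹ * y := by rw [h2]
        _ = y * g := by group
    rw [hZ, mem_bot] at h1
    exact h1
  -- the element `u` and `δ`
  obtain ⟨u, hu, δ, hδD, hδ1, hδu⟩ := exists_fix (A := MulAut K) hD hD1 (v := MulAut.conj v)
    (w := MulAut.conj w) (by rw [← map_mul, hv, map_one]) (by rw [← map_mul, hw, map_one])
    (by rw [← map_mul, ← map_mul, hvw]) (fun d hd => hDn v hτv d hd) (fun d hd => hDn w hτw d hd)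
  obtain ⟨t, rfl, htt, ht1, hτt⟩ : ∃ t, MulAut.conj t = u ∧ t * t = 1 ∧ t ≠ 1 ∧ τ t = t := by
    rcases hu with rfl | rfl | rfl
    · exact ⟨v, rfl, hv, hv1, hτv⟩
    · exact ⟨w, rfl, hw, hw1, hτw⟩
    · refine ⟨v * w, map_mul _ _ _, ?_, ?_, by rw [map_mul, hτv, hτw]⟩
      · calc v * w * (v * w) = v * (w * v) * w := by group
          _ = v * (v * w) * w := by rw [hvw]
          _ = (v * v) * (w * w) := by group
          _ = 1 := by rw [hv, hw, one_mul]
      · intro h1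
        apply hne
        calc v = v * w * w⁻¹ := by group
          _ = w⁻¹ := by rw [h1, one_mul]
          _ = w := inv_eq_of_mul_eq_one_left hw
  have hδo : Odd (orderOf δ) := by
    refine Odd.of_dvd_nat hD ?_
    have := orderOf_dvd_natCard (⟨δ, hδD⟩ : D)
    rwa [Subgroup.orderOf_mk] at this
  have hδt : δ t = t := by
    apply hinj
    rw [← hcj, hδu, mul_inv_cancel_right]
  rcases h t (orderOf_eq_prime (by rw [pow_two, htt]) ht1) with hA | ⟨⟨Q, q1, q2, q3⟩, q4⟩
  · -- 2A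
    obtain ⟨M, m1, m2, m3, m4, m5, z, hz, ⟨Q, q1, q2, q3⟩, q4⟩ := hA
    have hMn : ∀ g : K, g * t = t * g → ∀ m ∈ M, g * m * g⁻¹ ∈ M := by
      intro g hg m hm
      have h8 := m2.conj_mem ⟨m, m1 hm⟩ (mem_subgroupOf.mpr hm) ⟨g, mem_centralizer_singleton_iff.mpr hg⟩
      rw [mem_subgroupOf] at h8
      exact h8
    -- the core of `M` is trivial
    have hcore : core M = ⊥ := by
      have hne : oddCore ↥M ≠ ⊤ := by
        intro h1
        have h2 : t ∈ core M := by
          rw [mem_core_iff m4, h1]; exact mem_top _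
        exact ht1 (eq_one_of_mem_core_sq h2 htt)
      rw [eq_bot_iff]
      intro c hc
      rw [mem_bot]
      have hcM := core_le M hc
      have h1 := QsBasic.normal_le_center_of_ne_top m3 _ hne ((mem_core_iff hcM).mp hc)
      have h2 := m5 c (by
        intro m hm
        exact (congrArg Subtype.val (mem_center_iff.mp h1 ⟨m, hm⟩)).symm)
      exact eq_one_of_mem_core_sq hc h2.2
    refine ⟨t, M, htt, ht1, hτt, m1, ⟨?_, ?_⟩, m4, δ, hδD, hδt, ?_⟩
    · exact m2.isSubnormal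
    · exact PLayerAut.isQuasisimple_of_equiv (subgroupOfEquivOfLe m1).symm m3
    · by_contra hcon
      push Not at hcon
      rw [hcore] at hcon
      have hδM : ∀ m ∈ M, δ m = m := fun m hm => mul_inv_eq_one.mp (mem_bot.mp (hcon m hm))
      apply hδ1
      -- `δ` is trivial on `C(t)`
      have h1 : ∀ g : K, g * t = t * g → δ g = g := by
        intro g hg
        refine fix_of_normal hδo hδM (hMn g hg) ?_
        intro h5
        have h6 := m5 _ h5
        exact ⟨h6.1, 1, by rw [pow_one, pow_two, h6.2]⟩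
      have hzt : z * t = t * z := mem_centralizer_singleton_iff.mp (m1 hz)
      refine eq_one_of_two q1 q2 q3 q4 hδo (hδM z hz) ?_
      refine fix_of_axb q1 (τ := MulAut.conj t) (by rw [← map_mul, htt, map_one]) hδo hδu ?_
        (fun q hq => q2 δ (hδM z hz) q hq) ?_ hZ
      · intro q hq
        refine q2 (MulAut.conj t) ?_ q hq
        rw [MulAut.conj_apply, ← hzt, mul_inv_cancel_right]
      · intro q _ h2
        apply h1
        rw [MulAut.conj_apply] at h2
        calc q * t = t * q * t⁻¹ * t := by rw [h2]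
          _ = t * q := by group
  · -- 2B
    exfalso
    apply hδ1
    refine eq_one_of_two q1 q2 q3 q4 hδo hδt ?_
    refine fix_of_axb q1 hτ hδo (hDτ δ hδD) (fun q hq => q2 τ hτt q hq) (fun q hq => q2 δ hδt q hq) ?_ hZ
    intro q hq hτq
    -- `[δ, q] ∈ D ∩ Q`
    have h1 : MulAut.conj q⁻¹ * δ * (MulAut.conj q⁻¹)⁻¹ ∈ D := hDn q⁻¹ (by rw [map_inv, hτq]) δ hδD
    have h2 : MulAut.conj (q⁻¹ * δ q) ∈ D := by
      have h3 : MulAut.conj (q⁻¹ * δ q) = MulAut.conj q⁻¹ * δ * (MulAut.conj q⁻¹)⁻¹ * δ⁻¹ := by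
        rw [map_mul, ← hcj, map_inv, inv_inv]
        group
      rw [h3]
      exact mul_mem h1 (inv_mem hδD)
    have h4 : q⁻¹ * δ q ∈ Q := mul_mem (inv_mem hq) (q2 δ hδt q hq)
    obtain ⟨k, hk⟩ := q1 ⟨_, h4⟩
    have h5 : (MulAut.conj (q⁻¹ * δ q)) ^ 2 ^ k = 1 := by
      rw [← map_pow]
      have : (q⁻¹ * δ q) ^ 2 ^ k = 1 := congrArg Subtype.val hk
      rw [this, map_one]
    have h6 : (MulAut.conj (q⁻¹ * δ q)) = 1 := by
      have h7 : orderOf (MulAut.conj (q⁻¹ * δ q)) ∣ Nat.gcd (Nat.card D) (2 ^ k) := by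
        refine Nat.dvd_gcd ?_ (orderOf_dvd_of_pow_eq_one h5)
        have := orderOf_dvd_natCard (⟨_, h2⟩ : D)
        rwa [Subgroup.orderOf_mk] at this
      have h8 : Nat.gcd (Nat.card D) (2 ^ k) = 1 := Nat.Coprime.pow_right k hD.coprime_two_right
      rw [h8, Nat.dvd_one, orderOf_eq_one_iff] at h7
      exact h7
    have h9 : q⁻¹ * δ q = 1 := hinj (by rw [h6, map_one])
    exact (inv_mul_eq_one.mp h9).symm

end Cfsg.Agent.UGT.HFAbs
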