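import Mathlib
import Cfsg.Prelude.Def_CaseTheorems
import Cfsg.Prelude.Def_Involutions
import Cfsg.Agent.OddHalf.Small.Crit

/-!
# Rigidity of groups of characteristic 2 type

`X` is of characteristic 2 type and has no strongly embedded subgroup. An automorphism of odd order of `X` which
centralizes `C_X(v)` for some involution `v` is trivial: its group `M` of fixed points satisfies `C_X(z) ≤ M` for all
involutions `z ∈ M` and `N_X(S) ≤ M` for a Sylow 2-subgroup `S` of `X`.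
-/

set_option autoImplicit false

namespace Cfsg.Agent.UGT.EndRigid

open Subgroup Cfsg Cfsg.Agent.OddHalf.Small.Crit

variable {X : Type*} [Group X] {φ : MulAut X}

/-- The fixed points. -/
def M (φ : MulAut X) : Subgroup X where
  carrier := {x | φ x = x}
  one_mem' := map_one φ
  mul_mem' := fun {a b} (ha : φ a = a) (hb : φ b = b) => by
    change φ (a * b) = a * b
    rw [map_mul, ha, hb]
  inv_mem' := fun {a} (ha : φ a = a) => by
    change φ a⁻¹ = a⁻¹
    rw [map_inv, ha]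

theorem mem_M {x : X} : x ∈ M φ ↔ φ x = x := Iff.rfl

/-- If `φ n = n c` and `φ c = c` then the order of `c` is odd; so `c = 1` if `c` is a 2-element. -/
theorem eq_one_of_two (hφ : Odd (orderOf φ)) {n c : X} (h : φ n = n * c) (hc : φ c = c)
    (h2 : ∃ j : ℕ, c ^ (2 ^ j) = 1) : c = 1 := by
  have h1 : ∀ k : ℕ, (φ ^ k) n = n * c ^ k := by
    intro k
    induction k with
    | zero => simp
    | succ k ih =>
      rw [pow_succ', MulAut.mul_apply, ih, map_mul, map_pow, h, hc, pow_succ', mul_assoc]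
  have h3 : c ^ orderOf φ = 1 := by
    have h4 := h1 (orderOf φ)
    rw [pow_orderOf_eq_one, MulAut.one_apply] at h4
    exact (mul_eq_left.1 h4.symm)
  have h4 : orderOf c ∣ orderOf φ := orderOf_dvd_of_pow_eq_one h3
  obtain ⟨j, hj⟩ := h2
  have h5 : orderOf c ∣ 2 ^ j := orderOf_dvd_of_pow_eq_one hj
  have h6 : Nat.Coprime (2 ^ j) (orderOf φ) := Nat.Coprime.pow_left _ (Nat.coprime_two_left.2 hφ)
  have h7 : orderOf c ∣ 1 := by
    rw [← Nat.Coprime.gcd_eq_one h6]
    exact Nat.dvd_gcd h5 h4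
  exact orderOf_eq_one_iff.1 (Nat.dvd_one.1 h7)

/-- `φ n w (φ n)⁻¹ = n w n⁻¹` if `w` and `n w n⁻¹` are fixed. -/
theorem comm_of_fix {n w : X} (h1 : φ w = w) (h2 : φ (n * w * n⁻¹) = n * w * n⁻¹) :
    (n⁻¹ * φ n) * w = w * (n⁻¹ * φ n) := by
  rw [map_mul, map_mul, map_inv, h1] at h2
  calc (n⁻¹ * φ n) * w = n⁻¹ * (φ n * w * (φ n)⁻¹) * φ n := by group
    _ = w * (n⁻¹ * φ n) := by rw [h2]; group

theorem mem_normalizer_of {W : Subgroup X} {n : X} (hn : n ∈ normalizer (W : Set X)) (hW : W ≤ M φ) :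
    φ n ∈ normalizer (W : Set X) := by
  have h1 : ∀ w ∈ W, φ n * w * (φ n)⁻¹ = n * w * n⁻¹ := by
    intro w hw
    have h2 : φ (n * w * n⁻¹) = n * w * n⁻¹ := hW ((mem_normalizer_iff.1 hn w).1 hw)
    rw [map_mul, map_mul, map_inv, show φ w = w from hW hw] at h2
    exact h2
  rw [mem_normalizer_iff]
  intro w
  constructor
  · intro hw
    rw [h1 w hw]
    exact (mem_normalizer_iff.1 hn w).1 hw
  · intro hw
    have h2 : n⁻¹ * (φ n * w * (φ n)⁻¹) * n ∈ W := by
      refine (mem_normalizer_iff.1 hn _).2 ?_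
      have e : n * (n⁻¹ * (φ n * w * (φ n)⁻¹) * n) * n⁻¹ = φ n * w * (φ n)⁻¹ := by group
      rwa [e]
    have h3 := h1 _ h2
    have h4 : n⁻¹ * (φ n * w * (φ n)⁻¹) * n = w := by
      have e : φ n * (n⁻¹ * (φ n * w * (φ n)⁻¹) * n) * (φ n)⁻¹ = φ n * w * (φ n)⁻¹ := by
        rw [h3]; group
      have e2 : φ n * (n⁻¹ * (φ n * w * (φ n)⁻¹) * n) = φ n * w := mul_right_cancel e
      exact mul_left_cancel e2
    rwa [h4] at h2

/-- If `O_2(N_X(W)) ≤ M` then `N_X(W) ≤ M`. -/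
theorem normalizer_le_of_core [Finite X] (hC : IsCharacteristicTwoType X) (hφ : Odd (orderOf φ)) {W : Subgroup X}
    (hW : W ≤ M φ) (hW1 : W ≠ ⊥) (hW2 : IsPGroup 2 W)
    (hO : ∀ p : ↥(normalizer (W : Set X)), p ∈ pCore 2 ↥(normalizer (W : Set X)) → (p : X) ∈ M φ) :
    normalizer (W : Set X) ≤ M φ := by
  have hchar := hC.2 W hW2 hW1
  intro n hn
  have hφn := mem_normalizer_of hn hW
  have hc : n⁻¹ * φ n ∈ normalizer (W : Set X) := mul_mem (inv_mem hn) hφn
  have h1 : (⟨n⁻¹ * φ n, hc⟩ : ↥(normalizer (W : Set X))) ∈ pCore 2 ↥(normalizer (W : Set X)) := by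
    apply hchar
    rw [mem_centralizer_iff]
    intro p hp
    apply Subtype.ext
    have h2 := (Cfsg.pCore_normal 2 ↥(normalizer (W : Set X))).conj_mem p hp ⟨n, hn⟩
    exact (comm_of_fix (hO p hp) (hO _ h2)).symm
  have h2 : φ (n⁻¹ * φ n) = n⁻¹ * φ n := hO _ h1
  have h3 : n⁻¹ * φ n = 1 := by
    refine eq_one_of_two hφ (n := n) (by group) h2 ?_
    obtain ⟨j, hj⟩ := (pCore_isPGroup (G := ↥(normalizer (W : Set X)))) ⟨_, h1⟩
    exact ⟨j, congrArg (fun y => ((y : ↥(normalizer (W : Set X))) : X)) (congrArg Subtype.val hj)⟩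
  have h4 : φ n = n := by
    calc φ n = n * (n⁻¹ * φ n) := by group
      _ = n := by rw [h3, mul_one]
  exact h4

/-- If `C_X(W) ≤ M` then `N_X(W) ≤ M`. -/
theorem normalizer_le [Finite X] (hC : IsCharacteristicTwoType X) (hφ : Odd (orderOf φ)) {W : Subgroup X}
    (hW : W ≤ M φ) (hW1 : W ≠ ⊥) (hW2 : IsPGroup 2 W) (hCW : ∀ c, (∀ w ∈ W, c * w = w * c) → c ∈ M φ) :
    normalizer (W : Set X) ≤ M φ := by
  refine normalizer_le_of_core hC hφ hW hW1 hW2 ?_
  set N := normalizer (W : Set X) with hN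
  -- `φ` acts on `N`
  let f : ↥N →* ↥N :=
    { toFun := fun n => ⟨φ n, mem_normalizer_of n.2 hW⟩
      map_one' := Subtype.ext (map_one φ)
      map_mul' := fun a b => Subtype.ext (map_mul φ (a : X) b) }
  have hinj : Function.Injective f := fun a b hab => Subtype.ext (φ.injective (congrArg Subtype.val hab))
  have hsurj : Function.Surjective f := Finite.surjective_of_injective hinj
  have h1 : (pCore 2 ↥N).map f ≤ pCore 2 ↥N :=
    le_pCore ((Cfsg.pCore_normal 2 ↥N).map f hsurj) (pCore_isPGroup.map f)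
  intro p hp
  have h2 : f p ∈ pCore 2 ↥N := h1 ⟨p, hp, rfl⟩
  have h3 : p⁻¹ * f p ∈ pCore 2 ↥N := mul_mem (inv_mem hp) h2
  have h4 : φ ((p : X)⁻¹ * φ p) = (p : X)⁻¹ * φ p := by
    apply hCW
    intro w hw
    exact comm_of_fix (hW hw) (hW ((mem_normalizer_iff.1 p.2 w).1 hw))
  have h5 : (p : X)⁻¹ * φ p = 1 := by
    refine eq_one_of_two hφ (n := (p : X)) (by group) h4 ?_
    obtain ⟨j, hj⟩ := (pCore_isPGroup (G := ↥N)) ⟨_, h3⟩
    exact ⟨j, congrArg (fun y => ((y : ↥N) : X)) (congrArg Subtype.val hj)⟩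
  have h6 : φ (p : X) = p := by
    calc φ (p : X) = p * ((p : X)⁻¹ * φ p) := by group
      _ = p := by rw [h5, mul_one]
  exact h6

/-- A 2-subgroup `T` which is a maximal 2-subgroup of the subgroup `K` and whose normalizer in the 2-group `P ≥ T`
lies in `K` is equal to `P`. -/
theorem eq_of_normalizer_le {K T P : Subgroup X} [Finite X] (hP : IsPGroup 2 P) (hTP : T ≤ P) (hTK : T ≤ K)
    (hmax : ∀ Q : Subgroup X, IsPGroup 2 Q → Q ≤ K → T ≤ Q → Q = T)
    (hn : ∀ g ∈ P, g ∈ normalizer (T : Set X) → g ∈ K) : T = P := by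
  have hf : Fact (Nat.Prime 2) := ⟨Nat.prime_two⟩
  by_contra hne
  have hlt : T.subgroupOf P < ⊤ := by
    rw [lt_top_iff_ne_top]
    intro h
    apply hne
    refine le_antisymm hTP fun g hg => ?_
    have : (⟨g, hg⟩ : ↥P) ∈ T.subgroupOf P := by rw [h]; exact mem_top _
    exact this
  have : Group.IsNilpotent ↥P := hP.isNilpotent
  have hlt2 := Group.normalizerCondition_of_isNilpotent (T.subgroupOf P) hlt
  obtain ⟨g, hg1, hg2⟩ := SetLike.exists_of_lt hlt2
  have hgn : (g : X) ∈ normalizer (T : Set X) := by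
    rw [mem_normalizer_iff] at hg1 ⊢
    intro t
    constructor
    · intro ht
      have h3 := (hg1 ⟨t, hTP ht⟩).1 ht
      exact h3
    · intro ht
      have htP : t ∈ P := by
        have h4 := P.mul_mem (P.mul_mem (P.inv_mem g.2) (hTP ht)) g.2
        have e : (g : X)⁻¹ * (g * t * (g : X)⁻¹) * g = t := by group
        rwa [e] at h4
      exact (hg1 ⟨t, htP⟩).2 ht
  have h5 := hmax (P ⊓ K) (hP.to_le inf_le_left) inf_le_right (le_inf hTP hTK)
  have h6 : (g : X) ∈ P ⊓ K := ⟨g.2, hn g g.2 hgn⟩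
  rw [h5] at h6
  exact hg2 h6

theorem max_of_sylow {K : Subgroup X} (S : Sylow 2 ↥K) {Q : Subgroup X} (hQ : IsPGroup 2 Q) (hQK : Q ≤ K)
    (h : (S : Subgroup ↥K).map K.subtype ≤ Q) : Q = (S : Subgroup ↥K).map K.subtype := by
  have h1 : IsPGroup 2 (Q.subgroupOf K) := hQ.comap_of_injective _ K.subtype_injective
  have h2 : (S : Subgroup ↥K) ≤ Q.subgroupOf K := by
    intro s hs
    exact h ⟨s, hs, rfl⟩
  have h3 := S.is_maximal' h1 h2
  rw [← h3, Subgroup.map_subgroupOf_eq_of_le hQK]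

theorem sylow_map_le {K : Subgroup X} (S : Sylow 2 ↥K) : (S : Subgroup ↥K).map K.subtype ≤ K :=
  map_subtype_le _

theorem sylow_map_two {K : Subgroup X} (S : Sylow 2 ↥K) : IsPGroup 2 ((S : Subgroup ↥K).map K.subtype) :=
  S.isPGroup'.map _

/-- A central involution of `K` lies in every Sylow 2-subgroup of `K`. -/
theorem mem_of_central {K : Subgroup X} (S : Sylow 2 ↥K) {z : X} (hzK : z ∈ K) (hz : z * z = 1)
    (hc : ∀ k ∈ K, k * z = z * k) : z ∈ (S : Subgroup ↥K).map K.subtype := by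
  set T := (S : Subgroup ↥K).map K.subtype with hT
  have h1 : zpowers z ≤ normalizer (T : Set X) := by
    rw [zpowers_le]
    refine Subgroup.centralizer_le_normalizer _ (mem_centralizer_iff.2 fun t ht => hc t (sylow_map_le S ht))
  have hz2 : IsPGroup 2 (zpowers z) := by
    intro g
    refine ⟨1, Subtype.ext ?_⟩
    obtain ⟨n, hn⟩ := mem_zpowers_iff.1 g.2
    show (g : X) ^ (2 ^ 1) = 1
    rw [← hn, pow_one, ← zpow_natCast, ← zpow_mul, mul_comm, zpow_mul, zpow_natCast, pow_two, hz, one_zpow]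
  have h2 : IsPGroup 2 (zpowers z ⊔ T : Subgroup X) := hz2.to_sup_of_normal_right' (sylow_map_two S) h1
  have h3 := max_of_sylow S h2 (sup_le (by rwa [zpowers_le]) (sylow_map_le S)) le_sup_right
  rw [← hT] at h3
  rw [← h3]
  exact mem_sup_left (mem_zpowers z)

/-- A normal 2-subgroup is contained in every Sylow 2-subgroup. -/
theorem le_sylow_of_normal {K : Type*} [Group K] {P : Subgroup K} (hn : P.Normal) (h2 : IsPGroup 2 P)
    (S : Sylow 2 K) : P ≤ S := by
  have h1 : IsPGroup 2 (P ⊔ (S : Subgroup K) : Subgroup K) := h2.to_sup_of_normal_left S.isPGroup'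
  have h3 := S.is_maximal' h1 le_sup_right
  calc P ≤ P ⊔ (S : Subgroup K) := le_sup_left
    _ = S := h3

/-- The standing hypotheses. -/
structure Hyp (φ : MulAut X) (v : X) : Prop where
  ct : IsCharacteristicTwoType X
  odd : Odd (orderOf φ)
  ne : v ≠ 1
  sq : v * v = 1
  fix : ∀ c, c * v = v * c → φ c = c

section
variable [Finite X] {v : X} (h : Hyp φ v)
include h

/-- A Sylow 2-subgroup of `M` is a Sylow 2-subgroup of `X`. -/
theorem card_sylow (S : Sylow 2 ↥(M φ)) (P : Sylow 2 X) : Nat.card ↥(S : Subgroup ↥(M φ)) = Nat.card P := by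
  have hf : Fact (Nat.Prime 2) := ⟨Nat.prime_two⟩
  have hvM : v ∈ M φ := h.fix v rfl
  have hv2 : IsPGroup 2 (zpowers (⟨v, hvM⟩ : ↥(M φ))) := by
    intro g
    refine ⟨1, Subtype.ext ?_⟩
    obtain ⟨n, hn⟩ := mem_zpowers_iff.1 g.2
    have h1 : (⟨v, hvM⟩ : ↥(M φ)) * ⟨v, hvM⟩ = 1 := Subtype.ext h.sq
    show ((g : ↥(M φ))) ^ (2 ^ 1) = 1
    rw [← hn, pow_one, ← zpow_natCast, ← zpow_mul, mul_comm, zpow_mul, zpow_natCast, pow_two, h1, one_zpow]
  obtain ⟨S0, hS0⟩ := hv2.exists_le_sylow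
  set T := (S0 : Subgroup ↥(M φ)).map (M φ).subtype with hT
  have hT2 : IsPGroup 2 T := sylow_map_two S0
  have hTM : T ≤ M φ := sylow_map_le S0
  have hvT : v ∈ T := ⟨⟨v, hvM⟩, hS0 (mem_zpowers _), rfl⟩
  have hT1 : T ≠ ⊥ := by
    intro h1
    rw [h1, mem_bot] at hvT
    exact h.ne hvT
  have hN := normalizer_le h.ct h.odd hTM hT1 hT2 fun c hc => h.fix c (hc v hvT)
  obtain ⟨P0, hP0⟩ := hT2.exists_le_sylow
  have h1 : T = P0 := eq_of_normalizer_le P0.isPGroup' hP0 hTM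
    (fun Q hQ hQM hTQ => max_of_sylow S0 hQ hQM hTQ) fun g _ hg => hN hg
  have h2 : Nat.card ↥(S : Subgroup ↥(M φ)) = Nat.card ↥(S0 : Subgroup ↥(M φ)) := by
    rw [Sylow.card_eq_multiplicity, Sylow.card_eq_multiplicity]
  have h3 : Nat.card ↥(P : Subgroup X) = Nat.card ↥(P0 : Subgroup X) := by
    rw [Sylow.card_eq_multiplicity, Sylow.card_eq_multiplicity]
  have h4 : Nat.card T = Nat.card ↥(S0 : Subgroup ↥(M φ)) := card_map_of_injective (M φ).subtype_injective
  rw [h2, ← h4, h1]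
  exact h3.symm

theorem exists_sylow (S : Sylow 2 ↥(M φ)) : ∃ P : Sylow 2 X, (P : Subgroup X) = (S : Subgroup ↥(M φ)).map (M φ).subtype := by
  have hf : Fact (Nat.Prime 2) := ⟨Nat.prime_two⟩
  obtain ⟨P, hP⟩ := (sylow_map_two S).exists_le_sylow
  refine ⟨P, (eq_of_le_of_card_ge hP ?_).symm⟩
  rw [card_map_of_injective (M φ).subtype_injective, card_sylow h S P]

/-- `C_X(z') ≤ M` if `z'` is an involution centralizing a Sylow 2-subgroup `P ≤ M` of `X`. -/
theorem cent_le_of_central {P : Sylow 2 X} (hPM : (P : Subgroup X) ≤ M φ) {z : X} (hz1 : z ≠ 1) (hz2 : z * z = 1)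
    (hzP : z ∈ P) (hzc : ∀ p ∈ P, p * z = z * p) {c : X} (hc : c * z = z * c) : c ∈ M φ := by
  have hf : Fact (Nat.Prime 2) := ⟨Nat.prime_two⟩
  have hW : zpowers z ≤ M φ := by rw [zpowers_le]; exact hPM hzP
  have hW1 : zpowers z ≠ ⊥ := by rwa [Ne, zpowers_eq_bot]
  have hWP : zpowers z ≤ (P : Subgroup X) := by rw [zpowers_le]; exact hzP
  have hW2 : IsPGroup 2 (zpowers z) := P.isPGroup'.to_le hWP
  have hcN : ∀ c : X, c * z = z * c → c ∈ normalizer (zpowers z : Set X) := by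
    intro c hc
    refine Subgroup.centralizer_le_normalizer _ (mem_centralizer_iff.2 ?_)
    intro t ht
    obtain ⟨n, rfl⟩ := mem_zpowers_iff.1 ht
    exact ((show Commute c z from hc).zpow_right n).symm.eq
  refine normalizer_le_of_core h.ct h.odd hW hW1 hW2 ?_ (hcN c hc)
  intro p hp
  -- `O_2(N) ≤ P`
  have hPN : (P : Subgroup X) ≤ normalizer (zpowers z : Set X) := fun g hg => hcN g (hzc g hg)
  have h1 := le_sylow_of_normal (Cfsg.pCore_normal 2 _) pCore_isPGroup (P.subtype hPN)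
  have h2 := h1 hp
  exact hPM h2

/-- `C_X(z) ≤ M` for every involution `z` of `M`. -/
theorem cent_le {z : X} (hzM : z ∈ M φ) (hz1 : z ≠ 1) (hz2 : z * z = 1) {c : X} (hc : c * z = z * c) : c ∈ M φ := by
  have hf : Fact (Nat.Prime 2) := ⟨Nat.prime_two⟩
  set K : Subgroup X := M φ ⊓ centralizer ({z} : Set X) with hK
  have hmK : ∀ g, g ∈ K ↔ g ∈ M φ ∧ g * z = z * g := by
    intro g
    rw [hK, mem_inf, mem_centralizer_singleton_iff]
  have hzK : z ∈ K := (hmK z).2 ⟨hzM, rfl⟩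
  obtain ⟨S⟩ : Nonempty (Sylow 2 ↥K) := inferInstance
  set W := (S : Subgroup ↥K).map K.subtype with hWdef
  have hzW : z ∈ W := mem_of_central S hzK hz2 fun k hk => ((hmK k).1 hk).2
  have hWK : W ≤ K := sylow_map_le S
  have hWM : W ≤ M φ := hWK.trans inf_le_left
  have hW2 : IsPGroup 2 W := sylow_map_two S
  have hW1 : W ≠ ⊥ := by
    intro h1
    rw [h1, mem_bot] at hzW
    exact hz1 hzW
  -- a Sylow 2-subgroup of `M` containing `W`
  have hWS : IsPGroup 2 (W.subgroupOf (M φ)) := hW2.comap_of_injective _ (M φ).subtype_injective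
  obtain ⟨S', hS'⟩ := hWS.exists_le_sylow
  obtain ⟨P, hP⟩ := exists_sylow h S'
  have hPM : (P : Subgroup X) ≤ M φ := by rw [hP]; exact sylow_map_le S'
  have hWP : W ≤ (P : Subgroup X) := by
    rw [hP]
    intro w hw
    exact ⟨⟨w, hWM hw⟩, hS' hw, rfl⟩
  -- an involution of the centre of `P`
  obtain ⟨z', hz'P, hz'c, hz'2⟩ : ∃ z' ∈ P, (∀ p ∈ P, p * z' = z' * p) ∧ orderOf z' = 2 := by
    have hP2 : IsPGroup 2 (P : Subgroup X) := P.isPGroup'
    have : Nontrivial (P : Subgroup X) := ⟨⟨z, hWP hzW⟩, 1, fun h1 => hz1 (congrArg Subtype.val h1)⟩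
    have hcn := hP2.center_nontrivial
    have h2 : IsPGroup 2 (center (P : Subgroup X)) := hP2.to_subgroup _
    obtain ⟨n, hn, hn'⟩ := (h2.nontrivial_iff_card).1 hcn
    have hdvd : 2 ∣ Nat.card (center (P : Subgroup X)) := by
      rw [hn']; exact dvd_pow_self 2 hn.ne'
    obtain ⟨y, hy⟩ := exists_prime_orderOf_dvd_card' 2 hdvd
    refine ⟨((y : (P : Subgroup X)) : X), (y : (P : Subgroup X)).2, ?_, ?_⟩
    · intro p hp
      exact congrArg Subtype.val (mem_center_iff.mp y.2 ⟨p, hp⟩)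
    · rw [orderOf_coe, orderOf_coe]; exact hy
  have hz'1 : z' ≠ 1 := by
    intro h1
    rw [h1, orderOf_one] at hz'2
    exact absurd hz'2 (by norm_num)
  have hz'sq : z' * z' = 1 := by rw [← pow_two, ← hz'2]; exact pow_orderOf_eq_one z'
  have hcz' : ∀ c : X, c * z' = z' * c → c ∈ M φ := fun c hc => cent_le_of_central h hPM hz'1 hz'sq hz'P hz'c hc
  -- `z' ∈ W`
  have hz'W : z' ∈ W := by
    have h1 : IsPGroup 2 ((P : Subgroup X) ⊓ K : Subgroup X) := P.isPGroup'.to_le inf_le_left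
    have h2 := max_of_sylow S h1 inf_le_right (le_inf hWP hWK)
    rw [← hWdef] at h2
    rw [← h2]
    exact ⟨hz'P, (hmK z').2 ⟨hPM hz'P, (hz'c z (hWP hzW)).symm⟩⟩
  have hN := normalizer_le h.ct h.odd hWM hW1 hW2 fun c hc => hcz' c (hc z' hz'W)
  -- `W` is a Sylow 2-subgroup of `Y = N_X(⟨z⟩)`
  have hY : ∀ g : X, g ∈ normalizer (zpowers z : Set X) ↔ g * z = z * g := by
    intro g
    constructor
    · intro hg
      have h1 := (mem_normalizer_iff.1 hg z).1 (mem_zpowers _)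
      obtain ⟨n, hn⟩ := mem_zpowers_iff.1 h1
      rcases Int.even_or_odd' n with ⟨k, rfl | rfl⟩
      · exfalso
        rw [zpow_mul, zpow_two, hz2, one_zpow] at hn
        apply hz1
        have h3 : g * z * g⁻¹ = 1 := hn.symm
        rwa [mul_inv_eq_one, mul_eq_left] at h3
      · rw [zpow_add, zpow_mul, zpow_two, hz2, one_zpow, one_mul, zpow_one] at hn
        have h3 : g * z * g⁻¹ = z := hn.symm
        rwa [mul_inv_eq_iff_eq_mul] at h3
    · intro hg
      refine Subgroup.centralizer_le_normalizer _ (mem_centralizer_iff.2 ?_)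
      intro t ht
      obtain ⟨n, rfl⟩ := mem_zpowers_iff.1 ht
      exact ((show Commute g z from hg).zpow_right n).symm.eq
  set Y := normalizer (zpowers z : Set X) with hYdef
  have hWY : W ≤ Y := fun w hw => (hY w).2 ((hmK w).1 (hWK hw)).2
  have hWY2 : IsPGroup 2 (W.subgroupOf Y) := hW2.comap_of_injective _ Y.subtype_injective
  obtain ⟨R, hR⟩ := hWY2.exists_le_sylow
  have hWR : W = (R : Subgroup ↥Y).map Y.subtype := by
    refine eq_of_normalizer_le (sylow_map_two R) ?_ hWK (fun Q hQ hQK hWQ => max_of_sylow S hQ hQK hWQ) ?_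
    · intro w hw
      exact ⟨⟨w, hWY hw⟩, hR hw, rfl⟩
    · intro g hg hgn
      exact (hmK g).2 ⟨hN hgn, (hY g).1 (sylow_map_le R hg)⟩
  -- conclusion
  have hW' : zpowers z ≤ M φ := by rw [zpowers_le]; exact hzM
  have hW1' : zpowers z ≠ ⊥ := by rwa [Ne, zpowers_eq_bot]
  have hW2' : IsPGroup 2 (zpowers z) := hW2.to_le (by rw [zpowers_le]; exact hzW)
  refine normalizer_le_of_core h.ct h.odd hW' hW1' hW2' ?_ ((hY c).2 hc)
  intro p hp
  have h1 := le_sylow_of_normal (Cfsg.pCore_normal 2 _) pCore_isPGroup R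
  have h2 : (p : X) ∈ W := by
    rw [hWR]
    exact ⟨p, h1 hp, rfl⟩
  exact hWM h2

/-- `N_X(P) ≤ M` for every Sylow 2-subgroup `P ≤ M` of `X`. -/
theorem normalizer_sylow_le {P : Sylow 2 X} (hPM : (P : Subgroup X) ≤ M φ) :
    normalizer ((P : Subgroup X) : Set X) ≤ M φ := by
  have hf : Fact (Nat.Prime 2) := ⟨Nat.prime_two⟩
  have hP1 : ∃ z ∈ P, z ≠ 1 ∧ z * z = 1 := by
    have hv2 : IsPGroup 2 (zpowers v) := by
      intro g
      refine ⟨1, Subtype.ext ?_⟩
      obtain ⟨n, hn⟩ := mem_zpowers_iff.1 g.2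
      show (g : X) ^ (2 ^ 1) = 1
      rw [← hn, pow_one, ← zpow_natCast, ← zpow_mul, mul_comm, zpow_mul, zpow_natCast, pow_two, h.sq, one_zpow]
    obtain ⟨P', hP'⟩ := hv2.exists_le_sylow
    obtain ⟨g, hg⟩ := MulAction.exists_smul_eq X P' P
    refine ⟨g * v * g⁻¹, ?_, ?_, ?_⟩
    · rw [← hg]
      exact ⟨v, hP' (mem_zpowers v), rfl⟩
    · intro h1
      rw [mul_inv_eq_one, mul_eq_left] at h1
      exact h.ne h1
    · calc g * v * g⁻¹ * (g * v * g⁻¹) = g * (v * v) * g⁻¹ := by group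
        _ = 1 := by rw [h.sq]; group
  obtain ⟨z, hzP, hz1, hz2⟩ := hP1
  refine normalizer_le h.ct h.odd hPM ?_ P.isPGroup' fun c hc => cent_le h (hPM hzP) hz1 hz2 (hc z hzP)
  intro h1
  have h2 : z ∈ (P : Subgroup X) := hzP
  rw [h1, mem_bot] at h2
  exact hz1 h2

/-- `M` is strongly embedded or `M = X`. -/
theorem isStronglyEmbedded (hM : M φ ≠ ⊤) : IsStronglyEmbedded (M φ) := by
  have hf : Fact (Nat.Prime 2) := ⟨Nat.prime_two⟩
  have hvM : v ∈ M φ := h.fix v rfl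
  refine ⟨hM, ?_, ?_⟩
  · have ho : orderOf v = 2 := orderOf_eq_prime (by rw [pow_two]; exact h.sq) h.ne
    have h1 := orderOf_dvd_natCard (⟨v, hvM⟩ : ↥(M φ))
    rw [Subgroup.orderOf_mk, ho] at h1
    exact even_iff_two_dvd.2 h1
  · intro g hg
    by_contra hodd
    rw [Nat.not_odd_iff_even, even_iff_two_dvd] at hodd
    obtain ⟨⟨t, htmem⟩, ht⟩ := exists_prime_orderOf_dvd_card' 2 hodd
    rw [Subgroup.orderOf_mk] at ht
    obtain ⟨htM, s, hsM, hst⟩ := htmem
    have hst' : g * s * g⁻¹ = t := hst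
    have ht1 : t ≠ 1 := by
      intro h1
      rw [h1, orderOf_one] at ht
      exact absurd ht (by norm_num)
    have ht2 : t * t = 1 := by rw [← pow_two, ← ht]; exact pow_orderOf_eq_one t
    -- conjugates of `M`
    have key : ∀ y : X, y ≠ 1 → y * y = 1 → g⁻¹ * y * g ∈ M φ → ∀ c, c * y = y * c → g⁻¹ * c * g ∈ M φ := by
      intro y hy1 hy2 hyM c hc
      refine cent_le h hyM ?_ ?_ ?_
      · intro h1
        apply hy1
        calc y = g * (g⁻¹ * y * g) * g⁻¹ := by group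
          _ = 1 := by rw [h1]; group
      · calc g⁻¹ * y * g * (g⁻¹ * y * g) = g⁻¹ * (y * y) * g := by group
          _ = 1 := by rw [hy2]; group
      · calc g⁻¹ * c * g * (g⁻¹ * y * g) = g⁻¹ * (c * y) * g := by group
          _ = g⁻¹ * y * g * (g⁻¹ * c * g) := by rw [hc]; group
    have htg : g⁻¹ * t * g ∈ M φ := by
      have e : g⁻¹ * t * g = s := by rw [← hst']; group
      rw [e]; exact hsM
    -- a Sylow 2-subgroup of `M` containing `t`
    have ht2' : IsPGroup 2 (zpowers (⟨t, htM⟩ : ↥(M φ))) := by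
      intro y
      refine ⟨1, Subtype.ext ?_⟩
      obtain ⟨n, hn⟩ := mem_zpowers_iff.1 y.2
      have h1 : (⟨t, htM⟩ : ↥(M φ)) * ⟨t, htM⟩ = 1 := Subtype.ext ht2
      show ((y : ↥(M φ))) ^ (2 ^ 1) = 1
      rw [← hn, pow_one, ← zpow_natCast, ← zpow_mul, mul_comm, zpow_mul, zpow_natCast, pow_two, h1, one_zpow]
    obtain ⟨S, hS⟩ := ht2'.exists_le_sylow
    obtain ⟨P, hP⟩ := exists_sylow h S
    have hPM : (P : Subgroup X) ≤ M φ := by rw [hP]; exact sylow_map_le S
    have htP : t ∈ (P : Subgroup X) := by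
      rw [hP]
      exact ⟨⟨t, htM⟩, hS (mem_zpowers _), rfl⟩
    obtain ⟨z, hzP, hzc, hz⟩ : ∃ z ∈ (P : Subgroup X), (∀ p ∈ (P : Subgroup X), p * z = z * p) ∧ orderOf z = 2 := by
      have hP2 : IsPGroup 2 (P : Subgroup X) := P.isPGroup'
      have : Nontrivial (P : Subgroup X) := ⟨⟨t, htP⟩, 1, fun h1 => ht1 (congrArg Subtype.val h1)⟩
      have hcn := hP2.center_nontrivial
      have h2 : IsPGroup 2 (center (P : Subgroup X)) := hP2.to_subgroup _
      obtain ⟨n, hn, hn'⟩ := (h2.nontrivial_iff_card).1 hcn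
      have hdvd : 2 ∣ Nat.card (center (P : Subgroup X)) := by
        rw [hn']; exact dvd_pow_self 2 hn.ne'
      obtain ⟨y, hy⟩ := exists_prime_orderOf_dvd_card' 2 hdvd
      refine ⟨((y : (P : Subgroup X)) : X), (y : (P : Subgroup X)).2, ?_, ?_⟩
      · intro p hp
        exact congrArg Subtype.val (mem_center_iff.mp y.2 ⟨p, hp⟩)
      · rw [orderOf_coe, orderOf_coe]; exact hy
    have hz1 : z ≠ 1 := by
      intro h1
      rw [h1, orderOf_one] at hz
      exact absurd hz (by norm_num)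
    have hz2 : z * z = 1 := by rw [← pow_two, ← hz]; exact pow_orderOf_eq_one z
    have hzg : g⁻¹ * z * g ∈ M φ := key t ht1 ht2 htg z (hzc t htP).symm
    have hPg : ∀ p ∈ (P : Subgroup X), g⁻¹ * p * g ∈ M φ := fun p hp => key z hz1 hz2 hzg p (hzc p hp)
    -- `P` and `g⁻¹ P g` are conjugate in `M`
    set P' : Sylow 2 X := g⁻¹ • P with hP'
    have hP'M : (P' : Subgroup X) ≤ M φ := by
      rintro _ ⟨p, hp, rfl⟩
      have e : (MulAut.conj g⁻¹) p = g⁻¹ * p * g := by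
        rw [MulAut.conj_apply, inv_inv]
      show (MulAut.conj g⁻¹) p ∈ M φ
      rw [e]
      exact hPg p hp
    obtain ⟨m, hm⟩ := MulAction.exists_smul_eq ↥(M φ) (P'.subtype hP'M) (P.subtype hPM)
    have hm' : ((m : X) * g⁻¹) • P = P := by
      rw [mul_smul]
      apply Sylow.ext
      have h3 := congrArg (fun Q : Sylow 2 ↥(M φ) => (Q : Subgroup ↥(M φ)).map (M φ).subtype) hm
      have h4 : ((P.subtype hPM : Sylow 2 ↥(M φ)) : Subgroup ↥(M φ)).map (M φ).subtype = P := by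
        show ((P : Subgroup X).subgroupOf (M φ)).map (M φ).subtype = P
        exact Subgroup.map_subgroupOf_eq_of_le hPM
      have h5 : ((m • (P'.subtype hP'M) : Sylow 2 ↥(M φ)) : Subgroup ↥(M φ)).map (M φ).subtype =
          ((m : X) • P' : Sylow 2 X) := by
        ext y
        constructor
        · rintro ⟨_, ⟨a, ha, rfl⟩, rfl⟩
          exact ⟨(a : X), ha, rfl⟩
        · rintro ⟨a, ha, rfl⟩
          exact ⟨_, ⟨⟨a, hP'M ha⟩, ha, rfl⟩, rfl⟩
      exact h5.symm.trans (h3.trans h4)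
    have h6 : (m : X) * g⁻¹ ∈ normalizer ((P : Subgroup X) : Set X) := Sylow.smul_eq_iff_mem_normalizer.1 hm'
    have h7 := normalizer_sylow_le h hPM h6
    have h8 : g⁻¹ ∈ M φ := by
      have h9 := (M φ).mul_mem ((M φ).inv_mem m.2) h7
      rwa [inv_mul_cancel_left] at h9
    exact hg (by simpa using (M φ).inv_mem h8)

/-- The rigidity theorem. -/
theorem eq_one (hS : ∀ H : Subgroup X, ¬ IsStronglyEmbedded H) : φ = 1 := by
  have hM : M φ = ⊤ := by
    by_contra hM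
    exact hS _ (isStronglyEmbedded h hM)
  ext x
  have h1 : x ∈ M φ := by rw [hM]; exact mem_top x
  exact h1

end

end Cfsg.Agent.UGT.EndRigid
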