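import Mathlib
import Cfsg.Prelude.Def_CaseTheorems
import Cfsg.Agent.OddHalf.Small.Crit
import Cfsg.Agent.GH.Rank
import Cfsg.Agent.S0501

/-!
# Ends of the Unbalanced Group Theorem: groups of characteristic 2 type

`X ≤ G` is normal, of characteristic 2 type and of sectional 2-rank at least 5, `x` is an involution of `G`.
Every subgroup `R` of odd order, centralized by `x` and normalized by `C_X(x)`, is trivial, provided that `X` is
rigid: no nontrivial element of odd order of `G` centralizes `C_X(v)` for an involution `v` of `X`.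

* `comm_of_commute`: `C_R(v)` centralizes `C_X(v)` for every involution `v` of `C_X(x)`;
* `eq_bot_of_four`: `R = 1` if `C_X(x)` contains a four-group;
* `exists_four`: this is so if a 2-subgroup `T ≤ X⟨x⟩`, `x ∈ T`, has a normal elementary abelian subgroup of order
  at least 8;
* `eq_bot`: the theorem.
-/

set_option autoImplicit false

namespace Cfsg.Agent.UGT.EndCharTwo

open Subgroup Cfsg Cfsg.Agent.OddHalf.Small.Crit

variable {G : Type*} [Group G]

/-- The situation: `R` has odd order, is centralized by `x` and normalized by `C_X(x)`. -/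
structure Sit (X R : Subgroup G) (x : G) : Prop where
  normal : X.Normal
  odd : Odd (Nat.card R)
  sq : x * x = 1
  cent : ∀ r ∈ R, r * x = x * r
  norm : ∀ g ∈ X, g * x = x * g → ∀ r ∈ R, g * r * g⁻¹ ∈ R

theorem eq_one_of_odd_two [Finite G] {R Q : Subgroup G} (hR : Odd (Nat.card R)) (hQ : IsPGroup 2 Q) {g : G}
    (h1 : g ∈ R) (h2 : g ∈ Q) : g = 1 := by
  have ho : Odd (orderOf g) := by
    have h3 := orderOf_dvd_natCard (⟨g, h1⟩ : R)
    rw [orderOf_mk] at h3
    exact Odd.of_dvd_nat hR h3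
  obtain ⟨k, hk⟩ := (IsPGroup.iff_orderOf.1 hQ) ⟨g, h2⟩
  rw [orderOf_mk] at hk
  rcases Nat.eq_zero_or_pos k with rfl | hk0
  · rw [pow_zero, orderOf_eq_one_iff] at hk
    exact hk
  · exfalso
    rw [hk] at ho
    exact (Nat.not_odd_iff_even.2 ((Nat.even_pow.2 ⟨even_two, hk0.ne'⟩))) ho

/-- `X` is rigid: no nontrivial element of odd order of `G` centralizes `C_X(v)`, `v` an involution of `X`. -/
def Rig (X : Subgroup G) : Prop :=
  ∀ d : G, Odd (orderOf d) → ∀ v ∈ X, v ≠ 1 → v * v = 1 → (∀ c ∈ X, c * v = v * c → d * c = c * d) → d = 1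

theorem odd_orderOf_of_mem [Finite G] {R : Subgroup G} (hR : Odd (Nat.card R)) {r : G} (hr : r ∈ R) :
    Odd (orderOf r) := by
  have h3 := orderOf_dvd_natCard (⟨r, hr⟩ : R)
  rw [orderOf_mk] at h3
  exact Odd.of_dvd_nat hR h3

/-- `C_R(v)` centralizes `C_X(v)` for every involution `v` of `C_X(x)`. -/
theorem comm_of_commute [Finite G] {X R : Subgroup G} {x : G} (h : Sit X R x)
    (hC : IsCharacteristicTwoType ↥X) {v : G} (hvX : v ∈ X) (hv1 : v ≠ 1) (hv2 : v * v = 1)
    (hvx : v * x = x * v) {r : G} (hr : r ∈ R) (hrv : r * v = v * r) {c : G} (hcX : c ∈ X)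
    (hcv : c * v = v * c) : r * c = c * r := by
  have hf : Fact (Nat.Prime 2) := ⟨Nat.prime_two⟩
  have hXn := h.normal
  -- the 2-local subgroup
  set T : Subgroup ↥X := zpowers (⟨v, hvX⟩ : ↥X) with hT
  have hT2 : IsPGroup 2 T := by
    rw [hT]
    intro g
    obtain ⟨n, hn⟩ := mem_zpowers_iff.1 g.2
    refine ⟨1, ?_⟩
    have h1 : (⟨v, hvX⟩ : ↥X) * ⟨v, hvX⟩ = 1 := Subtype.ext hv2
    apply Subtype.ext
    show ((g : ↥X)) ^ (2 ^ 1) = 1
    rw [← hn, pow_one, ← zpow_natCast, ← zpow_mul, mul_comm, zpow_mul, zpow_natCast, pow_two, h1, one_zpow]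
  have hT1 : T ≠ ⊥ := by
    rw [hT, Ne, zpowers_eq_bot]
    exact fun h1 => hv1 (congrArg Subtype.val h1)
  have hmemT : ∀ t ∈ T, (t : G) = 1 ∨ (t : G) = v := by
    intro t ht
    obtain ⟨n, rfl⟩ := mem_zpowers_iff.1 ht
    rcases Int.even_or_odd' n with ⟨k, rfl | rfl⟩
    · left
      have h1 : (⟨v, hvX⟩ : ↥X) * ⟨v, hvX⟩ = 1 := Subtype.ext hv2
      rw [zpow_mul, zpow_two, h1, one_zpow]; rfl
    · right
      have h1 : (⟨v, hvX⟩ : ↥X) * ⟨v, hvX⟩ = 1 := Subtype.ext hv2
      rw [zpow_add, zpow_mul, zpow_two, h1, one_zpow, one_mul, zpow_one]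
  have hchar := hC.2 T hT2 hT1
  set N : Subgroup ↥X := normalizer (T : Set ↥X) with hN
  have hmN : ∀ g : ↥X, g ∈ N ↔ (g : G) * v = v * g := by
    intro g
    constructor
    · intro hg
      have h1 := (mem_normalizer_iff.1 hg ⟨v, hvX⟩).1 (mem_zpowers _)
      rcases hmemT _ h1 with h2 | h2
      · exfalso
        apply hv1
        have h3 : (g : G) * v * (g : G)⁻¹ = 1 := h2
        rwa [mul_inv_eq_one, mul_eq_left] at h3
      · have h3 : (g : G) * v * (g : G)⁻¹ = v := h2
        rwa [mul_inv_eq_iff_eq_mul] at h3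
    · intro hg
      have h3 : g * ⟨v, hvX⟩ = ⟨v, hvX⟩ * g := Subtype.ext hg
      have h4 : g ∈ centralizer (T : Set ↥X) := by
        rw [hT, mem_centralizer_iff]
        intro t ht
        obtain ⟨n, rfl⟩ := mem_zpowers_iff.1 ht
        exact ((show Commute g ⟨v, hvX⟩ from h3).zpow_right n).symm.eq
      exact Subgroup.centralizer_le_normalizer _ h4
  -- `Q = O_2(C_X(v))`
  set P : Subgroup ↥N := pCore 2 ↥N with hP
  have hP2 : IsPGroup 2 P := pCore_isPGroup
  set Q : Subgroup G := (P.map N.subtype).map X.subtype with hQ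
  have hmQ : ∀ g : G, g ∈ Q ↔ ∃ (h1 : g ∈ X) (h2 : (⟨g, h1⟩ : ↥X) ∈ N), (⟨⟨g, h1⟩, h2⟩ : ↥N) ∈ P := by
    intro g
    constructor
    · rintro ⟨_, ⟨p, hp, rfl⟩, rfl⟩
      exact ⟨p.1.2, p.2, hp⟩
    · rintro ⟨h1, h2, h3⟩
      exact ⟨_, ⟨_, h3, rfl⟩, rfl⟩
  have hQ2 : IsPGroup 2 Q := (hP2.map _).map _
  have hQX : Q ≤ X := map_subtype_le _
  -- conjugation by an element of `C_G(v)` is an automorphism of `N`
  have hQn : ∀ g : G, g * v = v * g → ∀ q ∈ Q, g * q * g⁻¹ ∈ Q := by
    intro g hgv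
    have hxc : ∀ y ∈ X, g * y * g⁻¹ ∈ X := fun y hy => hXn.conj_mem y hy g
    have hgi : g⁻¹ * v = v * g⁻¹ := (show Commute g v from hgv).inv_left.eq
    have hxN : ∀ y : G, y * v = v * y → (g * y * g⁻¹) * v = v * (g * y * g⁻¹) := by
      intro y hy
      calc (g * y * g⁻¹) * v = g * y * (g⁻¹ * v) := by group
        _ = g * (y * v) * g⁻¹ := by rw [hgi]; group
        _ = (g * v) * y * g⁻¹ := by rw [hy]; group
        _ = v * (g * y * g⁻¹) := by rw [hgv]; group
    have hxN' : ∀ y : G, y * v = v * y → (g⁻¹ * y * g) * v = v * (g⁻¹ * y * g) := by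
      intro y hy
      calc (g⁻¹ * y * g) * v = g⁻¹ * y * (g * v) := by group
        _ = g⁻¹ * (y * v) * g := by rw [hgv]; group
        _ = (g⁻¹ * v) * y * g := by rw [hy]; group
        _ = v * (g⁻¹ * y * g) := by rw [hgi]; group
    let φ : ↥N →* ↥N :=
      { toFun := fun n => ⟨⟨g * (n : ↥X) * g⁻¹, hxc _ n.1.2⟩, (hmN _).2 (hxN _ ((hmN _).1 n.2))⟩
        map_one' := by
          apply Subtype.ext; apply Subtype.ext
          show g * 1 * g⁻¹ = 1
          group
        map_mul' := fun a b => by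
          apply Subtype.ext; apply Subtype.ext
          show g * ((a : ↥X) * (b : ↥X) : G) * g⁻¹ = (g * (a : ↥X) * g⁻¹) * (g * (b : ↥X) * g⁻¹)
          group }
    have hsurj : Function.Surjective φ := by
      intro n
      have h1 : g⁻¹ * ((n : ↥X) : G) * g ∈ X := by
        have h2 := hXn.conj_mem _ n.1.2 g⁻¹
        rwa [inv_inv] at h2
      refine ⟨⟨⟨g⁻¹ * ((n : ↥X) : G) * g, h1⟩, (hmN _).2 (hxN' _ ((hmN _).1 n.2))⟩, ?_⟩
      apply Subtype.ext; apply Subtype.ext
      show g * (g⁻¹ * ((n : ↥X) : G) * g) * g⁻¹ = n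
      group
    have h1 : P.map φ ≤ P := le_pCore ((pCore_normal 2 ↥N).map φ hsurj) (hP2.map φ)
    intro q hq
    obtain ⟨h2, h3, h4⟩ := (hmQ q).1 hq
    have h5 : φ ⟨⟨q, h2⟩, h3⟩ ∈ P := h1 ⟨_, h4, rfl⟩
    exact (hmQ _).2 ⟨hxc _ h2, (φ ⟨⟨q, h2⟩, h3⟩).2, h5⟩
  have hQx : ∀ q ∈ Q, x * q * x⁻¹ ∈ Q := hQn x hvx.symm
  -- `r` commutes with `C_Q(x)`
  have hrQ : ∀ q ∈ Q, q * x = x * q → r * q = q * r := by
    intro q hq hqx
    have h1 : q * r * q⁻¹ * r⁻¹ ∈ R := R.mul_mem (h.norm q (hQX hq) hqx r hr) (R.inv_mem hr)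
    have h2 : q * r * q⁻¹ * r⁻¹ ∈ Q := by
      have h3 := hQn r hrv q⁻¹ (Q.inv_mem hq)
      have e : q * r * q⁻¹ * r⁻¹ = q * (r * q⁻¹ * r⁻¹) := by group
      rw [e]
      exact Q.mul_mem hq h3
    have h3 := eq_one_of_odd_two h.odd hQ2 h1 h2
    calc r * q = (q * r * q⁻¹ * r⁻¹)⁻¹ * (q * r) := by group
      _ = q * r := by rw [h3]; group
  -- the 2-group `E = Q⟨x⟩`
  set Z : Subgroup G := zpowers x with hZ
  have hxn : ∀ y : G, y ∈ Z → y = 1 ∨ y = x := by
    intro y hy
    obtain ⟨n, rfl⟩ := mem_zpowers_iff.1 hy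
    rcases Int.even_or_odd' n with ⟨k, rfl | rfl⟩
    · left; rw [zpow_mul, zpow_two, h.sq, one_zpow]
    · right; rw [zpow_add, zpow_mul, zpow_two, h.sq, one_zpow, one_mul, zpow_one]
  have hZ2 : IsPGroup 2 Z := by
    intro g
    refine ⟨1, ?_⟩
    apply Subtype.ext
    show ((g : G)) ^ (2 ^ 1) = 1
    rcases hxn _ g.2 with h1 | h1
    · rw [h1, one_pow]
    · rw [h1, pow_one, pow_two, h.sq]
  have hZn : Z ≤ normalizer (Q : Set G) := by
    intro y hy
    rcases hxn y hy with rfl | rfl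
    · exact one_mem _
    · rw [mem_normalizer_iff]
      intro q
      refine ⟨fun hq => hQx q hq, fun hq => ?_⟩
      have h1 := hQx _ hq
      have e : y * (y * q * y⁻¹) * y⁻¹ = (y * y) * q * (y * y)⁻¹ := by group
      rw [e, h.sq] at h1
      simpa using h1
  set E : Subgroup G := Z ⊔ Q with hE
  have hE2 : IsPGroup 2 E := hZ2.to_sup_of_normal_right' hQ2 hZn
  have hxE : x ∈ E := mem_sup_left (mem_zpowers x)
  have hmE : ∀ e ∈ E, ∃ q ∈ Q, e = q ∨ e = x * q := by
    intro e he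
    rw [hE, ← SetLike.mem_coe, coe_mul_of_left_le_normalizer_right _ _ hZn] at he
    obtain ⟨y, hy, q, hq, rfl⟩ := he
    rcases hxn y hy with rfl | rfl
    · exact ⟨q, hq, Or.inl (one_mul q)⟩
    · exact ⟨q, hq, Or.inr rfl⟩
  -- `r` normalizes `E`
  have hrE : r ∈ normalizer (E : Set G) := by
    have h1 : ∀ w : G, w * v = v * w → w * x = x * w → ∀ e ∈ E, w * e * w⁻¹ ∈ E := by
      intro w hwv hwx e he
      obtain ⟨q, hq, rfl | rfl⟩ := hmE e he
      · exact mem_sup_right (hQn w hwv _ hq)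
      · have e1 : w * (x * q) * w⁻¹ = x * (w * q * w⁻¹) := by
          calc w * (x * q) * w⁻¹ = (w * x) * q * w⁻¹ := by group
            _ = x * (w * q * w⁻¹) := by rw [hwx]; group
        rw [e1]
        exact E.mul_mem hxE (mem_sup_right (hQn w hwv _ hq))
    have hrx := h.cent r hr
    have hri : r⁻¹ * v = v * r⁻¹ := (show Commute r v from hrv).inv_left.eq
    have hrxi : r⁻¹ * x = x * r⁻¹ := (show Commute r x from hrx).inv_left.eq
    rw [mem_normalizer_iff]
    intro e
    refine ⟨fun he => h1 r hrv hrx e he, fun he => ?_⟩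
    have h2 := h1 r⁻¹ hri hrxi _ he
    have e1 : r⁻¹ * (r * e * r⁻¹) * r⁻¹⁻¹ = e := by group
    rwa [e1] at h2
  -- Thompson's lemma
  have hrc : r ∈ centralizer (E : Set G) := by
    refine OddOrderLocal.SelfCentFixed.mem_centralizer_of_inf_le (p := 2) (P := E ⊓ centralizer ({x} : Set G))
      hE2 inf_le_left ?_ ?_ hrE ?_
    · rintro e ⟨he, hec⟩
      refine ⟨he, mem_centralizer_iff.2 ?_⟩
      rintro _ rfl
      exact mem_centralizer_iff.1 hec _ ⟨hxE, mem_centralizer_iff.2 (by rintro _ rfl; rfl)⟩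
    · exact Nat.coprime_two_right.mpr (odd_orderOf_of_mem h.odd hr)
    · rw [mem_centralizer_iff]
      rintro e ⟨he, hec⟩
      have hex : e * x = x * e := (mem_centralizer_iff.1 hec x rfl).symm
      obtain ⟨q, hq, rfl | rfl⟩ := hmE e he
      · exact (hrQ _ hq hex).symm
      · have hqx : q * x = x * q := by
          have h1 : x * q * x = x * (x * q) := hex
          have h2 : q * x = x * q := by
            have h3 : x * (q * x) = x * (x * q) := by rw [← mul_assoc]; exact h1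
            exact mul_left_cancel h3
          exact h2
        calc x * q * r = x * (q * r) := by group
          _ = x * (r * q) := by rw [hrQ q hq hqx]
          _ = (x * r) * q := by group
          _ = r * (x * q) := by rw [← h.cent r hr]; group
  -- `r` centralizes `Q`, so it centralizes `C_X(v)`
  have hrq : ∀ q ∈ Q, r * q = q * r := fun q hq => (mem_centralizer_iff.1 hrc q (mem_sup_right hq)).symm
  have hrX : ∀ y ∈ X, r * y * r⁻¹ ∈ X := fun y hy => hXn.conj_mem y hy r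
  have hri : r⁻¹ * v = v * r⁻¹ := (show Commute r v from hrv).inv_left.eq
  set k : G := c⁻¹ * (r * c * r⁻¹) with hk
  have hkX : k ∈ X := X.mul_mem (X.inv_mem hcX) (hrX c hcX)
  have hci : c⁻¹ * v = v * c⁻¹ := (show Commute c v from hcv).inv_left.eq
  have hkv : k * v = v * k := by
    have h1 : (r * c * r⁻¹) * v = v * (r * c * r⁻¹) := by
      calc (r * c * r⁻¹) * v = r * c * (r⁻¹ * v) := by group
        _ = r * (c * v) * r⁻¹ := by rw [hri]; group
        _ = (r * v) * c * r⁻¹ := by rw [hcv]; group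
        _ = v * (r * c * r⁻¹) := by rw [hrv]; group
    calc k * v = c⁻¹ * ((r * c * r⁻¹) * v) := by rw [hk]; group
      _ = (c⁻¹ * v) * (r * c * r⁻¹) := by rw [h1]; group
      _ = v * k := by rw [hci, hk]; group
  have hkN : (⟨k, hkX⟩ : ↥X) ∈ N := (hmN _).2 hkv
  have hkq : ∀ q ∈ Q, q * k = k * q := by
    intro q hq
    have h1 : c * q * c⁻¹ ∈ Q := hQn c hcv q hq
    have h2 := hrq _ h1
    have h3 := hrq _ hq
    have h4 : (r * c * r⁻¹) * q = (c * q * c⁻¹) * (r * c * r⁻¹) := by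
      have h5 : r⁻¹ * q = q * r⁻¹ := (show Commute r q from h3).inv_left.eq
      calc (r * c * r⁻¹) * q = r * c * (r⁻¹ * q) := by group
        _ = r * (c * q * c⁻¹) * c * r⁻¹ := by rw [h5]; group
        _ = (c * q * c⁻¹) * (r * c * r⁻¹) := by rw [h2]; group
    calc q * k = c⁻¹ * ((c * q * c⁻¹) * (r * c * r⁻¹)) := by rw [hk]; group
      _ = k * q := by rw [← h4, hk]; group
  have hkP : (⟨⟨k, hkX⟩, hkN⟩ : ↥N) ∈ P := by
    apply hchar
    rw [mem_centralizer_iff]
    intro p hp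
    apply Subtype.ext; apply Subtype.ext
    show ((p : ↥X) : G) * k = k * p
    exact hkq _ ((hmQ _).2 ⟨p.1.2, p.2, hp⟩)
  have hkQ : k ∈ Q := (hmQ k).2 ⟨hkX, hkN, hkP⟩
  have hrk : r * k = k * r := hrq k hkQ
  have hrc1 : r * c = c * k * r := by rw [hk]; group
  have hpow : ∀ n : ℕ, r ^ n * c = c * k ^ n * r ^ n := by
    intro n
    induction n with
    | zero => simp
    | succ n ih =>
      have h1 : r * k ^ n = k ^ n * r := ((show Commute r k from hrk).pow_right n).eq
      calc r ^ (n + 1) * c = r * (r ^ n * c) := by rw [pow_succ']; group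
        _ = (r * c) * k ^ n * r ^ n := by rw [ih]; group
        _ = c * k * (r * k ^ n) * r ^ n := by rw [hrc1]; group
        _ = c * k ^ (n + 1) * r ^ (n + 1) := by rw [h1, pow_succ' k, pow_succ' r]; group
  have hk1 : k ^ orderOf r = 1 := by
    have h1 := hpow (orderOf r)
    rw [pow_orderOf_eq_one, one_mul, mul_one] at h1
    exact (mul_eq_left.1 h1.symm)
  have hk2 : k = 1 := by
    have h1 : orderOf k ∣ orderOf r := orderOf_dvd_of_pow_eq_one hk1
    have h2 : Odd (orderOf k) := Odd.of_dvd_nat (odd_orderOf_of_mem h.odd hr) h1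
    obtain ⟨j, hj⟩ := (IsPGroup.iff_orderOf.1 hQ2) ⟨k, hkQ⟩
    rw [orderOf_mk] at hj
    rcases Nat.eq_zero_or_pos j with rfl | hj0
    · rw [pow_zero, orderOf_eq_one_iff] at hj
      exact hj
    · exfalso
      rw [hj] at h2
      exact (Nat.not_odd_iff_even.2 ((Nat.even_pow.2 ⟨even_two, hj0.ne'⟩))) h2
  rw [hrc1, hk2, mul_one]

/-- `C_R(v) = 1` for every involution `v` of `C_X(x)`. -/
theorem eq_one_of_commute [Finite G] {X R : Subgroup G} {x : G} (h : Sit X R x) (hrig : Rig X)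
    (hC : IsCharacteristicTwoType ↥X) {v : G} (hvX : v ∈ X) (hv1 : v ≠ 1) (hv2 : v * v = 1)
    (hvx : v * x = x * v) {r : G} (hr : r ∈ R) (hrv : r * v = v * r) : r = 1 :=
  hrig r (odd_orderOf_of_mem h.odd hr) v hvX hv1 hv2 fun _ hc hcv =>
    comm_of_commute h hC hvX hv1 hv2 hvx hr hrv hc hcv

/-- An involution acting without fixed points on `R` inverts `R`. -/
theorem conj_eq_inv [Finite G] {R : Subgroup G} {v : G} (hv2 : v * v = 1)
    (hn : ∀ r ∈ R, v * r * v⁻¹ ∈ R) (hf : ∀ r ∈ R, r * v = v * r → r = 1) {r : G} (hr : r ∈ R) :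
    v * r * v⁻¹ = r⁻¹ := by
  let φ : ↥R →* ↥R :=
    { toFun := fun a => ⟨v * a * v⁻¹, hn a a.2⟩
      map_one' := Subtype.ext (by show v * 1 * v⁻¹ = 1; group)
      map_mul' := fun a b => Subtype.ext (by show v * (a * b : G) * v⁻¹ = (v * a * v⁻¹) * (v * b * v⁻¹); group) }
  have h1 : MonoidHom.FixedPointFree φ := by
    intro a ha
    apply Subtype.ext
    apply hf a a.2
    have h2 : v * (a : G) * v⁻¹ = a := congrArg Subtype.val ha
    rw [mul_inv_eq_iff_eq_mul] at h2
    exact h2.symm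
  have h2 : φ^[2] = _root_.id := by
    funext a
    apply Subtype.ext
    show v * (v * (a : G) * v⁻¹) * v⁻¹ = a
    have e : v * (v * (a : G) * v⁻¹) * v⁻¹ = (v * v) * a * (v * v)⁻¹ := by group
    rw [e, hv2]; group
  have h3 := congrFun (h1.coe_eq_inv_of_sq_eq_one h2) ⟨r, hr⟩
  exact congrArg Subtype.val h3

/-- `R = 1` if `C_X(x)` contains two commuting involutions. -/
theorem eq_bot_of_four [Finite G] {X R : Subgroup G} {x : G} (h : Sit X R x) (hrig : Rig X)
    (hC : IsCharacteristicTwoType ↥X) {v w : G} (hvX : v ∈ X) (hwX : w ∈ X) (hv1 : v ≠ 1) (hw1 : w ≠ 1)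
    (hne : v ≠ w) (hv2 : v * v = 1) (hw2 : w * w = 1) (hvw : v * w = w * v)
    (hvx : v * x = x * v) (hwx : w * x = x * w) : R = ⊥ := by
  rw [eq_bot_iff]
  intro r hr
  have h1 := conj_eq_inv hv2 (h.norm v hvX hvx) (fun r hr hrv => eq_one_of_commute h hrig hC hvX hv1 hv2 hvx hr hrv) hr
  have h2 := conj_eq_inv hw2 (h.norm w hwX hwx) (fun r hr hrw => eq_one_of_commute h hrig hC hwX hw1 hw2 hwx hr hrw) hr
  have h3 : r * (v * w) = (v * w) * r := by
    have h4 : (v * w) * r * (v * w)⁻¹ = r := by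
      calc (v * w) * r * (v * w)⁻¹ = v * (w * r * w⁻¹) * v⁻¹ := by group
        _ = (v * r * v⁻¹)⁻¹ := by rw [h2]; group
        _ = r := by rw [h1, inv_inv]
    rw [mul_inv_eq_iff_eq_mul] at h4
    exact h4.symm
  refine eq_one_of_commute h hrig hC (X.mul_mem hvX hwX) ?_ ?_ ?_ hr h3
  · intro h4
    apply hne
    calc v = v * (w * w) := by rw [hw2, mul_one]
      _ = (v * w) * w := by group
      _ = w := by rw [h4, one_mul]
  · calc v * w * (v * w) = v * (w * v) * w := by group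
      _ = v * (v * w) * w := by rw [hvw]
      _ = (v * v) * (w * w) := by group
      _ = 1 := by rw [hv2, hw2, one_mul]
  · calc v * w * x = v * (w * x) := by group
      _ = (v * x) * w := by rw [hwx]; group
      _ = x * (v * w) := by rw [hvx]; group

/-- A subgroup of order at least 4, all of whose elements satisfy `a * a = 1`, contains two distinct involutions. -/
theorem exists_two [Finite G] {A : Subgroup G} (h4 : 4 ≤ Nat.card A) :
    ∃ v ∈ A, ∃ w ∈ A, v ≠ 1 ∧ w ≠ 1 ∧ v ≠ w := by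
  classical
  have : Fintype ↥A := Fintype.ofFinite _
  rw [Nat.card_eq_fintype_card] at h4
  have h1 : 2 < (Finset.univ : Finset ↥A).card := by rw [Finset.card_univ]; omega
  obtain ⟨a, b, c, -, -, -, hab, hac, hbc⟩ := Finset.two_lt_card_iff.1 h1
  by_cases ha : a = 1
  · exact ⟨b, b.2, c, c.2, fun h => hab (ha.trans (Subtype.ext h).symm), fun h => hac (ha.trans (Subtype.ext h).symm),
      fun h => hbc (Subtype.ext h)⟩
  by_cases hb : b = 1
  · exact ⟨a, a.2, c, c.2, fun h => ha (Subtype.ext h), fun h => hbc (hb.trans (Subtype.ext h).symm),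
      fun h => hac (Subtype.ext h)⟩
  exact ⟨a, a.2, b, b.2, fun h => ha (Subtype.ext h), fun h => hb (Subtype.ext h), fun h => hab (Subtype.ext h)⟩

/-- `|E| ≤ |C_E(x)|²` for an involution `x` normalizing the elementary abelian 2-group `E`. -/
theorem card_le_sq [Finite G] {E : Subgroup G} {x : G} (hx : x * x = 1) (hEc : ∀ a ∈ E, ∀ b ∈ E, a * b = b * a)
    (hE2 : ∀ a ∈ E, a * a = 1) (hEx : ∀ a ∈ E, x * a * x⁻¹ ∈ E) :
    Nat.card E ≤ Nat.card ↥(E ⊓ centralizer ({x} : Set G)) ^ 2 := by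
  have hxi : x⁻¹ = x := inv_eq_of_mul_eq_one_left hx
  let φ : ↥E →* ↥(E ⊓ centralizer ({x} : Set G)) :=
    { toFun := fun a => ⟨a * (x * a * x⁻¹), E.mul_mem a.2 (hEx a a.2), by
        refine mem_centralizer_iff.2 fun y hy => ?_
        rw [show y = x from hy]
        have h1 := hEc _ (hEx a a.2) _ a.2
        calc x * ((a : G) * (x * a * x⁻¹)) = (x * a * x⁻¹) * (x * x * a * (x⁻¹ * x⁻¹)) * x := by group
          _ = (x * a * x⁻¹) * a * x := by rw [hx, hxi, hx]; group
          _ = (a : G) * (x * a * x⁻¹) * x := by rw [h1]⟩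
      map_one' := Subtype.ext (by show (1 : G) * (x * 1 * x⁻¹) = 1; group)
      map_mul' := fun a b => Subtype.ext (by
        show ((a : G) * b) * (x * (a * b) * x⁻¹) = (a * (x * a * x⁻¹)) * (b * (x * b * x⁻¹))
        have h1 := hEc _ (hEx a a.2) _ b.2
        calc ((a : G) * b) * (x * (a * b) * x⁻¹) = a * (b * (x * a * x⁻¹)) * (x * b * x⁻¹) := by group
          _ = a * ((x * a * x⁻¹) * b) * (x * b * x⁻¹) := by rw [h1]
          _ = (a * (x * a * x⁻¹)) * (b * (x * b * x⁻¹)) := by group) }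
  have hk : Nat.card φ.ker ≤ Nat.card ↥(E ⊓ centralizer ({x} : Set G)) := by
    refine Nat.card_le_card_of_injective (fun a : φ.ker => (⟨(a : ↥E), (a : ↥E).2, ?_⟩ :
      ↥(E ⊓ centralizer ({x} : Set G)))) ?_
    · have h1 : ((a : ↥E) : G) * (x * ((a : ↥E) : G) * x⁻¹) = 1 := congrArg Subtype.val a.2
      have h2 : x * ((a : ↥E) : G) * x⁻¹ = a := by
        calc x * ((a : ↥E) : G) * x⁻¹ = (((a : ↥E) : G) * (a : ↥E)) * (x * ((a : ↥E) : G) * x⁻¹) := by
              rw [hE2 _ (a : ↥E).2, one_mul]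
          _ = a * (((a : ↥E) : G) * (x * ((a : ↥E) : G) * x⁻¹)) := by group
          _ = a := by rw [h1, mul_one]
      refine mem_centralizer_iff.2 ?_
      rintro _ rfl
      rw [mul_inv_eq_iff_eq_mul] at h2
      exact h2
    · intro a b hab
      apply Subtype.ext; apply Subtype.ext
      exact Subtype.mk.inj hab
  have hr : Nat.card φ.range ≤ Nat.card ↥(E ⊓ centralizer ({x} : Set G)) :=
    Nat.card_le_card_of_injective _ Subtype.val_injective
  have h1 : Nat.card E = Nat.card φ.ker * Nat.card φ.range := by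
    rw [Subgroup.card_eq_card_quotient_mul_card_subgroup φ.ker,
      Nat.card_congr (QuotientGroup.quotientKerEquivRange φ).toEquiv, mul_comm]
  rw [h1, pow_two]
  exact Nat.mul_le_mul hk hr

/-- If `A` is a subgroup such that `a ∈ X` or `a * c ∈ X` for all `a ∈ A` (`c ∈ A` fixed), then
`|A| ≤ 2 |A ∩ X|`. -/
theorem card_le_two [Finite G] {A X : Subgroup G} {c : G} (hc : c ∈ A) (h : ∀ a ∈ A, a ∈ X ∨ a * c ∈ X) :
    Nat.card A ≤ 2 * Nat.card ↥(A ⊓ X) := by
  classical
  have h1 : Nat.card A ≤ Nat.card (↥(A ⊓ X) ⊕ ↥(A ⊓ X)) := by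
    refine Nat.card_le_card_of_injective
      (fun a : ↥A => if ha : (a : G) ∈ X then Sum.inl ⟨a, a.2, ha⟩ else
        Sum.inr ⟨a * c, A.mul_mem a.2 hc, (h a a.2).resolve_left ha⟩) ?_
    intro a b hab
    by_cases ha : (a : G) ∈ X <;> by_cases hb : (b : G) ∈ X
    · simp only [ha, hb, dif_pos, Sum.inl.injEq] at hab
      exact Subtype.ext (Subtype.mk.inj hab)
    · simp [ha, hb] at hab
    · simp [ha, hb] at hab
    · simp only [ha, hb, dif_neg, not_false_eq_true, Sum.inr.injEq] at hab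
      exact Subtype.ext (mul_right_cancel (Subtype.mk.inj hab))
  rwa [Nat.card_sum, ← two_mul] at h1

/-- A 2-subgroup `T` of `X⟨x⟩`, `x ∈ T`, with a normal elementary abelian subgroup of order at least 8:
`C_X(x)` contains a four-group. -/
theorem exists_four [Finite G] {X T E : Subgroup G} {x : G} (hx2 : x * x = 1) (hxT : x ∈ T)
    (hTX : ∀ t ∈ T, t ∈ X ∨ t * x ∈ X) (hET : E ≤ T) (hEc : ∀ a ∈ E, ∀ b ∈ E, a * b = b * a)
    (hE2 : ∀ a ∈ E, a * a = 1) (hEn : ∀ t ∈ T, ∀ a ∈ E, t * a * t⁻¹ ∈ E) (h8 : 8 ≤ Nat.card E) :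
    ∃ v ∈ X, ∃ w ∈ X, v ≠ 1 ∧ w ≠ 1 ∧ v ≠ w ∧ v * v = 1 ∧ w * w = 1 ∧ v * w = w * v ∧
      v * x = x * v ∧ w * x = x * w := by
  by_cases hxE : x ∈ E
  · have h1 := card_le_two (A := E) (X := X) hxE fun a ha => hTX a (hET ha)
    obtain ⟨v, ⟨hvE, hvX⟩, w, ⟨hwE, hwX⟩, hv, hw, hne⟩ := exists_two (A := E ⊓ X) (by omega)
    exact ⟨v, hvX, w, hwX, hv, hw, hne, hE2 v hvE, hE2 w hwE, hEc v hvE w hwE, hEc v hvE x hxE, hEc w hwE x hxE⟩
  · set C : Subgroup G := E ⊓ centralizer ({x} : Set G) with hC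
    have hmC : ∀ c ∈ C, c * x = x * c := fun c hc => (mem_centralizer_iff.1 hc.2 x rfl).symm
    have h1 : Nat.card E ≤ Nat.card C ^ 2 := card_le_sq hx2 hEc hE2 (hEn x hxT)
    have h3 : 3 ≤ Nat.card C := by
      by_contra hcon
      have : Nat.card C ≤ 2 := by omega
      have h4 : Nat.card C ^ 2 ≤ 2 ^ 2 := Nat.pow_le_pow_left this 2
      omega
    have h4 : 4 ≤ Nat.card C := by
      have h5 : IsPGroup 2 C := by
        intro g
        refine ⟨1, Subtype.ext ?_⟩
        show ((g : G)) ^ (2 ^ 1) = 1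
        rw [pow_one, pow_two]
        exact hE2 g g.2.1
      have hf : Fact (Nat.Prime 2) := ⟨Nat.prime_two⟩
      obtain ⟨k, hk⟩ := IsPGroup.iff_card.1 h5
      rw [hk] at h3 ⊢
      have h6 : 2 ≤ k := by
        by_contra hcon
        have : k ≤ 1 := by omega
        have h7 : 2 ^ k ≤ 2 ^ 1 := Nat.pow_le_pow_right (by norm_num) this
        omega
      calc 4 = 2 ^ 2 := by norm_num
        _ ≤ 2 ^ k := Nat.pow_le_pow_right (by norm_num) h6
    by_cases hCX : C ≤ X
    · obtain ⟨v, hv, w, hw, hv1, hw1, hne⟩ := exists_two h4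
      exact ⟨v, hCX hv, w, hCX hw, hv1, hw1, hne, hE2 v hv.1, hE2 w hw.1, hEc v hv.1 w hw.1, hmC v hv, hmC w hw⟩
    · obtain ⟨c, hcC, hcX⟩ := SetLike.not_le_iff_exists.1 hCX
      have hcx : c * x ∈ X := (hTX c (hET hcC.1)).resolve_left hcX
      -- `x` lies outside `X`
      have hxX : x ∉ X := by
        intro hxX
        apply hcX
        have h5 := X.mul_mem hcx (X.inv_mem hxX)
        rwa [mul_inv_cancel_right] at h5
      -- a nontrivial element of `C ∩ X`
      obtain ⟨a, haC, b, hbC, ha1, hb1, hab⟩ := exists_two h4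
      have hex : ∃ v ∈ C, v ∈ X ∧ v ≠ 1 := by
        by_cases ha : a ∈ X
        · exact ⟨a, haC, ha, ha1⟩
        by_cases hb : b ∈ X
        · exact ⟨b, hbC, hb, hb1⟩
        refine ⟨a * b, C.mul_mem haC hbC, ?_, ?_⟩
        · have h5 := (hTX a (hET haC.1)).resolve_left ha
          have h6 := (hTX b (hET hbC.1)).resolve_left hb
          have h7 := X.mul_mem h5 h6
          have e : a * x * (b * x) = a * b := by
            calc a * x * (b * x) = a * (x * b) * x := by group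
              _ = a * (b * x) * x := by rw [hmC b hbC]
              _ = a * b * (x * x) := by group
              _ = a * b := by rw [hx2, mul_one]
          rwa [e] at h7
        · intro h5
          apply hab
          calc a = a * (b * b) := by rw [hE2 b hbC.1, mul_one]
            _ = (a * b) * b := by group
            _ = b := by rw [h5, one_mul]
      obtain ⟨v, hvC, hvX, hv1⟩ := hex
      have hcx' := hmC c hcC
      have hvx' := hmC v hvC
      refine ⟨v, hvX, c * x, hcx, hv1, ?_, ?_, hE2 v hvC.1, ?_, ?_, hvx', ?_⟩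
      · intro h5
        apply hxE
        have h6 : x = c := by
          calc x = (c * c) * x := by rw [hE2 c hcC.1, one_mul]
            _ = c * (c * x) := by group
            _ = c := by rw [h5, mul_one]
        rw [h6]
        exact hcC.1
      · intro h5
        apply hxE
        have h6 : x = c * v := by
          calc x = (c * c) * x := by rw [hE2 c hcC.1, one_mul]
            _ = c * (c * x) := by group
            _ = c * v := by rw [← h5]
        rw [h6]
        exact E.mul_mem hcC.1 hvC.1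
      · calc c * x * (c * x) = c * (x * c) * x := by group
          _ = c * (c * x) * x := by rw [hcx']
          _ = (c * c) * (x * x) := by group
          _ = 1 := by rw [hE2 c hcC.1, hx2, one_mul]
      · calc v * (c * x) = (v * c) * x := by group
          _ = (c * v) * x := by rw [hEc v hvC.1 c hcC.1]
          _ = c * (v * x) := by group
          _ = c * x * v := by rw [hvx']; group
      · calc c * x * x = (x * c) * x := by rw [hcx']
          _ = x * (c * x) := by group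

/-- The theorem: `X` of characteristic 2 type and of sectional 2-rank at least 5. -/
theorem eq_bot [Finite G] {X R : Subgroup G} {x : G} (h : Sit X R x) (hrig : Rig X)
    (hC : IsCharacteristicTwoType ↥X) (hr : ¬ SectionalPRankLE 2 4 ↥X) : R = ⊥ := by
  have hf : Fact (Nat.Prime 2) := ⟨Nat.prime_two⟩
  have hXn := h.normal
  set L : Subgroup G := X ⊔ zpowers x with hL
  have hxn : ∀ y : G, y ∈ zpowers x → y = 1 ∨ y = x := by
    intro y hy
    obtain ⟨n, rfl⟩ := mem_zpowers_iff.1 hy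
    rcases Int.even_or_odd' n with ⟨k, rfl | rfl⟩
    · left; rw [zpow_mul, zpow_two, h.sq, one_zpow]
    · right; rw [zpow_add, zpow_mul, zpow_two, h.sq, one_zpow, one_mul, zpow_one]
  have hmL : ∀ g ∈ L, g ∈ X ∨ g * x ∈ X := by
    intro g hg
    rw [hL, ← SetLike.mem_coe, normal_mul] at hg
    obtain ⟨a, ha, y, hy, rfl⟩ := hg
    rcases hxn y hy with rfl | rfl
    · left; simpa using ha
    · right
      show a * y * y ∈ X
      rw [mul_assoc, h.sq, mul_one]
      exact ha
  have hxL : x ∈ L := mem_sup_right (mem_zpowers x)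
  -- a Sylow 2-subgroup containing `x`
  have hx2 : IsPGroup 2 (zpowers (⟨x, hxL⟩ : ↥L)) := by
    intro g
    refine ⟨1, ?_⟩
    obtain ⟨n, hn⟩ := mem_zpowers_iff.1 g.2
    have h1 : (⟨x, hxL⟩ : ↥L) * ⟨x, hxL⟩ = 1 := Subtype.ext h.sq
    apply Subtype.ext
    show ((g : ↥L)) ^ (2 ^ 1) = 1
    rw [← hn, pow_one, ← zpow_natCast, ← zpow_mul, mul_comm, zpow_mul, zpow_natCast, pow_two, h1, one_zpow]
  obtain ⟨T, hT⟩ := hx2.exists_le_sylow
  have hxT : (⟨x, hxL⟩ : ↥L) ∈ (T : Subgroup ↥L) := hT (mem_zpowers _)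
  -- a normal elementary abelian subgroup
  have hE : ∃ E : Subgroup ↥(T : Subgroup ↥L), E.Normal ∧ IsMulCommutative E ∧ (∀ a ∈ E, a ^ 2 = 1) ∧
      4 < Nat.card E := by
    by_contra hcon
    push Not at hcon
    apply hr
    have h1 : SectionalPRankLE 2 4 ↥(T : Subgroup ↥L) := S0501.result T.isPGroup' fun A hA hAc hA2 => hcon A hA hAc hA2
    have h2 : SectionalPRankLE 2 4 ↥L := (GH.Rank.sylow_iff T).1 h1
    exact GH.Rank.of_le le_sup_left h2
  obtain ⟨E, hEn, hEc, hE2, hE4⟩ := hE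
  set f : ↥(T : Subgroup ↥L) →* G := L.subtype.comp (T : Subgroup ↥L).subtype with hf'
  have hfi : Function.Injective f := L.subtype_injective.comp (T : Subgroup ↥L).subtype_injective
  have hcard : Nat.card (E.map f) = Nat.card E := card_map_of_injective hfi
  have h8 : 8 ≤ Nat.card (E.map f) := by
    rw [hcard]
    have h5 : IsPGroup 2 E := T.isPGroup'.to_subgroup E
    obtain ⟨k, hk⟩ := IsPGroup.iff_card.1 h5
    rw [hk] at hE4 ⊢
    have h6 : 3 ≤ k := by
      by_contra hcon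
      have : k ≤ 2 := by omega
      have h7 : 2 ^ k ≤ 2 ^ 2 := Nat.pow_le_pow_right (by norm_num) this
      omega
    calc 8 = 2 ^ 3 := by norm_num
      _ ≤ 2 ^ k := Nat.pow_le_pow_right (by norm_num) h6
  obtain ⟨v, hvX, w, hwX, hv1, hw1, hne, hv2, hw2, hvw, hvx, hwx⟩ :=
    exists_four (X := X) (T := f.range) (E := E.map f) (x := x) h.sq ⟨⟨⟨x, hxL⟩, hxT⟩, rfl⟩
      (by rintro _ ⟨t, rfl⟩; exact hmL _ t.1.2) (by rintro _ ⟨e, -, rfl⟩; exact ⟨e, rfl⟩)
      (by
        rintro _ ⟨a, ha, rfl⟩ _ ⟨b, hb, rfl⟩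
        rw [← map_mul, ← map_mul]
        have h1 := hEc.is_comm.comm (⟨a, ha⟩ : E) ⟨b, hb⟩
        exact congrArg f (congrArg Subtype.val h1))
      (by
        rintro _ ⟨a, ha, rfl⟩
        rw [← map_mul, ← pow_two, hE2 a ha, map_one])
      (by
        rintro _ ⟨t, rfl⟩ _ ⟨a, ha, rfl⟩
        exact ⟨t * a * t⁻¹, hEn.conj_mem a ha t, by rw [map_mul, map_mul, map_inv]⟩) h8
  exact eq_bot_of_four h hrig hC hvX hwX hv1 hw1 hne hv2 hw2 hvw hvx hwx

end Cfsg.Agent.UGT.EndCharTwo
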