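import Cfsg.Agent.UGT.RankOneR
import Cfsg.Agent.GH.L2AutD

/-!
# Supply of `RankOneR.Cfg`

`exists_cfg` : `L` a 2-component of `C(a)`, `L / O(L) ≅ PSL(2,F)` (`GH.L2Aut.Rep`), `x` an involution commuting
with `a`, normalizing `L`, inducing an element of `PGL ∖ Inn` on `L / O(L)`; all 2-elements of `N_{C(a)}(L)` act as
elements of `PGL`. Then `∃ T Q P d r, Cfg a x d r L T Q P`.
-/

set_option autoImplicit false

open Cfsg Subgroup
open Cfsg.Agent.SignalizersComponents Cfsg.Agent.Lib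
open Cfsg.Agent.SignalizersComponents.IntrinsicBasic
open Cfsg.Agent.SignalizersComponents.PLayerAut
open Cfsg.Agent.Intrinsic.Basic Cfsg.Agent.Intrinsic.Cen Cfsg.Agent.Intrinsic.Diag
open Cfsg.Agent.McLLyComp.Act
open Cfsg.Agent.GH.L2Aut
open scoped commutatorElement

namespace Cfsg.Agent.UGT.RankOneR

variable {G : Type*} [Group G]

/-- maximal 2-subgroups of `H` above `U` -/
theorem exists_max [Finite G] {H U : Subgroup G} (hU : IsPGroup 2 U) (hle : U ≤ H) :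
    ∃ T : Subgroup G, IsPGroup 2 T ∧ U ≤ T ∧ T ≤ H ∧
      ∀ V : Subgroup G, IsPGroup 2 V → T ≤ V → V ≤ H → V ≤ T := by
  have h1 : IsPGroup 2 (U.subgroupOf H) := hU.comap_of_injective _ H.subtype_injective
  obtain ⟨S, hS⟩ := h1.exists_le_sylow
  refine ⟨(S : Subgroup H).map H.subtype, S.2.map _, ?_, map_subtype_le _, ?_⟩
  · intro u hu
    exact ⟨⟨u, hle hu⟩, hS hu, rfl⟩
  · intro V hV hSV hVH v hv
    have h2 : IsPGroup 2 (V.subgroupOf H) := hV.comap_of_injective _ H.subtype_injective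
    have h3 : (S : Subgroup H) ≤ V.subgroupOf H := fun s hs => hSV ⟨s, hs, rfl⟩
    have h4 := S.3 h2 h3
    have h5 : (⟨v, hVH hv⟩ : H) ∈ V.subgroupOf H := hv
    rw [h4] at h5
    exact ⟨_, h5, rfl⟩

theorem mem_of_central [Finite G] {H T : Subgroup G} (hT : IsPGroup 2 T) (hTH : T ≤ H)
    (hmax : ∀ V : Subgroup G, IsPGroup 2 V → T ≤ V → V ≤ H → V ≤ T) {x : G} (hx : x * x = 1)
    (hxH : x ∈ H) (hc : ∀ t ∈ T, t * x = x * t) : x ∈ T := by
  have h1 : IsPGroup 2 (zpowers x) := by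
    rintro ⟨y, hy⟩
    obtain ⟨k, rfl⟩ := mem_zpowers_iff.mp hy
    refine ⟨1, Subtype.ext ?_⟩
    change (x ^ k) ^ 2 ^ 1 = 1
    rw [pow_one, pow_two, ← (Commute.refl x).mul_zpow, hx, one_zpow]
  have h2 : T ≤ normalizer (zpowers x : Set G) := by
    intro t ht
    rw [mem_normalizer_iff]
    have h3 : ∀ y, y ∈ zpowers x → t * y * t⁻¹ = y := by
      intro y hy
      obtain ⟨k, rfl⟩ := mem_zpowers_iff.mp hy
      rw [(show Commute t x from hc t ht).zpow_right k]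
      group
    intro y
    constructor
    · intro hy
      rw [h3 y hy]
      exact hy
    · intro hy
      have h4 : y = t⁻¹ * (t * y * t⁻¹) * t := by group
      have h5 := h3 _ hy
      have h6 : t * y * t⁻¹ = y := by
        have h7 : t * (t * y * t⁻¹) * t⁻¹ = t * y * t⁻¹ := h5
        exact mul_left_cancel (mul_right_cancel h7)
      rw [← h6]
      exact hy
  have h3 : IsPGroup 2 (T ⊔ zpowers x : Subgroup G) := IsPGroup.to_sup_of_normal_right' hT h1 h2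
  exact hmax _ h3 le_sup_left (sup_le hTH (by rw [zpowers_le]; exact hxH))
    (le_sup_right (a := T) (mem_zpowers x))

theorem exists_cfg [Finite G] {x a : G} {L : Subgroup G} (ha : a * a = 1) (ha1 : a ≠ 1)
    (hx : x * x = 1) (hax : a * x = x * a) (hL : IsComp (centralizer ({a} : Set G)) L)
    (hxL : x ∈ normalizer (L : Set G)) {F : Type*} [Field F] [Finite F]
    (R : GH.L2Aut.Rep F (↥L ⧸ oddCore ↥L)) (hxo : act L ⟨x, hxL⟩ ∉ Inn (↥L ⧸ oddCore ↥L))
    (hPGL : ∀ (t : G) (ht : t ∈ normalizer (L : Set G)), t ∈ centralizer ({a} : Set G) →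
      (∃ n, t ^ 2 ^ n = 1) → act L ⟨t, ht⟩ ∈ R.PGL) :
    ∃ (T Q P : Subgroup G) (d r : G), Cfg a x d r L T Q P := by
  have h2 : Fact (Nat.Prime 2) := ⟨Nat.prime_two⟩
  obtain ⟨N, hN⟩ : ∃ N, N = centralizer ({a} : Set G) ⊓ normalizer (L : Set G) := ⟨_, rfl⟩
  obtain ⟨U, hUp, -, hUN, hUmax⟩ := exists_max (G := G) (H := N ⊓ centralizer ({x} : Set G))
    (U := ⊥) (IsPGroup.of_bot) bot_le
  obtain ⟨T, hTp, hUT, hTN, hTmax⟩ := exists_max hUp (hUN.trans inf_le_left)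
  have hLN : L ≤ N := hN ▸ le_inf hL.le le_normalizer
  have haL : a ∈ normalizer (L : Set G) := by
    rw [mem_normalizer_iff]
    intro y
    have key : ∀ z ∈ L, a * z * a⁻¹ = z := by
      intro z hz
      have h1 : z * a = a * z := mem_centralizer_singleton_iff.mp (hL.le hz)
      rw [← h1]; group
    constructor
    · intro hy
      rw [key y hy]
      exact hy
    · intro hy
      have h1 := key _ hy
      have h3 : a * y * a⁻¹ = y := mul_left_cancel (mul_right_cancel h1)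
      rw [← h3]
      exact hy
  have haN : a ∈ N := hN ▸ ⟨mem_centralizer_singleton_iff.mpr rfl, haL⟩
  have hxN : x ∈ N := hN ▸ ⟨mem_centralizer_singleton_iff.mpr hax.symm, hxL⟩
  have hxU : x ∈ U := mem_of_central hUp hUN hUmax hx ⟨hxN, mem_centralizer_singleton_iff.mpr rfl⟩
    fun t ht => mem_centralizer_singleton_iff.mp (hUN ht).2
  have hTC : T ≤ centralizer ({a} : Set G) := hTN.trans (hN ▸ inf_le_left)
  have hTL : T ≤ normalizer (L : Set G) := hTN.trans (hN ▸ inf_le_right)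
  have haT : a ∈ T := mem_of_central hTp hTN hTmax ha haN fun t ht =>
    mem_centralizer_singleton_iff.mp (hTC ht)
  have hxT : x ∈ T := hUT hxU
  have hTx : T ⊓ centralizer ({x} : Set G) ≤ U :=
    hUmax _ (hTp.to_le inf_le_left) (le_inf hUT (hUN.trans inf_le_right))
      (inf_le_inf_right _ hTN)
  -- 2-elements
  have hpow : ∀ t ∈ T, ∃ n, t ^ 2 ^ n = 1 := by
    intro t ht
    obtain ⟨n, hn⟩ := hTp ⟨t, ht⟩
    exact ⟨n, congrArg Subtype.val hn⟩
  have hcore : ∀ t ∈ T, t ∈ core L → t = 1 := by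
    intro t ht htc
    obtain ⟨n, hn⟩ := hpow t ht
    exact eq_one_of_mem_core htc hn
  -- `Q` and `P`
  obtain ⟨Q, hQ⟩ : ∃ Q : Subgroup G, ∀ t, t ∈ Q ↔ t ∈ T ∧ Fixes t L :=
    ⟨{ carrier := {t | t ∈ T ∧ Fixes t L}
       mul_mem' := fun ha hb => ⟨mul_mem ha.1 hb.1, fixes_mul ha.2 hb.2⟩
       one_mem' := ⟨one_mem _, fixes_one L⟩
       inv_mem' := fun ha => ⟨inv_mem ha.1, fixes_inv ha.2⟩ }, fun t => Iff.rfl⟩
  obtain ⟨P, hP⟩ : ∃ P : Subgroup G, ∀ t, t ∈ P ↔ t ∈ T ∧ t ∈ L := ⟨T ⊓ L, fun t => mem_inf⟩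
  -- the quotient
  let π : ↥L →* ↥L ⧸ oddCore ↥L := QuotientGroup.mk' _
  have hPL : ∀ t ∈ P, t ∈ L := fun t ht => ((hP t).mp ht).2
  have hPT : P ≤ T := fun t ht => ((hP t).mp ht).1
  have hinj : ∀ (u v : G) (hu : u ∈ P) (hv : v ∈ P), π ⟨u, hPL u hu⟩ = π ⟨v, hPL v hv⟩ → u = v := by
    intro u v hu hv h
    have h1 := (mk_eq_iff (hPL u hu) (hPL v hv)).mp h
    have h3 := hcore _ (mul_mem (inv_mem (hPT hu)) (hPT hv)) h1
    rwa [inv_mul_eq_one] at h3
  -- the Sylow subgroup of the quotient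
  have hPmax : ∀ V : Subgroup G, IsPGroup 2 V → P ≤ V → V ≤ L → V ≤ P := by
    -- `L` normal in `N`, `T` Sylow in `N`
    intro V hV hPV hVL
    obtain ⟨S, hS⟩ := (hTp.comap_of_injective (H := T) N.subtype N.subtype_injective).exists_le_sylow
    have hST : (S : Subgroup N) = T.subgroupOf N := by
      apply le_antisymm _ hS
      intro s hs
      have h3 := hTmax ((S : Subgroup N).map N.subtype) (S.2.map _)
        (fun t ht => ⟨⟨t, hTN ht⟩, hS ht, rfl⟩) (map_subtype_le _)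
      exact h3 ⟨s, hs, rfl⟩
    have hLn : (L.subgroupOf N).Normal :=
      normal_subgroupOf_of_le_normalizer (hN ▸ inf_le_right)
    -- a Sylow 2-subgroup of `L.subgroupOf N` containing `V`
    obtain ⟨W, hW⟩ := (hV.comap_of_injective (H := V) N.subtype N.subtype_injective).exists_le_sylow
    obtain ⟨g, hg⟩ := MulAction.exists_smul_eq N W S
    -- `V ≤ W ∩ L`, conjugate to `T ∩ L`
    have h3 : Nat.card V ≤ Nat.card P := by
      let f : V → P := fun v => ⟨(g : G) * v * (g : G)⁻¹, (hP _).mpr ⟨by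
        have h4 : (⟨v, hLN (hVL v.2)⟩ : N) ∈ (W : Subgroup N) := hW v.2
        have h5 : g * ⟨v, hLN (hVL v.2)⟩ * g⁻¹ ∈ ((g • W : Sylow 2 N) : Subgroup N) := by
          rw [Sylow.coe_subgroup_smul]
          exact Subgroup.smul_mem_pointwise_smul _ (MulAut.conj g) _ h4
        rw [hg] at h5
        change _ ∈ (S : Subgroup N) at h5
        rw [hST] at h5
        exact h5, by
        have h4 : (⟨v, hLN (hVL v.2)⟩ : N) ∈ L.subgroupOf N := hVL v.2
        exact hLn.conj_mem _ h4 g⟩⟩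
      refine Nat.card_le_card_of_injective f ?_
      intro v v' h
      have h4 : (g : G) * v * (g : G)⁻¹ = (g : G) * v' * (g : G)⁻¹ := congrArg Subtype.val h
      exact Subtype.ext (mul_left_cancel (mul_right_cancel h4))
    exact (Subgroup.eq_of_le_of_card_ge hPV h3).ge
  have hPp : IsPGroup 2 P := hTp.to_le hPT
  let P' : Sylow 2 ↥L :=
    { toSubgroup := P.subgroupOf L
      isPGroup' := hPp.comap_of_injective _ L.subtype_injective
      is_maximal' := by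
        intro V hV hPV
        apply le_antisymm _ hPV
        intro v hv
        have h3 := hPmax (V.map L.subtype) (hV.map _)
          (fun p hp => ⟨⟨p, hPL p hp⟩, hPV hp, rfl⟩) (map_subtype_le _)
        exact h3 ⟨v, hv, rfl⟩ }
  let S : Sylow 2 (↥L ⧸ oddCore ↥L) := P'.mapSurjective (QuotientGroup.mk'_surjective (oddCore ↥L))
  have hS : ∀ y, y ∈ S ↔ ∃ (p : G) (hp : p ∈ P), π ⟨p, hPL p hp⟩ = y := by
    intro y
    constructor
    · rintro ⟨⟨p, hpL⟩, hp, rfl⟩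
      exact ⟨p, hp, rfl⟩
    · rintro ⟨p, hp, rfl⟩
      exact ⟨⟨p, hPL p hp⟩, hp, rfl⟩
  -- the action of `x`
  obtain ⟨φ, hφ⟩ : ∃ φ, φ = act L ⟨x, hxL⟩ := ⟨_, rfl⟩
  rw [← hφ] at hxo
  have hφP : φ ∈ R.PGL := hφ ▸ hPGL x hxL (mem_centralizer_singleton_iff.mpr hax.symm)
    ⟨1, by rw [pow_one, pow_two, hx]⟩
  have hφ2 : φ * φ = 1 := by
    rw [hφ, ← act_mul hxL hxL]
    rw [act_congr (mul_mem hxL hxL) hx]
    exact map_one (act L)
  have hconjP : ∀ t ∈ T, ∀ p ∈ P, t * p * t⁻¹ ∈ P := fun t ht p hp =>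
    (hP _).mpr ⟨mul_mem (mul_mem ht (hPT hp)) (inv_mem ht), conj_mem (hTL ht) (hPL p hp)⟩
  have hφS : ∀ y ∈ S, φ y ∈ S := by
    intro y hy
    obtain ⟨p, hp, rfl⟩ := (hS y).mp hy
    rw [hφ]
    exact (hS _).mpr ⟨x * p * x⁻¹, hconjP x hxT p hp, rfl⟩
  obtain ⟨d', r', hdih, hφd, hφr⟩ := R.dtype_frame S hφP hxo hφ2 hφS
  obtain ⟨d, hd, hd'⟩ := (hS _).mp hdih.d_mem
  obtain ⟨r, hr, hr'⟩ := (hS _).mp hdih.r_mem
  let f : P →* ↥L ⧸ oddCore ↥L := π.comp (inclusion hPL)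
  have hf : Function.Injective f := by
    rintro ⟨u, hu⟩ ⟨v, hv⟩ h
    exact Subtype.ext (hinj u v hu hv h)
  have hdihP : Dih P d r := by
    have h3 : Dih ((⊤ : Subgroup P).map f) (f ⟨d, hd⟩) (f ⟨r, hr⟩) := by
      have e : (⊤ : Subgroup P).map f = (S : Subgroup (↥L ⧸ oddCore ↥L)) := by
        ext y
        constructor
        · rintro ⟨⟨p, hp⟩, -, rfl⟩
          exact (hS _).mpr ⟨p, hp, rfl⟩
        · intro hy
          obtain ⟨p, hp, rfl⟩ := (hS y).mp hy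
          exact ⟨⟨p, hp⟩, mem_top _, rfl⟩
      rw [e]
      have e1 : f ⟨d, hd⟩ = d' := hd'
      have e2 : f ⟨r, hr⟩ = r' := hr'
      rw [e1, e2]
      exact hdih
    have h4 := Dih.comap f hf h3
    have h5 := Dih.map P.subtype P.subtype_injective h4
    have h6 : (⊤ : Subgroup P).map P.subtype = P := by
      rw [← MonoidHom.range_eq_map, range_subtype]
    rw [h6] at h5
    exact h5
  -- elements of `T`
  have hact : ∀ p (hp : p ∈ P), act L ⟨p, hTL (hPT hp)⟩ = MulAut.conj (π ⟨p, hPL p hp⟩) := by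
    intro p hp
    exact act_of_mem (hPL p hp)
  let A : Subgroup (MulAut (↥L ⧸ oddCore ↥L)) := (T.subgroupOf (normalizer (L : Set G))).map (act L)
  have hA : IsPGroup 2 A :=
    (hTp.comap_of_injective (H := T) (normalizer (L : Set G)).subtype (subtype_injective _)).map _
  have hSA : (S : Subgroup (↥L ⧸ oddCore ↥L)).map MulAut.conj ≤ A := by
    rintro _ ⟨y, hy, rfl⟩
    obtain ⟨p, hp, rfl⟩ := (hS y).mp hy
    exact ⟨⟨p, hTL (hPT hp)⟩, hPT hp, hact p hp⟩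
  have hinn : ∀ t (ht : t ∈ T), act L ⟨t, hTL ht⟩ ∈ Inn (↥L ⧸ oddCore ↥L) →
      ∃ q ∈ Q, ∃ p ∈ P, t = q * p := by
    rintro t ht ⟨y, hy⟩
    have h3 : MulAut.conj y ∈ A := by
      rw [hy]
      exact ⟨⟨t, hTL ht⟩, ht, rfl⟩
    have h4 : y ∈ S := R.mem_of_conj_mem S hA hSA h3
    obtain ⟨p, hp, rfl⟩ := (hS y).mp h4
    have h5 : Fixes (t * p⁻¹) L := by
      rw [← act_eq_iff (hTL ht) (hTL (hPT hp)), hact p hp]
      exact hy.symm
    exact ⟨t * p⁻¹, (hQ _).mpr ⟨mul_mem ht (inv_mem (hPT hp)), h5⟩, p, hp, by group⟩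
  have hdisj : ∀ t, t ∈ Q → t ∈ P → t = 1 := by
    intro t htQ htP
    obtain ⟨htT, htf⟩ := (hQ t).mp htQ
    have h3 : act L ⟨t, htf.1⟩ = 1 := (act_eq_one_iff htf.1).mpr htf
    have h4 := hact t htP
    rw [h3] at h4
    have h5 : π ⟨t, hPL t htP⟩ = 1 := R.conj_injective (by rw [← h4, map_one])
    have h6 : t ∈ core L := (mk_eq_one_iff (hPL t htP)).mp h5
    exact hcore t htT h6
  refine ⟨T, Q, P, d, r,
    { a2 := ha
      a1 := ha1
      x2 := hx
      comp := hL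
      TC := hTC
      TN := hTL
      Tp := hTp
      syl := fun V hV hTV hVa hVL => hTmax V hV hTV (hN ▸ le_inf hVa hVL)
      aT := haT
      xT := hxT
      sylx := fun V hV hTV hVa hVL hVx => (hUmax V hV ((le_inf hUT (hUN.trans inf_le_right)).trans hTV)
        (le_inf (hN ▸ le_inf hVa hVL) hVx)).trans hUT
      Qdef := hQ
      Pdef := hP
      disj := hdisj
      comm := ?_
      dih := hdihP
      xd := ?_
      xr := ?_
      cov := ?_ }⟩
  · intro q hq p hp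
    obtain ⟨hqT, hqf⟩ := (hQ q).mp hq
    have h3 : ⁅q, p⁆ ∈ core L := hqf.2 p (hPL p hp)
    have h4 : ⁅q, p⁆ ∈ T := by
      rw [commutatorElement_def]
      exact mul_mem (mul_mem (mul_mem hqT (hPT hp)) (inv_mem hqT)) (inv_mem (hPT hp))
    exact commutatorElement_eq_one_iff_mul_comm.mp (hcore _ h4 h3)
  · refine hinj _ _ (hconjP x hxT d hd) (inv_mem hd) ?_
    have h3 : φ (π ⟨d, hPL d hd⟩) = π ⟨x * d * x⁻¹, hPL _ (hconjP x hxT d hd)⟩ := by
      rw [hφ]; rfl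
    rw [← h3, hd', hφd, ← hd', ← map_inv]
    rfl
  · refine hinj _ _ (hconjP x hxT r hr) (mul_mem hd hr) ?_
    have h3 : φ (π ⟨r, hPL r hr⟩) = π ⟨x * r * x⁻¹, hPL _ (hconjP x hxT r hr)⟩ := by
      rw [hφ]; rfl
    rw [← h3, hr', hφr, ← hd', ← hr', ← map_mul]
    rfl
  · intro t ht
    by_cases h3 : act L ⟨t, hTL ht⟩ ∈ Inn (↥L ⧸ oddCore ↥L)
    · obtain ⟨q, hq, p, hp, h4⟩ := hinn t ht h3
      exact ⟨q, hq, p, hp, Or.inl h4⟩
    · have h5 : act L ⟨t * x, hTL (mul_mem ht hxT)⟩ ∈ Inn (↥L ⧸ oddCore ↥L) := by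
        rw [act_mul (hTL ht) hxL, ← hφ]
        exact R.mul_mem_inn (hPGL t (hTL ht) (hTC ht) (hpow t ht)) h3 hφP hxo
      obtain ⟨q, hq, p, hp, h4⟩ := hinn (t * x) (mul_mem ht hxT) h5
      refine ⟨q, hq, p, hp, Or.inr ?_⟩
      rw [← h4, mul_assoc, hx, mul_one]

/-- `a` is the only involution of `C(a) ∩ C(x)` centralizing `L / O(L)`: `r(G) ≤ 4`, or some configuration `Cfg` with
`T` a Sylow 2-subgroup of `G` and a homomorphism `G → {±1}` with `x ↦ -1`. -/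
theorem rank_or [Finite G] {x a : G} {L : Subgroup G} (ha : a * a = 1) (ha1 : a ≠ 1)
    (hx : x * x = 1) (hax : a * x = x * a) (hL : IsComp (centralizer ({a} : Set G)) L)
    (hxL : x ∈ normalizer (L : Set G)) {F : Type*} [Field F] [Finite F]
    (R : GH.L2Aut.Rep F (↥L ⧸ oddCore ↥L)) (hxo : act L ⟨x, hxL⟩ ∉ Inn (↥L ⧸ oddCore ↥L))
    (hPGL : ∀ (t : G) (ht : t ∈ normalizer (L : Set G)), t ∈ centralizer ({a} : Set G) →
      (∃ n, t ^ 2 ^ n = 1) → act L ⟨t, ht⟩ ∈ R.PGL)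
    (hR : ∀ b : G, b * b = 1 → b * a = a * b → b * x = x * b → Fixes b L → b = 1 ∨ b = a) :
    SectionalPRankLE 2 4 G ∨ ∃ (T Q P : Subgroup G) (d r : G), Cfg a x d r L T Q P ∧
      (∀ U : Subgroup G, IsPGroup 2 U → T ≤ U → U ≤ T) ∧
      (∀ U : Subgroup G, IsPGroup 2 U → T ⊓ centralizer ({x} : Set G) ≤ U →
          U ≤ centralizer ({x} : Set G) → U ≤ T ⊓ centralizer ({x} : Set G)) ∧
      (∃ w ∈ Q, w * x = x * w ∧ w * w = a) ∧ (∃ q ∈ Q, q * x ≠ x * q) ∧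
        ∃ f : G →* ℤˣ, f x = -1 := by
  obtain ⟨T, Q, P, d, r, C⟩ := exists_cfg ha ha1 hx hax hL hxL R hxo hPGL
  have h1 : Cfg.One x a Q := by
    intro q hq hqx hqq
    obtain ⟨h2, h3⟩ := (C.Qdef q).mp hq
    exact hR q hqq (C.a_comm h2) hqx h3
  rcases C.main h1 with h2 | ⟨h2, h3, h4, h5, h6⟩
  · exact Or.inl h2
  · exact Or.inr ⟨T, Q, P, d, r, C, h2, h3, h4, h5, h6⟩

end Cfsg.Agent.UGT.RankOneR
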