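import Mathlib
import Cfsg.Prelude.Def_TwoFusion

set_option linter.style.haveILetI false

/-!
# Fusion control by one central involution (LEMMA FC)

`M ≤ X`, `S` a maximal 2-subgroup of `M`, `u ∈ S` centralised by `S`, and
`g u g⁻¹ ∈ M → g ∈ M`.  Then `S` is Sylow in `X`, `M` controls `X`-fusion in `S`, and `S ⊓ N` is
strongly closed in `S` for every `N` normalised by `M`.
-/

namespace Cfsg.Agent.UGT.FusCtl

open Subgroup

variable {X : Type*} [Group X] [Finite X]

/-- the standing hypothesis -/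
structure Ctl (M S : Subgroup X) (u : X) : Prop where
  le : S ≤ M
  pg : IsPGroup 2 S
  mx : ∀ T : Subgroup X, T ≤ M → IsPGroup 2 T → S ≤ T → T ≤ S
  mem : u ∈ S
  cen : ∀ s ∈ S, s * u = u * s
  fix : ∀ g : X, g * u * g⁻¹ ∈ M → g ∈ M

variable {M S : Subgroup X} {u : X}

/-- `S` is a Sylow 2-subgroup of `X` -/
theorem Ctl.exists_sylow (h : Ctl M S u) : ∃ P : Sylow 2 X, (P : Subgroup X) = S := by
  obtain ⟨P, hP⟩ := h.pg.exists_le_sylow
  refine ⟨P, le_antisymm ?_ hP⟩
  by_contra hne
  haveI : Fact (Nat.Prime 2) := ⟨Nat.prime_two⟩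
  -- `P ⊓ M = S`
  have hPM : ∀ x ∈ (P : Subgroup X), x ∈ M → x ∈ S := by
    intro x hx hxM
    exact h.mx ((P : Subgroup X) ⊓ M) inf_le_right
      (P.isPGroup'.to_le inf_le_left) (le_inf hP h.le) ⟨hx, hxM⟩
  -- normaliser condition in `P`
  haveI : Group.IsNilpotent (P : Subgroup X) := P.isPGroup'.isNilpotent
  have hnc := Group.normalizerCondition_of_isNilpotent (G := (P : Subgroup X))
  have hlt : S.subgroupOf (P : Subgroup X) < ⊤ := by
    rw [lt_top_iff_ne_top]
    intro htop
    exact hne (Subgroup.subgroupOf_eq_top.1 htop)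
  have := hnc _ hlt
  obtain ⟨y, hy, hyS⟩ := SetLike.exists_of_lt this
  apply hyS
  rw [Subgroup.mem_subgroupOf]
  apply hPM _ y.2
  apply h.fix
  rw [Subgroup.mem_normalizer_iff] at hy
  have := (hy ⟨u, hP h.mem⟩).1 (by rw [Subgroup.mem_subgroupOf]; exact h.mem)
  rw [Subgroup.mem_subgroupOf] at this
  exact h.le (by simpa using this)

/-- a 2-subgroup of `X` is conjugate into `S` -/
theorem Ctl.conj_le (h : Ctl M S u) {T : Subgroup X} (hT : IsPGroup 2 T) :
    ∃ a : X, ∀ t ∈ T, a * t * a⁻¹ ∈ S := by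
  haveI : Fact (Nat.Prime 2) := ⟨Nat.prime_two⟩
  obtain ⟨P, hP⟩ := h.exists_sylow
  obtain ⟨R, hR⟩ := hT.exists_le_sylow
  obtain ⟨a, ha⟩ := MulAction.exists_smul_eq X R P
  refine ⟨a, fun t ht => ?_⟩
  rw [← hP, ← ha]
  have : a * t * a⁻¹ = MulAut.conj a • t := by simp [MulAut.smul_def, MulAut.conj_apply]
  rw [this, Sylow.smul_def, Sylow.pointwise_smul_def]
  exact Subgroup.smul_mem_pointwise_smul _ _ _ (hR ht)

/-- `M` controls fusion in `S` -/
theorem Ctl.control (h : Ctl M S u) {t g : X} (ht : t ∈ S) (hg : g * t * g⁻¹ ∈ S) :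
    ∃ m ∈ M, m * t * m⁻¹ = g * t * g⁻¹ := by
  haveI : Fact (Nat.Prime 2) := ⟨Nat.prime_two⟩
  set t' := g * t * g⁻¹ with ht'
  set C := Subgroup.centralizer ({t'} : Set X) with hC
  -- `A = g (S ∩ C(t)) g⁻¹`, `B = S ∩ C(t')` as subgroups of `C`
  let A : Subgroup X := (S ⊓ Subgroup.centralizer ({t} : Set X)).map (MulAut.conj g).toMonoidHom
  let B : Subgroup X := S ⊓ C
  have hAC : A ≤ C := by
    rintro _ ⟨x, ⟨_, hx⟩, rfl⟩
    rw [hC, Subgroup.mem_centralizer_singleton_iff]
    have hx : x ∈ Subgroup.centralizer ({t} : Set X) := hx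
    rw [Subgroup.mem_centralizer_singleton_iff] at hx
    simp only [MulEquiv.toMonoidHom_eq_coe, MonoidHom.coe_coe, MulAut.conj_apply, ht']
    calc g * x * g⁻¹ * (g * t * g⁻¹) = g * (x * t) * g⁻¹ := by group
      _ = g * (t * x) * g⁻¹ := by rw [hx]
      _ = g * t * g⁻¹ * (g * x * g⁻¹) := by group
  have hA2 : IsPGroup 2 A := (h.pg.to_le inf_le_left).map _
  have hB2 : IsPGroup 2 B := h.pg.to_le inf_le_left
  have hA2' : IsPGroup 2 (A.subgroupOf C) :=
    hA2.of_injective ((Subgroup.inclusion (inf_le_left : A ⊓ C ≤ A)).comp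
      ((Subgroup.subgroupOfEquivOfLe (inf_le_right : A ⊓ C ≤ C)).toMonoidHom.comp
        (MulEquiv.subgroupCongr (by rw [Subgroup.inf_subgroupOf_right])).toMonoidHom)) (by
      intro a b hab
      have := congrArg Subtype.val hab
      apply Subtype.ext
      apply Subtype.ext
      simpa using this)
  have hB2' : IsPGroup 2 (B.subgroupOf C) :=
    hB2.of_injective ((Subgroup.subgroupOfEquivOfLe (inf_le_right : B ≤ C)).toMonoidHom)
      (MulEquiv.injective _)
  obtain ⟨PA, hPA⟩ := hA2'.exists_le_sylow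
  obtain ⟨PB, hPB⟩ := hB2'.exists_le_sylow
  obtain ⟨c, hc⟩ := MulAction.exists_smul_eq C PA PB
  -- `P2` as a subgroup of `X`
  have hP2 : IsPGroup 2 ((PB : Subgroup C).map C.subtype) := PB.isPGroup'.map _
  obtain ⟨a, ha⟩ := h.conj_le hP2
  have huC : ∀ y ∈ S, u * y = y * u := fun y hy => (h.cen y hy).symm
  -- `u ∈ B`
  have huB : u ∈ B := by
    refine Subgroup.mem_inf.2 ⟨h.mem, ?_⟩
    rw [hC, Subgroup.mem_centralizer_singleton_iff]; exact huC _ hg
  have haM : a ∈ M := by
    apply h.fix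
    apply h.le
    apply ha
    exact ⟨⟨u, (Subgroup.mem_inf.1 huB).2⟩, hPB (by rw [Subgroup.mem_subgroupOf]; exact huB), rfl⟩
  -- `g u g⁻¹ ∈ A`
  have hguA : g * u * g⁻¹ ∈ A := by
    refine ⟨u, Subgroup.mem_inf.2 ⟨h.mem, ?_⟩, by simp⟩
    rw [Subgroup.mem_centralizer_singleton_iff]; exact huC _ ht
  have hcA : (c : X) * (g * u * g⁻¹) * (c : X)⁻¹ ∈ (PB : Subgroup C).map C.subtype := by
    refine ⟨c * ⟨g * u * g⁻¹, hAC hguA⟩ * c⁻¹, ?_, by simp⟩
    rw [← hc]
    have : c * (⟨g * u * g⁻¹, hAC hguA⟩ : C) * c⁻¹ =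
        MulAut.conj c • (⟨g * u * g⁻¹, hAC hguA⟩ : C) := by
      simp [MulAut.smul_def, MulAut.conj_apply]
    rw [this, Sylow.smul_def, SetLike.mem_coe, Sylow.pointwise_smul_def]
    exact Subgroup.smul_mem_pointwise_smul _ _ _
      (hPA (by rw [Subgroup.mem_subgroupOf]; exact hguA))
  have hacg : a * c * g ∈ M := by
    apply h.fix
    apply h.le
    have := ha _ hcA
    convert this using 1
    group
  have hcg : (c : X) * g ∈ M := by
    have := M.mul_mem (M.inv_mem haM) hacg
    simpa [mul_assoc] using this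
  refine ⟨(c : X) * g, hcg, ?_⟩
  have hcc : (c : X) * t' = t' * (c : X) := Subgroup.mem_centralizer_singleton_iff.1 c.2
  calc (c : X) * g * t * ((c : X) * g)⁻¹ = (c : X) * (g * t * g⁻¹) * (c : X)⁻¹ := by group
    _ = (c : X) * t' * (c : X)⁻¹ := by rw [ht']
    _ = t' := by rw [hcc]; group

/-- `S ⊓ N` is strongly closed in `S` for every `N` normalised by `M` -/
theorem Ctl.closed (h : Ctl M S u) (N : Subgroup X) (hN : ∀ m ∈ M, ∀ n ∈ N, m * n * m⁻¹ ∈ N) :
    Cfsg.IsStronglyClosed (S ⊓ N) S := by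
  refine ⟨inf_le_left, fun x hx g hg => ⟨hg, ?_⟩⟩
  obtain ⟨m, hm, he⟩ := h.control hx.1 hg
  rw [← he]
  exact hN m hm x hx.2

/-- **LEMMA FC.** `X` simple, `L` a nonsolvable subgroup, `u` a central involution of a Sylow
2-subgroup of `M ≤ N(L)`, `u` centralises `L`, and `g u g⁻¹ ∈ M → g ∈ M`: impossible.
`h1173` is statement S1173 for `X`. -/
theorem false_of [IsSimpleGroup X] (h : Ctl M S u) (hu1 : u ≠ 1) (L : Subgroup X)
    (hML : ∀ m ∈ M, ∀ l ∈ L, m * l * m⁻¹ ∈ L) (huL : ∀ l ∈ L, u * l = l * u)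
    (hsol : ¬ Group.IsSolvable L)
    (h1173 : ∀ (P : Sylow 2 X) (T : Subgroup X), Cfsg.IsStronglyClosed T (P : Subgroup X) →
      ((⨅ n : ℕ, derivedSeries ↥(Subgroup.centralizer (T : Set X)) n).map
        (Subgroup.centralizer (T : Set X)).subtype).Normal) : False := by
  obtain ⟨P, hP⟩ := h.exists_sylow
  set N := Subgroup.centralizer (L : Set X) with hNdef
  have hN : ∀ m ∈ M, ∀ n ∈ N, m * n * m⁻¹ ∈ N := by
    intro m hm n hn
    rw [hNdef, Subgroup.mem_centralizer_iff] at hn ⊢
    intro l hl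
    have h1 : m⁻¹ * l * m ∈ L := by
      have := hML m⁻¹ (M.inv_mem hm) l hl
      simpa using this
    have h2 := hn _ h1
    calc l * (m * n * m⁻¹) = m * ((m⁻¹ * l * m) * n) * m⁻¹ := by group
      _ = m * (n * (m⁻¹ * l * m)) * m⁻¹ := by rw [h2]
      _ = m * n * m⁻¹ * l := by group
  have hcl := h.closed N hN
  set T := S ⊓ N with hT
  have huT : u ∈ T := by
    refine Subgroup.mem_inf.2 ⟨h.mem, ?_⟩
    rw [hNdef, Subgroup.mem_centralizer_iff]; exact fun l hl => (huL l hl).symm
  have hnorm := h1173 P T (by rw [hP]; exact hcl)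
  set C := Subgroup.centralizer (T : Set X) with hC
  have hLC : L ≤ C := by
    intro l hl
    rw [hC, Subgroup.mem_centralizer_iff]
    intro t ht
    have := (Subgroup.mem_centralizer_iff.1 ht.2) l hl
    exact this.symm
  have hCs : ¬ Group.IsSolvable C := fun hs => by
    haveI := hs
    exact hsol (Group.isSolvable_of_isSolvable_injective (Subgroup.inclusion_injective hLC))
  set D := (⨅ n : ℕ, derivedSeries ↥C n) with hD
  rcases hnorm.eq_bot_or_eq_top with hb | ht
  · -- the residual is trivial, so `C` is solvable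
    apply hCs
    have hDb : D = ⊥ := by
      rw [Subgroup.map_eq_bot_iff] at hb
      rw [Subgroup.ker_subtype] at hb
      exact le_bot_iff.1 hb
    -- antitone sequence of subgroups of a finite group stabilises
    have hanti : Antitone (derivedSeries C) := derivedSeries_antitone C
    haveI : Finite (Subgroup C) := inferInstance
    obtain ⟨n, hn⟩ : ∃ n, ∀ m, n ≤ m → derivedSeries C n = derivedSeries C m := by
      have := WellFoundedGT.monotone_chain_condition (α := (Subgroup C)ᵒᵈ)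
        ⟨fun n => OrderDual.toDual (derivedSeries C n), fun i j hij => hanti hij⟩
      obtain ⟨n, hn⟩ := this
      exact ⟨n, fun m hm => hn m hm⟩
    refine ⟨⟨n, ?_⟩⟩
    have : derivedSeries C n ≤ D := by
      rw [hD]
      refine le_iInf fun m => ?_
      rcases le_total n m with h1 | h1
      · rw [hn m h1]
      · exact hanti h1
    rw [hDb] at this
    exact le_bot_iff.1 this
  · have hCtop : C = ⊤ := by
      rw [eq_top_iff, ← ht]
      exact Subgroup.map_subtype_le _
    have huZ : u ∈ Subgroup.center X := by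
      rw [Subgroup.mem_center_iff]
      intro g
      have hg : g ∈ C := by rw [hCtop]; trivial
      exact ((Subgroup.mem_centralizer_iff.1 hg) u huT).symm
    have hnc : Subgroup.center X = ⊥ := by
      have hZn : (Subgroup.center X).Normal := inferInstance
      rcases hZn.eq_bot_or_eq_top with h1 | h1
      · exact h1
      · exfalso
        apply hsol
        haveI : Group.IsSolvable X := by
          refine Group.isSolvable_of_comm ?_
          intro a b
          have := (Subgroup.mem_center_iff.1 (show a ∈ Subgroup.center X by rw [h1]; trivial)) b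
          exact this.symm
        exact Group.isSolvable_of_isSolvable_injective (Subgroup.subtype_injective L)
    rw [hnc, Subgroup.mem_bot] at huZ
    exact hu1 huZ

end Cfsg.Agent.UGT.FusCtl
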