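import Cfsg.Agent.UGT.Triple
import Cfsg.Agent.SporRec.MaxFix
import Cfsg.Agent.MinSimple.SelfCentFour

/-!
# Terminal 2-components modulo cores: the combinatorial part

`Fam GG F`: a family `F t L` of pairs (`t ∈ GG` an involution, `L` a 2-component of `C(t)`), closed under
conjugation by `GG`, in which every pump-up is trivial (`Good`) or diagonal (`Bad`).

Main result (`main`): `F a L`, `Q` a 2-subgroup of `GG ∩ C(a)` fixing `L`, `a ∈ Q`, no involution of `Z(Q)`
bad.  Then every involution of `Q` is good, or some bad involution `b ∈ Q` has `C_Q(b) = ⟨a, b⟩`.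
-/

set_option autoImplicit false

open Cfsg Subgroup
open Cfsg.Agent.SignalizersComponents Cfsg.Agent.Lib
open Cfsg.Agent.SignalizersComponents.IntrinsicBasic
open Cfsg.Agent.SignalizersComponents.IntrinsicIntr
open Cfsg.Agent.SignalizersComponents.PLayerAut
open Cfsg.Agent.Intrinsic.Basic Cfsg.Agent.Intrinsic.Cen Cfsg.Agent.Intrinsic.Diag
open Cfsg.Agent.McLLyComp.Act
open scoped commutatorElement

namespace Cfsg.Agent.UGT.TMCBase

variable {G : Type*} [Group G]

/-! ### small facts -/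

theorem mem_c {x y : G} (h : y * x = x * y) : y ∈ centralizer ({x} : Set G) :=
  mem_centralizer_singleton_iff.mpr h

theorem comm_c {x y : G} (h : y ∈ centralizer ({x} : Set G)) : y * x = x * y :=
  mem_centralizer_singleton_iff.mp h

theorem inv_of_sq {x : G} (h : x * x = 1) : x⁻¹ = x := inv_eq_of_mul_eq_one_left h

theorem conj_of_comm {x y : G} (h : y * x = x * y) : y * x * y⁻¹ = x := by
  rw [h, mul_inv_cancel_right]

theorem cen_cen_le (L : Subgroup G) (b c : G) : cen (cen L b) c ≤ cen (cen L c) b := by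
  refine (Subgroup.closure_le _).mpr ?_
  rintro y ⟨⟨hy, hyc⟩, n, hn⟩
  have h1 := mem_centralizer_singleton_iff.mp hyc
  exact mem_cen (mem_cen (cen_le L b hy) h1 hn) (comm_of_mem_cen hy) hn

theorem cen_cen_comm (L : Subgroup G) (b c : G) : cen (cen L b) c = cen (cen L c) b :=
  le_antisymm (cen_cen_le L b c) (cen_cen_le L c b)

/-- an element commuting with all elements of `K` normalizes `K` -/
theorem cj_of_comm {K : Subgroup G} {b : G} (h : K ≤ centralizer ({b} : Set G)) : cj b K = K := by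
  have key : ∀ b : G, K ≤ centralizer ({b} : Set G) → cj b K ≤ K := by
    intro b h x hx
    rw [mem_cj] at hx
    have h1 := comm_c (h hx)
    have h2 : b⁻¹ * x * b = x := by
      have h3 : (b⁻¹ * x * b) * b = x * b := by rw [h1]; group
      exact mul_right_cancel h3
    rwa [h2] at hx
  apply le_antisymm (key b h)
  have h' : K ≤ centralizer ({b⁻¹} : Set G) := by
    intro k hk
    have h1 := comm_c (h hk)
    apply mem_c
    calc k * b⁻¹ = b⁻¹ * (b * k) * b⁻¹ := by group
      _ = b⁻¹ * (k * b) * b⁻¹ := by rw [h1]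
      _ = b⁻¹ * k := by group
  have h1 := cj_mono (g := b) (key b⁻¹ h')
  rwa [cj_cj_inv] at h1

theorem cj_cen_self {L : Subgroup G} {a y : G} (haL : cj a L = L) (h : a * y = y * a) :
    cj a (cen L y) = cen L y := by
  rw [cj_cen, haL, h, mul_inv_cancel_right]

theorem cj_cj_self {K : Subgroup G} {a : G} (ha : a * a = 1) : cj a (cj a K) = K := by
  rw [← cj_mul, ha, cj_one]

theorem cj_c_of_comm {a y : G} (h : a * y = y * a) :
    cj a (centralizer ({y} : Set G)) = centralizer ({y} : Set G) :=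
  cj_eq_self_of_mem (mem_c h)

variable [Finite G]

/-- the diagonal does not fix `J` -/
theorem not_fixes_diag {X J : Subgroup G} {a : G} (hJ : IsComp X J) (haX : a ∈ X) (ha : a * a = 1)
    (hne : cj a J ≠ J) : ¬ ∀ m ∈ diag X J a, Fixes m J := by
  intro h
  obtain ⟨h1, -, h3, -⟩ := exists_diag hJ haX ha hne
  apply hJ.not_fixes
  intro k hk
  obtain ⟨m, hm, hmk⟩ := h3 k hk
  have h4 := fixes_inv_mul hJ haX hne hk (h1.le hm).1 hmk
  have h5 := (fixes_mul_iff_left (h m hm)).mp h4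
  have h6 := fixes_inv h5
  rwa [inv_inv] at h6

/-- an element fixing `K` and `K^v` commutes with the diagonal modulo `O(X)` -/
theorem comm_diag {X K : Subgroup G} {v g : G} (hK : IsComp X K) (hvX : v ∈ X) (hv : v * v = 1)
    (hne : cj v K ≠ K) (hgX : g ∈ X) (h : Fixes g K) (h' : Fixes g (cj v K)) :
    ∀ m ∈ diag X K v, ⁅g, m⁆ ∈ core X := by
  intro m hm
  obtain ⟨h1, h2, -, -⟩ := exists_diag hK hvX hv hne
  obtain ⟨k, hk, hmk⟩ := h2 m hm
  have hmX : m ∈ X := (h1.le hm).1
  have hK' := isComp_cj_of_mem hK hvX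
  have hk' : v * k * v⁻¹ ∈ cj v K := conj_mem_cj hk
  have e1 := hK.core_le_core (h.2 k hk)
  have e2 := hK'.core_le_core (h'.2 _ hk')
  rw [commutator_mem_core_iff hgX (hK.le hk)] at e1
  rw [commutator_mem_core_iff hgX (hK'.le hk')] at e2
  rw [commutator_mem_core_iff hgX hmX, mk_of_diag hK hvX hmX hk hmk, ← mul_assoc, e1, mul_assoc, e2,
    ← mul_assoc]

/-- two covering subgroups of a 2-component do not commute modulo the core -/
theorem false_of_cover {H N S T : Subgroup G} (hN : IsComp H N) (hS : S ⊔ core N = N)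
    (hT : T ⊔ core N = N) (h : ∀ s ∈ S, ∀ t ∈ T, ⁅s, t⁆ ∈ core N) : False := by
  have hSN : S ≤ N := by rw [← hS]; exact le_sup_left
  have h1 : ∀ s ∈ S, Fixes s N := by
    intro s hs
    have hsN := hSN hs
    refine fixes_iff_conj.mpr ⟨le_normalizer hsN, fun n hn => ?_⟩
    obtain ⟨t, ht, hc⟩ := exists_mul_of_sup hT hn
    obtain ⟨c, hc'⟩ : ∃ c, c = t⁻¹ * n := ⟨_, rfl⟩
    rw [← hc'] at hc
    have hn' : n = t * c := by rw [hc']; group
    have h2 : t⁻¹ * (s * t * s⁻¹) ∈ core N := by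
      have h3 : t⁻¹ * (s * t * s⁻¹) = t⁻¹ * ⁅s, t⁆ * t⁻¹⁻¹ := by
        rw [commutatorElement_def]; group
      rw [h3]
      refine conj_mem_core (le_normalizer (N.inv_mem ?_)) (h s hs t ht)
      rw [← hT]; exact mem_sup_left ht
    have h3 : s * c * s⁻¹ ∈ core N := conj_mem_core (le_normalizer hsN) hc
    have h4 : n⁻¹ * (s * n * s⁻¹) = c⁻¹ * (t⁻¹ * (s * t * s⁻¹)) * (s * c * s⁻¹) := by
      rw [hn']; group
    rw [h4]
    exact mul_mem (mul_mem (inv_mem hc) h2) h3
  apply hN.not_fixes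
  intro n hn
  obtain ⟨s, hs, hc⟩ := exists_mul_of_sup hS hn
  have h2 : n = s * (s⁻¹ * n) := by group
  rw [h2]
  exact fixes_mul (h1 s hs) (hN.fixes_of_core (hN.core_le_core hc))

/-! ### families -/

/-- the pump-up of `L` in `C(y)` is trivial -/
def Good (F : G → Subgroup G → Prop) (L : Subgroup G) (y : G) : Prop :=
  ∃ J, F y J ∧ cen L y ⊔ core J = J

/-- the pump-up of `(t, L)` in `C(y)` is the diagonal of `J J^t` -/
structure BadW (F : G → Subgroup G → Prop) (t : G) (L : Subgroup G) (y : G) (J : Subgroup G) :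
    Prop where
  fam : F y J
  fam' : F y (cj t J)
  ne : cj t J ≠ J
  eq : cen L y = diag (centralizer ({y} : Set G)) J t

structure Fam (GG : Subgroup G) (F : G → Subgroup G → Prop) : Prop where
  mem : ∀ {t : G} {L : Subgroup G}, F t L → t ∈ GG
  sq : ∀ {t : G} {L : Subgroup G}, F t L → t * t = 1
  comp : ∀ {t : G} {L : Subgroup G}, F t L → IsComp (centralizer ({t} : Set G)) L
  conj : ∀ {t : G} {L : Subgroup G}, F t L → ∀ g ∈ GG, F (g * t * g⁻¹) (cj g L)
  pump : ∀ {t : G} {L : Subgroup G}, F t L → ∀ y ∈ GG, y * y = 1 → y ≠ 1 → y * t = t * y →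
    Fixes y L → Good F L y ∨ ∃ J, BadW F t L y J

variable {GG : Subgroup G} {F : G → Subgroup G → Prop}

theorem isComp_cen' {t y : G} {L : Subgroup G} (hL : IsComp (centralizer ({t} : Set G)) L)
    (hyy : y * y = 1) (hyt : y * t = t * y) (hf : Fixes y L) :
    IsComp (centralizer ({t} : Set G) ⊓ centralizer ({y} : Set G)) (cen L y) :=
  (isComp_cen hL (mem_c hyt) hyy hf).1

theorem sup_cen' {t y : G} {L : Subgroup G} (hL : IsComp (centralizer ({t} : Set G)) L)
    (hyy : y * y = 1) (hyt : y * t = t * y) (hf : Fixes y L) : cen L y ⊔ core L = L :=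
  (isComp_cen hL (mem_c hyt) hyy hf).2

/-- an element fixing `L` and commuting with `y` fixes `cen L y` -/
theorem fixes_cen {t y q : G} {L : Subgroup G} (hL : IsComp (centralizer ({t} : Set G)) L)
    (hyy : y * y = 1) (hyt : y * t = t * y) (hf : Fixes y L) (hq : Fixes q L)
    (hqy : q * y = y * q) : Fixes q (cen L y) :=
  (fixes_iff_of_sup (sup_cen' hL hyy hyt hf) (mem_normalizer_cen hq.1 hqy) hq.1).mpr hq

/-- an element of `C(b)` fixing `L` and normalizing `J` fixes `J` -/
theorem fixes_of_normalizes {a b q : G} {L J : Subgroup G}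
    (hL : IsComp (centralizer ({a} : Set G)) L) (haa : a * a = 1) (hbb : b * b = 1)
    (hba : b * a = a * b) (hbL : Fixes b L) (hJ : IsComp (centralizer ({b} : Set G)) J)
    (hne : cj a J ≠ J) (heq : cen L b = diag (centralizer ({b} : Set G)) J a)
    (hqa : q * a = a * q) (hqb : q * b = b * q) (hqL : Fixes q L)
    (hqJ : q ∈ normalizer (J : Set G)) : Fixes q J := by
  have haC : a ∈ centralizer ({b} : Set G) := mem_c hba.symm
  obtain ⟨h1, -, -, h4, -⟩ := exists_diag hJ haC haa hne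
  refine fixes_of_comm_diag hJ haC haa hne (mem_c hqb) hqJ ?_ fun m hm => ?_
  · rw [mem_normalizer_iff_cj] at hqJ ⊢
    rw [← cj_mul, hqa, cj_mul, hqJ]
  · rw [← heq] at hm
    have h5 := (fixes_cen hL hbb hba hbL hqL hqb).2 m hm
    rw [heq, h4] at h5
    exact h5.2

theorem BadW.fixes_of_normalizes (hF : Fam GG F) {a b q : G} {L J : Subgroup G} (haL : F a L)
    (hbb : b * b = 1) (hba : b * a = a * b) (hbL : Fixes b L) (h : BadW F a L b J)
    (hqa : q * a = a * q) (hqb : q * b = b * q) (hqL : Fixes q L)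
    (hqJ : q ∈ normalizer (J : Set G)) : Fixes q J :=
  TMCBase.fixes_of_normalizes (hF.comp haL) (hF.sq haL) hbb hba hbL (hF.comp h.fam) h.ne h.eq hqa hqb hqL
    hqJ

theorem fixes_of_comm {H N : Subgroup G} (hN : IsComp H N) {g : G}
    (hg : g ∈ normalizer (N : Set G)) (h : ∀ y ∈ N, ⁅g, y⁆ ∈ core H) : Fixes g N := by
  refine ⟨hg, fun y hy => ?_⟩
  rw [hN.core_eq]
  refine ⟨?_, h y hy⟩
  rw [commutatorElement_def]
  exact N.mul_mem (conj_mem hg hy) (N.inv_mem hy)

theorem diag_le_swap {X K : Subgroup G} {v : G} (hK : IsComp X K) (hvX : v ∈ X) (hv : v * v = 1)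
    (hne : cj v K ≠ K) : diag X K v ≤ diag X (cj v K) v := by
  refine (Subgroup.closure_le _).mpr ?_
  rintro m ⟨hmX, hmv, ⟨k, hk, hmk⟩, n, hn⟩
  have hk' : v * k * v⁻¹ ∈ cj v K := conj_mem_cj hk
  refine mem_diag (k := v * k * v⁻¹) hmX hmv hk' ?_ hn
  have hvi := inv_of_sq hv
  have e1 : v * (v * k * v⁻¹) * v⁻¹ = k := by
    rw [hvi]
    calc v * (v * k * v) * v = (v * v) * k * (v * v) := by group
      _ = k := by rw [hv]; group
  rw [e1]
  have h1 := hK.comm_le_core (isComp_cj_of_mem hK hvX) hne.symm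
  have h2 : ⁅k⁻¹, (v * k * v⁻¹)⁻¹⁆ ∈ core X :=
    hK.core_le_core (h1 (commutator_mem_commutator (K.inv_mem hk) (inv_mem hk'))).1
  have h3 : m⁻¹ * (v * k * v⁻¹ * k) = m⁻¹ * (k * (v * k * v⁻¹)) *
      ((v * k * v⁻¹)⁻¹ * k⁻¹ * (v * k * v⁻¹) * k) := by group
  have h4 : (v * k * v⁻¹)⁻¹ * k⁻¹ * (v * k * v⁻¹) * k = (⁅k⁻¹, (v * k * v⁻¹)⁻¹⁆)⁻¹ := by
    rw [commutatorElement_def]; group
  rw [h3, h4]
  exact mul_mem hmk (inv_mem h2)

theorem diag_swap {X K : Subgroup G} {v : G} (hK : IsComp X K) (hvX : v ∈ X) (hv : v * v = 1)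
    (hne : cj v K ≠ K) : diag X (cj v K) v = diag X K v := by
  apply le_antisymm _ (diag_le_swap hK hvX hv hne)
  have hK' := isComp_cj_of_mem hK hvX
  have hne' : cj v (cj v K) ≠ cj v K := by
    rw [cj_cj_self hv]; exact hne.symm
  have h := diag_le_swap hK' hvX hv hne'
  rwa [cj_cj_self hv] at h

/-- replacing `J` by `J^t` -/
theorem BadW.swap (hF : Fam GG F) {a b : G} {L J : Subgroup G} (haa : a * a = 1)
    (hba : b * a = a * b) (h : BadW F a L b J) : BadW F a L b (cj a J) := by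
  refine ⟨h.fam', ?_, ?_, ?_⟩
  · rw [cj_cj_self haa]; exact h.fam
  · rw [cj_cj_self haa]; exact h.ne.symm
  · rw [diag_swap (hF.comp h.fam) (mem_c hba.symm) haa h.ne]; exact h.eq

/-- the pair `{J, J^a}` is determined by `(a, L)` and `b` -/
theorem BadW.unique (hF : Fam GG F) {a b : G} {L J N : Subgroup G} (haa : a * a = 1)
    (hba : b * a = a * b) (h : BadW F a L b J) (h' : BadW F a L b N) : N = J ∨ N = cj a J := by
  by_contra hno
  push Not at hno
  exact diag_ne (hF.comp h.fam) (mem_c hba.symm) haa h.ne (hF.comp h'.fam) h'.ne hno.1 hno.2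
    (h'.eq.symm.trans h.eq)

/-- **(1a)** `b` bad for `(a, L)` with pair `J, J^a`; `c` an involution commuting with `a`, `b`, fixing `L` and
normalizing `J`.  Then `c` is bad and its pair is the pump-up of the pair of `b`. -/
theorem oneA (hF : Fam GG F) {a b c : G} {L J : Subgroup G} (haL : F a L)
    (hbb : b * b = 1) (hcG : c ∈ GG) (hcc : c * c = 1) (hc1 : c ≠ 1)
    (hba : b * a = a * b) (hca : c * a = a * c) (hcb : c * b = b * c)
    (hbL : Fixes b L) (hcL : Fixes c L) (hB : BadW F a L b J)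
    (hcJ : c ∈ normalizer (J : Set G)) :
    ∃ N, BadW F a L c N ∧ cen J c ≤ N := by
  have haa := hF.sq haL
  have hL := hF.comp haL
  have hJ := hF.comp hB.fam
  have hcJ' : Fixes c J := hB.fixes_of_normalizes hF haL hbb hba hbL hca hcb hcL hcJ
  obtain ⟨X, hX⟩ : ∃ X, X = centralizer ({b} : Set G) ⊓ centralizer ({c} : Set G) := ⟨_, rfl⟩
  obtain ⟨K, hK⟩ : ∃ K, K = cen J c := ⟨_, rfl⟩
  have hKc : IsComp X K := by rw [hX, hK]; exact isComp_cen' hJ hcc hcb hcJ'
  have hKJ : K ⊔ core J = J := by rw [hK]; exact sup_cen' hJ hcc hcb hcJ'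
  have haX : a ∈ X := hX ▸ ⟨mem_c hba.symm, mem_c hca.symm⟩
  have haCb : a ∈ centralizer ({b} : Set G) := mem_c hba.symm
  have haCc : a ∈ centralizer ({c} : Set G) := mem_c hca.symm
  have hbCc : b ∈ centralizer ({c} : Set G) := mem_c hcb.symm
  have hKle : K ≤ J := hK ▸ cen_le J c
  have haK : cj a K ≠ K := by
    intro h
    apply hB.ne
    have h1 : K ≤ cj a J := by rw [← h]; exact cj_mono hKle
    exact hKc.unique (hF.comp hB.fam') hJ h1 hKle
  have hKa : IsComp X (cj a K) := isComp_cj_of_mem hKc haX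
  -- the component `D` of `C(a, b, c)`
  obtain ⟨D, hD⟩ : ∃ D, D = cen (cen L b) c := ⟨_, rfl⟩
  have hbcomp := isComp_cen' hL hbb hba hbL
  have hcfb : Fixes c (cen L b) := fixes_cen hL hbb hba hbL hcL hcb
  have hDs : D ⊔ core (cen L b) = cen L b := by
    rw [hD]; exact (isComp_cen hbcomp ⟨mem_c hca, mem_c hcb⟩ hcc hcfb).2
  have hDc : IsComp (X ⊓ centralizer ({a} : Set G)) D := by
    have h1 := (isComp_cen hbcomp (v := c) ⟨mem_c hca, mem_c hcb⟩ hcc hcfb).1
    rw [← hD] at h1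
    have h2 : X ⊓ centralizer ({a} : Set G) =
        centralizer ({a} : Set G) ⊓ centralizer ({b} : Set G) ⊓ centralizer ({c} : Set G) := by
      rw [hX, inf_comm (centralizer ({b} : Set G) ⊓ centralizer ({c} : Set G)), ← inf_assoc]
    rw [h2]; exact h1
  have hDb : D ≤ cen L b := by rw [hD]; exact cen_le _ c
  have hDc' : D ≤ cen L c := by rw [hD, cen_cen_comm]; exact cen_le _ b
  have hDa : ∀ d ∈ D, d * a = a * d := fun d hd => comm_c (hDc.le hd).2
  have hDbc : ∀ d ∈ D, d * b = b * d := fun d hd => comm_of_mem_cen (hDb hd)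
  have hDL2X : ∀ d ∈ D, ∀ N, IsComp X N → d ∈ normalizer (N : Set G) := fun d hd N hN =>
    hN.L2_le_normalizer (isComp_le_L2 haX haa hDc hd)
  have hDL2b : ∀ d ∈ D, ∀ N, IsComp (centralizer ({b} : Set G)) N → d ∈ normalizer (N : Set G) := by
    intro d hd N hN
    refine hN.L2_le_normalizer (isComp_le_L2 haCb haa ?_ (hDb hd))
    rw [inf_comm]; exact hbcomp
  have hccomp := isComp_cen' hL hcc hca hcL
  have hDL2c : ∀ d ∈ D, ∀ N, IsComp (centralizer ({c} : Set G)) N → d ∈ normalizer (N : Set G) := by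
    intro d hd N hN
    refine hN.L2_le_normalizer (isComp_le_L2 haCc haa ?_ (hDc' hd))
    rw [inf_comm]; exact hccomp
  -- `D` does not fix `K`
  have hnD : ¬ ∀ d ∈ D, Fixes d K := by
    intro h
    apply not_fixes_diag hJ haCb haa hB.ne
    rw [← hB.eq]
    intro m hm
    obtain ⟨d, hd, hdm⟩ := exists_mul_of_sup hDs hm
    have h1 : m = d * (d⁻¹ * m) := by group
    rw [h1]
    refine fixes_mul ?_ (hJ.fixes_of_core ?_)
    · exact (fixes_iff_of_sup hKJ (hDL2X d hd K hKc) (hDL2b d hd J hJ)).mp (h d hd)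
    · have h2 : core (cen L b) ≤ core (centralizer ({b} : Set G)) := by
        obtain ⟨-, -, -, h4, -⟩ := exists_diag hJ haCb haa hB.ne
        rw [hB.eq, h4]; exact inf_le_right
      exact h2 hdm
  have hPc : ∀ N, IsComp (centralizer ({c} : Set G)) N → K ⊔ core N = N →
      ¬ ∀ d ∈ D, Fixes d N := by
    intro N hN hKN h
    exact hnD fun d hd => (fixes_iff_of_sup hKN (hDL2X d hd K hKc) (hDL2c d hd N hN)).mpr (h d hd)
  rcases hF.pump hB.fam c hcG hcc hc1 hcb hcJ' with ⟨N, hN, hKN⟩ | ⟨N, hN⟩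
  · -- the pump-up of `J` is trivial
    rw [← hK] at hKN
    have hNc := hF.comp hN
    have hKN' : K ≤ N := by rw [← hKN]; exact le_sup_left
    rcases hF.pump haL c hcG hcc hc1 hca hcL with ⟨M, hM, hLM⟩ | ⟨M, hM⟩
    · exfalso
      have hMc := hF.comp hM
      have hLM' : cen L c ≤ M := by rw [← hLM]; exact le_sup_left
      have hNM : N = M := by
        by_contra hne
        exact hPc N hNc hKN fun d hd => hNc.fixes_of_mem hMc hne (hLM' (hDc' hd))
      have haM : cj a M = M := by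
        have h1 : cj a (cen L c) = cen L c := cj_of_comm (hccomp.le.trans inf_le_left)
        have h2 : cen L c ≤ cj a M := by rw [← h1]; exact cj_mono hLM'
        exact hccomp.unique (isComp_cj_of_mem hMc haCc) hMc h2 hLM'
      have hcore : core (cj a N) = core N := by rw [hNM, haM]
      have hKaN : cj a K ⊔ core N = N := by
        have h1 := congrArg (IntrinsicBasic.cj a) hKN
        rw [cj_def, Subgroup.map_sup, ← cj_def, ← cj_def, ← core_cj, hcore] at h1
        rw [h1, hNM, haM]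
      refine false_of_cover hNc hKN hKaN fun s hs t ht => ?_
      exact core_le_of_sup hKN
        (hKc.comm_le_core hKa haK.symm (commutator_mem_commutator hs ht)).1
    · have hMc := hF.comp hM.fam
      have hNM : N = M ∨ N = cj a M := by
        by_contra hne
        push Not at hne
        refine hPc N hNc hKN fun d hd => fixes_of_comm hNc (hDL2c d hd N hNc) fun y hy => ?_
        refine comm_diag_of_ne hMc haCc haa hM.ne hNc hne.1 hne.2 ?_ hy
        rw [← hM.eq]; exact hDc' hd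
      refine ⟨N, ?_, by rw [← hK]; exact hKN'⟩
      rcases hNM with h | h
      · rw [h]; exact hM
      · rw [h]; exact hM.swap hF haa hca
  · -- the pump-up of `J` is diagonal: impossible
    exfalso
    have hNc := hF.comp hN.fam
    have hNbc := hF.comp hN.fam'
    obtain ⟨-, -, -, hcoreK, -⟩ := exists_diag hNc hbCc hbb hN.ne
    rw [← hN.eq, ← hK] at hcoreK
    have hn1 : ¬ ∀ d ∈ D, Fixes d N := by
      intro h
      apply hnD
      intro d hd
      have h2 : Fixes d (cj b N) := by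
        have h3 := (h d hd).cj b
        rwa [show b * d * b⁻¹ = d from conj_of_comm (hDbc d hd).symm] at h3
      have hdc : d ∈ centralizer ({c} : Set G) := (hccomp.le (hDc' hd)).2
      have h4 := comm_diag hNc hbCc hbb hN.ne hdc (h d hd) h2
      rw [← hN.eq, ← hK] at h4
      have hdK := hDL2X d hd K hKc
      refine ⟨hdK, fun y hy => ?_⟩
      rw [hcoreK]
      refine ⟨?_, h4 y hy⟩
      rw [commutatorElement_def]
      exact K.mul_mem (conj_mem hdK hy) (K.inv_mem hy)
    have hn2 : ¬ ∀ d ∈ D, Fixes d (cj b N) := by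
      intro h
      apply hn1
      intro d hd
      have h3 := (h d hd).cj b
      rwa [show b * d * b⁻¹ = d from conj_of_comm (hDbc d hd).symm, cj_cj_self hbb] at h3
    have hn3 : ¬ ∀ d ∈ D, Fixes d (cj a N) := by
      intro h
      apply hn1
      intro d hd
      have h3 := (h d hd).cj a
      rwa [show a * d * a⁻¹ = d from conj_of_comm (hDa d hd).symm, cj_cj_self haa] at h3
    rcases hF.pump haL c hcG hcc hc1 hca hcL with ⟨M, hM, hLM⟩ | ⟨M, hM⟩
    · have hMc := hF.comp hM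
      have hLM' : cen L c ≤ M := by rw [← hLM]; exact le_sup_left
      have key : ∀ N', IsComp (centralizer ({c} : Set G)) N' → (¬ ∀ d ∈ D, Fixes d N') → N' = M := by
        intro N' hN' hn
        by_contra hne
        exact hn fun d hd => hN'.fixes_of_mem hMc hne (hLM' (hDc' hd))
      exact hN.ne ((key _ hNbc hn2).trans (key _ hNc hn1).symm)
    · have hMc := hF.comp hM.fam
      have key : ∀ N', IsComp (centralizer ({c} : Set G)) N' → (¬ ∀ d ∈ D, Fixes d N') →
          N' = M ∨ N' = cj a M := by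
        intro N' hN' hn
        by_contra hne
        push Not at hne
        refine hn fun d hd => fixes_of_comm hN' (hDL2c d hd N' hN') fun y hy => ?_
        refine comm_diag_of_ne hMc haCc haa hM.ne hN' hne.1 hne.2 ?_ hy
        rw [← hM.eq]; exact hDc' hd
      have hab : cj a N = cj b N := by
        rcases key N hNc hn1 with h | h
        · rcases key _ hNbc hn2 with h' | h'
          · exact absurd (h'.trans h.symm) hN.ne
          · rw [h', ← h]
        · rcases key _ hNbc hn2 with h' | h'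
          · rw [h', h, cj_cj_self haa]
          · exact absurd (h'.trans h.symm) hN.ne
      apply haK
      rw [hK, hN.eq, cj_diag, cj_c_of_comm hca.symm, hab, conj_of_comm hba.symm]
      have h5 := cj_diag b (centralizer ({c} : Set G)) N b
      rw [cj_c_of_comm hcb.symm, show b * b * b⁻¹ = b by group] at h5
      rw [← h5, ← hN.eq]
      exact cj_of_comm ((cen_le J c).trans hJ.le)

/-- `Good` and `BadW` exclude each other -/
theorem not_good_of_badW (hF : Fam GG F) {a b : G} {L J : Subgroup G} (haL : F a L)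
    (hbb : b * b = 1) (hba : b * a = a * b) (hbL : Fixes b L) (hB : BadW F a L b J) :
    ¬ Good F L b := by
  rintro ⟨M, hM, hLM⟩
  have haa := hF.sq haL
  have hMc := hF.comp hM
  have hJ := hF.comp hB.fam
  have haC : a ∈ centralizer ({b} : Set G) := mem_c hba.symm
  have hcomp := isComp_cen' (hF.comp haL) hbb hba hbL
  have hLM' : cen L b ≤ M := by rw [← hLM]; exact le_sup_left
  by_cases hne : J = M
  · apply hB.ne
    have h1 : cj a (cen L b) = cen L b := cj_of_comm (hcomp.le.trans inf_le_left)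
    have h2 : cen L b ≤ cj a J := by rw [← h1, hne]; exact cj_mono hLM'
    have h3 : cen L b ≤ J := hne ▸ hLM'
    exact hcomp.unique (isComp_cj_of_mem hJ haC) hJ h2 h3
  · apply not_fixes_diag hJ haC haa hB.ne
    intro m hm
    rw [← hB.eq] at hm
    exact hJ.fixes_of_mem hMc hne (hLM' hm)

omit [Finite G] in
/-- conjugation of bad data by elements normalizing `L` and commuting with `a` -/
theorem BadW.conj (hF : Fam GG F) {a b g : G} {L J : Subgroup G} (hB : BadW F a L b J)
    (hg : g ∈ GG) (hga : g * a = a * g) (hgL : cj g L = L) :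
    BadW F a L (g * b * g⁻¹) (cj g J) := by
  have hcomm : cj a (cj g J) = cj g (cj a J) := by rw [← cj_mul, ← cj_mul, hga]
  refine ⟨hF.conj hB.fam g hg, ?_, ?_, ?_⟩
  · rw [hcomm]; exact hF.conj hB.fam' g hg
  · rw [hcomm]
    intro h
    exact hB.ne (cj_injective g h)
  · have h1 : cj g (cen L b) = cen L (g * b * g⁻¹) := by rw [cj_cen, hgL]
    rw [← h1, hB.eq, cj_diag, cj_centralizer, conj_of_comm hga]

/-- data for the main theorem: `Q` is a 2-subgroup of `GG ∩ C(a)` fixing `L` and containing `a` -/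
structure Base (GG : Subgroup G) (F : G → Subgroup G → Prop) (a : G) (L Q : Subgroup G) : Prop where
  fam : F a L
  two : IsPGroup 2 Q
  mem : a ∈ Q
  le : Q ≤ GG
  comm : ∀ q ∈ Q, q * a = a * q
  fix : ∀ q ∈ Q, Fixes q L

omit [Finite G] in
theorem Base.cj_L {a : G} {L Q : Subgroup G} (hQ : Base GG F a L Q) {q : G} (hq : q ∈ Q) :
    cj q L = L := mem_normalizer_iff_cj.mp (hQ.fix q hq).1

/-- the elements of `C_Q(b)` permute `{J, J^a}` -/
theorem Base.perm (hF : Fam GG F) {a b : G} {L Q J : Subgroup G} (hQ : Base GG F a L Q)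
    (hba : b * a = a * b) (hB : BadW F a L b J) {q : G} (hq : q ∈ Q) (hqb : q * b = b * q) :
    cj q J = J ∨ cj q J = cj a J := by
  have h1 := hB.conj hF (hQ.le hq) (hQ.comm q hq) (hQ.cj_L hq)
  rw [conj_of_comm hqb] at h1
  exact hB.unique hF (hF.sq hQ.fam) hba h1

omit [Finite G] in
/-- a product of two elements swapping `J`, `J^a` normalizes `J` -/
theorem cj_mul_swap {a q r : G} {J : Subgroup G} (haa : a * a = 1) (hqa : q * a = a * q)
    (hq : cj q J = cj a J) (hr : cj r J = cj a J) : cj (q * r) J = J := by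
  rw [cj_mul, hr, ← cj_mul, hqa, cj_mul, hq, cj_cj_self haa]

/-- **(1b), (2)** The main theorem. -/
theorem main (hF : Fam GG F) {a : G} {L Q : Subgroup G} (hQ : Base GG F a L Q)
    (hZ : ∀ z ∈ Q, z * z = 1 → z ≠ 1 → (∀ q ∈ Q, q * z = z * q) → Good F L z) :
    (∀ b ∈ Q, b * b = 1 → b ≠ 1 → Good F L b) ∨
    ∃ b ∈ Q, b * b = 1 ∧ b ≠ 1 ∧ b ≠ a ∧ ¬ Good F L b ∧ (∃ J, BadW F a L b J) ∧
      ∀ q ∈ Q, q * b = b * q → q = 1 ∨ q = a ∨ q = b ∨ q = a * b := by
  classical
  by_cases hall : ∀ b ∈ Q, b * b = 1 → b ≠ 1 → Good F L b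
  · exact Or.inl hall
  right
  have haa := hF.sq hQ.fam
  have hL := hF.comp hQ.fam
  -- a bad involution with `C_Q(b)` of maximal order
  push Not at hall
  obtain ⟨b₀, hb₀Q, hb₀2, hb₀1, hb₀n⟩ := hall
  obtain ⟨b, ⟨hbQ, hbb, hb1, hbn⟩, hmax⟩ := Set.Finite.exists_maximalFor
    (fun b : G => Nat.card ↥(Q ⊓ centralizer ({b} : Set G)))
    {b : G | b ∈ Q ∧ b * b = 1 ∧ b ≠ 1 ∧ ¬ Good F L b} (Set.toFinite _)
    ⟨b₀, hb₀Q, hb₀2, hb₀1, hb₀n⟩
  have hba := hQ.comm b hbQ
  have hbL := hQ.fix b hbQ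
  obtain ⟨J, hB⟩ := (hF.pump hQ.fam b (hQ.le hbQ) hbb hb1 hba hbL).resolve_left hbn
  have hJ := hF.comp hB.fam
  obtain ⟨R, hR⟩ : ∃ R, R = Q ⊓ centralizer ({b} : Set G) := ⟨_, rfl⟩
  have hmemR : ∀ {q : G}, q ∈ R ↔ q ∈ Q ∧ q * b = b * q := by
    intro q
    rw [hR, mem_inf, mem_centralizer_singleton_iff]
  have hRQ : R < Q := by
    refine lt_of_le_of_ne (hR ▸ inf_le_left) fun h => hbn ?_
    refine hZ b hbQ hbb hb1 fun q hq => ?_
    rw [← h] at hq
    exact (hmemR.mp hq).2
  obtain ⟨g, hgQ, hgN, hgR, hg2⟩ := SporRec.MaxFix.exists_sq_mem hQ.two hRQ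
  have hga := hQ.comm g hgQ
  obtain ⟨b', hb'⟩ : ∃ b', b' = g * b * g⁻¹ := ⟨_, rfl⟩
  have hbR : b ∈ R := hmemR.mpr ⟨hbQ, rfl⟩
  have hb'R : b' ∈ R := hb' ▸ (mem_normalizer_iff.mp hgN b).mp hbR
  obtain ⟨hb'Q, hb'b⟩ := hmemR.mp hb'R
  have hb'2 : b' * b' = 1 := by
    rw [hb']
    calc g * b * g⁻¹ * (g * b * g⁻¹) = g * (b * b) * g⁻¹ := by group
      _ = 1 := by rw [hbb]; group
  have hb'1 : b' ≠ 1 := by
    intro h
    apply hb1
    rw [hb'] at h
    calc b = g⁻¹ * (g * b * g⁻¹) * g := by group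
      _ = 1 := by rw [h]; group
  have hRb' : ∀ q ∈ R, q * b' = b' * q := by
    intro q hq
    have h1 : g⁻¹ * q * g⁻¹⁻¹ ∈ R := (mem_normalizer_iff.mp (inv_mem hgN) q).mp hq
    have h2 := (hmemR.mp h1).2
    rw [hb']
    calc q * (g * b * g⁻¹) = g * ((g⁻¹ * q * g⁻¹⁻¹) * b) * g⁻¹ := by group
      _ = g * (b * (g⁻¹ * q * g⁻¹⁻¹)) * g⁻¹ := by rw [h2]
      _ = g * b * g⁻¹ * q := by group
  have hgb : g * b ≠ b * g := fun h => hgR (hmemR.mpr ⟨hgQ, h⟩)
  have hb'ne : b' ≠ b := by
    intro h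
    apply hgb
    rw [hb'] at h
    calc g * b = (g * b * g⁻¹) * g := by group
      _ = b * g := by rw [h]
  -- `e = b b'` is good
  obtain ⟨e, he⟩ : ∃ e, e = b * b' := ⟨_, rfl⟩
  have heR : e ∈ R := he ▸ mul_mem hbR hb'R
  have hee : e * e = 1 := by
    rw [he]
    calc b * b' * (b * b') = b * (b' * b) * b' := by group
      _ = (b * b) * (b' * b') := by rw [hb'b]; group
      _ = 1 := by rw [hbb, hb'2, one_mul]
  have he1 : e ≠ 1 := by
    intro h
    apply hb'ne
    have h1 : b' = b⁻¹ * (b * b') := by group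
    rw [← he, h, mul_one, inv_of_sq hbb] at h1
    exact h1
  have hge : g * e = e * g := by
    have h1 : g * b' * g⁻¹ = b := by
      have h2 := (hmemR.mp hg2).2
      rw [hb']
      calc g * (g * b * g⁻¹) * g⁻¹ = (g * g * b) * g⁻¹ * g⁻¹ := by group
        _ = (b * (g * g)) * g⁻¹ * g⁻¹ := by rw [h2]
        _ = b := by group
    have h3 : g * e * g⁻¹ = e := by
      rw [he]
      calc g * (b * b') * g⁻¹ = (g * b * g⁻¹) * (g * b' * g⁻¹) := by group
        _ = b' * b := by rw [h1, ← hb']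
        _ = b * b' := hb'b
    calc g * e = (g * e * g⁻¹) * g := by group
      _ = e * g := by rw [h3]
  have hegood : Good F L e := by
    by_contra hne
    have h1 : Nat.card ↥(Q ⊓ centralizer ({b} : Set G)) < Nat.card ↥(Q ⊓ centralizer ({e} : Set G)) := by
      rw [← hR]
      have h2 : R ≤ Q ⊓ centralizer ({e} : Set G) := by
        intro q hq
        refine ⟨(hmemR.mp hq).1, mem_c ?_⟩
        rw [he]
        calc q * (b * b') = (q * b) * b' := by group
          _ = b * (q * b') := by rw [(hmemR.mp hq).2]; group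
          _ = b * b' * q := by rw [hRb' q hq]; group
      have h3 : R < Q ⊓ centralizer ({e} : Set G) :=
        lt_of_le_of_ne h2 fun h => hgR (by rw [h]; exact ⟨hgQ, mem_c hge⟩)
      exact Set.ncard_lt_ncard h3 (Set.toFinite _)
    have h4 := hmax (j := e) ⟨(hmemR.mp heR).1, hee, he1, hne⟩ h1.le
    exact absurd h4 (not_le_of_gt h1)
  have hbJ : cj b J = J := cj_of_comm hJ.le
  have hb'J : cj b' J ≠ J := by
    intro h
    have h1 : e ∈ normalizer (J : Set G) := by
      rw [mem_normalizer_iff_cj, he, cj_mul, h, hbJ]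
    obtain ⟨N, hN, -⟩ := oneA hF hQ.fam hbb (hQ.le (hmemR.mp heR).1) hee he1 hba
      (hQ.comm e (hmemR.mp heR).1) (hmemR.mp heR).2 hbL (hQ.fix e (hmemR.mp heR).1) hB h1
    exact not_good_of_badW hF hQ.fam hee (hQ.comm e (hmemR.mp heR).1) (hQ.fix e (hmemR.mp heR).1) hN
      hegood
  have hb'J' : cj b' J = cj a J := (hQ.perm hF hba hB hb'Q hb'b).resolve_left hb'J
  -- the data of `b'`
  obtain ⟨J', hJ'⟩ : ∃ J', J' = cj g J := ⟨_, rfl⟩
  have hB' : BadW F a L b' J' := by
    rw [hb', hJ']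
    exact hB.conj hF (hQ.le hgQ) hga (hQ.cj_L hgQ)
  have hJc' := hF.comp hB'.fam
  have hb'a := hQ.comm b' hb'Q
  have hb'L := hQ.fix b' hb'Q
  have hperm : ∀ q ∈ R, cj q J = J ∨ cj q J = cj a J := fun q hq =>
    hQ.perm hF hba hB (hmemR.mp hq).1 (hmemR.mp hq).2
  have hperm' : ∀ q ∈ R, cj q J' = J' ∨ cj q J' = cj a J' := fun q hq =>
    hQ.perm hF hb'a hB' (hmemR.mp hq).1 (hRb' q hq)
  -- no involution of `R` normalizes `J` and `J'`
  have hno : ∀ c ∈ R, c * c = 1 → c ≠ 1 → cj c J = J → cj c J' ≠ J' := by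
    intro c hcR hcc hc1 hcJ hcJ'
    obtain ⟨hcQ, hcb⟩ := hmemR.mp hcR
    have hca := hQ.comm c hcQ
    have hcL := hQ.fix c hcQ
    have hcb' := hRb' c hcR
    obtain ⟨N, hN, hJN⟩ := oneA hF hQ.fam hbb (hQ.le hcQ) hcc hc1 hba hca hcb hbL hcL hB
      (mem_normalizer_iff_cj.mpr hcJ)
    obtain ⟨N', hN', hJN'⟩ := oneA hF hQ.fam hb'2 (hQ.le hcQ) hcc hc1 hb'a hca hcb' hb'L hcL hB'
      (mem_normalizer_iff_cj.mpr hcJ')
    have hNc := hF.comp hN.fam
    have hNc' := hF.comp hN'.fam
    have hb'C : b' ∈ centralizer ({c} : Set G) := mem_c hcb'.symm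
    have hcfJ : Fixes c J := hB.fixes_of_normalizes hF hQ.fam hbb hba hbL hca hcb hcL
      (mem_normalizer_iff_cj.mpr hcJ)
    have hcfJ' : Fixes c J' := hB'.fixes_of_normalizes hF hQ.fam hb'2 hb'a hb'L hca hcb' hcL
      (mem_normalizer_iff_cj.mpr hcJ')
    have e1 := isComp_cen' hJ hcc hcb hcfJ
    have e2 := isComp_cen' hJc' hcc hcb' hcfJ'
    have hb'N' : cj b' N' = N' := by
      have h1 : cj b' (cen J' c) = cen J' c := cj_of_comm ((cen_le J' c).trans hJc'.le)
      have h2 : cen J' c ≤ cj b' N' := by rw [← h1]; exact cj_mono hJN'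
      exact e2.unique (isComp_cj_of_mem hNc' hb'C) hNc' h2 hJN'
    have hb'N : cj b' N = N := by
      rcases hN.unique hF haa hca hN' with h | h
      · rw [← h]; exact hb'N'
      · have h3 : N = cj a N' := by rw [h, cj_cj_self haa]
        rw [h3, ← cj_mul, hb'a, cj_mul, hb'N']
    have h4 : cj b' (cen J c) = cj a (cen J c) := by
      rw [cj_cen, cj_cen, hb'J', conj_of_comm hcb'.symm, conj_of_comm hca.symm]
    have h5 : cj a (cen J c) ≤ N := by
      rw [← h4]
      have := cj_mono (g := b') hJN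
      rwa [hb'N] at this
    have h6 : cj a (cen J c) ≤ cj a N := cj_mono hJN
    have e3 : IsComp (centralizer ({b} : Set G) ⊓ centralizer ({c} : Set G)) (cj a (cen J c)) :=
      isComp_cj_of_mem e1 ⟨mem_c hba.symm, mem_c hca.symm⟩
    exact hN.ne (e3.unique (hF.comp hN.fam') hNc h6 h5)
  have hone : ∀ q ∈ R, cj q J = J → cj q J' = J' → q = 1 := by
    intro q hq h1 h2
    by_contra hq1
    obtain ⟨n, hn⟩ := hQ.two ⟨q, (hmemR.mp hq).1⟩
    have hn' : q ^ 2 ^ n = 1 := congrArg Subtype.val hn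
    have hex : ∃ n, q ^ 2 ^ n = 1 := ⟨n, hn'⟩
    have hspec := Nat.find_spec hex
    rcases hk : Nat.find hex with _ | k
    · rw [hk, pow_zero, pow_one] at hspec
      exact hq1 hspec
    · have hmin := Nat.find_min hex (m := k) (by omega)
      rw [hk] at hspec
      have h3 : q ^ 2 ^ k * q ^ 2 ^ k = 1 := by
        rw [← pow_add, ← two_mul, ← pow_succ']; exact hspec
      have h4 : cj (q ^ 2 ^ k) J = J :=
        mem_normalizer_iff_cj.mp (pow_mem (mem_normalizer_iff_cj.mpr h1) _)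
      have h5 : cj (q ^ 2 ^ k) J' = J' :=
        mem_normalizer_iff_cj.mp (pow_mem (mem_normalizer_iff_cj.mpr h2) _)
      exact hno _ (R.pow_mem hq _) h3 hmin h4 h5
  have haR : a ∈ R := hmemR.mpr ⟨hQ.mem, hba.symm⟩
  have hbJ' : cj b J' = cj a J' := by
    refine (hperm' b hbR).resolve_left fun h => hb1 (hone b hbR hbJ h)
  have hcase : ∀ q ∈ R, cj q J = J → q = 1 ∨ q = b := by
    intro q hq h
    rcases hperm' q hq with h1 | h1
    · exact Or.inl (hone q hq h h1)
    · right
      have h2 : q * b = 1 := by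
        refine hone (q * b) (mul_mem hq hbR) (by rw [cj_mul, hbJ, h]) ?_
        exact cj_mul_swap haa (hQ.comm q (hmemR.mp hq).1) h1 hbJ'
      calc q = q * b * b⁻¹ := by group
        _ = b := by rw [h2, one_mul, inv_of_sq hbb]
  refine ⟨b, hbQ, hbb, hb1, ?_, hbn, ⟨J, hB⟩, ?_⟩
  · intro h
    apply hB.ne
    rw [← h]; exact hbJ
  · intro q hqQ hqb
    have hqR : q ∈ R := hmemR.mpr ⟨hqQ, hqb⟩
    rcases hperm q hqR with h | h
    · rcases hcase q hqR h with h1 | h1
      · exact Or.inl h1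
      · exact Or.inr (Or.inr (Or.inl h1))
    · have h1 : cj (a * q) J = J := by
        rw [cj_mul, h, cj_cj_self haa]
      rcases hcase (a * q) (mul_mem haR hqR) h1 with h2 | h2
      · right; left
        calc q = a⁻¹ * (a * q) := by group
          _ = a := by rw [h2, mul_one, inv_of_sq haa]
      · right; right; right
        calc q = a⁻¹ * (a * q) := by group
          _ = a * b := by rw [h2, inv_of_sq haa]

end Cfsg.Agent.UGT.TMCBase
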