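import Cfsg.Agent.UGT.Nodes

/-!
# The order (R1): `A₇` before `PSL₂(q)` with `x` inner

* `NodeA7i`: in the world `PSL₂(q)` (inner or not), `A₇` there is no triple of type `A₇`.
* `NodeL2r`: if all triples are of type `PSL₂(q)`, no `x` is inner.
* `nodeL2i_of`, `nodeA7_of`: these two nodes give `NodeL2i` and `NodeA7'`; `ugt_of_v5` is the assembly.
-/

set_option autoImplicit false

open Cfsg Subgroup
open Cfsg.Agent.FixBN.BTheorem Cfsg.Agent.FixBN.BRelative
open Cfsg.Agent.UGT.Triple Cfsg.Agent.UGT.Iface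
open Cfsg.Agent.Intrinsic.Basic (Fixes IsComp core)

namespace Cfsg.Agent.UGT.Nodes

universe u

/-- **N6 in the order (R1)**: no triple of type `A₇`, inner triples of type `PSL₂(q)` allowed. -/
def NodeA7i : Prop := ∀ (G : Type u) [Group G] [Finite G], MinCex G →
  Types G (fun _ L => IsL2 (Bar L) ∨ IsAlt 7 (Bar L)) →
  ∀ (x a : G) (L : Subgroup G), IsTriple x a L → ¬ IsAlt 7 (Bar L)

/-- **N5 in the order (R1)**: all triples of type `PSL₂(q)`; then no `x` is inner. -/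
def NodeL2r : Prop := ∀ (G : Type u) [Group G] [Finite G], MinCex G →
  Types G (fun _ L => IsL2 (Bar L)) →
  ∀ (x a : G) (L : Subgroup G), IsTriple x a L → ¬ IsInner x L

theorem nodeL2i_of (h7 : NodeA7i.{u}) (h2 : NodeL2r.{u}) : NodeL2i.{u} :=
  fun G _ _ hG hT x a L t _ => h2 G hG (fun x a L t =>
    (hT x a L t).resolve_right (h7 G hG hT x a L t)) x a L t

theorem nodeA7_of (h7 : NodeA7i.{u}) : NodeA7'.{u} :=
  fun G _ _ hG hT => h7 G hG fun x a L t => (hT x a L t).imp And.left id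

/-- **Assembly, order (R1).** -/
theorem ugt_of_v5 (hE : NodeE.{u}) (hU2 : NodeU2.{u}) (hCov : NodeCov.{u}) (hHe : NodeHe.{u})
    (hL34 : NodeL34'.{u}) (hAn : NodeAn'.{u}) (hA9 : NodeA9.{u}) (hA7 : NodeA7i.{u})
    (hL2 : NodeL2r.{u}) (hR : NodeR.{u}) : ∀ (G : Type u) [Group G] [Finite G], UGT G :=
  ugt_of_v4 hE hU2 hCov hHe hL34 hAn hA9 (nodeL2i_of hA7 hL2) (nodeA7_of hA7) hR

end Cfsg.Agent.UGT.Nodes
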