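import Cfsg.Agent.UGT.NoGamma
import Cfsg.Agent.UGT.LTF.Defs
import Cfsg.Agent.McLLyComp.FactsMT

/-!
# `FGam` for `L₃(4)`, from `LTF.Defs.KF34`
-/

set_option autoImplicit false

open Cfsg Subgroup
open Cfsg.Agent.UGT.Iface Cfsg.Agent.UGT.NoGamma

namespace Cfsg.Agent.UGT.NoGammaL34

universe u

theorem two_dvd {K : Type u} [Group K] (hK : IsL34 K) : 2 ∣ Nat.card K := by
  obtain ⟨F, i1, i2, hF, ⟨e⟩⟩ := hK
  rw [Nat.card_congr e.toEquiv]
  have h2 : ringChar F = 2 := (FiniteField.even_card_iff_char_two (F := F)).2 (by rw [hF])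
  have hc : CharP F 2 := h2 ▸ ringChar.charP F
  obtain ⟨t, ht⟩ : ∃ t : Matrix.ProjectiveSpecialLinearGroup (Fin 3) F, orderOf t = 2 := by
    have h01 : (0 : Fin 3) ≠ 1 := by decide
    let s : Matrix.SpecialLinearGroup (Fin 3) F :=
      ⟨Matrix.transvection 0 1 1, Matrix.det_transvection_of_ne 0 1 h01 1⟩
    refine ⟨QuotientGroup.mk' _ s, orderOf_eq_prime ?_ ?_⟩
    · rw [← map_pow]
      have h1 : s ^ 2 = 1 := by
        apply Subtype.ext
        rw [pow_two]
        change Matrix.transvection 0 1 1 * Matrix.transvection 0 1 1 = 1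
        rw [Matrix.transvection_mul_transvection_same _ _ h01, CharTwo.add_self_eq_zero,
          Matrix.transvection_zero]
      rw [h1, map_one]
    · intro h1
      have h2 : s ∈ center (Matrix.SpecialLinearGroup (Fin 3) F) := (QuotientGroup.eq_one_iff _).1 h1
      obtain ⟨r, -, hr⟩ := Matrix.SpecialLinearGroup.mem_center_iff.1 h2
      have h3 := congrFun (congrFun hr 0) 1
      change (Matrix.scalar (Fin 3) r : Matrix (Fin 3) (Fin 3) F) 0 1 = Matrix.transvection 0 1 1 0 1 at h3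
      simp [Matrix.transvection] at h3
  rw [← ht]
  exact orderOf_dvd_natCard t

/-- `FGam` for `L₃(4)` -/
theorem fgam_l34 (h : LTF.Defs.KF34.{u}) {K : Type u} [Group K] [Finite K] (hK : IsL34 K) : FGam K := by
  intro τ δ h1 h2 h3 h4 h5
  by_contra hne
  have hE : LTF.Defs.OddC τ (zpowers δ) := by
    refine ⟨by rwa [Nat.card_zpowers], ?_, ?_⟩
    · intro ε hε
      obtain ⟨n, rfl⟩ := mem_zpowers_iff.mp hε
      exact (Commute.zpow_left (h4 : Commute δ τ) n)
    · intro k hk ε hε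
      obtain ⟨n, rfl⟩ := mem_zpowers_iff.mp hε
      have h6 : MulAut.conj k * δ = δ * MulAut.conj k := by
        ext z
        simp only [MulAut.mul_apply, MulAut.conj_apply, map_mul, map_inv, h5 k hk]
      have h7 : Commute (MulAut.conj k) (δ ^ n) := Commute.zpow_right (h6 : Commute _ _) n
      rw [h7.eq, mul_inv_cancel_right]
      exact hε
  have hb : zpowers δ ≠ ⊥ := fun h => hne (zpowers_eq_bot.mp h)
  have FT := h K hK τ h1 (zpowers δ) hE hb
  obtain ⟨y, hy, hy3, hτy⟩ := FT.core _ hE δ (mem_zpowers δ)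
  obtain ⟨b, hbb, hb1, hτb⟩ := McLLyComp.FactsMT.exists_fixed_involution (two_dvd hK) h1
  have h6 := FT.inv b y hbb hb1 hτb hy3 hτy
  have h7 : y * b * y⁻¹ = b := by
    have := h5 b hτb
    rwa [hy, MulAut.conj_apply] at this
  have h8 : b * y * b⁻¹ = y := by
    have h9 : y * b = b * y := mul_inv_eq_iff_eq_mul.mp h7
    rw [← h9, mul_inv_cancel_right]
  rw [h8] at h6
  have h9 : y = 1 := by
    have h10 : y * y = 1 := by
      nth_rewrite 2 [h6]
      exact mul_inv_cancel y
    calc y = y ^ 3 * (y * y)⁻¹ := by group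
      _ = 1 := by rw [hy3, h10]; group
  apply hne
  rw [hy, h9, map_one]

end Cfsg.Agent.UGT.NoGammaL34
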