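import Cfsg.Agent.UGT.TMCMax

/-!
# Weights of bad pump-ups
-/

set_option autoImplicit false

open Cfsg Subgroup
open Cfsg.Agent.SignalizersComponents Cfsg.Agent.Lib
open Cfsg.Agent.SignalizersComponents.IntrinsicBasic
open Cfsg.Agent.SignalizersComponents.IntrinsicIntr
open Cfsg.Agent.SignalizersComponents.PLayerAut
open Cfsg.Agent.Intrinsic.Basic Cfsg.Agent.Intrinsic.Cen Cfsg.Agent.Intrinsic.Diag
open Cfsg.Agent.McLLyComp.Act
open Cfsg.Agent.McLLyComp.Defs (Ty)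
open Cfsg.Agent.UGT.TMCBase Cfsg.Agent.UGT.TMCSyl Cfsg.Agent.UGT.TMCMax
open scoped commutatorElement

universe u

namespace Cfsg.Agent.UGT.TMCBad

/-! ### simple quotients -/

section qs

variable {A : Type*} [Group A] [Finite A]

/-- the order of the simple quotient of a quasisimple group of even order is divisible by 4 -/
theorem four_dvd (hq : IsQuasisimple A) (h2 : 2 ∣ Nat.card A) : 4 ∣ Nat.card (A ⧸ center A) := by
  have hs : IsSimpleGroup (A ⧸ center A) := hq.2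
  have hperf : Group.IsPerfect A := hq.1
  have h3 : 2 ∣ Nat.card (A ⧸ center A) :=
    even_of_quot hperf h2 (φ := QuotientGroup.mk' (center A)) (QuotientGroup.mk'_surjective _)
      (by rw [QuotientGroup.ker_mk'])
  refine SmallSimple.EvenOrder.four_dvd_card (fun hcomm => ?_) h3
  -- `A ⧸ center A` is perfect
  have h4 : commutator A ≤ center A := by
    rw [_root_.commutator_def, commutator_le]
    intro a _ b _
    have h5 : (QuotientGroup.mk' (center A)) ⁅a, b⁆ = 1 := by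
      rw [map_commutatorElement, commutatorElement_eq_one_iff_mul_comm]
      exact hcomm.is_comm.comm _ _
    rw [← QuotientGroup.ker_mk' (center A)]
    exact h5
  rw [Group.isPerfect_def] at hperf
  rw [hperf, top_le_iff] at h4
  have h5 : Nat.card (A ⧸ center A) = 1 := by
    rw [h4]
    exact Subgroup.index_top
  rw [h5] at h3
  norm_num at h3

/-- a group with `O(X) = 1` and a noncentral involution contains two distinct commuting involutions -/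
theorem exists_four {X : Type*} [Group X] [Finite X] (hO : oddCore X = ⊥) {x : X} (hxx : x * x = 1)
    (hx : x ∉ center X) : ∃ v w : X, v * v = 1 ∧ w * w = 1 ∧ v ≠ 1 ∧ w ≠ 1 ∧ v ≠ w ∧ v * w = w * v := by
  have h2 : Fact (Nat.Prime 2) := ⟨Nat.prime_two⟩
  have hx1 : x ≠ 1 := fun h => hx (h ▸ one_mem _)
  have hox : orderOf x = 2 := orderOf_eq_prime (by rw [pow_two, hxx]) hx1
  have hp : IsPGroup 2 (zpowers x) := by
    have : Nat.card (zpowers x) = 2 ^ 1 := by rw [Nat.card_zpowers, hox]; norm_num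
    exact IsPGroup.of_card this
  obtain ⟨P, hP⟩ := hp.exists_le_sylow
  have hxP : x ∈ P := hP (mem_zpowers x)
  have h1 : ∃ g : X, g * x * g⁻¹ ∈ P ∧ g * x * g⁻¹ ≠ x := by
    by_contra hno
    push Not at hno
    obtain ⟨N, hN, hodd, hc⟩ := Cfsg.Agent.S0215.result P x hox hxP hno
    have h3 : N ≤ oddCore X := Cores.le_pPrimeCore hN (Nat.coprime_two_right.mpr hodd)
    rw [hO, le_bot_iff] at h3
    apply hx
    rw [mem_center_iff]
    intro g
    have h4 := hc g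
    rw [h3, mem_bot] at h4
    calc g * x = (x * g * x⁻¹ * g⁻¹)⁻¹ * (x * g) := by group
      _ = x * g := by rw [h4]; group
  obtain ⟨g, hg, hgx⟩ := h1
  obtain ⟨y, hy⟩ : ∃ y, y = g * x * g⁻¹ := ⟨_, rfl⟩
  rw [← hy] at hg hgx
  have hyy : y * y = 1 := by
    rw [hy]
    calc g * x * g⁻¹ * (g * x * g⁻¹) = g * (x * x) * g⁻¹ := by group
      _ = 1 := by rw [hxx]; group
  have hy1 : y ≠ 1 := by
    intro h
    apply hx1
    rw [hy] at h
    calc x = g⁻¹ * (g * x * g⁻¹) * g := by group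
      _ = 1 := by rw [h]; group
  -- a central involution of `P`
  have hnt : Nontrivial P := ⟨⟨x, hxP⟩, 1, fun h => hx1 (congrArg Subtype.val h)⟩
  have hcn : Nontrivial (center P) := P.isPGroup'.center_nontrivial
  obtain ⟨⟨z, hz⟩, hz1⟩ := exists_ne (1 : center P)
  have hz1' : z ≠ 1 := fun h => hz1 (Subtype.ext h)
  obtain ⟨n, hn⟩ := P.isPGroup' z
  classical
  have hex : ∃ n, z ^ 2 ^ n = 1 := ⟨n, hn⟩
  have hspec := Nat.find_spec hex
  rcases hk : Nat.find hex with _ | k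
  · rw [hk, pow_zero, pow_one] at hspec
    exact absurd hspec hz1'
  have hmin := Nat.find_min hex (m := k) (by omega)
  rw [hk] at hspec
  obtain ⟨c, hc⟩ : ∃ c, c = z ^ 2 ^ k := ⟨_, rfl⟩
  have hcc : c * c = 1 := by
    rw [hc, ← pow_add, ← two_mul, ← pow_succ']; exact hspec
  have hc1 : c ≠ 1 := hc ▸ hmin
  have hcz : c ∈ center P := hc ▸ pow_mem hz _
  have hcc' : (c : X) * c = 1 := congrArg Subtype.val hcc
  have hc1' : (c : X) ≠ 1 := fun h => hc1 (Subtype.ext h)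
  have hcomm : ∀ w : X, w ∈ P → (c : X) * w = w * c := by
    intro w hw
    exact (congrArg Subtype.val (mem_center_iff.mp hcz ⟨w, hw⟩)).symm
  by_cases hcx : (c : X) = x
  · exact ⟨c, y, hcc', hyy, hc1', hy1, by rw [hcx]; exact hgx.symm, hcomm y hg⟩
  · exact ⟨c, x, hcc', hxx, hc1', hx1, hcx, hcomm x hxP⟩

end qs

variable {G : Type u} [Group G] [Finite G] {𝒯 P : Ty.{u}} {M0 : ℕ}

omit [Finite G] in
theorem commutator_mem' {Y : Subgroup G} {q y : G} (hq : q ∈ Y) (hy : y ∈ Y) : ⁅q, y⁆ ∈ Y := by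
  rw [commutatorElement_def]
  exact Y.mul_mem (Y.mul_mem (Y.mul_mem hq hy) (Y.inv_mem hq)) (Y.inv_mem hy)

omit [Finite G] in
/-- an element of `Y` is central modulo `O(Y)` iff it fixes `Y` -/
theorem mk_center_iff {Y : Subgroup G} {q : G} (hq : q ∈ Y) :
    (QuotientGroup.mk' (oddCore ↥Y)) ⟨q, hq⟩ ∈ center (↥Y ⧸ oddCore ↥Y) ↔ Fixes q Y := by
  have key : ∀ y : G, ∀ hy : y ∈ Y, ⁅q, y⁆ ∈ core Y ↔
      (QuotientGroup.mk' (oddCore ↥Y)) ⟨q, hq⟩ * (QuotientGroup.mk' (oddCore ↥Y)) ⟨y, hy⟩ =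
      (QuotientGroup.mk' (oddCore ↥Y)) ⟨y, hy⟩ * (QuotientGroup.mk' (oddCore ↥Y)) ⟨q, hq⟩ := by
    intro y hy
    rw [mem_core_iff (commutator_mem' hq hy), ← commutatorElement_eq_one_iff_mul_comm,
      ← map_commutatorElement]
    exact (QuotientGroup.eq_one_iff _).symm
  rw [mem_center_iff]
  constructor
  · intro h
    refine ⟨le_normalizer hq, fun y hy => (key y hy).mpr (h _).symm⟩
  · intro h g
    obtain ⟨⟨y, hy⟩, rfl⟩ := QuotientGroup.mk'_surjective (oddCore ↥Y) g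
    exact ((key y hy).mp (h.2 y hy)).symm

/-- the 2-part of a number -/
theorem two_part_mul {m n : ℕ} (hm : m ≠ 0) (hn : n ≠ 0) : 2 ^ (m * n).factorization 2 =
    2 ^ m.factorization 2 * 2 ^ n.factorization 2 := Nat.ordProj_mul 2 hm hn

/-- the elements of `C_Q(z)` normalizing `J` fix `J` and `J^t` -/
theorem fixes_both (H : Hyp G 𝒯 P M0) {t z q : G} {L J : Subgroup G} (hL : MaxF 𝒯 P M0 t L)
    (hzz : z * z = 1) (hzt : z * t = t * z) (hzL : Fixes z L) (hB : BadW (MaxF 𝒯 P M0) t L z J)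
    (hqt : q * t = t * q) (hqz : q * z = z * q) (hqL : Fixes q L)
    (hqJ : q ∈ normalizer (J : Set G)) : Fixes q J ∧ Fixes q (cj t J) := by
  have h1 := hB.fixes_of_normalizes (fam H) hL hzz hzt hzL hqt hqz hqL hqJ
  refine ⟨h1, ?_⟩
  have h2 := h1.cj t
  rwa [show t * q * t⁻¹ = q from conj_of_comm hqt.symm] at h2

/-- the order part of the weight grows -/
theorem tp_bad (H : Hyp G 𝒯 P M0) {t z : G} {L J Q : Subgroup G}
    (hQ : Base (⊤ : Subgroup G) (MaxF 𝒯 P M0) t L Q) (hz : z ∈ Q) (hzz : z * z = 1)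
    (hzQ : ∀ q ∈ Q, q * z = z * q) (hB : BadW (MaxF 𝒯 P M0) t L z J) :
    2 * Nat.card Q ≤ tp (FX z J) := by
  have hL := hQ.fam
  have htt := (fam H).sq hL
  have hzt := hQ.comm z hz
  have hzL := hQ.fix z hz
  have hJ := hB.fam.comp
  obtain ⟨Y, hY⟩ : ∃ Y, Y = cj t J := ⟨_, rfl⟩
  have hYc : IsComp (centralizer ({z} : Set G)) Y := hY ▸ hB.fam'.comp
  have hYJ : J ≠ Y := by rw [hY]; exact hB.ne.symm
  obtain ⟨Q₁, hQ₁⟩ : ∃ Q₁, Q₁ = Q ⊓ normalizer (J : Set G) := ⟨_, rfl⟩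
  have hmem : ∀ {q : G}, q ∈ Q₁ ↔ q ∈ Q ∧ cj q J = J := by
    intro q
    rw [hQ₁, mem_inf, mem_normalizer_iff_cj]
  have hfix : ∀ q ∈ Q₁, Fixes q J ∧ Fixes q Y := by
    intro q hq
    obtain ⟨h1, h2⟩ := hmem.mp hq
    rw [hY]
    exact fixes_both H hL hzz hzt hzL hB (hQ.comm q h1) (hzQ q h1) (hQ.fix q h1)
      (mem_normalizer_iff_cj.mpr h2)
  have h2Q : IsPGroup 2 Q₁ := hQ.two.to_le (hQ₁ ▸ inf_le_left)
  -- `Q₁` has index 2
  have hidx : Nat.card Q = 2 * Nat.card Q₁ := by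
    have hle : Q₁ ≤ Q := hQ₁ ▸ inf_le_left
    have h1 : Q₁.relIndex Q = 2 := by
      rw [Subgroup.relIndex_eq_two_iff]
      refine ⟨t, hQ.mem, fun q hq => ?_⟩
      rcases hQ.perm (fam H) hzt hB hq (hzQ q hq) with h | h
      · right
        refine ⟨hmem.mpr ⟨hq, h⟩, fun h' => ?_⟩
        have h3 := (hmem.mp h').2
        rw [cj_mul] at h3
        apply hB.ne
        have h4 : cj q (cj t J) = cj q J := by rw [h3, h]
        exact cj_injective q h4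
      · left
        refine ⟨hmem.mpr ⟨mul_mem hq hQ.mem, ?_⟩, fun h' => ?_⟩
        · rw [hQ.comm q hq, cj_mul, h, cj_cj_self htt]
        · exact hB.ne (h.symm.trans (hmem.mp h').2)
    have h2 := Subgroup.card_mul_index (Q₁.subgroupOf Q)
    have h3 : (Q₁.subgroupOf Q).index = 2 := h1
    rw [h3, Nat.card_congr (Subgroup.subgroupOfEquivOfLe hle).toEquiv] at h2
    rw [← h2, mul_comm]
  -- the group `Q₁ Y`
  have hnY : Q₁ ≤ normalizer (Y : Set G) := fun q hq => (hfix q hq).2.1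
  have hle : Q₁ ⊔ Y ≤ FX z J := by
    refine sup_le (fun q hq => ?_) fun y hy => ?_
    · exact ⟨hzQ q (hmem.mp hq).1, (hfix q hq).1⟩
    · exact ⟨comm_c (hYc.le hy), hJ.fixes_of_mem hYc hYJ hy⟩
  have hcard : Nat.card ↥(Q₁ ⊔ Y) * Nat.card ↥(Q₁ ⊓ Y) = Nat.card Q₁ * Nat.card Y := by
    rw [← Cfsg.Agent.Lib.ProductSet.card_mul_card_inf Q₁ Y]
    congr 1
    have := Subgroup.coe_mul_of_left_le_normalizer_right Q₁ Y hnY
    exact Nat.card_congr (Equiv.setCongr this)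
  -- the quotient of `Y`
  have hq : IsQuasisimple (↥Y ⧸ oddCore ↥Y) := (isComp_iff.mp hYc).2.2.1
  have heven : 2 ∣ Nat.card (↥Y ⧸ oddCore ↥Y) := by
    have h1 := Subgroup.card_mul_index (oddCore ↥Y)
    have h2 := hYc.even
    rw [← h1] at h2
    have h3 : (Nat.card (oddCore ↥Y)).Coprime 2 := Cores.pPrimeCore_coprime 2
    exact h3.symm.dvd_of_dvd_mul_left h2
  have h4 := four_dvd hq heven
  let θ : ↥Y →* (↥Y ⧸ oddCore ↥Y) ⧸ center (↥Y ⧸ oddCore ↥Y) :=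
    (QuotientGroup.mk' (center (↥Y ⧸ oddCore ↥Y))).comp (QuotientGroup.mk' (oddCore ↥Y))
  have hθ : Function.Surjective θ :=
    (QuotientGroup.mk'_surjective _).comp (QuotientGroup.mk'_surjective _)
  have hcY : Nat.card Y = Nat.card θ.ker *
      Nat.card ((↥Y ⧸ oddCore ↥Y) ⧸ center (↥Y ⧸ oddCore ↥Y)) := by
    rw [← Subgroup.card_mul_index θ.ker, Subgroup.index_ker, MonoidHom.range_eq_top.mpr hθ,
      Subgroup.card_top]
  have hinf : Nat.card ↥(Q₁ ⊓ Y) ∣ Nat.card θ.ker := by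
    have h5 : (Q₁ ⊓ Y) ≤ θ.ker.map Y.subtype := by
      rintro q ⟨hq1, hqY⟩
      refine ⟨⟨q, hqY⟩, ?_, rfl⟩
      rw [SetLike.mem_coe, MonoidHom.mem_ker]
      change (QuotientGroup.mk' (center (↥Y ⧸ oddCore ↥Y))) ((QuotientGroup.mk' (oddCore ↥Y)) ⟨q, hqY⟩) = 1
      refine (QuotientGroup.eq_one_iff _).mpr ?_
      exact (mk_center_iff hqY).mpr (hfix q hq1).2
    have h6 := card_dvd_of_le h5
    rwa [card_map_of_injective Y.subtype_injective] at h6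
  -- the 2-parts
  have e1 := congrArg (fun n : ℕ => 2 ^ n.factorization 2) hcard
  rw [two_part_mul Nat.card_pos.ne' Nat.card_pos.ne', two_part_mul Nat.card_pos.ne' Nat.card_pos.ne',
    hcY, two_part_mul Nat.card_pos.ne' Nat.card_pos.ne'] at e1
  have e2 : 2 ^ (Nat.card ↥(Q₁ ⊓ Y)).factorization 2 = Nat.card ↥(Q₁ ⊓ Y) :=
    tp_of_two (h2Q.to_le inf_le_left)
  have e3 : 2 ^ (Nat.card Q₁).factorization 2 = Nat.card Q₁ := tp_of_two h2Q
  have e4 : Nat.card ↥(Q₁ ⊓ Y) ≤ 2 ^ (Nat.card θ.ker).factorization 2 := by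
    rw [← e2]
    refine Nat.pow_le_pow_right (by norm_num) ?_
    exact (Nat.factorization_le_iff_dvd Nat.card_pos.ne' Nat.card_pos.ne').mpr hinf 2
  have e5 : 4 ≤ 2 ^ (Nat.card ((↥Y ⧸ oddCore ↥Y) ⧸ center (↥Y ⧸ oddCore ↥Y))).factorization 2 := by
    have h6 : 2 ^ 2 ∣ Nat.card ((↥Y ⧸ oddCore ↥Y) ⧸ center (↥Y ⧸ oddCore ↥Y)) := by
      norm_num; exact h4
    have h7 := (Nat.Prime.pow_dvd_iff_le_factorization Nat.prime_two Nat.card_pos.ne').mp h6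
    calc 4 = 2 ^ 2 := by norm_num
      _ ≤ _ := Nat.pow_le_pow_right (by norm_num) h7
  rw [e2, e3] at e1
  have e6 : tp (Q₁ ⊔ Y) ≤ tp (FX z J) := tp_mono hle
  have e7 : 4 * Nat.card Q₁ ≤ tp (Q₁ ⊔ Y) := by
    have hpos : 0 < Nat.card ↥(Q₁ ⊓ Y) := Nat.card_pos
    have e8 : tp (Q₁ ⊔ Y) * Nat.card ↥(Q₁ ⊓ Y) = Nat.card Q₁ *
      (2 ^ (Nat.card θ.ker).factorization 2 *
        2 ^ (Nat.card ((↥Y ⧸ oddCore ↥Y) ⧸ center (↥Y ⧸ oddCore ↥Y))).factorization 2) := e1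
    by_contra hlt
    push Not at hlt
    have e9 : tp (Q₁ ⊔ Y) * Nat.card ↥(Q₁ ⊓ Y) < 4 * Nat.card Q₁ * Nat.card ↥(Q₁ ⊓ Y) :=
      Nat.mul_lt_mul_of_pos_right hlt hpos
    have e10 : Nat.card Q₁ * (Nat.card ↥(Q₁ ⊓ Y) * 4) ≤ Nat.card Q₁ *
      (2 ^ (Nat.card θ.ker).factorization 2 *
        2 ^ (Nat.card ((↥Y ⧸ oddCore ↥Y) ⧸ center (↥Y ⧸ oddCore ↥Y))).factorization 2) :=
      Nat.mul_le_mul_left _ (Nat.mul_le_mul e4 e5)
    rw [e8] at e9
    have e11 : Nat.card Q₁ * (Nat.card ↥(Q₁ ⊓ Y) * 4) = 4 * Nat.card Q₁ * Nat.card ↥(Q₁ ⊓ Y) := by ring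
    omega
  rw [hidx]
  omega

/-- lifting a noncentral involution of `Y / O(Y)` -/
theorem exists_noncentral {X Y R : Subgroup G} (hY : IsComp X Y) (hRX : R ≤ X) (hR : IsPGroup 2 R)
    (hRf : ∀ r ∈ R, Fixes r Y) (hu : ∃ x : ↥Y ⧸ oddCore ↥Y, x * x = 1 ∧ x ∉ center _) :
    ∃ w ∈ Y, w * w = 1 ∧ ¬ Fixes w Y ∧ ∀ r ∈ R, r * w = w * r := by
  obtain ⟨x, hx1, hx2⟩ := hu
  obtain ⟨⟨u₀, hu₀⟩, rfl⟩ := QuotientGroup.mk'_surjective (oddCore ↥Y) x
  have h1 : u₀ * u₀ ∈ core Y := by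
    rw [← map_mul] at hx1
    exact (mem_core_iff (Y.mul_mem hu₀ hu₀)).mpr ((QuotientGroup.eq_one_iff _).mp hx1)
  obtain ⟨w, hw1, hw2, hw3, hw4⟩ := exists_lift hY hRX hR hu₀ (hY.core_le_core h1)
    (fun r hr => hY.core_le_core ((hRf r hr).2 u₀ hu₀))
  refine ⟨w, hw1, hw2, fun hf => hx2 ?_, hw4⟩
  have h2 : (QuotientGroup.mk' (oddCore ↥Y)) ⟨u₀, hu₀⟩ = (QuotientGroup.mk' (oddCore ↥Y)) ⟨w, hw1⟩ := by
    refine (mk_eq_iff hu₀ hw1).mpr ?_
    rw [hY.core_eq]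
    exact ⟨Y.mul_mem (Y.inv_mem hu₀) hw1, hw3⟩
  rw [h2]
  exact (mk_center_iff hw1).mpr hf

/-- the rank part of the weight does not decrease -/
theorem el_bad (H : Hyp G 𝒯 P M0) (hP : ∀ {X : Type u} [Group X], P X → ∃ x : X, x * x = 1 ∧ x ∉ center X)
    {t z : G} {L J Q A : Subgroup G}
    (hQ : Base (⊤ : Subgroup G) (MaxF 𝒯 P M0) t L Q) (hz : z ∈ Q) (hzz : z * z = 1)
    (hzQ : ∀ q ∈ Q, q * z = z * q) (hB : BadW (MaxF 𝒯 P M0) t L z J) (hAQ : A ≤ Q) (hA : Elem A) :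
    Nat.card A ≤ el (FX z J) := by
  have hL := hQ.fam
  have htt := (fam H).sq hL
  have hzt := hQ.comm z hz
  have hzL := hQ.fix z hz
  have hJ := hB.fam.comp
  obtain ⟨Y, hY⟩ : ∃ Y, Y = cj t J := ⟨_, rfl⟩
  have hYc : IsComp (centralizer ({z} : Set G)) Y := hY ▸ hB.fam'.comp
  have hYJ : J ≠ Y := by rw [hY]; exact hB.ne.symm
  have hfix : ∀ q ∈ Q, cj q J = J → Fixes q J ∧ Fixes q Y := by
    intro q h1 h2
    rw [hY]
    exact fixes_both H hL hzz hzt hzL hB (hQ.comm q h1) (hzQ q h1) (hQ.fix q h1)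
      (mem_normalizer_iff_cj.mpr h2)
  obtain ⟨A₁, hA₁⟩ : ∃ A₁, A₁ = A ⊓ normalizer (J : Set G) := ⟨_, rfl⟩
  have hmem : ∀ {q : G}, q ∈ A₁ ↔ q ∈ A ∧ cj q J = J := by
    intro q
    rw [hA₁, mem_inf, mem_normalizer_iff_cj]
  have hA₁F : ∀ q ∈ A₁, q ∈ FX z J := by
    intro q hq
    obtain ⟨h1, h2⟩ := hmem.mp hq
    exact ⟨hzQ q (hAQ h1), (hfix q (hAQ h1) h2).1⟩
  by_cases hall : ∀ q ∈ A, cj q J = J
  · exact le_el (fun q hq => hA₁F q (hmem.mpr ⟨hq, hall q hq⟩)) hA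
  push Not at hall
  obtain ⟨x, hxA, hxJ⟩ := hall
  have hA₁E : Elem A₁ := fun q hq => hA q (hmem.mp hq).1
  have hcases : ∀ q ∈ A, cj q J = J ∨ cj q J = cj t J := fun q hq =>
    hQ.perm (fam H) hzt hB (hAQ hq) (hzQ q (hAQ hq))
  have hcard : Nat.card A = 2 * Nat.card A₁ := by
    have hle : A₁ ≤ A := hA₁ ▸ inf_le_left
    have hxJ' := (hcases x hxA).resolve_left hxJ
    have h1 : A₁.relIndex A = 2 := by
      rw [Subgroup.relIndex_eq_two_iff]
      refine ⟨x, hxA, fun q hq => ?_⟩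
      rcases hcases q hq with h | h
      · right
        refine ⟨hmem.mpr ⟨hq, h⟩, fun h' => ?_⟩
        have h3 := (hmem.mp h').2
        rw [cj_mul, hxJ'] at h3
        apply hB.ne
        have h4 : cj q (cj t J) = cj q J := by rw [h3, h]
        exact cj_injective q h4
      · left
        refine ⟨hmem.mpr ⟨mul_mem hq hxA, ?_⟩, fun h' => ?_⟩
        · rw [cj_mul, hxJ', ← cj_mul, hQ.comm q (hAQ hq), cj_mul, h, cj_cj_self htt]
        · exact hB.ne (h.symm.trans (hmem.mp h').2)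
    have h2 := Subgroup.card_mul_index (A₁.subgroupOf A)
    have h3 : (A₁.subgroupOf A).index = 2 := h1
    rw [h3, Nat.card_congr (Subgroup.subgroupOfEquivOfLe hle).toEquiv] at h2
    rw [← h2, mul_comm]
  have hA₁X : A₁ ≤ centralizer ({z} : Set G) := fun q hq => mem_c (hA₁F q hq).1
  have hA₁Y : ∀ r ∈ A₁, Fixes r Y := fun r hr => (hfix r (hAQ (hmem.mp hr).1) (hmem.mp hr).2).2
  obtain ⟨w, hw1, hw2, hw3, hw4⟩ := exists_noncentral hYc hA₁X hA₁E.isPGroup hA₁Y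
    (hP (hY ▸ hB.fam'.prop))
  have hwA : w ∉ A₁ := fun h => hw3 (hA₁Y w h)
  obtain ⟨B, hB1, hB2, hB3, hB4, hB5⟩ := elem_insert hA₁E hw2 hw4 hwA
  rw [hcard, ← hB5]
  refine le_el (fun b hb => ?_) hB4
  have hwF : w ∈ FX z J := ⟨comm_c (hYc.le hw1), hJ.fixes_of_mem hYc hYJ hw1⟩
  rcases hB3 b hb with h | h
  · exact hA₁F b h
  · have h1 := (FX z J).mul_mem ((FX z J).inv_mem hwF) (hA₁F _ h)
    rwa [inv_mul_cancel_left] at h1

/-- a bad pump-up has an elementary abelian group of order 8 fixing `J` -/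
theorem eight_le (H : Hyp G 𝒯 P M0) (hP : ∀ {X : Type u} [Group X], P X → ∃ x : X, x * x = 1 ∧ x ∉ center X)
    {t b : G} {L J : Subgroup G} (hL : MaxF 𝒯 P M0 t L) (hbb : b * b = 1) (hb1 : b ≠ 1)
    (hbt : b * t = t * b) (hbL : Fixes b L) (hB : BadW (MaxF 𝒯 P M0) t L b J) :
    8 ≤ el (FX b J) := by
  have htt := (fam H).sq hL
  have hJ := hB.fam.comp
  obtain ⟨Y, hY⟩ : ∃ Y, Y = cj t J := ⟨_, rfl⟩
  have hYc : IsComp (centralizer ({b} : Set G)) Y := hY ▸ hB.fam'.comp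
  have hYJ : J ≠ Y := by rw [hY]; exact hB.ne.symm
  have htC : t ∈ centralizer ({b} : Set G) := mem_c hbt.symm
  -- `b ∉ Y`
  have hbY : b ∉ Y := by
    intro h
    have hbJ : b ∈ J := by
      rw [hY, mem_cj] at h
      have h2 : t⁻¹ * b * t = b := by
        rw [mul_assoc, hbt, ← mul_assoc, inv_mul_cancel, one_mul]
      rwa [h2] at h
    have hZ : Nat.card (↥J ⧸ oddCore ↥J) ≤ Nat.card (↥(diag (centralizer ({b} : Set G)) J t) ⧸
        oddCore ↥(diag (centralizer ({b} : Set G)) J t)) := by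
      rw [← hB.eq, hB.fam.card]
      obtain ⟨e, -⟩ := exists_quotEquiv (sup_cen' hL.comp hbb hbt hbL)
      rw [Nat.card_congr e.toEquiv, hL.card]
    obtain ⟨-, hinj⟩ := inj_of_card hJ htC htt hB.ne hZ
    have h1 : b ∈ core J := by
      refine hinj b hbJ ?_
      rw [conj_of_comm hbt.symm, hbb]
      exact one_mem _
    exact hb1 (eq_one_of_mem_core_sq h1 hbb)
  -- two commuting involutions of `Y / O(Y)`
  have hO : oddCore (↥Y ⧸ oddCore ↥Y) = ⊥ := Cores.pPrimeCore_quotient_pPrimeCore (G := ↥Y) 2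
  obtain ⟨x, hx1, hx2⟩ := hP (hY ▸ hB.fam'.prop)
  obtain ⟨v, w, hvv, hww, hv1, hw1, hvw, hcomm⟩ := exists_four hO hx1 hx2
  obtain ⟨⟨v₀, hv₀⟩, rfl⟩ := QuotientGroup.mk'_surjective (oddCore ↥Y) v
  obtain ⟨⟨w₀, hw₀⟩, rfl⟩ := QuotientGroup.mk'_surjective (oddCore ↥Y) w
  have hcoreY : ∀ {y : G} (hy : y ∈ Y), y ∈ core (centralizer ({b} : Set G)) → y ∈ core Y := by
    intro y hy h
    rw [hYc.core_eq]; exact ⟨hy, h⟩
  have hv2 : v₀ * v₀ ∈ core Y := by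
    rw [← map_mul] at hvv
    exact (mem_core_iff (Y.mul_mem hv₀ hv₀)).mpr ((QuotientGroup.eq_one_iff _).mp hvv)
  have hw2 : w₀ * w₀ ∈ core Y := by
    rw [← map_mul] at hww
    exact (mem_core_iff (Y.mul_mem hw₀ hw₀)).mpr ((QuotientGroup.eq_one_iff _).mp hww)
  have hbot : IsPGroup 2 (⊥ : Subgroup G) := IsPGroup.of_bot
  obtain ⟨v', hv'Y, hv'2, hv'c, -⟩ := exists_lift hYc bot_le hbot hv₀ (hYc.core_le_core hv2) (by
    intro p hp
    rw [mem_bot.mp hp, commutatorElement_one_left]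
    exact one_mem _)
  have hveq : (QuotientGroup.mk' (oddCore ↥Y)) ⟨v₀, hv₀⟩ = (QuotientGroup.mk' (oddCore ↥Y)) ⟨v', hv'Y⟩ :=
    (mk_eq_iff hv₀ hv'Y).mpr (hcoreY (Y.mul_mem (Y.inv_mem hv₀) hv'Y) hv'c)
  -- the group `⟨v'⟩`
  have hv'1 : v' ≠ 1 := by
    intro h
    apply hv1
    rw [hveq]
    have : (⟨v', hv'Y⟩ : ↥Y) = 1 := Subtype.ext h
    rw [this, map_one]
  obtain ⟨B₁, -, hvB₁, hB₁m, hB₁E, hB₁c⟩ := elem_insert (A := (⊥ : Subgroup G))
    (by intro x hx; rw [mem_bot.mp hx, one_mul]) hv'2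
    (by intro x hx; rw [mem_bot.mp hx, one_mul, mul_one]) (fun h => hv'1 (mem_bot.mp h))
  have hB₁mem : ∀ x ∈ B₁, x = 1 ∨ x = v' := by
    intro x hx
    rcases hB₁m x hx with h | h
    · exact Or.inl (mem_bot.mp h)
    · right
      have h2 := mem_bot.mp h
      calc x = v'⁻¹ * (v' * x) := by group
        _ = v' := by rw [h2, mul_one, inv_of_sq hv'2]
  have hB₁X : B₁ ≤ centralizer ({b} : Set G) := by
    intro x hx
    rcases hB₁mem x hx with rfl | rfl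
    · exact one_mem _
    · exact hYc.le hv'Y
  obtain ⟨w', hw'Y, hw'2, hw'c, hw'B⟩ := exists_lift hYc hB₁X hB₁E.isPGroup hw₀
    (hYc.core_le_core hw2) (by
      intro p hp
      rcases hB₁mem p hp with rfl | rfl
      · rw [commutatorElement_one_left]; exact one_mem _
      · rw [hveq] at hcomm
        refine hYc.core_le_core ((mem_core_iff (commutator_mem' hv'Y hw₀)).mpr ?_)
        refine (QuotientGroup.eq_one_iff _).mp ?_
        have h3 : (QuotientGroup.mk' (oddCore ↥Y)) ⁅(⟨p, hv'Y⟩ : ↥Y), ⟨w₀, hw₀⟩⁆ = 1 := by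
          rw [map_commutatorElement, commutatorElement_eq_one_iff_mul_comm]
          exact hcomm
        exact h3)
  have hweq : (QuotientGroup.mk' (oddCore ↥Y)) ⟨w₀, hw₀⟩ = (QuotientGroup.mk' (oddCore ↥Y)) ⟨w', hw'Y⟩ :=
    (mk_eq_iff hw₀ hw'Y).mpr (hcoreY (Y.mul_mem (Y.inv_mem hw₀) hw'Y) hw'c)
  have hw'B₁ : w' ∉ B₁ := by
    intro h
    rcases hB₁mem w' h with h1 | h1
    · apply hw1
      rw [hweq]
      have : (⟨w', hw'Y⟩ : ↥Y) = 1 := Subtype.ext h1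
      rw [this, map_one]
    · apply hvw
      rw [hveq, hweq]
      have : (⟨w', hw'Y⟩ : ↥Y) = ⟨v', hv'Y⟩ := Subtype.ext h1
      rw [this]
  obtain ⟨B₂, hB₁₂, hwB₂, hB₂m, hB₂E, hB₂c⟩ := elem_insert hB₁E hw'2 hw'B hw'B₁
  have hB₂Y : B₂ ≤ Y := by
    have hB₁Y : B₁ ≤ Y := by
      intro x hx
      rcases hB₁mem x hx with rfl | rfl
      · exact one_mem _
      · exact hv'Y
    intro x hx
    rcases hB₂m x hx with h | h
    · exact hB₁Y h
    · have h1 := Y.mul_mem (Y.inv_mem hw'Y) (hB₁Y h)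
      rwa [inv_mul_cancel_left] at h1
  obtain ⟨B₃, hB₂₃, -, hB₃m, hB₃E, hB₃c⟩ := elem_insert hB₂E hbb
    (fun x hx => comm_c (hYc.le (hB₂Y hx))) (fun h => hbY (hB₂Y h))
  have hcard : Nat.card B₃ = 8 := by
    rw [hB₃c, hB₂c, hB₁c, card_bot]
  rw [← hcard]
  refine le_el (fun x hx => ?_) hB₃E
  have hYF : ∀ y ∈ Y, y ∈ FX b J := fun y hy => ⟨comm_c (hYc.le hy), hJ.fixes_of_mem hYc hYJ hy⟩
  have hbF : b ∈ FX b J := self_mem_FX hB.fam
  rcases hB₃m x hx with h | h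
  · exact hYF x (hB₂Y h)
  · have h1 := (FX b J).mul_mem ((FX b J).inv_mem hbF) (hYF _ (hB₂Y h))
    rwa [inv_mul_cancel_left] at h1

end Cfsg.Agent.UGT.TMCBad
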